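import Mathlib

set_option autoImplicit false

universe u

open IsLocalRing

namespace Groth.Agent.Lib.Helper87.AA7202INJ

section

variable {R R' : Type u} [CommRing R] [CommRing R'] [Algebra R R']

/-- `a ∉ p'` for `a = algebraMap s`, `s ∉ p = comap p'`. -/
theorem algebraMap_notMem (p : Ideal R) (p' : Ideal R')
    (hp : p'.comap (algebraMap R R') = p) {s : R} (hs : s ∉ p) : algebraMap R R' s ∉ p' := by
  intro h
  apply hs
  rw [← hp]
  exact h

/-- Unramifiedness: elements of `p'` lie in `p R'` up to a multiplier outside `p'`. -/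
theorem exists_mul_mem_map [Algebra.EssFiniteType R R'] [Algebra.FormallyUnramified R R']
    (p : Ideal R) [p.IsPrime] (p' : Ideal R') [p'.IsPrime]
    (hp : p'.comap (algebraMap R R') = p) (y : R') (hy : y ∈ p') :
    ∃ w : R', w ∉ p' ∧ w * y ∈ p.map (algebraMap R R') := by
  haveI : p'.LiesOver p := ⟨hp.symm⟩
  letI := Localization.AtPrime.algebraOfLiesOver p p'
  have h := ((Algebra.isUnramifiedAt_iff_map_eq R p p').mp inferInstance).2
  have hy' : algebraMap R' (Localization.AtPrime p') y ∈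
      maximalIdeal (Localization.AtPrime p') := by
    rw [← Localization.AtPrime.map_eq_maximalIdeal]
    exact Ideal.mem_map_of_mem _ hy
  rw [← h, IsScalarTower.algebraMap_eq R R' (Localization.AtPrime p'), ← Ideal.map_map,
    IsLocalization.mem_map_algebraMap_iff p'.primeCompl] at hy'
  obtain ⟨⟨i, m⟩, hm⟩ := hy'
  rw [← map_mul, IsLocalization.eq_iff_exists p'.primeCompl] at hm
  obtain ⟨c, hc⟩ := hm
  refine ⟨c * m, ?_, ?_⟩
  · exact fun h => (p'.primeCompl.mul_mem c.2 m.2) h
  · have : (c : R') * m * y = c * (y * m) := by ring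
    rw [this, hc]
    exact Ideal.mul_mem_left _ _ i.2

/-- Power version of `exists_mul_mem_map`. -/
theorem exists_mul_mem_map_pow [Algebra.EssFiniteType R R'] [Algebra.FormallyUnramified R R']
    (p : Ideal R) [p.IsPrime] (p' : Ideal R') [p'.IsPrime]
    (hp : p'.comap (algebraMap R R') = p) (N : ℕ) (y : R') (hy : y ∈ p' ^ N) :
    ∃ w : R', w ∉ p' ∧ w * y ∈ (p ^ N).map (algebraMap R R') := by
  induction N generalizing y with
  | zero =>
    refine ⟨1, fun h => ‹p'.IsPrime›.ne_top ((Ideal.eq_top_iff_one _).mpr h), ?_⟩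
    rw [pow_zero, Ideal.one_eq_top, Ideal.map_top]
    trivial
  | succ N ih =>
    rw [pow_succ] at hy
    refine Submodule.mul_induction_on hy ?_ ?_
    · intro a ha b hb
      obtain ⟨w₁, hw₁, h₁⟩ := ih a ha
      obtain ⟨w₂, hw₂, h₂⟩ := exists_mul_mem_map p p' hp b hb
      refine ⟨w₁ * w₂, fun h => (‹p'.IsPrime›.mem_or_mem h).elim hw₁ hw₂, ?_⟩
      have : w₁ * w₂ * (a * b) = (w₁ * a) * (w₂ * b) := by ring
      rw [this, pow_succ, Ideal.map_mul]
      exact Ideal.mul_mem_mul h₁ h₂
    · intro y₁ y₂ ⟨w₁, hw₁, h₁⟩ ⟨w₂, hw₂, h₂⟩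
      refine ⟨w₁ * w₂, fun h => (‹p'.IsPrime›.mem_or_mem h).elim hw₁ hw₂, ?_⟩
      have : w₁ * w₂ * (y₁ + y₂) = w₂ * (w₁ * y₁) + w₁ * (w₂ * y₂) := by ring
      rw [this]
      exact Ideal.add_mem _ (Ideal.mul_mem_left _ _ h₁) (Ideal.mul_mem_left _ _ h₂)

/-- Trivial residue field extension: elements of `I R'` are congruent modulo `I R' · p'`, up to a
multiplier from `R ∖ p`, to elements of `I`. -/
theorem exists_decomp (p : Ideal R) [p.IsPrime] (p' : Ideal R') [p'.IsPrime]
    (hfrac : ∀ x : R', ∃ r s : R, s ∉ p ∧ algebraMap R R' s * x - algebraMap R R' r ∈ p')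
    (I : Ideal R) (y : R') (hy : y ∈ I.map (algebraMap R R')) :
    ∃ s : R, s ∉ p ∧ ∃ c₀ ∈ I,
      algebraMap R R' s * y - algebraMap R R' c₀ ∈ I.map (algebraMap R R') * p' := by
  refine Submodule.span_induction (p := fun y _ => ∃ s : R, s ∉ p ∧ ∃ c₀ ∈ I,
      algebraMap R R' s * y - algebraMap R R' c₀ ∈ I.map (algebraMap R R') * p') ?_ ?_ ?_ ?_ hy
  · rintro _ ⟨a, ha, rfl⟩
    refine ⟨1, fun h => ‹p.IsPrime›.ne_top ((Ideal.eq_top_iff_one _).mpr h), a, ha, ?_⟩
    rw [map_one, one_mul]
    change algebraMap R R' a - algebraMap R R' a ∈ _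
    rw [sub_self]
    exact Ideal.zero_mem _
  · refine ⟨1, fun h => ‹p.IsPrime›.ne_top ((Ideal.eq_top_iff_one _).mpr h), 0, I.zero_mem, ?_⟩
    rw [map_zero, mul_zero, sub_zero]
    exact Ideal.zero_mem _
  · rintro y₁ y₂ _ _ ⟨s₁, hs₁, c₁, hc₁, h₁⟩ ⟨s₂, hs₂, c₂, hc₂, h₂⟩
    refine ⟨s₁ * s₂, fun h => (‹p.IsPrime›.mem_or_mem h).elim hs₁ hs₂,
      s₂ * c₁ + s₁ * c₂, I.add_mem (I.mul_mem_left _ hc₁) (I.mul_mem_left _ hc₂), ?_⟩
    have : algebraMap R R' (s₁ * s₂) * (y₁ + y₂) - algebraMap R R' (s₂ * c₁ + s₁ * c₂) =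
        algebraMap R R' s₂ * (algebraMap R R' s₁ * y₁ - algebraMap R R' c₁) +
        algebraMap R R' s₁ * (algebraMap R R' s₂ * y₂ - algebraMap R R' c₂) := by
      simp only [map_mul, map_add]
      ring
    rw [this]
    exact Ideal.add_mem _ (Ideal.mul_mem_left _ _ h₁) (Ideal.mul_mem_left _ _ h₂)
  · rintro x y₁ hy₁ ⟨s₁, hs₁, c₁, hc₁, h₁⟩
    obtain ⟨r, sx, hsx, hx⟩ := hfrac x
    refine ⟨sx * s₁, fun h => (‹p.IsPrime›.mem_or_mem h).elim hsx hs₁,
      r * c₁, I.mul_mem_left _ hc₁, ?_⟩
    have hs₁y₁ : algebraMap R R' s₁ * y₁ ∈ I.map (algebraMap R R') :=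
      Ideal.mul_mem_left _ _ hy₁
    have : algebraMap R R' (sx * s₁) * (x • y₁) - algebraMap R R' (r * c₁) =
        (algebraMap R R' s₁ * y₁) * (algebraMap R R' sx * x - algebraMap R R' r) +
        algebraMap R R' r * (algebraMap R R' s₁ * y₁ - algebraMap R R' c₁) := by
      simp only [map_mul, smul_eq_mul]
      ring
    rw [this]
    exact Ideal.add_mem _ (Ideal.mul_mem_mul hs₁y₁ hx) (Ideal.mul_mem_left _ _ h₁)

end

section Completion

variable {L : Type u} [CommRing L] (m : Ideal L)

/-- `L / m^k → L^ / m^k L^` is injective. -/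
theorem mem_pow_of_algebraMap_mem (k : ℕ) (l : L)
    (h : algebraMap L (AdicCompletion m L) l ∈ (m ^ k).map (algebraMap L (AdicCompletion m L))) :
    l ∈ m ^ k := by
  have hle : (m ^ k).map (algebraMap L (AdicCompletion m L)) ≤
      RingHom.ker (AdicCompletion.evalₐ m k : AdicCompletion m L →ₐ[L] L ⧸ m ^ k) := by
    rw [Ideal.map_le_iff_le_comap]
    intro x hx
    rw [Ideal.mem_comap, RingHom.mem_ker, AlgHom.commutes]
    exact Ideal.Quotient.eq_zero_iff_mem.mpr hx
  have h1 := hle h
  rw [RingHom.mem_ker, AlgHom.commutes] at h1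
  exact Ideal.Quotient.eq_zero_iff_mem.mp h1

end Completion

section Main

variable {R R' : Type u} [CommRing R] [CommRing R'] [Algebra R R']

/-- elements of `R` whose image in `R_p` lies in `m^k` lie in `p^k` up to a multiplier. -/
theorem exists_mul_mem_pow (p : Ideal R) [p.IsPrime] (k : ℕ) (c₀ : R)
    (h : algebraMap R (Localization.AtPrime p) c₀ ∈ maximalIdeal (Localization.AtPrime p) ^ k) :
    ∃ t : R, t ∉ p ∧ t * c₀ ∈ p ^ k := by
  rw [← Localization.AtPrime.map_eq_maximalIdeal, ← Ideal.map_pow,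
    IsLocalization.mem_map_algebraMap_iff p.primeCompl] at h
  obtain ⟨⟨i, m'⟩, hm⟩ := h
  rw [← map_mul, IsLocalization.eq_iff_exists p.primeCompl] at hm
  obtain ⟨c, hc⟩ := hm
  refine ⟨c * m', fun h => (p.primeCompl.mul_mem c.2 m'.2) h, ?_⟩
  have : (c : R) * m' * c₀ = c * (c₀ * m') := by ring
  rw [this, hc]
  exact Ideal.mul_mem_left _ _ i.2

theorem inj [Algebra.Etale R R']
    (p : Ideal R) [p.IsPrime] (p' : Ideal R') [p'.IsPrime]
    (hp : p'.comap (algebraMap R R') = p)
    (hfrac : ∀ x : R', ∃ r s : R, s ∉ p ∧ algebraMap R R' s * x - algebraMap R R' r ∈ p')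
    (ψ : R' →+* AdicCompletion (IsLocalRing.maximalIdeal (Localization.AtPrime p))
      (Localization.AtPrime p))
    (hψ : ∀ r : R, ψ (algebraMap R R' r) =
      algebraMap (Localization.AtPrime p) _ (algebraMap R (Localization.AtPrime p) r))
    (hψp : ∀ x ∈ p', ψ x ∈ (IsLocalRing.maximalIdeal (Localization.AtPrime p)).map
      (algebraMap (Localization.AtPrime p)
        (AdicCompletion (IsLocalRing.maximalIdeal (Localization.AtPrime p))
          (Localization.AtPrime p))))
    (N : ℕ) (z : R')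
    (hz : ψ z ∈ (IsLocalRing.maximalIdeal (Localization.AtPrime p) ^ N).map
      (algebraMap (Localization.AtPrime p)
        (AdicCompletion (IsLocalRing.maximalIdeal (Localization.AtPrime p))
          (Localization.AtPrime p)))) :
    ∃ w : R', w ∉ p' ∧ w * z ∈ p' ^ N := by
  haveI : Algebra.EssFiniteType R R' := inferInstance
  haveI : Algebra.FormallyUnramified R R' := inferInstance
  -- `ψ` maps `p^k R'` into `m^k L^`
  have hψpow : ∀ k : ℕ, ∀ a ∈ (p ^ k).map (algebraMap R R'),
      ψ a ∈ (IsLocalRing.maximalIdeal (Localization.AtPrime p) ^ k).map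
        (algebraMap (Localization.AtPrime p)
          (AdicCompletion (IsLocalRing.maximalIdeal (Localization.AtPrime p))
            (Localization.AtPrime p))) := by
    intro k
    have : (p ^ k).map (algebraMap R R') ≤ Ideal.comap ψ
        ((IsLocalRing.maximalIdeal (Localization.AtPrime p) ^ k).map
          (algebraMap (Localization.AtPrime p)
            (AdicCompletion (IsLocalRing.maximalIdeal (Localization.AtPrime p))
              (Localization.AtPrime p)))) := by
      rw [Ideal.map_le_iff_le_comap]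
      intro r hr
      rw [Ideal.mem_comap, Ideal.mem_comap, hψ]
      apply Ideal.mem_map_of_mem
      rw [← Localization.AtPrime.map_eq_maximalIdeal, ← Ideal.map_pow]
      exact Ideal.mem_map_of_mem _ hr
    exact fun a ha => this ha
  have hpp' : p.map (algebraMap R R') ≤ p' := by
    rw [Ideal.map_le_iff_le_comap, hp]
  induction N with
  | zero =>
    refine ⟨1, fun h => ‹p'.IsPrime›.ne_top ((Ideal.eq_top_iff_one _).mpr h), ?_⟩
    rw [pow_zero, Ideal.one_eq_top]
    trivial
  | succ N ih =>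
    have hzN : ψ z ∈ (IsLocalRing.maximalIdeal (Localization.AtPrime p) ^ N).map
        (algebraMap (Localization.AtPrime p)
          (AdicCompletion (IsLocalRing.maximalIdeal (Localization.AtPrime p))
            (Localization.AtPrime p))) :=
      Ideal.map_mono (Ideal.pow_le_pow_right (Nat.le_succ N)) hz
    obtain ⟨w₁, hw₁, h₁⟩ := ih hzN
    obtain ⟨w₂, hw₂, h₂⟩ := exists_mul_mem_map_pow p p' hp N (w₁ * z) h₁
    obtain ⟨s, hs, c₀, hc₀, hdiff⟩ := exists_decomp p p' hfrac (p ^ N) (w₂ * (w₁ * z)) h₂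
    set e := algebraMap R R' s * (w₂ * (w₁ * z)) - algebraMap R R' c₀ with he
    -- `ψ e ∈ m^(N+1) L^`
    have hψe : ψ e ∈ (IsLocalRing.maximalIdeal (Localization.AtPrime p) ^ (N + 1)).map
        (algebraMap (Localization.AtPrime p)
          (AdicCompletion (IsLocalRing.maximalIdeal (Localization.AtPrime p))
            (Localization.AtPrime p))) := by
      refine Submodule.mul_induction_on hdiff ?_ ?_
      · intro a ha b hb
        rw [map_mul, pow_succ, Ideal.map_mul]
        exact Ideal.mul_mem_mul (hψpow N a ha) (hψp b hb)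
      · intro a b ha hb
        rw [map_add]
        exact Ideal.add_mem _ ha hb
    have hψc : ψ (algebraMap R R' c₀) ∈
        (IsLocalRing.maximalIdeal (Localization.AtPrime p) ^ (N + 1)).map
        (algebraMap (Localization.AtPrime p)
          (AdicCompletion (IsLocalRing.maximalIdeal (Localization.AtPrime p))
            (Localization.AtPrime p))) := by
      have : algebraMap R R' c₀ = algebraMap R R' s * w₂ * w₁ * z - e := by
        rw [he]; ring
      rw [this, map_sub, map_mul]
      exact Ideal.sub_mem _ (Ideal.mul_mem_left _ _ hz) hψe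
    rw [hψ] at hψc
    have hc₀' := mem_pow_of_algebraMap_mem _ (N + 1) _ hψc
    obtain ⟨t, ht, htc⟩ := exists_mul_mem_pow p (N + 1) c₀ hc₀'
    refine ⟨algebraMap R R' t * algebraMap R R' s * w₂ * w₁, ?_, ?_⟩
    · intro h
      rcases ‹p'.IsPrime›.mem_or_mem h with h | h
      · rcases ‹p'.IsPrime›.mem_or_mem h with h | h
        · rcases ‹p'.IsPrime›.mem_or_mem h with h | h
          · exact algebraMap_notMem p p' hp ht h
          · exact algebraMap_notMem p p' hp hs h
        · exact hw₂ h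
      · exact hw₁ h
    · have : algebraMap R R' t * algebraMap R R' s * w₂ * w₁ * z =
          algebraMap R R' (t * c₀) + algebraMap R R' t * e := by
        rw [he, map_mul]; ring
      rw [this]
      refine Ideal.add_mem _ ?_ (Ideal.mul_mem_left _ _ ?_)
      · have h3 : (p ^ (N + 1)).map (algebraMap R R') ≤ p' ^ (N + 1) := by
          rw [Ideal.map_pow]
          exact Ideal.pow_right_mono hpp' _
        exact h3 (Ideal.mem_map_of_mem _ htc)
      · have h4 : (p ^ N).map (algebraMap R R') * p' ≤ p' ^ (N + 1) := by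
          rw [pow_succ, Ideal.map_pow]
          exact Ideal.mul_mono_left (Ideal.pow_right_mono hpp' _)
        exact h4 hdiff

end Main

end Groth.Agent.Lib.Helper87.AA7202INJ
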