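import Mathlib
import Groth.Agent.Lib.Helper9.HenselLocal

set_option autoImplicit false
universe u

namespace Groth.Agent.Lib.Helper87.Hens

open IsLocalRing TensorProduct

section Loc

variable {R : Type u} [CommRing R]
variable {Ω : Type u} [Field Ω] [Algebra R Ω]
variable {A : Type u} [CommRing A] [Algebra R A] (φ : A →ₐ[R] Ω)

instance kerIsPrime : (RingHom.ker φ).IsPrime := RingHom.ker_isPrime φ

/-- localization of `A` at the kernel of the point `φ`. -/
abbrev Loc : Type u := Localization.AtPrime (RingHom.ker φ)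

lemma isUnit_pt (y : (RingHom.ker φ).primeCompl) : IsUnit (φ y) := by
  rw [isUnit_iff_ne_zero]
  exact fun h => y.2 ((RingHom.mem_ker).2 h)

/-- the induced point of the localization. -/
noncomputable def Loc.ε : Loc φ →ₐ[R] Ω :=
  IsLocalization.liftAlgHom (M := (RingHom.ker φ).primeCompl) (f := φ) (isUnit_pt φ)

@[simp]
lemma Loc.ε_algebraMap (a : A) : Loc.ε φ (algebraMap A (Loc φ) a) = φ a := by
  simp [Loc.ε]

lemma Loc.ε_eq_zero_iff (x : Loc φ) : Loc.ε φ x = 0 ↔ x ∈ maximalIdeal (Loc φ) := by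
  obtain ⟨a, s, rfl⟩ := IsLocalization.exists_mk'_eq (RingHom.ker φ).primeCompl x
  have hs : φ s ≠ 0 := (isUnit_pt φ s).ne_zero
  have h1 : Loc.ε φ (IsLocalization.mk' (Loc φ) a s) * φ s = φ a := by
    rw [← Loc.ε_algebraMap φ (s : A), ← map_mul, IsLocalization.mk'_spec, Loc.ε_algebraMap]
  rw [IsLocalization.AtPrime.mk'_mem_maximal_iff (Loc φ) (RingHom.ker φ), RingHom.mem_ker]
  constructor
  · intro h
    rw [h, zero_mul] at h1
    exact h1.symm
  · intro h
    rw [h] at h1
    exact (mul_eq_zero.mp h1).resolve_right hs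

lemma Loc.ker_ε : RingHom.ker (Loc.ε φ) = maximalIdeal (Loc φ) := by
  ext x
  rw [RingHom.mem_ker]
  exact Loc.ε_eq_zero_iff φ x

lemma Loc.isUnit_iff (x : Loc φ) : IsUnit x ↔ Loc.ε φ x ≠ 0 := by
  rw [Ne, Loc.ε_eq_zero_iff, mem_maximalIdeal, mem_nonunits_iff, not_not]

instance Loc.isLocalHom_algebraMap [IsLocalRing R] [IsLocalHom (algebraMap R Ω)] :
    IsLocalHom (algebraMap R (Loc φ)) where
  map_nonunit r hr := by
    have h1 : IsUnit (Loc.ε φ (algebraMap R (Loc φ) r)) := hr.map _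
    rw [AlgHom.commutes] at h1
    exact isUnit_of_map_unit (algebraMap R Ω) r h1

instance Loc.essFiniteType [Algebra.FiniteType R A] : Algebra.EssFiniteType R (Loc φ) :=
  Algebra.EssFiniteType.comp R A (Loc φ)

instance Loc.formallyEtale [Algebra.FormallyEtale R A] : Algebra.FormallyEtale R (Loc φ) :=
  inferInstance

instance Loc.flat [Module.Flat R A] : Module.Flat R (Loc φ) :=
  Module.Flat.trans R A (Loc φ)

lemma Loc.map_maximalIdeal [IsLocalRing R] [IsLocalHom (algebraMap R Ω)] [Algebra.FiniteType R A]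
    [Algebra.FormallyUnramified R A] :
    (maximalIdeal R).map (algebraMap R (Loc φ)) = maximalIdeal (Loc φ) :=
  Algebra.FormallyUnramified.map_maximalIdeal

end Loc

section LocMap

variable {R : Type u} [CommRing R]
variable {Ω : Type u} [Field Ω] [Algebra R Ω]
variable {A : Type u} [CommRing A] [Algebra R A] (φ : A →ₐ[R] Ω)
variable {B : Type u} [CommRing B] [Algebra R B] (ψ : B →ₐ[R] Ω)

/-- a general lifting of a map `A → T` inverting the complement of the kernel of the point. -/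
noncomputable def Loc.lift {T : Type*} [CommRing T] [Algebra R T] (g : A →ₐ[R] T)
    (hg : ∀ a : A, φ a ≠ 0 → IsUnit (g a)) : Loc φ →ₐ[R] T :=
  IsLocalization.liftAlgHom (M := (RingHom.ker φ).primeCompl) (f := g)
    (fun y => hg y (isUnit_pt φ y).ne_zero)

@[simp]
lemma Loc.lift_algebraMap {T : Type*} [CommRing T] [Algebra R T] (g : A →ₐ[R] T)
    (hg : ∀ a : A, φ a ≠ 0 → IsUnit (g a)) (a : A) :
    Loc.lift φ g hg (algebraMap A (Loc φ) a) = g a := by
  simp [Loc.lift]

lemma Loc.algHom_ext' {T : Type*} [CommRing T] [Algebra R T] (g₁ g₂ : Loc φ →ₐ[R] T)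
    (h : ∀ a : A, g₁ (algebraMap A (Loc φ) a) = g₂ (algebraMap A (Loc φ) a)) : g₁ = g₂ := by
  apply AlgHom.coe_ringHom_injective
  apply IsLocalization.ringHom_ext (RingHom.ker φ).primeCompl
  ext a
  exact h a

/-- the map of localizations induced by a map of pointed algebras. -/
noncomputable def Loc.map (g : A →ₐ[R] B) (hg : ψ.comp g = φ) : Loc φ →ₐ[R] Loc ψ :=
  Loc.lift φ ((IsScalarTower.toAlgHom R B (Loc ψ)).comp g) (by
    intro a ha
    have : ψ (g a) = φ a := by rw [← hg]; rfl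
    rw [AlgHom.comp_apply, IsScalarTower.coe_toAlgHom', Loc.isUnit_iff, Loc.ε_algebraMap, this]
    exact ha)

@[simp]
lemma Loc.map_algebraMap (g : A →ₐ[R] B) (hg : ψ.comp g = φ) (a : A) :
    Loc.map φ ψ g hg (algebraMap A (Loc φ) a) = algebraMap B (Loc ψ) (g a) := by
  simp [Loc.map]

lemma Loc.ε_comp_map (g : A →ₐ[R] B) (hg : ψ.comp g = φ) :
    (Loc.ε ψ).comp (Loc.map φ ψ g hg) = Loc.ε φ := by
  apply Loc.algHom_ext'
  intro a
  have : ψ (g a) = φ a := by rw [← hg]; rfl
  simp [this]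

/-- rigidity: two maps from a pointed essentially unramified local algebra to a pointed local
ring, compatible with the points, are equal. -/
lemma Loc.hom_ext [Algebra.FiniteType R A] [Algebra.FormallyUnramified R A]
    {T : Type*} [CommRing T] [IsLocalRing T] [Algebra R T] (ε' : T →ₐ[R] Ω)
    (g₁ g₂ : Loc φ →ₐ[R] T) (h₁ : ε'.comp g₁ = Loc.ε φ) (h₂ : ε'.comp g₂ = Loc.ε φ) :
    g₁ = g₂ := by
  apply Groth.Agent.Lib.Helper9.algHom_ext_of_residue_eq
  intro a
  have hk : RingHom.ker ε' ≤ maximalIdeal T :=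
    IsLocalRing.le_maximalIdeal (RingHom.ker_ne_top _)
  have : g₁ a - g₂ a ∈ maximalIdeal T := by
    apply hk
    rw [RingHom.mem_ker, map_sub, sub_eq_zero]
    have e1 : ε' (g₁ a) = Loc.ε φ a := by rw [← h₁]; rfl
    have e2 : ε' (g₂ a) = Loc.ε φ a := by rw [← h₂]; rfl
    rw [e1, e2]
  rw [← sub_eq_zero, ← map_sub, residue_eq_zero_iff]
  exact this

end LocMap

section HenselLift

variable {R : Type u} [CommRing R]
variable {Ω : Type u} [Field Ω] [Algebra R Ω]
variable {A : Type u} [CommRing A] [Algebra R A] [Algebra.Etale R A] (φ : A →ₐ[R] Ω)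
variable (T : Type u) [CommRing T] [HenselianLocalRing T] [Algebra R T]
variable (τ : Ω →ₐ[R] ResidueField T)

/-- a pointed étale neighbourhood maps to any henselian local `R`-algebra whose residue field
receives the field of the point. -/
theorem Loc.exists_lift_henselian :
    ∃ g : Loc φ →ₐ[R] T, ∀ x, residue T (g x) = τ (Loc.ε φ x) := by
  let Ψ : T ⊗[R] A →ₐ[T] ResidueField T :=
    Algebra.TensorProduct.lift (Algebra.ofId T (ResidueField T)) (τ.comp φ)
      (fun _ _ => Commute.all _ _)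
  obtain ⟨t, ht⟩ := Groth.Agent.Lib.Helper9.exists_lift_of_etale (R := T) (R' := T ⊗[R] A) Ψ
  let g₀ : A →ₐ[R] T := (t.restrictScalars R).comp Algebra.TensorProduct.includeRight
  have hg₀ : ∀ a, residue T (g₀ a) = τ (φ a) := fun a => by
    simp [g₀, ht, Ψ]
  have hu : ∀ a : A, φ a ≠ 0 → IsUnit (g₀ a) := by
    intro a ha
    apply isUnit_of_map_unit (residue T)
    rw [hg₀, isUnit_iff_ne_zero]
    exact (map_ne_zero τ).mpr ha
  refine ⟨Loc.lift φ g₀ hu, ?_⟩
  intro x
  have := Loc.algHom_ext' φ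
    ((IsScalarTower.toAlgHom R T (ResidueField T)).comp (Loc.lift φ g₀ hu)) (τ.comp (Loc.ε φ))
    (fun a => by
      simp only [AlgHom.comp_apply, Loc.lift_algebraMap, Loc.ε_algebraMap,
        IsScalarTower.coe_toAlgHom']
      exact hg₀ a)
  exact DFunLike.congr_fun this x

end HenselLift

end Groth.Agent.Lib.Helper87.Hens
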