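import Mathlib
import Groth.Agent.Lib.Helper87.HensLoc

set_option autoImplicit false
universe u

namespace Groth.Agent.Lib.Helper87.Hens

open IsLocalRing TensorProduct Polynomial

theorem derivative_scaleRoots_eval {R : Type*} [CommRing R] (p : R[X]) (s r : R) :
    (p.scaleRoots s).derivative.eval (s * r) * s = s ^ p.natDegree * p.derivative.eval r := by
  rw [derivative_eval, derivative_eval]
  rw [Polynomial.sum_over_range' _ (by intro n; simp) (p.natDegree + 1)
    (by rw [natDegree_scaleRoots]; exact Nat.lt_succ_self _)]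
  rw [Polynomial.sum_over_range' _ (by intro n; simp) (p.natDegree + 1) (Nat.lt_succ_self _)]
  rw [Finset.sum_mul, Finset.mul_sum]
  apply Finset.sum_congr rfl
  intro i hi
  rw [Finset.mem_range] at hi
  rw [coeff_scaleRoots]
  rcases Nat.eq_zero_or_pos i with rfl | hpos
  · simp
  · have e : p.natDegree = (p.natDegree - i) + (i - 1) + 1 := by omega
    have : s ^ p.natDegree = s ^ (p.natDegree - i) * s ^ (i - 1) * s := by
      conv_lhs => rw [e]
      rw [pow_succ, pow_add]
    rw [this, mul_pow]
    ring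

section Root

variable {R : Type u} [CommRing R]
variable {Ω : Type u} [Field Ω] [Algebra R Ω]
variable {A : Type u} [CommRing A] [Algebra R A] [Algebra.Etale R A] (φ : A →ₐ[R] Ω)

/-- adjoining a simple root: a monic polynomial over the local ring of a pointed étale
neighbourhood with a simple root in the residue field acquires a root in a larger pointed
étale neighbourhood. -/
theorem Loc.exists_root (f : (Loc φ)[X]) (hf : f.Monic) (a : Loc φ)
    (ha : f.eval a ∈ maximalIdeal (Loc φ)) (ha' : IsUnit (f.derivative.eval a)) :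
    ∃ (B : Type u) (_ : CommRing B) (_ : Algebra R B) (_ : Algebra.Etale R B) (ψ : B →ₐ[R] Ω)
      (g : A →ₐ[R] B) (hg : ψ.comp g = φ) (b : Loc ψ),
      (f.map (Loc.map φ ψ g hg).toRingHom).eval b = 0 ∧ Loc.ε ψ b = Loc.ε φ a := by
  classical
  let M := (RingHom.ker φ).primeCompl
  let s₀ : M := IsLocalization.commonDenom M f.support f.coeff
  let s : Loc φ := algebraMap A (Loc φ) s₀
  have hs : IsUnit s := IsLocalization.map_units (Loc φ) s₀
  let h := f.scaleRoots s
  have hh : h ∈ Polynomial.lifts (algebraMap A (Loc φ)) :=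
    IsLocalization.scaleRoots_commonDenom_mem_lifts M f
      (by rw [hf.leadingCoeff]; exact one_mem _)
  have hhm : h.Monic := (monic_scaleRoots_iff s).mpr hf
  obtain ⟨h', hh'1, -, hh'm⟩ := lifts_and_natDegree_eq_and_monic hh hhm
  let P : StandardEtalePair A := ⟨h', hh'm, derivative h', ⟨1, 0, 1, by simp⟩⟩
  let : Algebra R P.Ring := Algebra.compHom P.Ring (algebraMap R A)
  have : IsScalarTower R A P.Ring := IsScalarTower.of_algebraMap_eq (fun _ => rfl)
  have : Algebra.Etale R P.Ring := Algebra.Etale.comp R A P.Ring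
  let : Algebra A Ω := φ.toRingHom.toAlgebra
  have : IsScalarTower R A Ω := IsScalarTower.of_algebraMap_eq (fun r => (φ.commutes r).symm)
  let x₀ : Ω := Loc.ε φ (s * a)
  have hev : ∀ q : A[X], aeval x₀ q = Loc.ε φ ((q.map (algebraMap A (Loc φ))).eval (s * a)) := by
    intro q
    rw [aeval_def, eval_map]
    have := Polynomial.hom_eval₂ q (algebraMap A (Loc φ)) (Loc.ε φ).toRingHom (s * a)
    have hc : (Loc.ε φ).toRingHom.comp (algebraMap A (Loc φ)) = algebraMap A Ω := by
      ext c
      simp [RingHom.algebraMap_toAlgebra]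
    rw [hc] at this
    exact this.symm
  have hx₀ : P.HasMap x₀ := by
    constructor
    · show aeval x₀ h' = 0
      rw [hev, hh'1, scaleRoots_eval_mul, Loc.ε_eq_zero_iff]
      exact Ideal.mul_mem_left _ _ ha
    · show IsUnit (aeval x₀ (derivative h'))
      rw [hev, ← derivative_map, hh'1, isUnit_iff_ne_zero, Ne, Loc.ε_eq_zero_iff, mem_maximalIdeal,
        mem_nonunits_iff, not_not]
      have := derivative_scaleRoots_eval f s a
      have hu : IsUnit (s ^ f.natDegree * f.derivative.eval a) := (hs.pow _).mul ha'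
      rw [← this] at hu
      exact isUnit_of_mul_isUnit_left hu
  let ψA : P.Ring →ₐ[A] Ω := P.lift x₀ hx₀
  let ψ : P.Ring →ₐ[R] Ω := ψA.restrictScalars R
  let g : A →ₐ[R] P.Ring := IsScalarTower.toAlgHom R A P.Ring
  have hg : ψ.comp g = φ := by
    ext c
    show ψA (algebraMap A P.Ring c) = φ c
    rw [AlgHom.commutes]
    rfl
  let sB : Loc ψ := Loc.map φ ψ g hg s
  have hsB : IsUnit sB := hs.map _
  let b : Loc ψ := algebraMap P.Ring (Loc ψ) P.X * ↑hsB.unit⁻¹
  have hsb : sB * b = algebraMap P.Ring (Loc ψ) P.X := by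
    show sB * (algebraMap P.Ring (Loc ψ) P.X * ↑hsB.unit⁻¹) = _
    rw [mul_comm, mul_assoc, IsUnit.val_inv_mul, mul_one]
  refine ⟨P.Ring, inferInstance, inferInstance, inferInstance, ψ, g, hg, b, ?_, ?_⟩
  · have h1 : ((f.map (Loc.map φ ψ g hg).toRingHom).scaleRoots sB).eval (sB * b) =
        sB ^ (f.map (Loc.map φ ψ g hg).toRingHom).natDegree *
          (f.map (Loc.map φ ψ g hg).toRingHom).eval b := scaleRoots_eval_mul _ _ _
    have h2 : (f.map (Loc.map φ ψ g hg).toRingHom).scaleRoots sB =
        h.map (Loc.map φ ψ g hg).toRingHom := by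
      rw [map_scaleRoots]
      · rfl
      · rw [hf.leadingCoeff, map_one]; exact one_ne_zero
    have h3 : (h.map (Loc.map φ ψ g hg).toRingHom).eval (sB * b) = 0 := by
      rw [hsb, ← hh'1, Polynomial.map_map]
      have : ((Loc.map φ ψ g hg).toRingHom.comp (algebraMap A (Loc φ))) =
          (algebraMap P.Ring (Loc ψ)).comp (algebraMap A P.Ring) := by
        ext c
        simp [g]
      have hX : (h'.map (algebraMap A P.Ring)).eval P.X = 0 := by
        have := (P.hasMap_X).1
        rw [aeval_def, eval₂_eq_eval_map] at this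
        exact this
      rw [this, ← Polynomial.map_map, eval_map, Polynomial.eval₂_at_apply, hX, map_zero]
    rw [h2, h3] at h1
    have hu : IsUnit (sB ^ (f.map (Loc.map φ ψ g hg).toRingHom).natDegree) := hsB.pow _
    exact (hu.mul_right_eq_zero).mp h1.symm
  · have e1 : Loc.ε ψ (sB * b) = x₀ := by
      rw [hsb, Loc.ε_algebraMap]
      show ψA P.X = x₀
      exact P.lift_X x₀ hx₀
    have e2 : Loc.ε ψ sB = Loc.ε φ s := by
      have := Loc.ε_comp_map φ ψ g hg
      exact DFunLike.congr_fun this s
    have e3 : Loc.ε φ s ≠ 0 := (hs.map (Loc.ε φ)).ne_zero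
    rw [map_mul, e2] at e1
    have : x₀ = Loc.ε φ s * Loc.ε φ a := map_mul _ _ _
    rw [this] at e1
    exact mul_left_cancel₀ e3 e1

end Root

end Groth.Agent.Lib.Helper87.Hens
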