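import Mathlib
import Groth.Agent.Lib.Helper87.HensLim

set_option autoImplicit false
universe u

namespace Groth.Agent.Lib.Helper87.Hens

open IsLocalRing TensorProduct Polynomial

section Limit

variable (R : Type u) [CommRing R] (Ω : Type u) [Field Ω] [Algebra R Ω]

/-- the direct limit of the local rings of pointed étale neighbourhoods. -/
def H : Type u := DirectLimit (fun i : Idx R Ω => i.L) (fun i j h => tr i j h)

noncomputable instance H.instCommRing : CommRing (H R Ω) :=
  inferInstanceAs (CommRing (DirectLimit (fun i : Idx R Ω => i.L) (fun i j h => tr i j h)))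

noncomputable instance H.instAlgebra : Algebra R (H R Ω) :=
  inferInstanceAs (Algebra R (DirectLimit (fun i : Idx R Ω => i.L) (fun i j h => tr i j h)))

variable {R Ω}

/-- the canonical map from a stage. -/
noncomputable def H.of (i : Idx R Ω) : i.L →ₐ[R] H R Ω :=
  DirectLimit.Algebra.of (R := R) (fun i : Idx R Ω => i.L) (fun i j h => tr i j h) i

lemma H.of_tr (i j : Idx R Ω) (h : i ≤ j) (x : i.L) : H.of j (tr i j h x) = H.of i x :=
  DirectLimit.Algebra.of_f (R := R) (G := fun i : Idx R Ω => i.L) (f := fun i j h => tr i j h) h x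

lemma H.exists_of (x : H R Ω) : ∃ (i : Idx R Ω) (y : i.L), H.of i y = x := by
  obtain ⟨i, y, h⟩ := DirectLimit.exists_eq_mk (fun i j h => tr i j h) (x :
    DirectLimit (fun i : Idx R Ω => i.L) (fun i j h => tr i j h))
  exact ⟨i, y, h.symm⟩

lemma H.of_eq_of_iff {i j : Idx R Ω} (x : i.L) (y : j.L) :
    H.of i x = H.of j y ↔ ∃ (k : Idx R Ω) (hik : i ≤ k) (hjk : j ≤ k),
      tr i k hik x = tr j k hjk y := by
  constructor
  · intro h
    exact Quotient.eq.mp h
  · rintro ⟨k, hik, hjk, e⟩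
    rw [← H.of_tr i k hik, ← H.of_tr j k hjk, e]

/-- the point of the limit. -/
noncomputable def H.ε : H R Ω →ₐ[R] Ω :=
  DirectLimit.Algebra.lift (R := R) (fun i : Idx R Ω => i.L) (fun i j h => tr i j h) Ω
    (fun i => i.ε) (fun i j h x => ε_tr i j h x)

@[simp]
lemma H.ε_of (i : Idx R Ω) (x : i.L) : H.ε (H.of i x) = i.ε x := rfl

lemma H.isUnit_iff (x : H R Ω) : IsUnit x ↔ H.ε x ≠ 0 := by
  constructor
  · intro h
    exact (h.map H.ε).ne_zero
  · intro h
    obtain ⟨i, y, rfl⟩ := H.exists_of x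
    rw [H.ε_of] at h
    exact ((Loc.isUnit_iff _ y).mpr h).map (H.of i)

instance H.instNontrivial : Nontrivial (H R Ω) :=
  ⟨⟨0, 1, fun h => by
    have := congrArg H.ε h
    simp at this⟩⟩

instance H.instIsLocalRing : IsLocalRing (H R Ω) :=
  IsLocalRing.of_nonunits_add (by
    intro a b ha hb
    rw [mem_nonunits_iff, H.isUnit_iff, not_not] at *
    rw [map_add, ha, hb, add_zero])

lemma H.ε_eq_zero_iff (x : H R Ω) : H.ε x = 0 ↔ x ∈ maximalIdeal (H R Ω) := by
  rw [mem_maximalIdeal, mem_nonunits_iff, H.isUnit_iff, not_not]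

lemma H.ker_ε : RingHom.ker (H.ε : H R Ω →ₐ[R] Ω) = maximalIdeal (H R Ω) := by
  ext x
  rw [RingHom.mem_ker]
  exact H.ε_eq_zero_iff x

instance H.isLocalHom_algebraMap [IsLocalRing R] [IsLocalHom (algebraMap R Ω)] :
    IsLocalHom (algebraMap R (H R Ω)) where
  map_nonunit r hr := by
    have h1 : IsUnit (H.ε (algebraMap R (H R Ω) r)) := hr.map _
    rw [AlgHom.commutes] at h1
    exact isUnit_of_map_unit (algebraMap R Ω) r h1

lemma H.map_maximalIdeal [IsLocalRing R] [IsLocalHom (algebraMap R Ω)] :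
    (maximalIdeal R).map (algebraMap R (H R Ω)) = maximalIdeal (H R Ω) := by
  apply le_antisymm
  · exact ((IsLocalRing.local_hom_TFAE (algebraMap R (H R Ω))).out 0 2 rfl rfl).mp
      H.isLocalHom_algebraMap
  · intro x hx
    obtain ⟨i, y, rfl⟩ := H.exists_of x
    rw [← H.ε_eq_zero_iff, H.ε_of, Loc.ε_eq_zero_iff, ← Loc.map_maximalIdeal] at hx
    have : (H.of i).toRingHom.comp (algebraMap R i.L) = algebraMap R (H R Ω) := by
      ext r
      simp
    rw [← this, ← Ideal.map_map]
    exact Ideal.mem_map_of_mem _ hx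

lemma H.exists_of_finset (s : Finset (H R Ω)) :
    ∃ i : Idx R Ω, ∀ x ∈ s, x ∈ Set.range (H.of i) := by
  classical
  induction s using Finset.induction_on with
  | empty => exact ⟨Classical.arbitrary _, by simp⟩
  | insert a s _ ih =>
    obtain ⟨i, hi⟩ := ih
    obtain ⟨j, y, rfl⟩ := H.exists_of a
    obtain ⟨k, hik, hjk⟩ := exists_ge_ge i j
    refine ⟨k, ?_⟩
    intro x hx
    rw [Finset.mem_insert] at hx
    rcases hx with rfl | hx
    · exact ⟨tr j k hjk y, H.of_tr j k hjk y⟩
    · obtain ⟨z, rfl⟩ := hi x hx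
      exact ⟨tr i k hik z, H.of_tr i k hik z⟩

lemma H.exists_monic_lift (f : (H R Ω)[X]) (hf : f.Monic) (a : H R Ω) :
    ∃ (i : Idx R Ω) (fi : i.L[X]) (ai : i.L), fi.Monic ∧ fi.map (H.of i).toRingHom = f ∧
      H.of i ai = a := by
  classical
  obtain ⟨i, hi⟩ := H.exists_of_finset (insert a (f.support.image f.coeff))
  have hmem : f ∈ Polynomial.lifts (H.of i).toRingHom := by
    rw [Polynomial.lifts_iff_coeff_lifts]
    intro n
    by_cases hn : n ∈ f.support
    · obtain ⟨y, hy⟩ := hi (f.coeff n)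
        (Finset.mem_insert_of_mem (Finset.mem_image_of_mem _ hn))
      exact ⟨y, hy⟩
    · rw [Polynomial.notMem_support_iff] at hn
      rw [hn]
      exact ⟨0, map_zero _⟩
  obtain ⟨fi, hfi, -, hfim⟩ := lifts_and_natDegree_eq_and_monic hmem hf
  obtain ⟨ai, hai⟩ := hi a (Finset.mem_insert_self _ _)
  exact ⟨i, fi, ai, hfim, hfi, hai⟩

end Limit

end Groth.Agent.Lib.Helper87.Hens
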