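import Mathlib
import Groth.Agent.Lib.Helper87.HensH

set_option autoImplicit false
universe u

namespace Groth.Agent.Lib.Helper87.Hens

open IsLocalRing TensorProduct Polynomial

section Main

variable {R : Type u} [CommRing R] {Ω : Type u} [Field Ω] [Algebra R Ω]

lemma eval_map_algHom {A B : Type*} [CommRing A] [CommRing B] [Algebra R A] [Algebra R B]
    (m : A →ₐ[R] B) (p : A[X]) (x : A) : (p.map m.toRingHom).eval (m x) = m (p.eval x) := by
  rw [eval_map]
  exact Polynomial.eval₂_at_apply m.toRingHom x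

lemma H.of_eval (i : Idx R Ω) (p : i.L[X]) (x : i.L) :
    (p.map (H.of i).toRingHom).eval (H.of i x) = H.of i (p.eval x) := by
  rw [eval_map]
  exact Polynomial.eval₂_at_apply (H.of i).toRingHom x

instance H.instHenselian : HenselianLocalRing (H R Ω) where
  is_henselian f hf a₀ h₁ h₂ := by
    obtain ⟨i, fi, ai, hfim, hfi, hai⟩ := H.exists_monic_lift f hf a₀
    have e1 : H.of i (fi.eval ai) = f.eval a₀ := by
      rw [← hfi, ← hai, H.of_eval]
    have e2 : H.of i (fi.derivative.eval ai) = f.derivative.eval a₀ := by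
      rw [← hfi, ← hai, derivative_map, H.of_eval]
    have hm : fi.eval ai ∈ maximalIdeal i.L := by
      rw [← Loc.ε_eq_zero_iff, ← H.ε_of, e1, H.ε_eq_zero_iff]
      exact h₁
    have hu : IsUnit (fi.derivative.eval ai) := by
      rw [Loc.isUnit_iff, ← H.ε_of, e2, ← H.isUnit_iff]
      exact h₂
    obtain ⟨B, _, _, _, ψ, g, hg, b, hb, hbε⟩ := Loc.exists_root i.pt fi hfim ai hm hu
    obtain ⟨k, m, hmk⟩ := exists_idx_map ψ
    have hik : i ≤ k :=
      ⟨m.comp (Loc.map i.pt ψ g hg), by rw [← AlgHom.comp_assoc, hmk, Loc.ε_comp_map]⟩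
    have htr : m.comp (Loc.map i.pt ψ g hg) = tr i k hik :=
      tr_unique i k hik _ (by rw [← AlgHom.comp_assoc, hmk, Loc.ε_comp_map])
    have hcomp : (H.of i).toRingHom =
        ((H.of k).toRingHom.comp m.toRingHom).comp (Loc.map i.pt ψ g hg).toRingHom := by
      ext x
      have := DFunLike.congr_fun htr x
      simp only [AlgHom.toRingHom_eq_coe, RingHom.coe_comp, RingHom.coe_coe, Function.comp_apply]
      rw [AlgHom.comp_apply] at this
      rw [this, H.of_tr]
    refine ⟨H.of k (m b), ?_, ?_⟩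
    · rw [IsRoot.def, ← hfi, hcomp, ← Polynomial.map_map, ← Polynomial.map_map]
      rw [H.of_eval, eval_map_algHom, hb, map_zero, map_zero]
    · rw [← H.ε_eq_zero_iff, map_sub, H.ε_of, ← hai, H.ε_of, sub_eq_zero]
      have : k.ε (m b) = Loc.ε ψ b := DFunLike.congr_fun hmk b
      rw [this, hbε]

/-- maps out of the limit. -/
noncomputable def H.lift {P : Type*} [CommRing P] [Algebra R P] (g : ∀ i : Idx R Ω, i.L →ₐ[R] P)
    (hg : ∀ i j h x, g j (tr i j h x) = g i x) : H R Ω →ₐ[R] P :=
  DirectLimit.Algebra.lift (R := R) (fun i : Idx R Ω => i.L) (fun i j h => tr i j h) P g hg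

@[simp]
lemma H.lift_of {P : Type*} [CommRing P] [Algebra R P] (g : ∀ i : Idx R Ω, i.L →ₐ[R] P)
    (hg : ∀ i j h x, g j (tr i j h x) = g i x) (i : Idx R Ω) (x : i.L) :
    H.lift g hg (H.of i x) = g i x := rfl

lemma H.algHom_ext {P : Type*} [CommRing P] [Algebra R P] {g₁ g₂ : H R Ω →ₐ[R] P}
    (h : ∀ i x, g₁ (H.of i x) = g₂ (H.of i x)) : g₁ = g₂ := by
  ext x
  obtain ⟨i, y, rfl⟩ := H.exists_of x
  exact h i y

/-- the universal property of the limit. -/
theorem H.exists_unique_lift (T : Type u) [CommRing T] [HenselianLocalRing T] [Algebra R T]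
    (τ : Ω →ₐ[R] ResidueField T) :
    ∃! g : H R Ω →ₐ[R] T, ∀ x, residue T (g x) = τ (H.ε x) := by
  choose g hg using fun i : Idx R Ω => Loc.exists_lift_henselian i.pt T τ
  have hcompat : ∀ i j h x, g j (tr i j h x) = g i x := by
    intro i j h x
    have : (g j).comp (tr i j h) = g i := by
      apply Groth.Agent.Lib.Helper9.algHom_ext_of_residue_eq
      intro a
      rw [AlgHom.comp_apply, hg, hg, ε_tr]
    exact DFunLike.congr_fun this x
  refine ⟨H.lift g hcompat, ?_, ?_⟩
  · intro x
    obtain ⟨i, y, rfl⟩ := H.exists_of x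
    rw [H.lift_of, hg, H.ε_of]
  · intro g' hg'
    apply H.algHom_ext
    intro i x
    rw [H.lift_of]
    have : g'.comp (H.of i) = g i := by
      apply Groth.Agent.Lib.Helper9.algHom_ext_of_residue_eq
      intro a
      rw [AlgHom.comp_apply, hg', hg, H.ε_of]
    exact DFunLike.congr_fun this x

instance H.instFlat : Module.Flat R (H R Ω) := by
  classical
  apply Module.Flat.of_forall_isTrivialRelation
  intro l f x hx
  obtain ⟨i, hi⟩ := H.exists_of_finset (Finset.univ.image x)
  choose y hy using fun t : Fin l => hi (x t) (Finset.mem_image_of_mem _ (Finset.mem_univ _))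
  have h0 : H.of i (∑ t, f t • y t) = H.of i 0 := by
    rw [map_sum, map_zero, ← hx]
    apply Finset.sum_congr rfl
    intro t _
    rw [map_smul, hy]
  obtain ⟨k, hik, hik', hk⟩ := (H.of_eq_of_iff _ _).mp h0
  have hk' : ∑ t, f t • tr i k hik (y t) = 0 := by
    rw [map_zero, map_sum] at hk
    rw [← hk]
    apply Finset.sum_congr rfl
    intro t _
    rw [map_smul]
  obtain ⟨κ, a, z, hz1, hz2⟩ := Module.Flat.isTrivialRelation_of_sum_smul_eq_zero (R := R)
    (M := k.L) (f := f) (x := fun t => tr i k hik (y t)) hk'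
  refine ⟨κ, a, fun j => H.of k (z j), ?_, hz2⟩
  intro t
  have hz1' : tr i k hik (y t) = ∑ j, a t j • z j := hz1 t
  rw [← hy t, ← H.of_tr i k hik, hz1', map_sum]
  apply Finset.sum_congr rfl
  intro j _
  rw [map_smul]

end Main

end Groth.Agent.Lib.Helper87.Hens
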