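import Mathlib
import Groth.Prelude.Def_Hensel
import Groth.Agent.Lib.Helper87.HensMain

set_option autoImplicit false
universe u

namespace Groth.Agent.Lib.Helper87.Hens

open IsLocalRing TensorProduct Polynomial

section Henselization

variable (R : Type u) [CommRing R] [IsLocalRing R]

instance isLocalHom_algebraMap_residueField : IsLocalHom (algebraMap R (ResidueField R)) :=
  inferInstanceAs (IsLocalHom (IsLocalRing.residue R))

/-- the henselization of a local ring. -/
abbrev Hh : Type u := H R (ResidueField R)

variable {R}

lemma Hh.exists_sub_mem (x : Hh R) : ∃ r : R, x - algebraMap R (Hh R) r ∈ maximalIdeal (Hh R) := by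
  obtain ⟨r, hr⟩ := residue_surjective (H.ε x)
  refine ⟨r, ?_⟩
  rw [← H.ε_eq_zero_iff, map_sub, AlgHom.commutes, sub_eq_zero]
  exact hr.symm

lemma maximalIdeal_le_comap_of_comp_eq {S T : Type*} [CommRing S] [IsLocalRing S] [Algebra R S]
    [CommRing T] [IsLocalRing T] (hS : (maximalIdeal R).map (algebraMap R S) = maximalIdeal S)
    (f : R →+* T) [IsLocalHom f] (g : S →+* T) (hg : g.comp (algebraMap R S) = f) :
    maximalIdeal S ≤ Ideal.comap g (maximalIdeal T) := by
  rw [← hS, Ideal.map_le_iff_le_comap, Ideal.comap_comap, hg]
  exact ((IsLocalRing.local_hom_TFAE f).out 0 3 rfl rfl).mp ‹_›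

variable (R)

theorem isHenselization_Hh : Hensel.IsHenselization R (Hh R) where
  henselian := inferInstance
  universal T _ _ f hf := by
    let _ := f.toAlgebra
    have : IsLocalHom (algebraMap R T) := hf
    let τ : ResidueField R →ₐ[R] ResidueField T :=
      { ResidueField.map f with
        commutes' := fun r => ResidueField.map_residue f r }
    obtain ⟨g, hg, huniq⟩ := H.exists_unique_lift (R := R) (Ω := ResidueField R) T τ
    refine ⟨g.toRingHom, ?_, ?_⟩
    · ext r
      exact g.commutes r
    · intro g' hg'
      let g'' : Hh R →ₐ[R] T :=
        { g' with commutes' := fun r => congr($hg' r) }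
      have hle := maximalIdeal_le_comap_of_comp_eq (S := Hh R) H.map_maximalIdeal f g' hg'
      have : g'' = g := by
        apply huniq
        intro x
        obtain ⟨r, hr⟩ := Hh.exists_sub_mem x
        have h1 : g' (x - algebraMap R (Hh R) r) ∈ maximalIdeal T := hle hr
        have h2 : residue T (g' x) = residue T (f r) := by
          rw [← sub_eq_zero, ← map_sub, residue_eq_zero_iff]
          have : g' (algebraMap R (Hh R) r) = f r := congr($hg' r)
          rw [← this, ← map_sub]
          exact h1
        have h3 : H.ε x = residue R r := by
          have := (H.ε_eq_zero_iff _).mpr hr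
          rw [map_sub, AlgHom.commutes, sub_eq_zero] at this
          exact this
        show residue T (g' x) = ResidueField.map f (H.ε x)
        rw [h2, h3, ResidueField.map_residue]
      rw [← this]

end Henselization

end Groth.Agent.Lib.Helper87.Hens
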