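import Mathlib
import Groth.Prelude.Def_Hensel
import Groth.Agent.Lib.Helper87.HensUP

set_option autoImplicit false
universe u

namespace Groth.Agent.Lib.Helper87.Hens

open IsLocalRing TensorProduct Polynomial

section Uniq

variable (R : Type u) [CommRing R] [IsLocalRing R]
variable (S : Type u) [CommRing S] [IsLocalRing S] [Algebra R S] [IsLocalHom (algebraMap R S)]
  [Hensel.IsHenselization R S]
variable (S' : Type u) [CommRing S'] [IsLocalRing S'] [Algebra R S'] [IsLocalHom (algebraMap R S')]
  [Hensel.IsHenselization R S']

/-- two henselizations of the same local ring are isomorphic. -/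
theorem nonempty_algEquiv_of_isHenselization : Nonempty (S ≃ₐ[R] S') := by
  have hS : HenselianLocalRing S := Hensel.IsHenselization.henselian R
  have hS' : HenselianLocalRing S' := Hensel.IsHenselization.henselian R
  obtain ⟨g₁, hg₁, -⟩ := Hensel.IsHenselization.universal (R := R) (S := S) S'
    (algebraMap R S') inferInstance
  obtain ⟨g₂, hg₂, -⟩ := Hensel.IsHenselization.universal (R := R) (S := S') S
    (algebraMap R S) inferInstance
  have h21 : g₂.comp g₁ = RingHom.id S :=
    (Hensel.IsHenselization.universal (R := R) (S := S) S (algebraMap R S) inferInstance).unique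
      (by rw [RingHom.comp_assoc, hg₁, hg₂]) (by simp)
  have h12 : g₁.comp g₂ = RingHom.id S' :=
    (Hensel.IsHenselization.universal (R := R) (S := S') S' (algebraMap R S') inferInstance).unique
      (by rw [RingHom.comp_assoc, hg₂, hg₁]) (by simp)
  exact ⟨{ toFun := g₁
           invFun := g₂
           left_inv := fun x => congr($h21 x)
           right_inv := fun x => congr($h12 x)
           map_mul' := map_mul g₁
           map_add' := map_add g₁
           commutes' := fun r => congr($hg₁ r) }⟩

/-- any henselization is isomorphic to the constructed one. -/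
theorem nonempty_algEquiv_Hh : Nonempty (S ≃ₐ[R] Hh R) :=
  haveI := isHenselization_Hh R
  nonempty_algEquiv_of_isHenselization R S (Hh R)

end Uniq

section Transfer

variable {R : Type u} [CommRing R] [IsLocalRing R]
variable {S : Type*} [CommRing S] [IsLocalRing S] [Algebra R S]
variable {S' : Type*} [CommRing S'] [IsLocalRing S'] [Algebra R S']

omit [IsLocalRing R] in
lemma mem_maximalIdeal_iff_of_equiv (e : S ≃ₐ[R] S') (x : S) :
    x ∈ maximalIdeal S ↔ e x ∈ maximalIdeal S' := by
  rw [mem_maximalIdeal, mem_maximalIdeal, mem_nonunits_iff, mem_nonunits_iff]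
  exact not_congr (isUnit_map_iff e x).symm

lemma map_maximalIdeal_of_equiv (e : S ≃ₐ[R] S')
    (h : (maximalIdeal R).map (algebraMap R S') = maximalIdeal S') :
    (maximalIdeal R).map (algebraMap R S) = maximalIdeal S := by
  have h1 : maximalIdeal S = Ideal.comap (e : S →+* S') (maximalIdeal S') := by
    ext x
    rw [Ideal.mem_comap]
    exact mem_maximalIdeal_iff_of_equiv e x
  have h2 : (algebraMap R S) = (e.symm : S' →+* S).comp (algebraMap R S') := by
    ext r
    simp
  rw [h1, ← h, h2, ← Ideal.map_map]
  apply le_antisymm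
  · rw [Ideal.map_le_iff_le_comap]
    intro y hy
    simpa [Ideal.mem_comap] using hy
  · intro x hx
    rw [Ideal.mem_comap] at hx
    have := Ideal.mem_map_of_mem (e.symm : S' →+* S) hx
    simpa using this

end Transfer

section Props

variable (R : Type u) [CommRing R] [IsLocalRing R]
variable (S : Type u) [CommRing S] [IsLocalRing S] [Algebra R S] [IsLocalHom (algebraMap R S)]
  [Hensel.IsHenselization R S]

theorem map_maximalIdeal_of_isHenselization :
    (maximalIdeal R).map (algebraMap R S) = maximalIdeal S := by
  obtain ⟨e⟩ := nonempty_algEquiv_Hh R S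
  exact map_maximalIdeal_of_equiv e H.map_maximalIdeal

theorem exists_sub_mem_of_isHenselization (x : S) :
    ∃ r : R, x - algebraMap R S r ∈ maximalIdeal S := by
  obtain ⟨e⟩ := nonempty_algEquiv_Hh R S
  obtain ⟨r, hr⟩ := Hh.exists_sub_mem (e x)
  refine ⟨r, ?_⟩
  rw [mem_maximalIdeal_iff_of_equiv e, map_sub, AlgEquiv.commutes]
  exact hr

theorem residueField_map_bijective_of_isHenselization :
    Function.Bijective (ResidueField.map (algebraMap R S)) := by
  refine ⟨(ResidueField.map (algebraMap R S)).injective, ?_⟩
  intro y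
  obtain ⟨x, rfl⟩ := residue_surjective y
  obtain ⟨r, hr⟩ := exists_sub_mem_of_isHenselization R S x
  refine ⟨residue R r, ?_⟩
  rw [ResidueField.map_residue, eq_comm, ← sub_eq_zero, ← map_sub, residue_eq_zero_iff]
  exact hr

theorem flat_of_isHenselization : Module.Flat R S := by
  obtain ⟨e⟩ := nonempty_algEquiv_Hh R S
  exact Module.Flat.of_linearEquiv e.toLinearEquiv

theorem faithfullyFlat_of_isHenselization : Module.FaithfullyFlat R S :=
  haveI := flat_of_isHenselization R S
  Module.FaithfullyFlat.of_flat_of_isLocalHom

theorem exists_sub_mem_map_pow_of_isHenselization (n : ℕ) (x : S) :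
    ∃ r : R, x - algebraMap R S r ∈ (maximalIdeal R ^ n).map (algebraMap R S) := by
  induction n generalizing x with
  | zero => exact ⟨0, by simp [Ideal.map_top]⟩
  | succ n ih =>
    obtain ⟨r, hr⟩ := ih x
    suffices h : ∀ y ∈ (maximalIdeal R ^ n).map (algebraMap R S),
        ∃ r' : R, y - algebraMap R S r' ∈ (maximalIdeal R ^ (n + 1)).map (algebraMap R S) by
      obtain ⟨r', hr'⟩ := h _ hr
      refine ⟨r + r', ?_⟩
      rw [map_add, ← sub_sub]
      exact hr'
    intro y hy
    rw [Ideal.map] at hy
    induction hy using Submodule.span_induction with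
    | mem y hy =>
      obtain ⟨a, ha, rfl⟩ := hy
      exact ⟨a, by simp⟩
    | zero => exact ⟨0, by simp⟩
    | add y z _ _ hy hz =>
      obtain ⟨r₁, h₁⟩ := hy
      obtain ⟨r₂, h₂⟩ := hz
      refine ⟨r₁ + r₂, ?_⟩
      rw [map_add, add_sub_add_comm]
      exact Ideal.add_mem _ h₁ h₂
    | smul s y hy hy' =>
      obtain ⟨r₁, h₁⟩ := hy'
      obtain ⟨t, ht⟩ := exists_sub_mem_of_isHenselization R S s
      refine ⟨t * r₁, ?_⟩
      have e : s • y - algebraMap R S (t * r₁) =
          (s - algebraMap R S t) * y + algebraMap R S t * (y - algebraMap R S r₁) := by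
        rw [map_mul, smul_eq_mul]
        ring
      rw [e]
      apply Ideal.add_mem
      · rw [← map_maximalIdeal_of_isHenselization R S] at ht
        have hy2 : y ∈ (maximalIdeal R ^ n).map (algebraMap R S) := hy
        rw [pow_succ', Ideal.map_mul]
        exact Ideal.mul_mem_mul ht hy2
      · exact Ideal.mul_mem_left _ _ h₁

theorem quotientMap_pow_bijective_of_isHenselization (n : ℕ) :
    Function.Bijective (Ideal.quotientMap
      (Ideal.map (algebraMap R S) (maximalIdeal R ^ n)) (algebraMap R S)
      Ideal.le_comap_map) := by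
  constructor
  · apply Ideal.quotientMap_injective'
    have := faithfullyFlat_of_isHenselization R S
    rw [Ideal.comap_map_eq_self_of_faithfullyFlat]
  · intro y
    obtain ⟨x, rfl⟩ := Ideal.Quotient.mk_surjective y
    obtain ⟨r, hr⟩ := exists_sub_mem_map_pow_of_isHenselization R S n x
    refine ⟨Ideal.Quotient.mk _ r, ?_⟩
    rw [Ideal.quotientMap_mk, eq_comm, Ideal.Quotient.eq]
    exact hr

end Props

end Groth.Agent.Lib.Helper87.Hens
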