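import Mathlib
import Groth.Agent.Lib.Helper87.HensMain

set_option autoImplicit false
universe u

namespace Groth.Agent.Lib.Helper87.Hens

open IsLocalRing TensorProduct Polynomial

section Residue

variable {R : Type u} [CommRing R] [IsLocalRing R]
variable {Ω : Type u} [Field Ω] [Algebra R Ω]
variable [Algebra (ResidueField R) Ω] [IsScalarTower R (ResidueField R) Ω]

/-- every separable element of `Ω` is the value of a point of an étale algebra. -/
theorem exists_pointed_etale_of_isSeparable (α : Ω) (hα : IsSeparable (ResidueField R) α) :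
    ∃ (A : Type u) (_ : CommRing A) (_ : Algebra R A) (_ : Algebra.Etale R A)
      (φ : A →ₐ[R] Ω) (a : A), φ a = α := by
  have hint : IsIntegral (ResidueField R) α := hα.isIntegral
  let p₀ : (ResidueField R)[X] := minpoly (ResidueField R) α
  have hp₀ : p₀.Monic := minpoly.monic hint
  have hlift : p₀ ∈ Polynomial.lifts (residue R) :=
    (Polynomial.lifts_iff_coeff_lifts _).mpr fun n => residue_surjective _
  obtain ⟨p, hp1, -, hpm⟩ := lifts_and_natDegree_eq_and_monic hlift hp₀
  let P : StandardEtalePair R := ⟨p, hpm, derivative p, ⟨1, 0, 1, by simp⟩⟩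
  have hev : ∀ q : R[X], aeval α q = aeval α (q.map (residue R)) := by
    intro q
    rw [aeval_def, aeval_def, eval₂_map]
    congr 1
    exact IsScalarTower.algebraMap_eq R (ResidueField R) Ω
  have hmap : P.HasMap α := by
    constructor
    · show aeval α p = 0
      rw [hev, hp1]
      exact minpoly.aeval _ _
    · show IsUnit (aeval α (derivative p))
      rw [hev, ← derivative_map, hp1, isUnit_iff_ne_zero]
      exact Polynomial.Separable.aeval_derivative_ne_zero hα (minpoly.aeval _ _)
  exact ⟨P.Ring, inferInstance, inferInstance, inferInstance, P.lift α hmap, P.X, P.lift_X α hmap⟩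

variable [IsLocalHom (algebraMap R Ω)]

omit [IsLocalHom (algebraMap R Ω)] in
theorem H.ε_surjective [Algebra.IsSeparable (ResidueField R) Ω] :
    Function.Surjective (H.ε : H R Ω →ₐ[R] Ω) := by
  intro α
  obtain ⟨A, _, _, _, φ, a, ha⟩ :=
    exists_pointed_etale_of_isSeparable (R := R) α (Algebra.IsSeparable.isSeparable _ α)
  obtain ⟨k, g, hg⟩ := exists_idx_map φ
  refine ⟨H.of k (g (algebraMap A (Loc φ) a)), ?_⟩
  rw [H.ε_of]
  have : k.ε (g (algebraMap A (Loc φ) a)) = Loc.ε φ (algebraMap A (Loc φ) a) :=
    DFunLike.congr_fun hg _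
  rw [this, Loc.ε_algebraMap, ha]

/-- the induced map from the residue field of the limit to `Ω`. -/
noncomputable def H.εbar : ResidueField (H R Ω) →ₐ[ResidueField R] Ω :=
  { Ideal.Quotient.lift (maximalIdeal (H R Ω)) (H.ε : H R Ω →ₐ[R] Ω).toRingHom
      (fun x hx => (H.ε_eq_zero_iff x).mpr hx) with
    commutes' := fun r => by
      obtain ⟨r, rfl⟩ := residue_surjective r
      have h1 : H.ε (algebraMap R (H R Ω) r) =
          algebraMap (ResidueField R) Ω (residue R r) := by
        rw [AlgHom.commutes]
        exact IsScalarTower.algebraMap_apply R (ResidueField R) Ω r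
      exact h1 }

@[simp]
lemma H.εbar_residue (x : H R Ω) : H.εbar (residue (H R Ω) x) = H.ε x := rfl

lemma H.εbar_bijective [Algebra.IsSeparable (ResidueField R) Ω] :
    Function.Bijective (H.εbar : ResidueField (H R Ω) →ₐ[ResidueField R] Ω) := by
  refine ⟨(H.εbar : ResidueField (H R Ω) →ₐ[ResidueField R] Ω).toRingHom.injective, ?_⟩
  intro α
  obtain ⟨x, hx⟩ := H.ε_surjective (R := R) α
  exact ⟨residue _ x, hx⟩

/-- the residue field of the limit is `Ω`. -/
noncomputable def H.residueEquiv [Algebra.IsSeparable (ResidueField R) Ω] :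
    ResidueField (H R Ω) ≃ₐ[ResidueField R] Ω :=
  AlgEquiv.ofBijective H.εbar H.εbar_bijective

theorem H.isSepClosure_residueField [IsSepClosure (ResidueField R) Ω] :
    IsSepClosure (ResidueField R) (ResidueField (H R Ω)) := by
  have hsepΩ : IsSepClosed Ω := IsSepClosure.sep_closed (ResidueField R)
  constructor
  · apply IsSepClosed.of_exists_root
    intro p hpm hpi hps
    have hdeg : (p.map (H.residueEquiv (R := R) (Ω := Ω)).toAlgHom.toRingHom).degree ≠ 0 := by
      rw [degree_map]
      exact (degree_pos_of_irreducible hpi).ne'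
    obtain ⟨β, hβ⟩ := IsSepClosed.exists_root _ hdeg hps.map
    refine ⟨(H.residueEquiv (R := R) (Ω := Ω)).symm β, ?_⟩
    apply (H.residueEquiv (R := R) (Ω := Ω)).injective
    rw [map_zero]
    rw [IsRoot.def, eval_map] at hβ
    rw [← hβ]
    have := Polynomial.hom_eval₂ p (RingHom.id _)
      (H.residueEquiv (R := R) (Ω := Ω)).toAlgHom.toRingHom
      ((H.residueEquiv (R := R) (Ω := Ω)).symm β)
    simp only [RingHom.comp_id, eval₂_id] at this
    rw [show (H.residueEquiv (R := R) (Ω := Ω)).toAlgHom.toRingHom
      ((H.residueEquiv (R := R) (Ω := Ω)).symm β) = β from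
        (H.residueEquiv (R := R) (Ω := Ω)).apply_symm_apply β] at this
    exact this
  · exact Algebra.IsSeparable.of_algHom (ResidueField R) Ω
      (H.εbar : ResidueField (H R Ω) →ₐ[ResidueField R] Ω)

end Residue

end Groth.Agent.Lib.Helper87.Hens
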