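import Mathlib
import Groth.Prelude.Def_Hensel
import Groth.Agent.Lib.Helper87.HensRes
import Groth.Agent.Lib.Helper87.HensUP

set_option autoImplicit false
universe u

namespace Groth.Agent.Lib.Helper87.Hens

open IsLocalRing TensorProduct Polynomial

section Strict

variable (R : Type u) [CommRing R] [IsLocalRing R]

/-- the separable closure of the residue field. -/
abbrev Ωs : Type u := SeparableClosure (ResidueField R)

instance isLocalHom_algebraMap_Ωs : IsLocalHom (algebraMap R (Ωs R)) where
  map_nonunit r hr := by
    rw [IsScalarTower.algebraMap_apply R (ResidueField R) (Ωs R)] at hr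
    have h1 : residue R r ≠ 0 := fun h => by
      have h' : algebraMap R (ResidueField R) r = 0 := h
      rw [h', map_zero] at hr
      exact not_isUnit_zero hr
    by_contra hnu
    exact h1 ((residue_eq_zero_iff r).mpr hnu)

/-- the strict henselization of a local ring. -/
abbrev Hsh : Type u := H R (Ωs R)

variable {R}

lemma Hsh.residueEquiv_symm_ε (x : Hsh R) :
    (H.residueEquiv (R := R) (Ω := Ωs R)).symm (H.ε x) = residue (Hsh R) x := by
  rw [AlgEquiv.symm_apply_eq]
  rfl

variable (R)

theorem isStrictHenselization_Hsh : Hensel.IsStrictHenselization R (Hsh R) where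
  henselian := inferInstance
  isSepClosure := H.isSepClosure_residueField
  universal T _ _ f _ τ hτ := by
    let _ := f.toAlgebra
    let e := H.residueEquiv (R := R) (Ω := Ωs R)
    let τ' : Ωs R →ₐ[R] ResidueField T :=
      { τ.comp (e.symm : Ωs R →+* ResidueField (Hsh R)) with
        commutes' := fun r => by
          have h1 : algebraMap R (Ωs R) r = e (residue (Hsh R) (algebraMap R (Hsh R) r)) := by
            show _ = H.ε (algebraMap R (Hsh R) r)
            rw [AlgHom.commutes]
          have h2 : τ (residue (Hsh R) (algebraMap R (Hsh R) r)) = residue T (f r) := by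
            have := congr($hτ (residue R r))
            rw [RingHom.comp_apply, ResidueField.map_residue, ResidueField.map_residue] at this
            exact this
          show τ (e.symm (algebraMap R (Ωs R) r)) = residue T (f r)
          rw [h1, AlgEquiv.symm_apply_apply, h2] }
    have hτ' : ∀ x : Hsh R, τ' (H.ε x) = τ (residue (Hsh R) x) := by
      intro x
      show τ (e.symm (H.ε x)) = _
      rw [Hsh.residueEquiv_symm_ε]
    obtain ⟨g, hg, huniq⟩ := H.exists_unique_lift (R := R) (Ω := Ωs R) T τ'
    refine ⟨g.toRingHom, ⟨?_, ?_⟩, ?_⟩
    · ext r
      exact g.commutes r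
    · intro x
      show residue T (g x) = _
      rw [hg, hτ']
    · rintro g' ⟨hg'1, hg'2⟩
      let g'' : Hsh R →ₐ[R] T :=
        { g' with commutes' := fun r => congr($hg'1 r) }
      have : g'' = g := by
        apply huniq
        intro x
        show residue T (g' x) = _
        rw [hg'2, hτ']
      rw [← this]

end Strict

end Groth.Agent.Lib.Helper87.Hens
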