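import Mathlib
import Groth.Prelude.Def_Hensel
import Groth.Agent.Lib.Helper87.HensStrict
import Groth.Agent.Lib.Helper87.HensProps

set_option autoImplicit false
universe u

namespace Groth.Agent.Lib.Helper87.Hens

open IsLocalRing TensorProduct Polynomial

section StrictUniq

variable (R : Type u) [CommRing R] [IsLocalRing R]
variable (S : Type u) [CommRing S] [IsLocalRing S] [Algebra R S] [IsLocalHom (algebraMap R S)]
  [Hensel.IsStrictHenselization R S]
variable (S' : Type u) [CommRing S'] [IsLocalRing S'] [Algebra R S'] [IsLocalHom (algebraMap R S')]
  [Hensel.IsStrictHenselization R S']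

omit [Hensel.IsStrictHenselization R S] in
lemma residueField_map_eq_algebraMap (x : ResidueField R) :
    ResidueField.map (algebraMap R S) x = algebraMap (ResidueField R) (ResidueField S) x := by
  obtain ⟨r, rfl⟩ := residue_surjective x
  rfl

/-- two strict henselizations of the same local ring are isomorphic. -/
theorem nonempty_algEquiv_of_isStrictHenselization : Nonempty (S ≃ₐ[R] S') := by
  have hS : HenselianLocalRing S := Hensel.IsStrictHenselization.henselian R
  have hS' : HenselianLocalRing S' := Hensel.IsStrictHenselization.henselian R
  have hc : IsSepClosure (ResidueField R) (ResidueField S) :=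
    Hensel.IsStrictHenselization.isSepClosure
  have hc' : IsSepClosure (ResidueField R) (ResidueField S') :=
    Hensel.IsStrictHenselization.isSepClosure
  let σ : ResidueField S ≃ₐ[ResidueField R] ResidueField S' :=
    IsSepClosure.equiv (ResidueField R) (ResidueField S) (ResidueField S')
  have hσ : (σ : ResidueField S →+* ResidueField S').comp
      (ResidueField.map (algebraMap R S)) = ResidueField.map (algebraMap R S') := by
    ext x
    rw [RingHom.comp_apply, residueField_map_eq_algebraMap, residueField_map_eq_algebraMap]
    exact σ.commutes x
  have hσ' : (σ.symm : ResidueField S' →+* ResidueField S).comp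
      (ResidueField.map (algebraMap R S')) = ResidueField.map (algebraMap R S) := by
    ext x
    rw [RingHom.comp_apply, residueField_map_eq_algebraMap, residueField_map_eq_algebraMap]
    exact σ.symm.commutes x
  obtain ⟨g₁, ⟨hg₁, hg₁'⟩, -⟩ := Hensel.IsStrictHenselization.universal (R := R) (S := S) S'
    (algebraMap R S') (σ : ResidueField S →+* ResidueField S') hσ
  obtain ⟨g₂, ⟨hg₂, hg₂'⟩, -⟩ := Hensel.IsStrictHenselization.universal (R := R) (S := S') S
    (algebraMap R S) (σ.symm : ResidueField S' →+* ResidueField S) hσ'
  have h21 : g₂.comp g₁ = RingHom.id S :=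
    (Hensel.IsStrictHenselization.universal (R := R) (S := S) S (algebraMap R S)
      (RingHom.id _) (by simp)).unique
      ⟨by rw [RingHom.comp_assoc, hg₁, hg₂], fun x => by
        rw [RingHom.comp_apply, hg₂', hg₁']
        exact σ.symm_apply_apply _⟩
      ⟨by simp, fun x => rfl⟩
  have h12 : g₁.comp g₂ = RingHom.id S' :=
    (Hensel.IsStrictHenselization.universal (R := R) (S := S') S' (algebraMap R S')
      (RingHom.id _) (by simp)).unique
      ⟨by rw [RingHom.comp_assoc, hg₂, hg₁], fun x => by
        rw [RingHom.comp_apply, hg₁', hg₂']
        exact σ.apply_symm_apply _⟩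
      ⟨by simp, fun x => rfl⟩
  exact ⟨{ toFun := g₁
           invFun := g₂
           left_inv := fun x => congr($h21 x)
           right_inv := fun x => congr($h12 x)
           map_mul' := map_mul g₁
           map_add' := map_add g₁
           commutes' := fun r => congr($hg₁ r) }⟩

/-- any strict henselization is isomorphic to the constructed one. -/
theorem nonempty_algEquiv_Hsh : Nonempty (S ≃ₐ[R] Hsh R) :=
  haveI := isStrictHenselization_Hsh R
  nonempty_algEquiv_of_isStrictHenselization R S (Hsh R)

theorem map_maximalIdeal_of_isStrictHenselization :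
    (maximalIdeal R).map (algebraMap R S) = maximalIdeal S := by
  obtain ⟨e⟩ := nonempty_algEquiv_Hsh R S
  exact map_maximalIdeal_of_equiv e H.map_maximalIdeal

theorem flat_of_isStrictHenselization : Module.Flat R S := by
  obtain ⟨e⟩ := nonempty_algEquiv_Hsh R S
  exact Module.Flat.of_linearEquiv e.toLinearEquiv

theorem faithfullyFlat_of_isStrictHenselization : Module.FaithfullyFlat R S :=
  haveI := flat_of_isStrictHenselization R S
  Module.FaithfullyFlat.of_flat_of_isLocalHom

end StrictUniq

end Groth.Agent.Lib.Helper87.Hens
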