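import Mathlib

set_option autoImplicit false
universe u

namespace Groth.Agent.Lib.Helper87

open TensorProduct

/-- a flat algebra over the base receiving a map from an unramified algebra `A` is flat over
`A`: it is an `A`-linear retract of `A ⊗ T`. -/
theorem flat_of_unramified_of_flat {R A T : Type*} [CommRing R] [CommRing A] [CommRing T]
    [Algebra R A] [Algebra R T] [Algebra A T] [IsScalarTower R A T]
    [Algebra.EssFiniteType R A] [Algebra.FormallyUnramified R A] [Module.Flat R T] :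
    Module.Flat A T := by
  obtain ⟨e₀, he₀, hsp⟩ : ∃ e, IsIdempotentElem e ∧
      KaehlerDifferential.ideal R A = Ideal.span {e} :=
    (Ideal.isIdempotentElem_iff_of_fg _ (KaehlerDifferential.ideal_fg R A)).mp <|
      (Ideal.cotangent_subsingleton_iff _).mp <| inferInstanceAs <| Subsingleton Ω[A⁄R]
  let G : A ⊗[R] A →ₐ[A] A ⊗[R] T :=
    Algebra.TensorProduct.map (AlgHom.id A A) (IsScalarTower.toAlgHom R A T)
  have hG : ∀ a b, G (a ⊗ₜ b) = a ⊗ₜ algebraMap A T b := fun a b => by simp [G]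
  let σ : A ⊗[R] T →ₐ[A] T :=
    Algebra.TensorProduct.lift (Algebra.ofId A T) (AlgHom.id R T) (fun _ _ => Commute.all _ _)
  have hσ : ∀ a t, σ (a ⊗ₜ t) = algebraMap A T a * t := fun a t => by simp [σ, Algebra.ofId_apply]
  let e₁ : A ⊗[R] T := G e₀
  have he₁ : IsIdempotentElem e₁ := he₀.map G
  have hσG : ∀ x : A ⊗[R] A, σ (G x) = algebraMap A T (Algebra.TensorProduct.lmul' R x) := by
    intro x
    induction x with
    | zero => simp
    | tmul a b => rw [hG, hσ, Algebra.TensorProduct.lmul'_apply_tmul, map_mul]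
    | add x y hx hy => simp only [map_add, hx, hy]
  have hemem : e₀ ∈ KaehlerDifferential.ideal R A := by
    rw [hsp]
    exact Ideal.mem_span_singleton_self e₀
  have hσe₁ : σ e₁ = 0 := by
    show σ (G e₀) = 0
    rw [hσG, (RingHom.mem_ker).1 hemem, map_zero]
  have hkey : ∀ a : A, ((a ⊗ₜ[R] (1 : T) - (1 : A) ⊗ₜ[R] algebraMap A T a : A ⊗[R] T)) *
      (1 - e₁) = 0 := by
    intro a
    have hmem : (1 : A) ⊗ₜ[R] a - a ⊗ₜ[R] (1 : A) ∈ Ideal.span {e₀} := by
      rw [← hsp]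
      exact KaehlerDifferential.one_smul_sub_smul_one_mem_ideal R a
    obtain ⟨c, hc⟩ := Ideal.mem_span_singleton'.1 hmem
    have h1 : ((1 : A) ⊗ₜ[R] algebraMap A T a - a ⊗ₜ[R] (1 : T) : A ⊗[R] T) = G c * e₁ := by
      show _ = G c * G e₀
      rw [← map_mul, hc, map_sub, hG, hG, map_one]
    have h2 : (a ⊗ₜ[R] (1 : T) - (1 : A) ⊗ₜ[R] algebraMap A T a : A ⊗[R] T) = -(G c * e₁) := by
      rw [← h1]
      ring
    rw [h2, neg_mul, mul_assoc, mul_sub, mul_one, he₁.eq, sub_self, mul_zero, neg_zero]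
  let i : T →ₗ[A] A ⊗[R] T :=
    { toFun := fun t => ((1 : A) ⊗ₜ[R] t) * (1 - e₁)
      map_add' := fun t₁ t₂ => by rw [tmul_add, add_mul]
      map_smul' := fun a t => by
        simp only [RingHom.id_apply]
        rw [Algebra.smul_def a t, Algebra.smul_def a (((1 : A) ⊗ₜ[R] t) * (1 - e₁))]
        have e1 : ((1 : A) ⊗ₜ[R] (algebraMap A T a * t) : A ⊗[R] T) =
            ((1 : A) ⊗ₜ[R] algebraMap A T a) * ((1 : A) ⊗ₜ[R] t) := by
          rw [Algebra.TensorProduct.tmul_mul_tmul, one_mul]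
        have e2 : algebraMap A (A ⊗[R] T) a = a ⊗ₜ[R] (1 : T) := rfl
        rw [e1, e2]
        have := hkey a
        have e3 : (a ⊗ₜ[R] (1 : T)) * (((1 : A) ⊗ₜ[R] t) * (1 - e₁)) -
            ((1 : A) ⊗ₜ[R] algebraMap A T a) * ((1 : A) ⊗ₜ[R] t) * (1 - e₁) =
            ((a ⊗ₜ[R] (1 : T) - (1 : A) ⊗ₜ[R] algebraMap A T a) * (1 - e₁)) *
              ((1 : A) ⊗ₜ[R] t) := by ring
        rw [this, zero_mul, sub_eq_zero] at e3
        exact e3.symm }
  have hret : σ.toLinearMap ∘ₗ i = LinearMap.id := by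
    ext t
    show σ (((1 : A) ⊗ₜ[R] t) * (1 - e₁)) = t
    rw [map_mul, map_sub, map_one, hσe₁, sub_zero, mul_one, hσ, map_one, one_mul]
  exact Module.Flat.of_retract i σ.toLinearMap hret

end Groth.Agent.Lib.Helper87
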