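import Mathlib
import Groth.Agent.Lib.Helper87.HensUP
import Groth.Agent.Lib.Helper87.FlatEtale
import Groth.Agent.S0543

set_option autoImplicit false
universe u

namespace Groth.Agent.Lib.Helper87.Hens

open IsLocalRing TensorProduct Polynomial

/-- descent of the noetherian property along a faithfully flat algebra. -/
theorem isNoetherianRing_of_faithfullyFlat (A B : Type*) [CommRing A] [CommRing B] [Algebra A B]
    [Module.FaithfullyFlat A B] [IsNoetherianRing B] : IsNoetherianRing A := by
  have hB : WellFoundedGT (Ideal B) := isNoetherian_iff'.mp inferInstance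
  have hmono : StrictMono (fun I : Ideal A => I.map (algebraMap A B)) := by
    intro I J hIJ
    refine lt_of_le_of_ne (Ideal.map_mono hIJ.le) ?_
    intro heq
    have h1 : I = J := by
      rw [← Ideal.comap_map_eq_self_of_faithfullyFlat (B := B) I,
        ← Ideal.comap_map_eq_self_of_faithfullyFlat (B := B) J]
      exact congrArg (Ideal.comap (algebraMap A B)) heq
    exact hIJ.ne h1
  exact isNoetherian_iff'.mpr hmono.wellFoundedGT

section FlatOverH

variable {R : Type u} [CommRing R] {Ω : Type u} [Field Ω] [Algebra R Ω]

/-- any flat `R`-algebra receiving a map from the limit is flat over the limit. -/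
theorem H.flat_of_algebra {T : Type*} [CommRing T] [Algebra R T] [Module.Flat R T]
    [Algebra (H R Ω) T] [IsScalarTower R (H R Ω) T] : Module.Flat (H R Ω) T := by
  classical
  apply Module.Flat.of_forall_isTrivialRelation
  intro l f x hx
  obtain ⟨i, hi⟩ := H.exists_of_finset (Finset.univ.image f)
  choose f' hf' using fun t : Fin l => hi (f t) (Finset.mem_image_of_mem _ (Finset.mem_univ _))
  letI : Algebra i.L T := ((algebraMap (H R Ω) T).comp (H.of i).toRingHom).toAlgebra
  have halg : ∀ z : i.L, algebraMap i.L T z = algebraMap (H R Ω) T (H.of i z) := fun z => rfl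
  haveI : IsScalarTower R i.L T := IsScalarTower.of_algebraMap_eq (fun r => by
    rw [halg, AlgHom.commutes]
    exact IsScalarTower.algebraMap_apply R (H R Ω) T r)
  haveI : Module.Flat i.L T := Groth.Agent.Lib.Helper87.flat_of_unramified_of_flat (R := R)
  have hsmul : ∀ (z : i.L) (y : T), z • y = H.of i z • y := fun z y => by
    rw [Algebra.smul_def, Algebra.smul_def, halg]
  have hx' : ∑ t, f' t • x t = 0 := by
    rw [← hx]
    apply Finset.sum_congr rfl
    intro t _
    rw [hsmul, hf']
  obtain ⟨κ, a, y, hy1, hy2⟩ := Module.Flat.isTrivialRelation_of_sum_smul_eq_zero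
    (R := i.L) (M := T) (f := f') (x := x) hx'
  refine ⟨κ, fun t j => H.of i (a t j), y, ?_, ?_⟩
  · intro t
    rw [hy1 t]
    apply Finset.sum_congr rfl
    intro j _
    rw [hsmul]
  · intro j
    have := congrArg (H.of i) (hy2 j)
    rw [map_sum, map_zero] at this
    rw [← this]
    apply Finset.sum_congr rfl
    intro t _
    rw [map_mul, hf']

end FlatOverH

section Noeth

variable (R : Type u) [CommRing R] [IsLocalRing R] [IsNoetherianRing R]

instance henselianLocalRing_adicCompletion :
    HenselianLocalRing (AdicCompletion (maximalIdeal R) R) where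
  is_henselian f hf a₀ h₁ h₂ := by
    have := HenselianRing.is_henselian (R := AdicCompletion (maximalIdeal R) R)
      (I := maximalIdeal (AdicCompletion (maximalIdeal R) R)) f hf a₀ h₁ (h₂.map _)
    exact this

theorem Hh.isNoetherianRing : IsNoetherianRing (Hh R) := by
  let T := AdicCompletion (maximalIdeal R) R
  have hT : IsNoetherianRing T := Groth.Agent.S0543.result R (maximalIdeal R)
  let τ : ResidueField R →ₐ[R] ResidueField T :=
    { ResidueField.map (algebraMap R T) with
      commutes' := fun r => ResidueField.map_residue (algebraMap R T) r }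
  obtain ⟨g, hg, -⟩ := H.exists_unique_lift (R := R) (Ω := ResidueField R) T τ
  letI : Algebra (Hh R) T := g.toRingHom.toAlgebra
  haveI : IsScalarTower R (Hh R) T := IsScalarTower.of_algebraMap_eq (fun r => (g.commutes r).symm)
  haveI : Module.Flat (Hh R) T := H.flat_of_algebra
  haveI : IsLocalHom (algebraMap (Hh R) T) := by
    constructor
    intro x hx
    have h1 : IsUnit (residue T (g x)) := hx.map _
    rw [hg] at h1
    rw [H.isUnit_iff]
    intro h0
    rw [h0, map_zero] at h1
    exact not_isUnit_zero h1
  haveI : Module.FaithfullyFlat (Hh R) T := Module.FaithfullyFlat.of_flat_of_isLocalHom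
  exact isNoetherianRing_of_faithfullyFlat (Hh R) T

end Noeth

end Groth.Agent.Lib.Helper87.Hens
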