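import Groth.Agent.Lib.Helper87.UnivOpenAtChart
import Groth.Agent.Lib.Helper73.DimFormula.AffineSpaceQF
import Groth.Agent.Lib.Helper73.DimFormula.FibComp

set_option autoImplicit false
universe u

open CategoryTheory CategoryTheory.Limits AlgebraicGeometry

namespace Groth.Agent.Lib.Helper87.ChevalleyPointwise

open Groth.Agent.Lib.Helper73 AlgebraicGeometry.AffineSpace

/-- At a geometrically unibranch point there is only one maximal generization. -/
theorem eq_of_maximal_of_isGeomUnibranch {Y : Scheme.{u}} (y : Y)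
    (hy : CAlg2.IsGeomUnibranch (Y.presheaf.stalk y)) (η₁ η₂ : Y) (h1 : η₁ ⤳ y) (h2 : η₂ ⤳ y)
    (m1 : ∀ t : Y, t ⤳ η₁ → t = η₁) (m2 : ∀ t : Y, t ⤳ η₂ → t = η₂) : η₁ = η₂ := by
  have hd : IsDomain (Y.presheaf.stalk y ⧸ nilradical (Y.presheaf.stalk y)) := hy.1.1
  have hprime : (nilradical (Y.presheaf.stalk y)).IsPrime :=
    (Ideal.Quotient.isDomain_iff_prime _).mp hd
  have key : ∀ η : Y, η ⤳ y → (∀ t : Y, t ⤳ η → t = η) →
      η = (Y.fromSpecStalk y) ⟨nilradical (Y.presheaf.stalk y), hprime⟩ := by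
    intro η h m
    have hr : η ∈ Set.range (Y.fromSpecStalk y) := by
      rw [Scheme.range_fromSpecStalk]; exact h
    obtain ⟨P, rfl⟩ := hr
    let P' : PrimeSpectrum (Y.presheaf.stalk y) := P
    have hle : (⟨nilradical (Y.presheaf.stalk y), hprime⟩ : PrimeSpectrum _) ≤ P' :=
      nilradical_le_prime P'.asIdeal
    have h3 := m _ ((fromSpecStalk_le_iff y P' ⟨_, hprime⟩).mpr hle)
    exact h3.symm
  rw [key η₁ h1 m1, key η₂ h2 m2]

/-- The property through which all conditions of the pointwise Chevalley criterion factor. -/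
def HasGoodGenerization {X Y : Scheme.{u}} (f : X ⟶ Y) (x : X) : Prop :=
  ∃ ξ : X, ξ ⤳ x ∧ (∀ t : X, t ⤳ ξ → t = ξ) ∧ (∀ t : Y, t ⤳ f ξ → t = f ξ) ∧
    resTrdegNat f ξ = resTrdegNat f x

section

variable {X Y : Scheme.{u}} (f : X ⟶ Y) [LocallyOfFiniteType f] (x : X)
  (hmax : ∀ x' : X, f.base x' = f.base x → x ∈ closure {x'} → x' = x)

include hmax in
theorem fibreDimAt_eq_resTrdegNat :
    FlatMor.fibreDimAt f x = ((resTrdegNat f x : ℕ) : WithBot ℕ∞) := by
  apply fibreDimAt_eq_of_forall_maximal f x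
  intro ζ hζx hfζ _
  rw [hmax ζ hfζ (specializes_iff_mem_closure.mp hζx)]

/-- Chart data at a point. -/
structure Chart (e : ℕ) where
  U : X.Opens
  hxU : x ∈ U
  g : (U : Scheme.{u}) ⟶ 𝔸(ULift.{u} (Fin e); Y)
  hg : g ≫ (𝔸(ULift.{u} (Fin e); Y) ↘ Y) = U.ι ≫ f
  hqf : LocallyQuasiFinite g
  hmaxU : ∀ ξ ∈ U, (∀ t : X, t ⤳ ξ → t = ξ) → ξ ⤳ x

include hmax in
theorem exists_chart [IsLocallyNoetherian Y] : Nonempty (Chart f x (resTrdegNat f x)) := by
  have hLN : IsLocallyNoetherian X := LocallyOfFiniteType.isLocallyNoetherian f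
  obtain ⟨U₀, hxU₀, hU₀⟩ := exists_open_forall_maximal_specializes x
  obtain ⟨U, g, hxU, hUU₀, hgover, hgQF⟩ :=
    exists_locallyQuasiFinite_toAffineSpace f x (resTrdegNat f x)
      (fibreDimAt_eq_resTrdegNat f x hmax).le U₀ hxU₀
  exact ⟨⟨U, hxU, g, hgover, hgQF, fun ξ hξ hm => hU₀ ξ (hUU₀ hξ) hm⟩⟩

variable {f x} {e : ℕ} (c : Chart f x e)

theorem Chart.locallyOfFiniteType : LocallyOfFiniteType c.g := by
  have : LocallyOfFiniteType (c.g ≫ (𝔸(ULift.{u} (Fin e); Y) ↘ Y)) := by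
    rw [c.hg]; infer_instance
  exact locallyOfFiniteType_of_comp c.g (𝔸(ULift.{u} (Fin e); Y) ↘ Y)

theorem Chart.over_apply (u : c.U) :
    (𝔸(ULift.{u} (Fin e); Y) ↘ Y) (c.g u) = f (c.U.ι u) := by
  rw [← Scheme.Hom.comp_apply, c.hg, Scheme.Hom.comp_apply]

/-- The residual transcendence degree can be computed on the chart. -/
theorem Chart.resTrdegNat_eq (u : c.U) :
    resTrdegNat f (c.U.ι u) = resTrdegNat (𝔸(ULift.{u} (Fin e); Y) ↘ Y) (c.g u) := by
  haveI := c.locallyOfFiniteType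
  haveI := c.hqf
  have := resTrdegNat_comp c.g (𝔸(ULift.{u} (Fin e); Y) ↘ Y) u
  rw [resTrdegNat_eq_zero_of_locallyQuasiFinite c.g u, add_zero,
    resTrdegNat_congr c.hg, resTrdegNat_comp_of_isOpenImmersion] at this
  exact this

theorem Chart.resTrdegNat_le (u : c.U) : resTrdegNat f (c.U.ι u) ≤ e := by
  rw [c.resTrdegNat_eq]
  have := resTrdegNat_affineSpace_le (ULift.{u} (Fin e)) Y (c.g u)
  rwa [natCard_ulift_fin] at this

/-- A point of the chart domain with maximal image and residual transcendence degree `e` has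
maximal image in the affine space. -/
theorem Chart.maximal_of_resTrdegNat_eq (u : c.U) (h : resTrdegNat f (c.U.ι u) = e)
    (hmaxY : ∀ t : Y, t ⤳ f (c.U.ι u) → t = f (c.U.ι u)) :
    ∀ t : 𝔸(ULift.{u} (Fin e); Y), t ⤳ c.g u → t = c.g u := by
  have h2 : resTrdegNat (𝔸(ULift.{u} (Fin e); Y) ↘ Y) (c.g u) =
      Nat.card (ULift.{u} (Fin e)) := by
    rw [natCard_ulift_fin, ← c.resTrdegNat_eq, h]
  have h3 := maximal_fiber_of_resTrdegNat_affineSpace_eq _ Y (c.g u) h2
  exact maximal_affineSpace_of_maximal_fiber _ Y (c.g u) h3 (by rw [c.over_apply]; exact hmaxY)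

theorem Chart.isUnivOpenAt_g [IsLocallyNoetherian Y]
    (hy : CAlg2.IsGeomUnibranch (Y.presheaf.stalk (f.base x))) (hG : HasGoodGenerization f x)
    (he : e = resTrdegNat f x) : EGA43.IsUnivOpenAt c.g ⟨x, c.hxU⟩ := by
  obtain ⟨ξ, hξx, hξmax, hfξmax, hr⟩ := hG
  have hξU : ξ ∈ c.U := hξx.mem_open c.U.isOpen c.hxU
  let ξU : ↥(c.U : Scheme.{u}) := ⟨ξ, hξU⟩
  let xU : ↥(c.U : Scheme.{u}) := ⟨x, c.hxU⟩
  have hsp : ξU ⤳ xU := by
    rw [← c.U.ι.isOpenEmbedding.isInducing.specializes_iff]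
    exact hξx
  have hgξ := c.maximal_of_resTrdegNat_eq ξU (hr.trans he.symm) hfξmax
  haveI := c.locallyOfFiniteType
  haveI := c.hqf
  refine Groth.Agent.Lib.Helper87.UnivOpenAtChart.isUnivOpenAt_chart (ULift.{u} (Fin e)) c.g xU ξU
    hsp hgξ ?_
  rw [c.over_apply]
  exact hy

include c in
theorem Chart.isUnivOpenAt [IsLocallyNoetherian Y]
    (hy : CAlg2.IsGeomUnibranch (Y.presheaf.stalk (f.base x))) (hG : HasGoodGenerization f x)
    (he : e = resTrdegNat f x) : EGA43.IsUnivOpenAt f x := by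
  have h1 := c.isUnivOpenAt_g hy hG he
  have h2 : EGA43.IsUnivOpenAt (c.g ≫ (𝔸(ULift.{u} (Fin e); Y) ↘ Y)) ⟨x, c.hxU⟩ :=
    Groth.Agent.S4925.result c.g _ _ h1
      (Groth.Agent.Lib.Helper87.UnivOpenAtChart.isUnivOpenAt_of_universallyOpen _ _)
  rw [c.hg] at h2
  exact Groth.Agent.S4926.result c.U.ι f _ h2

end

/-- Every point has a generization in its fibre which is maximal in the fibre. -/
theorem exists_fiber_maximal_generization {X Y : Scheme.{u}} (f : X ⟶ Y) (η : X) :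
    ∃ ζ : X, ζ ⤳ η ∧ f ζ = f η ∧ ∀ t : X, t ⤳ ζ → f t = f ζ → t = ζ := by
  let ηb : f.fiber (f η) := (f.fiberHomeo (f η)).symm ⟨η, rfl⟩
  have hηb : f.fiberι (f η) ηb = η := f.fiberι_fiberHomeo_symm (f η) ⟨η, rfl⟩
  obtain ⟨ζb, hζη, hζmax⟩ := exists_maximal_specializes ηb
  obtain ⟨hfz, hzmax⟩ := fiberι_maximal_of_maximal f (f η) ζb hζmax
  refine ⟨f.fiberι (f η) ζb, ?_, hfz, fun t ht hft => hzmax t ht (hft.trans hfz)⟩
  have h1 := hζη.map (f.fiberι (f η)).continuous
  rwa [hηb] at h1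

/-- The dimension of the part of an open set lying over a point is at least the residual
transcendence degree of any of its points. -/
theorem resTrdegNat_le_topologicalKrullDim_inter {X Y : Scheme.{u}} (f : X ⟶ Y)
    [LocallyOfFiniteType f] (U' : X.Opens) (y' : Y) (w : X) (hwU : w ∈ U') (hw : f w = y') :
    ((resTrdegNat f w : ℕ) : WithBot ℕ∞) ≤
      topologicalKrullDim ↥((U' : Set X) ∩ f.base ⁻¹' {y'}) := by
  let w' : ↥(U' : Scheme.{u}) := ⟨w, hwU⟩
  have hw' : (U'.ι ≫ f) w' = y' := hw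
  have h1 := topologicalKrullDim_closure_inter_fiber (U'.ι ≫ f) w' y' hw'
  rw [resTrdegNat_comp_of_isOpenImmersion] at h1
  rw [show resTrdegNat f w = resTrdegNat f (U'.ι w') from rfl, ← h1]
  let j : ↥(closure ({w'} : Set ↥(U' : Scheme.{u})) ∩ (U'.ι ≫ f) ⁻¹' {y'}) →
      ↥((U' : Set X) ∩ f.base ⁻¹' {y'}) := fun t => ⟨t.1.1, t.1.2, t.2.2⟩
  have hj : Topology.IsInducing j := by
    have h2 : Topology.IsInducing (Subtype.val ∘ j) := by
      have : (Subtype.val ∘ j) = (Subtype.val ∘ Subtype.val) := rfl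
      rw [this]
      exact Topology.IsInducing.subtypeVal.comp Topology.IsInducing.subtypeVal
    exact Topology.IsInducing.of_comp
      (Continuous.subtype_mk (continuous_subtype_val.comp continuous_subtype_val) _)
      continuous_subtype_val h2
  exact hj.topologicalKrullDim_le

section

variable {X Y : Scheme.{u}} {f : X ⟶ Y} [LocallyOfFiniteType f] {x : X} {e : ℕ}
  (c : Chart f x e)

include c in
theorem Chart.fibreDimAt_le [IsLocallyNoetherian Y]
    (hmax : ∀ x' : X, f.base x' = f.base x → x ∈ closure {x'} → x' = x)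
    (hy : CAlg2.IsGeomUnibranch (Y.presheaf.stalk (f.base x))) (hG : HasGoodGenerization f x)
    (he : e = resTrdegNat f x) (U' : X.Opens) (hxU' : x ∈ U') (y' : Y) (hy' : y' ⤳ f.base x) :
    FlatMor.fibreDimAt f x ≤ topologicalKrullDim ↥((U' : Set X) ∩ f.base ⁻¹' {y'}) := by
  have h1 := c.isUnivOpenAt_g hy hG he
  let xU : ↥(c.U : Scheme.{u}) := ⟨x, c.hxU⟩
  have hopen : EGA43.IsOpenAt c.g.base xU :=
    Groth.Agent.Lib.Helper80.UnivOpenAt.isOpenAt_of_isPullback h1 (IsPullback.of_id_fst) xU rfl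
  have hN : c.U.ι ⁻¹' (U' : Set X) ∈ nhds xU :=
    (U'.isOpen.preimage c.U.ι.continuous).mem_nhds hxU'
  have himg := hopen _ hN
  have hπx : (𝔸(ULift.{u} (Fin e); Y) ↘ Y) (c.g xU) = f x := c.over_apply xU
  obtain ⟨θ'', hθ'', hπθ''⟩ := generalizingMap_affineSpace_over (ULift.{u} (Fin e)) Y
    (show y' ⤳ (𝔸(ULift.{u} (Fin e); Y) ↘ Y) (c.g xU) by rw [hπx]; exact hy')
  obtain ⟨θ', hθ', hπθ', hθ'max⟩ :=
    exists_fiber_maximal_generization (𝔸(ULift.{u} (Fin e); Y) ↘ Y) θ''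
  have hr : resTrdegNat (𝔸(ULift.{u} (Fin e); Y) ↘ Y) θ' = e := by
    rw [resTrdegNat_affineSpace_eq_of_maximal _ Y θ' hθ'max, natCard_ulift_fin]
  have hmem : θ' ∈ c.g.base '' (c.U.ι ⁻¹' (U' : Set X)) :=
    mem_of_mem_nhds ((hθ'.trans hθ'') himg)
  obtain ⟨u, huU', hu⟩ := hmem
  have hfu : f (c.U.ι u) = y' := by
    rw [← c.over_apply, hu, hπθ', hπθ'']
  have hru : resTrdegNat f (c.U.ι u) = e := by
    rw [c.resTrdegNat_eq, hu, hr]
  rw [fibreDimAt_eq_resTrdegNat f x hmax, ← he, ← hru]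
  exact resTrdegNat_le_topologicalKrullDim_inter f U' y' (c.U.ι u) huU' hfu

end

/-- The dimension of the part of an open set lying over a point is bounded by the dimension of
the scheme-theoretic fibre of the restriction. -/
theorem topologicalKrullDim_inter_le_fiber {X Y : Scheme.{u}} (f : X ⟶ Y) (U' : X.Opens) (y' : Y) :
    topologicalKrullDim ↥((U' : Set X) ∩ f.base ⁻¹' {y'}) ≤
      topologicalKrullDim ↥((U'.ι ≫ f).fiber y') := by
  let k : ↥((U' : Set X) ∩ f.base ⁻¹' {y'}) → ↥((U'.ι ≫ f) ⁻¹' {y'}) :=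
    fun t => ⟨⟨t.1, t.2.1⟩, t.2.2⟩
  have hk : Topology.IsInducing k := by
    have h2 : Topology.IsInducing ((Subtype.val ∘ Subtype.val) ∘ k) := by
      have : ((Subtype.val ∘ Subtype.val) ∘ k) = Subtype.val := rfl
      rw [this]
      exact Topology.IsInducing.subtypeVal
    exact Topology.IsInducing.of_comp
      (Continuous.subtype_mk (Continuous.subtype_mk continuous_subtype_val _) _)
      (continuous_subtype_val.comp continuous_subtype_val) h2
  have hj : Topology.IsInducing (((U'.ι ≫ f).fiberHomeo y').symm ∘ k) :=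
    ((U'.ι ≫ f).fiberHomeo y').symm.isInducing.comp hk
  exact hj.topologicalKrullDim_le

section

variable {X Y : Scheme.{u}} {f : X ⟶ Y} [LocallyOfFiniteType f] {x : X} {e : ℕ}
  (c : Chart f x e)

include c in
theorem Chart.hasGoodGenerization_of_fibreDimAt_le [IsLocallyNoetherian Y]
    (hmax : ∀ x' : X, f.base x' = f.base x → x ∈ closure {x'} → x' = x)
    (he : e = resTrdegNat f x)
    (H : ∀ U : X.Opens, x ∈ U → ∀ y' : Y, y' ⤳ f.base x →
      FlatMor.fibreDimAt f x ≤ topologicalKrullDim ↥((U : Set X) ∩ f.base ⁻¹' {y'})) :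
    HasGoodGenerization f x := by
  obtain ⟨η, hηy, hηmax⟩ := exists_maximal_specializes (f x)
  have h1 := (H c.U c.hxU η hηy).trans (topologicalKrullDim_inter_le_fiber f c.U η)
  rw [fibreDimAt_eq_resTrdegNat f x hmax, ← he] at h1
  -- a point over `η` with large residual transcendence degree
  have key : ∃ ζ : ↥(c.U : Scheme.{u}), (c.U.ι ≫ f) ζ = η ∧ e ≤ resTrdegNat f (c.U.ι ζ) := by
    by_contra hcon
    push Not at hcon
    rcases Nat.eq_zero_or_pos e with he0 | hepos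
    · have hempty : IsEmpty ↥((c.U.ι ≫ f).fiber η) := by
        refine ⟨fun z => ?_⟩
        have hz : (c.U.ι ≫ f) ((c.U.ι ≫ f).fiberι η z) = η := by
          have : (c.U.ι ≫ f).fiberι η z ∈ Set.range ((c.U.ι ≫ f).fiberι η) := ⟨z, rfl⟩
          rwa [(c.U.ι ≫ f).range_fiberι η] at this
        have := hcon _ hz
        omega
      haveI : IsEmpty (TopologicalSpace.IrreducibleCloseds ↥((c.U.ι ≫ f).fiber η)) :=
        ⟨fun s => hempty.false s.isIrreducible.nonempty.some⟩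
      rw [topologicalKrullDim, Order.krullDim_eq_bot] at h1
      simp at h1
    · have h2 : topologicalKrullDim ↥((c.U.ι ≫ f).fiber η) ≤ (((e - 1 : ℕ) : ℕ) : WithBot ℕ∞) := by
        rw [topologicalKrullDim_fiber_le_iff_forall_maximal]
        intro ζ hζ _
        have h3 := hcon ζ hζ
        rw [resTrdegNat_comp_of_isOpenImmersion]
        have : resTrdegNat f (c.U.ι ζ) ≤ e - 1 := by omega
        exact_mod_cast this
      have h4 := h1.trans h2
      have h5 : e ≤ e - 1 := by exact_mod_cast h4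
      omega
  obtain ⟨ζ, hζη, hζe⟩ := key
  obtain ⟨ζ', hζ'ζ, hfζ', hζ'max⟩ := exists_fiber_maximal_generization f (c.U.ι ζ)
  have hfζ'η : f ζ' = η := hfζ'.trans hζη
  have hζ'U : ζ' ∈ c.U := hζ'ζ.mem_open c.U.isOpen ζ.2
  have hζ'maxX : ∀ t : X, t ⤳ ζ' → t = ζ' := by
    intro t ht
    apply hζ'max t ht
    have h2 := hηmax (f t) (by rw [← hfζ'η]; exact ht.map f.continuous)
    rw [h2, hfζ'η]
  have hle : resTrdegNat f (c.U.ι ζ) ≤ resTrdegNat f ζ' :=
    resTrdegNat_le_of_specializes_fiber f (c.U.ι ζ) ζ' hζ'ζ hfζ'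
  have hge : resTrdegNat f ζ' ≤ e := c.resTrdegNat_le ⟨ζ', hζ'U⟩
  refine ⟨ζ', c.hmaxU ζ' hζ'U hζ'maxX, hζ'maxX, by rw [hfζ'η]; exact hηmax, ?_⟩
  omega

end

section

variable {X Y : Scheme.{u}} (f : X ⟶ Y) [LocallyOfFiniteType f] (x : X)
  (hmax : ∀ x' : X, f.base x' = f.base x → x ∈ closure {x'} → x' = x)

include hmax in
/-- The local dimension at `x` of the part of an irreducible closed set through `x` lying in the
fibre of `x`, for `x` maximal in its fibre. -/
theorem localDim_closure_inter_fiber [IsLocallyNoetherian X] (ξ : X)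
    (hx : x ∈ closure ({ξ} : Set X)) :
    FlatMor.localDim ↥(closure ({ξ} : Set X) ∩ f.base ⁻¹' {f.base x}) ⟨x, ⟨hx, rfl⟩⟩ =
      ((resTrdegNat f x : ℕ) : WithBot ℕ∞) := by
  apply le_antisymm
  · apply localDim_interFiber_le f (closure {ξ}) (f x) isClosed_closure _ (resTrdegNat f x)
    intro ζ _ hfζ hζx
    rw [hmax ζ hfζ (specializes_iff_mem_closure.mp hζx)]
  · exact resTrdegNat_le_localDim_interFiber f (closure {ξ}) (f x) isClosed_closure
      ⟨x, ⟨hx, rfl⟩⟩ ⟨x, ⟨hx, rfl⟩⟩ specializes_rfl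

include hmax in
theorem hasGoodGenerization_of_component [IsLocallyNoetherian Y]
    (H : ∀ Y₀ ∈ irreducibleComponents (Y : Type u), f.base x ∈ Y₀ →
        ∃ Z ∈ irreducibleComponents (X : Type u), ∃ hx : x ∈ Z, closure (f.base '' Z) = Y₀ ∧
          ∀ η : Y, closure ({η} : Set Y) = Y₀ →
            FlatMor.localDim ↥(Z ∩ f.base ⁻¹' {f.base x}) ⟨x, ⟨hx, rfl⟩⟩ =
              topologicalKrullDim ↥(Z ∩ f.base ⁻¹' {η})) :
    HasGoodGenerization f x := by
  have hLN : IsLocallyNoetherian X := LocallyOfFiniteType.isLocallyNoetherian f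
  obtain ⟨η₀, hη₀y, hη₀max⟩ := exists_maximal_specializes (f x)
  obtain ⟨Z, hZ, hx, hcl, hdim⟩ := H (closure {η₀})
    (closure_singleton_mem_irreducibleComponents_of_maximal η₀ hη₀max)
    (specializes_iff_mem_closure.mp hη₀y)
  have hdim' := hdim η₀ rfl
  obtain ⟨ξ, hξZ, hξmax⟩ := exists_maximal_of_mem_irreducibleComponents Z hZ
  subst hξZ
  have hfξ : f ξ = η₀ := by
    have h1 : closure ({f ξ} : Set Y) = closure {η₀} := by
      rw [← closure_image_closure_singleton f ξ]; exact hcl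
    exact (inseparable_iff_closure_eq.mpr h1).eq
  rw [localDim_closure_inter_fiber f x hmax ξ hx,
    topologicalKrullDim_closure_inter_fiber f ξ η₀ hfξ] at hdim'
  refine ⟨ξ, specializes_iff_mem_closure.mpr hx, hξmax, by rw [hfξ]; exact hη₀max, ?_⟩
  exact_mod_cast hdim'.symm

include hmax in
theorem component_of_hasGoodGenerization [IsLocallyNoetherian Y]
    (hy : CAlg2.IsGeomUnibranch (Y.presheaf.stalk (f.base x))) (hG : HasGoodGenerization f x) :
    ∀ Y₀ ∈ irreducibleComponents (Y : Type u), f.base x ∈ Y₀ →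
        ∃ Z ∈ irreducibleComponents (X : Type u), ∃ hx : x ∈ Z, closure (f.base '' Z) = Y₀ ∧
          ∀ η : Y, closure ({η} : Set Y) = Y₀ →
            FlatMor.localDim ↥(Z ∩ f.base ⁻¹' {f.base x}) ⟨x, ⟨hx, rfl⟩⟩ =
              topologicalKrullDim ↥(Z ∩ f.base ⁻¹' {η}) := by
  have hLN : IsLocallyNoetherian X := LocallyOfFiniteType.isLocallyNoetherian f
  obtain ⟨ξ, hξx, hξmax, hfξmax, hr⟩ := hG
  intro Y₀ hY₀ hy₀
  obtain ⟨η', hη'Y₀, hη'max⟩ := exists_maximal_of_mem_irreducibleComponents Y₀ hY₀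
  have hη'y : η' ⤳ f x := by
    rw [specializes_iff_mem_closure, hη'Y₀]; exact hy₀
  have heq : η' = f ξ := eq_of_maximal_of_isGeomUnibranch (f x) hy η' (f ξ) hη'y
    (hξx.map f.continuous) hη'max hfξmax
  subst hη'Y₀
  have hx : x ∈ closure ({ξ} : Set X) := specializes_iff_mem_closure.mp hξx
  refine ⟨closure {ξ}, closure_singleton_mem_irreducibleComponents_of_maximal ξ hξmax, hx, ?_, ?_⟩
  · rw [heq]; exact closure_image_closure_singleton f ξ
  · intro η hη
    have hηξ : f ξ = η := by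
      rw [heq] at hη
      exact (inseparable_iff_closure_eq.mpr hη.symm).eq
    rw [localDim_closure_inter_fiber f x hmax ξ hx,
      topologicalKrullDim_closure_inter_fiber f ξ η hηξ, hr]

end

/-- Openness at a point maximal in its fibre produces a good generization. -/
theorem hasGoodGenerization_of_isOpenAt {X Y : Scheme.{u}} [IsLocallyNoetherian Y] (f : X ⟶ Y)
    [LocallyOfFiniteType f] (x : X)
    (hmax : ∀ x' : X, f.base x' = f.base x → x ∈ closure {x'} → x' = x)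
    (hopen : EGA43.IsOpenAt f.base x) : HasGoodGenerization f x := by
  obtain ⟨η, hηy, hηmax⟩ := exists_maximal_specializes (f x)
  obtain ⟨ξ, hξx, hfξ, hξmax, hr, -⟩ := exists_maximal_generization_of_isOpenAt f x
    (fun t ht hft => hmax t hft (specializes_iff_mem_closure.mp ht)) hopen η hηy hηmax
  exact ⟨ξ, hξx, hξmax, by rw [hfξ]; exact hηmax, hr⟩

end Groth.Agent.Lib.Helper87.ChevalleyPointwise
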