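import Mathlib

set_option autoImplicit false
universe u

/-!
# A criterion for an algebra to be a filtered colimit of étale algebras

For an `R`-algebra `B`, the (small model of the) category of étale `R`-algebras over `B` is
filtered as soon as every relation dies in a further étale algebra over `B`; if moreover every
element of `B` comes from an étale algebra over `B`, then `B` is the colimit of the canonical
diagram.
-/

namespace Groth.Agent.Lib.Helper87.IndEt

open CategoryTheory Limits TensorProduct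

section Index

variable (R : Type u) [CommRing R] (B : Type u) [CommRing B] [Algebra R B]

/-- a small type of étale algebras over `B`: presented quotients of polynomial rings. -/
structure EIdx : Type u where
  n : ℕ
  I : Ideal (MvPolynomial (Fin n) R)
  etale : Algebra.Etale R (MvPolynomial (Fin n) R ⧸ I)
  f : (MvPolynomial (Fin n) R ⧸ I) →ₐ[R] B

variable {R B}

/-- the underlying étale algebra. -/
abbrev EIdx.A (j : EIdx R B) : Type u := MvPolynomial (Fin j.n) R ⧸ j.I

instance EIdx.instEtale (j : EIdx R B) : Algebra.Etale R j.A := j.etale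

/-- morphisms: algebra maps over `B`. -/
def EIdx.Hom (j j' : EIdx R B) : Type u := {g : j.A →ₐ[R] j'.A // j'.f.comp g = j.f}

noncomputable instance EIdx.instCategory : SmallCategory (EIdx R B) where
  Hom j j' := EIdx.Hom j j'
  id j := ⟨AlgHom.id R _, AlgHom.comp_id _⟩
  comp g h := ⟨h.1.comp g.1, by rw [← AlgHom.comp_assoc, h.2, g.2]⟩

/-- the underlying algebra map of a morphism. -/
def EIdx.Hom.map {j j' : EIdx R B} (g : j ⟶ j') : j.A →ₐ[R] j'.A := g.1

lemma EIdx.Hom.comp_map {j j' : EIdx R B} (g : j ⟶ j') : j'.f.comp g.map = j.f := g.2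

lemma EIdx.Hom.f_map {j j' : EIdx R B} (g : j ⟶ j') (x : j.A) : j'.f (g.map x) = j.f x :=
  DFunLike.congr_fun g.comp_map x

/-- build a morphism. -/
def EIdx.homMk {j j' : EIdx R B} (g : j.A →ₐ[R] j'.A) (hg : j'.f.comp g = j.f) : j ⟶ j' :=
  ⟨g, hg⟩

@[simp]
lemma EIdx.homMk_map {j j' : EIdx R B} (g : j.A →ₐ[R] j'.A) (hg : j'.f.comp g = j.f) :
    (EIdx.homMk g hg).map = g := rfl

@[simp]
lemma EIdx.id_map (j : EIdx R B) : EIdx.Hom.map (𝟙 j) = AlgHom.id R _ := rfl

@[simp]
lemma EIdx.comp_map' {j j' j'' : EIdx R B} (g : j ⟶ j') (h : j' ⟶ j'') :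
    (g ≫ h).map = h.map.comp g.map := rfl

lemma EIdx.hom_ext {j j' : EIdx R B} {g h : j ⟶ j'} (e : g.map = h.map) : g = h :=
  Subtype.ext e

theorem exists_eidx {A : Type u} [CommRing A] [Algebra R A] [Algebra.Etale R A] (φ : A →ₐ[R] B) :
    ∃ (i : EIdx R B) (e : A ≃ₐ[R] i.A), i.f.comp e.toAlgHom = φ := by
  obtain ⟨n, f, hf⟩ := Algebra.FiniteType.iff_quotient_mvPolynomial''.mp
    (inferInstance : Algebra.FiniteType R A)
  let e : (MvPolynomial (Fin n) R ⧸ RingHom.ker f.toRingHom) ≃ₐ[R] A :=
    Ideal.quotientKerAlgEquivOfSurjective hf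
  refine ⟨⟨n, RingHom.ker f.toRingHom, Algebra.Etale.of_equiv e.symm, φ.comp e.toAlgHom⟩,
    e.symm, ?_⟩
  ext a
  show φ (e (e.symm a)) = φ a
  rw [AlgEquiv.apply_symm_apply]

end Index

section Filtered

variable (R : Type u) [CommRing R] (B : Type u) [CommRing B] [Algebra R B]

/-- every relation `a ↦ 0` in an étale algebra over `B` dies in a further étale algebra
over `B`. -/
def KillsRelations : Prop :=
  ∀ (A : Type u) [CommRing A] [Algebra R A] [Algebra.Etale R A] (f : A →ₐ[R] B) (a : A),
    f a = 0 → ∃ (A' : Type u) (_ : CommRing A') (_ : Algebra R A') (_ : Algebra.Etale R A')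
      (g : A →ₐ[R] A') (f' : A' →ₐ[R] B), f'.comp g = f ∧ g a = 0

/-- every element of `B` comes from an étale algebra over `B`. -/
def CoveredByEtale : Prop :=
  ∀ b : B, ∃ (A : Type u) (_ : CommRing A) (_ : Algebra R A) (_ : Algebra.Etale R A)
    (f : A →ₐ[R] B), b ∈ f.range

variable {R B}

lemma exists_kill_one (h2 : KillsRelations R B) (j : EIdx R B) (a : j.A) (ha : j.f a = 0) :
    ∃ (k : EIdx R B) (h : j ⟶ k), h.map a = 0 := by
  obtain ⟨A', _, _, _, g, f', hfg, hga⟩ := h2 j.A j.f a ha
  obtain ⟨k, e, he⟩ := exists_eidx f'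
  refine ⟨k, EIdx.homMk (e.toAlgHom.comp g) ?_, ?_⟩
  · rw [← AlgHom.comp_assoc, he, hfg]
  · rw [EIdx.homMk_map, AlgHom.comp_apply, hga, map_zero]

lemma exists_kill (h2 : KillsRelations R B) (j : EIdx R B) (S : Finset j.A)
    (hS : ∀ a ∈ S, j.f a = 0) : ∃ (k : EIdx R B) (h : j ⟶ k), ∀ a ∈ S, h.map a = 0 := by
  classical
  induction S using Finset.induction_on with
  | empty => exact ⟨j, 𝟙 j, by simp⟩
  | insert a S _ ih =>
    obtain ⟨k, h, hk⟩ := ih (fun b hb => hS b (Finset.mem_insert_of_mem hb))
    have hka : k.f (h.map a) = 0 := by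
      rw [EIdx.Hom.f_map]
      exact hS a (Finset.mem_insert_self a S)
    obtain ⟨k', h', hk'⟩ := exists_kill_one h2 k (h.map a) hka
    refine ⟨k', h ≫ h', ?_⟩
    intro b hb
    rw [EIdx.comp_map', AlgHom.comp_apply]
    rcases Finset.mem_insert.mp hb with rfl | hb
    · exact hk'
    · rw [hk b hb, map_zero]

theorem isFiltered (h2 : KillsRelations R B) : IsFiltered (EIdx R B) := by
  have : IsFilteredOrEmpty (EIdx R B) := by
    refine ⟨?_, ?_⟩
    · intro j j'
      have : Algebra.Etale R (j.A ⊗[R] j'.A) := Algebra.Etale.comp R j.A _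
      obtain ⟨k, e, he⟩ := exists_eidx (A := j.A ⊗[R] j'.A)
        (Algebra.TensorProduct.productMap j.f j'.f)
      refine ⟨k, EIdx.homMk (e.toAlgHom.comp Algebra.TensorProduct.includeLeft) ?_,
        EIdx.homMk (e.toAlgHom.comp Algebra.TensorProduct.includeRight) ?_, trivial⟩
      · rw [← AlgHom.comp_assoc, he]
        ext a
        simp
      · rw [← AlgHom.comp_assoc, he]
        ext a
        simp
    · intro j j' f g
      classical
      obtain ⟨k, h, hk⟩ := exists_kill h2 j' (Finset.univ.image (fun i : Fin j.n =>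
        f.map (Ideal.Quotient.mk _ (MvPolynomial.X i)) -
          g.map (Ideal.Quotient.mk _ (MvPolynomial.X i)))) (by
        intro a ha
        obtain ⟨i, -, rfl⟩ := Finset.mem_image.mp ha
        rw [map_sub, EIdx.Hom.f_map, EIdx.Hom.f_map, sub_self])
      refine ⟨k, h, EIdx.hom_ext ?_⟩
      rw [EIdx.comp_map', EIdx.comp_map']
      apply Ideal.Quotient.algHom_ext
      apply MvPolynomial.algHom_ext
      intro i
      have := hk _ (Finset.mem_image_of_mem _ (Finset.mem_univ i))
      rw [map_sub, sub_eq_zero] at this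
      exact this
  have : Nonempty (EIdx R B) := by
    obtain ⟨i, -, -⟩ := exists_eidx (Algebra.ofId R B)
    exact ⟨i⟩
  exact {}

end Filtered

section Colimit

variable {R : Type u} [CommRing R] {B : Type u} [CommRing B] [Algebra R B]

/-- the canonical diagram of étale algebras over `B`. -/
noncomputable def diag : EIdx R B ⥤ Under (CommRingCat.of R) where
  obj j := CommRingCat.mkUnder (CommRingCat.of R) j.A
  map g := g.map.toUnder
  map_id _ := rfl
  map_comp _ _ := rfl

/-- the canonical cocone with point `B`. -/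
noncomputable def cocone : Cocone (diag (R := R) (B := B)) where
  pt := CommRingCat.mkUnder (CommRingCat.of R) B
  ι :=
    { app := fun j => j.f.toUnder
      naturality := fun j j' g => by
        apply CommRingCat.mkUnder_ext
        intro a
        exact g.f_map a }

/-- the canonical cocone is a colimit. -/
noncomputable def isColimitCocone (h1 : CoveredByEtale R B) (h2 : KillsRelations R B) :
    IsColimit (cocone (R := R) (B := B)) := by
  haveI := isFiltered h2
  haveI : IsConnected (EIdx R B) := IsFiltered.isConnected _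
  apply isColimitOfReflects (Under.forget (CommRingCat.of R))
  haveI : ReflectsColimitsOfShape (EIdx R B) (forget CommRingCat.{u}) :=
    reflectsColimitsOfShape_of_reflectsIsomorphisms
  apply isColimitOfReflects (forget CommRingCat.{u})
  apply Types.FilteredColimit.isColimitOf'
  · intro b
    obtain ⟨A, _, _, _, f, a, ha⟩ := h1 b
    obtain ⟨k, e, he⟩ := exists_eidx f
    refine ⟨k, e a, ?_⟩
    have : k.f (e a) = f a := DFunLike.congr_fun he a
    exact (ha.symm.trans this.symm)
  · intro j x' y' hxy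
    obtain ⟨x, rfl⟩ : ∃ x : j.A, x = x' := ⟨x', rfl⟩
    obtain ⟨y, rfl⟩ : ∃ y : j.A, y = y' := ⟨y', rfl⟩
    have hxy' : j.f x = j.f y := hxy
    obtain ⟨k, h, hk⟩ := exists_kill_one h2 j (x - y) (by rw [map_sub, hxy', sub_self])
    refine ⟨k, h, ?_⟩
    rw [map_sub, sub_eq_zero] at hk
    exact hk

/-- the criterion: `B` is a filtered colimit, under `R`, of étale `R`-algebras. -/
theorem exists_filtered_colimit (h1 : CoveredByEtale R B) (h2 : KillsRelations R B) :
    ∃ (J : Type u) (_ : SmallCategory J) (_ : IsFiltered J) (D : J ⥤ Under (CommRingCat.of R))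
      (c : Cocone D) (_ : IsColimit c),
      (∀ j, letI := (D.obj j).hom.hom.toAlgebra; Algebra.Etale R (D.obj j).right) ∧
      Nonempty (c.pt ≅ Under.mk (CommRingCat.ofHom (algebraMap R B))) := by
  refine ⟨EIdx R B, inferInstance, isFiltered h2, diag, cocone, isColimitCocone h1 h2, ?_,
    ⟨Iso.refl _⟩⟩
  intro j
  have : (algebraMap R j.A).toAlgebra = (inferInstance : Algebra R j.A) :=
    Algebra.algebra_ext _ _ (fun r => rfl)
  show @Algebra.Etale R j.A _ _ (algebraMap R j.A).toAlgebra
  rw [this]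
  exact j.etale

/-- being a filtered colimit of étale algebras is invariant under isomorphism. -/
theorem exists_filtered_colimit_of_equiv {B' : Type u} [CommRing B'] [Algebra R B']
    (e : B ≃ₐ[R] B')
    (h : ∃ (J : Type u) (_ : SmallCategory J) (_ : IsFiltered J)
      (D : J ⥤ Under (CommRingCat.of R)) (c : Cocone D) (_ : IsColimit c),
      (∀ j, letI := (D.obj j).hom.hom.toAlgebra; Algebra.Etale R (D.obj j).right) ∧
      Nonempty (c.pt ≅ Under.mk (CommRingCat.ofHom (algebraMap R B)))) :
    ∃ (J : Type u) (_ : SmallCategory J) (_ : IsFiltered J)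
      (D : J ⥤ Under (CommRingCat.of R)) (c : Cocone D) (_ : IsColimit c),
      (∀ j, letI := (D.obj j).hom.hom.toAlgebra; Algebra.Etale R (D.obj j).right) ∧
      Nonempty (c.pt ≅ Under.mk (CommRingCat.ofHom (algebraMap R B'))) := by
  obtain ⟨J, i1, i2, D, c, hc, hD, ⟨iso⟩⟩ := h
  exact ⟨J, i1, i2, D, c, hc, hD, ⟨iso ≪≫ AlgEquiv.toUnder (R := CommRingCat.of R) e⟩⟩

end Colimit

end Groth.Agent.Lib.Helper87.IndEt
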