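import Mathlib
import Groth.Agent.Lib.Helper87.IndEtale
import Groth.Agent.Lib.Helper87.HensNoeth
import Groth.Agent.Lib.Helper87.HensStrictProps

set_option autoImplicit false
universe u

/-!
# The henselization and the strict henselization are filtered colimits of étale algebras
-/

namespace Groth.Agent.Lib.Helper87.Hens

open IsLocalRing

variable {R : Type u} [CommRing R] {Ω : Type u} [Field Ω] [Algebra R Ω]

/-- an étale algebra localized away from an element, mapping to a target where the element
becomes a unit. -/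
lemma exists_away_factor {A : Type u} [CommRing A] [Algebra R A] [Algebra.Etale R A]
    {T : Type u} [CommRing T] [Algebra R T] (f : A →ₐ[R] T) (s : A) (hs : IsUnit (f s)) :
    ∃ (A' : Type u) (_ : CommRing A') (_ : Algebra R A') (_ : Algebra.Etale R A')
      (g : A →ₐ[R] A') (f' : A' →ₐ[R] T), f'.comp g = f ∧ IsUnit (g s) ∧
        ∀ a : A, s * a = 0 → g a = 0 := by
  have : Algebra.Etale A (Localization.Away s) := Algebra.Etale.of_isLocalizationAway s
  have : Algebra.Etale R (Localization.Away s) := Algebra.Etale.comp R A _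
  have hu : ∀ y : Submonoid.powers s, IsUnit (f y) := by
    rintro ⟨_, n, rfl⟩
    rw [map_pow]
    exact hs.pow n
  refine ⟨Localization.Away s, inferInstance, inferInstance, inferInstance,
    IsScalarTower.toAlgHom R A _,
    IsLocalization.liftAlgHom (M := Submonoid.powers s) (f := f) hu, ?_, ?_, ?_⟩
  · ext a
    simp
  · exact IsLocalization.Away.algebraMap_isUnit s
  · intro a ha
    rw [IsScalarTower.coe_toAlgHom', IsLocalization.map_eq_zero_iff (Submonoid.powers s)]
    exact ⟨⟨s, Submonoid.mem_powers s⟩, ha⟩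

theorem H.coveredByEtale : IndEt.CoveredByEtale R (H R Ω) := by
  intro b
  obtain ⟨i, y, rfl⟩ := H.exists_of b
  obtain ⟨a, s, rfl⟩ := IsLocalization.exists_mk'_eq (RingHom.ker i.pt).primeCompl y
  let f : i.A →ₐ[R] H R Ω := (H.of i).comp (IsScalarTower.toAlgHom R i.A i.L)
  have hs : IsUnit (f s) := by
    show IsUnit (H.of i (algebraMap i.A i.L s))
    exact (IsLocalization.map_units i.L s).map (H.of i)
  obtain ⟨A', _, _, _, g, f', hfg, hgs, -⟩ := exists_away_factor f (s : i.A) hs
  refine ⟨A', inferInstance, inferInstance, inferInstance, f', ?_⟩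
  obtain ⟨u, hu⟩ := hgs
  refine ⟨g a * ((u⁻¹ : A'ˣ) : A'), ?_⟩
  have h1 : ∀ x : i.A, f' (g x) = H.of i (algebraMap i.A i.L x) := fun x =>
    DFunLike.congr_fun hfg x
  have h2 : f' ((u⁻¹ : A'ˣ) : A') * H.of i (algebraMap i.A i.L s) = 1 := by
    rw [← h1, ← hu, ← map_mul, Units.inv_mul, map_one]
  have h3 : H.of i (IsLocalization.mk' i.L a s) * H.of i (algebraMap i.A i.L s) =
      H.of i (algebraMap i.A i.L a) := by
    rw [← map_mul, IsLocalization.mk'_spec]
  show f' (g a * ((u⁻¹ : A'ˣ) : A')) = H.of i (IsLocalization.mk' i.L a s)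
  rw [map_mul, h1]
  have hunit : IsUnit (H.of i (algebraMap i.A i.L s)) := hs
  apply hunit.mul_right_cancel
  rw [h3, mul_assoc, h2, mul_one]

theorem H.killsRelations : IndEt.KillsRelations R (H R Ω) := by
  intro A _ _ _ f a ha
  let φ : A →ₐ[R] Ω := H.ε.comp f
  have hunit : ∀ x : A, φ x ≠ 0 → IsUnit (f x) := fun x hx => (H.isUnit_iff _).mpr hx
  let F : Loc φ →ₐ[R] H R Ω := Loc.lift φ f hunit
  have hεF : H.ε.comp F = Loc.ε φ := by
    apply Loc.algHom_ext'
    intro x
    rw [AlgHom.comp_apply, Loc.lift_algebraMap, Loc.ε_algebraMap]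
    rfl
  let _ : Algebra (Loc φ) (H R Ω) := F.toRingHom.toAlgebra
  have halg : ∀ z : Loc φ, algebraMap (Loc φ) (H R Ω) z = F z := fun z => rfl
  have : IsScalarTower R (Loc φ) (H R Ω) :=
    IsScalarTower.of_algebraMap_eq (fun r => by rw [halg, AlgHom.commutes])
  have : Module.Flat (Loc φ) (H R Ω) :=
    Groth.Agent.Lib.Helper87.flat_of_unramified_of_flat (R := R)
  have : IsLocalHom (algebraMap (Loc φ) (H R Ω)) := ⟨fun x hx => by
    rw [halg, H.isUnit_iff] at hx
    rw [Loc.isUnit_iff]
    have : H.ε (F x) = Loc.ε φ x := DFunLike.congr_fun hεF x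
    rwa [this] at hx⟩
  have : Module.FaithfullyFlat (Loc φ) (H R Ω) := Module.FaithfullyFlat.of_flat_of_isLocalHom
  have hinj : Function.Injective (algebraMap (Loc φ) (H R Ω)) :=
    FaithfulSMul.algebraMap_injective _ _
  have h0 : algebraMap A (Loc φ) a = 0 := by
    apply hinj
    rw [map_zero, halg, Loc.lift_algebraMap]
    exact ha
  obtain ⟨s, hs⟩ := (IsLocalization.map_eq_zero_iff (RingHom.ker φ).primeCompl _ _).mp h0
  have hs' : φ (s : A) ≠ 0 := fun h => s.2 ((RingHom.mem_ker).mpr h)
  obtain ⟨A', _, _, _, g, f', hfg, -, hkill⟩ := exists_away_factor f (s : A) (hunit s hs')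
  exact ⟨A', inferInstance, inferInstance, inferInstance, g, f', hfg, hkill a hs⟩

/-- the local ring `H R Ω` is a filtered colimit, under `R`, of étale `R`-algebras. -/
theorem H.exists_filtered_colimit :
    ∃ (J : Type u) (_ : CategoryTheory.SmallCategory J) (_ : CategoryTheory.IsFiltered J)
      (D : CategoryTheory.Functor J (CategoryTheory.Under (CommRingCat.of R)))
      (c : CategoryTheory.Limits.Cocone D) (_ : CategoryTheory.Limits.IsColimit c),
      (∀ j, letI := (D.obj j).hom.hom.toAlgebra; Algebra.Etale R (D.obj j).right) ∧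
      Nonempty (c.pt ≅ CategoryTheory.Under.mk
        (CommRingCat.ofHom (algebraMap R (H R Ω)))) :=
  IndEt.exists_filtered_colimit H.coveredByEtale H.killsRelations

end Groth.Agent.Lib.Helper87.Hens
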