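import Mathlib
import Groth.Agent.Lib.Helper6.LocalFlat4
import Groth.Agent.S0542
import Groth.Agent.Lib.Helper87.HensNoeth

set_option autoImplicit false
universe u

/-!
# Directed colimits of Noetherian local rings along flat local maps with `m_i A_j = m_j`

An abstract form of EGA 0_III 10.3.1.3: the colimit is Noetherian and flat over each stage.
The colimit is given by its elementwise characterisation, so that the result applies to any
model of the direct limit.
-/

namespace Groth.Agent.Lib.Helper87.NoethColim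

open IsLocalRing TensorProduct

section Basic

variable {ι : Type*} [Preorder ι] [IsDirected ι (· ≤ ·)]
variable (G : ι → Type u) [∀ i, CommRing (G i)]
variable (f : ∀ i j, i ≤ j → G i →+* G j)
variable (A : Type u) [CommRing A] (of : ∀ i, G i →+* A)

/-- elementwise characterisation of a directed colimit of rings. -/
structure IsColim : Prop where
  comp : ∀ i j k (hij : i ≤ j) (hjk : j ≤ k) (x : G i),
    f j k hjk (f i j hij x) = f i k (hij.trans hjk) x
  of_f : ∀ i j (h : i ≤ j) (x : G i), of j (f i j h x) = of i x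
  surj : ∀ a : A, ∃ i x, of i x = a
  ker : ∀ i (x : G i), of i x = 0 → ∃ j, ∃ h : i ≤ j, f i j h x = 0

variable {G f A of}

namespace IsColim

variable (hc : IsColim G f A of)
include hc

lemma exists_ge (i₀ : ι) (a : A) : ∃ i, ∃ _ : i₀ ≤ i, ∃ x, of i x = a := by
  obtain ⟨j, y, rfl⟩ := hc.surj a
  obtain ⟨k, h1, h2⟩ := exists_ge_ge i₀ j
  exact ⟨k, h1, f j k h2 y, hc.of_f j k h2 y⟩

lemma exists_finset (i₀ : ι) (s : Finset A) :
    ∃ i, ∃ _ : i₀ ≤ i, ∀ a ∈ s, ∃ x, of i x = a := by
  classical
  induction s using Finset.induction_on with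
  | empty => exact ⟨i₀, le_rfl, by simp⟩
  | insert a s _ ih =>
    obtain ⟨i, hi, h⟩ := ih
    obtain ⟨j, hj, y, hy⟩ := hc.exists_ge i a
    refine ⟨j, hi.trans hj, ?_⟩
    intro b hb
    rcases Finset.mem_insert.mp hb with rfl | hb
    · exact ⟨y, hy⟩
    · obtain ⟨x, hx⟩ := h b hb
      exact ⟨f i j hj x, (hc.of_f i j hj x).trans hx⟩

omit [IsDirected ι (· ≤ ·)] in
lemma eq_iff {i : ι} (x y : G i) : of i x = of i y ↔ ∃ j, ∃ h : i ≤ j, f i j h x = f i j h y := by
  constructor
  · intro h
    have : of i (x - y) = 0 := by rw [map_sub, h, sub_self]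
    obtain ⟨j, hj, h0⟩ := hc.ker i _ this
    exact ⟨j, hj, by rwa [map_sub, sub_eq_zero] at h0⟩
  · rintro ⟨j, hj, h⟩
    rw [← hc.of_f i j hj x, ← hc.of_f i j hj y, h]

/-- each stage maps flatly to the colimit when the transition maps are flat. -/
theorem flat_of (hflat : ∀ i j (h : i ≤ j), (f i j h).Flat) (i : ι) : (of i).Flat := by
  classical
  let _ : Algebra (G i) A := (of i).toAlgebra
  show Module.Flat (G i) A
  apply Module.Flat.of_forall_isTrivialRelation
  intro l c x hx
  obtain ⟨j, hij, hj⟩ := hc.exists_finset i (Finset.univ.image x)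
  choose y hy using fun t : Fin l => hj (x t) (Finset.mem_image_of_mem _ (Finset.mem_univ _))
  have hsm : ∀ (r : G i) (a : A), r • a = of i r * a := fun r a => rfl
  have h0 : of j (∑ t, f i j hij (c t) * y t) = 0 := by
    rw [map_sum, ← hx]
    apply Finset.sum_congr rfl
    intro t _
    rw [map_mul, hc.of_f, hy, hsm]
  obtain ⟨k, hjk, hk⟩ := hc.ker j _ h0
  let _ : Algebra (G i) (G k) := (f i k (hij.trans hjk)).toAlgebra
  have : Module.Flat (G i) (G k) := hflat i k (hij.trans hjk)
  have hsm' : ∀ (r : G i) (a : G k), r • a = f i k (hij.trans hjk) r * a := fun r a => rfl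
  have hk' : ∑ t, c t • f j k hjk (y t) = 0 := by
    rw [map_sum] at hk
    rw [← hk]
    apply Finset.sum_congr rfl
    intro t _
    rw [map_mul, hc.comp, hsm']
  obtain ⟨κ, a, z, hz1, hz2⟩ := Module.Flat.isTrivialRelation_of_sum_smul_eq_zero (R := G i)
    (M := G k) (f := c) (x := fun t => f j k hjk (y t)) hk'
  refine ⟨κ, a, fun s => of k (z s), ?_, hz2⟩
  intro t
  have hz1' : f j k hjk (y t) = ∑ s, a t s • z s := hz1 t
  rw [← hy t, ← hc.of_f j k hjk, hz1', map_sum]
  apply Finset.sum_congr rfl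
  intro s _
  rw [hsm', map_mul, hc.of_f, hsm]

/-- an `A`-algebra which is flat over each stage is flat over the colimit. -/
theorem flat_of_forall_flat [Nonempty ι] {T : Type u} [CommRing T] [Algebra A T]
    (h : ∀ i, ∃ alg : Algebra (G i) T,
      (∀ r, @algebraMap (G i) T _ _ alg r = algebraMap A T (of i r)) ∧
        @Module.Flat (G i) T _ _ alg.toModule) : Module.Flat A T := by
  classical
  apply Module.Flat.of_forall_isTrivialRelation
  intro l c x hx
  obtain ⟨i₀⟩ := ‹Nonempty ι›
  obtain ⟨i, -, hi⟩ := hc.exists_finset i₀ (Finset.univ.image c)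
  choose c' hc' using fun t : Fin l => hi (c t) (Finset.mem_image_of_mem _ (Finset.mem_univ _))
  obtain ⟨alg, halg, hfl⟩ := h i
  have hsm : ∀ (r : G i) (y : T), r • y = of i r • y := fun r y => by
    rw [Algebra.smul_def, Algebra.smul_def, halg]
  have hx' : ∑ t, c' t • x t = 0 := by
    rw [← hx]
    apply Finset.sum_congr rfl
    intro t _
    rw [hsm, hc']
  obtain ⟨κ, a, y, hy1, hy2⟩ := Module.Flat.isTrivialRelation_of_sum_smul_eq_zero
    (R := G i) (M := T) (f := c') (x := x) hx'
  refine ⟨κ, fun t s => of i (a t s), y, ?_, ?_⟩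
  · intro t
    rw [hy1 t]
    apply Finset.sum_congr rfl
    intro s _
    rw [hsm]
  · intro s
    have := congrArg (of i) (hy2 s)
    rw [map_sum, map_zero] at this
    rw [← this]
    apply Finset.sum_congr rfl
    intro t _
    rw [map_mul, hc']

section LocalRing

variable [Nonempty ι] [∀ i, IsLocalRing (G i)] (hloc : ∀ i j (h : i ≤ j), IsLocalHom (f i j h))

omit [IsDirected ι (· ≤ ·)] in
lemma nontrivial : Nontrivial A := by
  obtain ⟨i⟩ := ‹Nonempty ι›
  refine ⟨⟨0, 1, fun h => ?_⟩⟩
  have h1 : of i 0 = of i 1 := by rw [map_zero, map_one, h]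
  obtain ⟨j, hj, hk⟩ := (hc.eq_iff _ _).mp h1
  rw [map_zero, map_one] at hk
  exact zero_ne_one hk

include hloc

lemma isUnit_of_iff (i : ι) (x : G i) : IsUnit (of i x) ↔ IsUnit x := by
  constructor
  · intro hu
    obtain ⟨b, hb⟩ := hu.exists_right_inv
    obtain ⟨j, hij, y, rfl⟩ := hc.exists_ge i b
    have h1 : of j (f i j hij x * y) = of j 1 := by
      rw [map_mul, hc.of_f, hb, map_one]
    obtain ⟨k, hjk, hk⟩ := (hc.eq_iff _ _).mp h1
    rw [map_mul, map_one, hc.comp] at hk
    have hu' : IsUnit (f i k (hij.trans hjk) x) := IsUnit.of_mul_eq_one _ hk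
    have := hloc i k (hij.trans hjk)
    exact isUnit_of_map_unit _ _ hu'
  · intro hu
    exact hu.map _

theorem isLocalRing : IsLocalRing A := by
  have := hc.nontrivial
  refine IsLocalRing.of_nonunits_add ?_
  intro a b ha hb
  obtain ⟨i₀⟩ := ‹Nonempty ι›
  classical
  obtain ⟨i, -, hi⟩ := hc.exists_finset i₀ {a, b}
  obtain ⟨x, rfl⟩ := hi a (by simp)
  obtain ⟨y, rfl⟩ := hi b (by simp)
  rw [mem_nonunits_iff, hc.isUnit_of_iff hloc] at ha hb
  rw [mem_nonunits_iff, ← map_add, hc.isUnit_of_iff hloc]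
  exact IsLocalRing.nonunits_add ha hb

lemma isLocalHom_of (i : ι) : IsLocalHom (of i) :=
  ⟨fun x hx => (hc.isUnit_of_iff hloc i x).mp hx⟩

lemma map_maximalIdeal [IsLocalRing A]
    (hmax : ∀ i j (h : i ≤ j), (maximalIdeal (G i)).map (f i j h) = maximalIdeal (G j)) (i : ι) :
    (maximalIdeal (G i)).map (of i) = maximalIdeal A := by
  apply le_antisymm
  · rw [Ideal.map_le_iff_le_comap]
    intro x hx
    rw [Ideal.mem_comap, mem_maximalIdeal, mem_nonunits_iff, hc.isUnit_of_iff hloc]
    exact hx
  · intro a ha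
    obtain ⟨j, hij, y, rfl⟩ := hc.exists_ge i a
    rw [mem_maximalIdeal, mem_nonunits_iff, hc.isUnit_of_iff hloc] at ha
    have hy : y ∈ (maximalIdeal (G i)).map (f i j hij) := by
      rw [hmax]
      exact ha
    have hfac : of i = (of j).comp (f i j hij) := by
      ext x
      exact (hc.of_f i j hij x).symm
    rw [hfac, ← Ideal.map_map]
    exact Ideal.mem_map_of_mem _ hy

end LocalRing

end IsColim

end Basic

section QuotientTransfer

variable {R : Type u} [CommRing R] (J : Ideal R) {N N' : Type u} [AddCommGroup N] [Module R N]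
  [AddCommGroup N'] [Module R N'] (φ : N →ₗ[R] N')

lemma one_tmul_eq_zero_iff (a : N) :
    ((1 : R ⧸ J) ⊗ₜ[R] a = 0) ↔ a ∈ (J • ⊤ : Submodule R N) := by
  rw [← (quotTensorEquivQuotSMul N J).map_eq_zero_iff, quotTensorEquivQuotSMul_mk_one_tmul,
    Submodule.Quotient.mk_eq_zero]

lemma exists_one_tmul (x : (R ⧸ J) ⊗[R] N) : ∃ a : N, x = (1 : R ⧸ J) ⊗ₜ[R] a := by
  obtain ⟨a, ha⟩ := Submodule.Quotient.mk_surjective _ (quotTensorEquivQuotSMul N J x)
  refine ⟨a, ?_⟩
  apply (quotTensorEquivQuotSMul N J).injective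
  rw [quotTensorEquivQuotSMul_mk_one_tmul, ha]

theorem baseChange_bijective
    (h1 : ∀ x : N', ∃ a : N, x - φ a ∈ (J • ⊤ : Submodule R N'))
    (h2 : ∀ a : N, φ a ∈ (J • ⊤ : Submodule R N') → a ∈ (J • ⊤ : Submodule R N)) :
    Function.Bijective (φ.baseChange (R ⧸ J)) := by
  constructor
  · rw [injective_iff_map_eq_zero]
    intro x hx
    obtain ⟨a, rfl⟩ := exists_one_tmul J x
    rw [LinearMap.baseChange_tmul, one_tmul_eq_zero_iff] at hx
    rw [one_tmul_eq_zero_iff]
    exact h2 a hx
  · intro y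
    obtain ⟨x, rfl⟩ := exists_one_tmul J y
    obtain ⟨a, ha⟩ := h1 x
    refine ⟨(1 : R ⧸ J) ⊗ₜ[R] a, ?_⟩
    rw [LinearMap.baseChange_tmul, ← sub_eq_zero, ← tmul_sub, one_tmul_eq_zero_iff]
    rw [← neg_sub]
    exact neg_mem ha

theorem flat_baseChange_of_quotient_bijective
    (h1 : ∀ x : N', ∃ a : N, x - φ a ∈ (J • ⊤ : Submodule R N'))
    (h2 : ∀ a : N, φ a ∈ (J • ⊤ : Submodule R N') → a ∈ (J • ⊤ : Submodule R N))
    [Module.Flat (R ⧸ J) ((R ⧸ J) ⊗[R] N)] : Module.Flat (R ⧸ J) ((R ⧸ J) ⊗[R] N') :=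
  Module.Flat.of_linearEquiv
    (LinearEquiv.ofBijective (φ.baseChange (R ⧸ J)) (baseChange_bijective J φ h1 h2)).symm

end QuotientTransfer

section LocalCriterion

open Groth.Agent.Lib.Helper6.LocalFlat

variable {R S M : Type u} [CommRing R] [CommRing S] [IsNoetherianRing R] [IsNoetherianRing S]
    [Algebra R S]
    [AddCommGroup M] [Module R M] [Module S M] [IsScalarTower R S M] [Module.Finite S M]

/-- the local criterion of flatness in its `M / I ^ n M` form (a variant of helper6's
`flat_localizedModule_of_flat_quotients` without localization). -/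
theorem flat_of_flat_quotients (I : Ideal R) (hIS : I.map (algebraMap R S) ≤ Ideal.jacobson ⊥)
    (h : ∀ n : ℕ, 0 < n → Module.Flat (R ⧸ I ^ n) ((R ⧸ I ^ n) ⊗[R] M)) :
    Module.Flat R M := by
  apply flat_of_g1_lTensor_injective (S := S) I hIS
  intro n 𝔞
  rcases Nat.eq_zero_or_pos n with hn | hn
  · subst hn
    have : Subsingleton (𝔞 ⧸ bq I 𝔞 0) := by
      apply Submodule.Quotient.subsingleton_iff.mpr
      rw [eq_top_iff]
      intro x _
      change (x : R) ∈ I ^ 0
      simp
    have : Subsingleton (M ⊗[R] (𝔞 ⧸ bq I 𝔞 0)) := inferInstance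
    exact Function.injective_of_subsingleton _
  · haveI := h n hn
    apply lTensor_injective_of_flat_baseChange (I ^ n) _ _ (g1 I 𝔞 n) (g1_injective I 𝔞 n)
    · intro x a
      obtain ⟨y, rfl⟩ := Submodule.Quotient.mk_surjective _ x
      rw [← Submodule.Quotient.mk_smul]
      refine (Submodule.Quotient.mk_eq_zero _).mpr ?_
      change ((a : R) • y : 𝔞).1 ∈ I ^ n
      exact Ideal.mul_mem_right _ _ a.2
    · intro x a
      obtain ⟨y, rfl⟩ := Submodule.Quotient.mk_surjective _ x
      rw [← Submodule.Quotient.mk_smul]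
      refine (Submodule.Quotient.mk_eq_zero _).mpr ?_
      exact Ideal.mul_mem_right _ _ a.2

end LocalCriterion

section Restrict

lemma mem_smul_top_iff_map {R A N : Type*} [CommRing R] [CommRing A] [Algebra R A]
    [AddCommGroup N] [Module R N] [Module A N] [IsScalarTower R A N] (J : Ideal R) (x : N) :
    x ∈ (J • ⊤ : Submodule R N) ↔ x ∈ ((J.map (algebraMap R A)) • ⊤ : Submodule A N) := by
  have := Submodule.restrictScalars_map_smul_eq (R := A) J (⊤ : Submodule A N)
  rw [Submodule.restrictScalars_top] at this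
  rw [← this, Submodule.restrictScalars_mem]

end Restrict

section Completion

variable {A : Type u} [CommRing A] (m : Ideal A)

lemma completion_exists_sub_mem (hm : m.FG) (n : ℕ) (x : AdicCompletion m A) :
    ∃ a : A, x - algebraMap A (AdicCompletion m A) a ∈
      (m ^ n • ⊤ : Submodule A (AdicCompletion m A)) := by
  obtain ⟨a, ha⟩ := Submodule.Quotient.mk_surjective _ (x.val n)
  refine ⟨a, ?_⟩
  rw [AdicCompletion.pow_smul_top_eq_ker_eval hm, LinearMap.mem_ker, map_sub,
    AdicCompletion.algebraMap_apply, AdicCompletion.eval_of, sub_eq_zero]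
  exact ha.symm

lemma completion_mem_of_algebraMap_mem (hm : m.FG) (n : ℕ) (a : A)
    (ha : algebraMap A (AdicCompletion m A) a ∈
      (m ^ n • ⊤ : Submodule A (AdicCompletion m A))) : a ∈ m ^ n := by
  rw [AdicCompletion.pow_smul_top_eq_ker_eval hm, LinearMap.mem_ker,
    AdicCompletion.algebraMap_apply, AdicCompletion.eval_of] at ha
  have := (Submodule.Quotient.mk_eq_zero _).mp ha
  simpa using this

end Completion

section Main

variable {ι : Type*} [Preorder ι] [IsDirected ι (· ≤ ·)] [Nonempty ι]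
variable {G : ι → Type u} [∀ i, CommRing (G i)] [∀ i, IsLocalRing (G i)]
  [∀ i, IsNoetherianRing (G i)]
variable {f : ∀ i j, i ≤ j → G i →+* G j}
variable {A : Type u} [CommRing A] {of : ∀ i, G i →+* A}

/-- EGA 0_III 10.3.1.3: the colimit is Noetherian. -/
theorem IsColim.isNoetherianRing (hc : IsColim G f A of)
    (hloc : ∀ i j (h : i ≤ j), IsLocalHom (f i j h))
    (hmax : ∀ i j (h : i ≤ j), (maximalIdeal (G i)).map (f i j h) = maximalIdeal (G j))
    (hflat : ∀ i j (h : i ≤ j), (f i j h).Flat) : IsNoetherianRing A := by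
  haveI : IsLocalRing A := hc.isLocalRing hloc
  obtain ⟨i₀⟩ := ‹Nonempty ι›
  have hfg : (maximalIdeal A).FG := by
    rw [← hc.map_maximalIdeal hloc hmax i₀]
    exact (maximalIdeal (G i₀)).fg_of_isNoetherianRing.map _
  haveI : IsLocalRing (AdicCompletion (maximalIdeal A) A) := AdicCompletion.isLocalRing_of_fg hfg
  haveI : IsLocalHom (algebraMap A (AdicCompletion (maximalIdeal A) A)) :=
    AdicCompletion.algebraMap_isLocalHom_of_fg hfg
  haveI : IsNoetherianRing (A ⧸ maximalIdeal A) := by
    letI : Field (A ⧸ maximalIdeal A) := Ideal.Quotient.field _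
    infer_instance
  have hN : IsNoetherianRing (AdicCompletion (maximalIdeal A) A) :=
    Groth.Agent.S0542.result A (maximalIdeal A) hfg
  have hfl : ∀ i, ∃ alg : Algebra (G i) (AdicCompletion (maximalIdeal A) A),
      (∀ r, @algebraMap (G i) (AdicCompletion (maximalIdeal A) A) _ _ alg r =
        algebraMap A (AdicCompletion (maximalIdeal A) A) (of i r)) ∧
        @Module.Flat (G i) (AdicCompletion (maximalIdeal A) A) _ _ alg.toModule := by
    intro i
    letI : Algebra (G i) A := (of i).toAlgebra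
    refine ⟨inferInstance, fun r => rfl, ?_⟩
    haveI : Module.Flat (G i) A := hc.flat_of hflat i
    haveI : IsLocalHom (algebraMap (G i) A) := hc.isLocalHom_of hloc i
    have hmap : (maximalIdeal (G i)).map (algebraMap (G i) A) = maximalIdeal A :=
      hc.map_maximalIdeal hloc hmax i
    apply flat_of_flat_quotients (S := AdicCompletion (maximalIdeal A) A) (maximalIdeal (G i))
    · rw [IsLocalRing.jacobson_eq_maximalIdeal ⊥ bot_ne_top,
        IsScalarTower.algebraMap_eq (G i) A (AdicCompletion (maximalIdeal A) A), ← Ideal.map_map,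
        hmap, AdicCompletion.maximalIdeal_eq_map_of_fg hfg]
    · intro n hn
      have hpow : (maximalIdeal (G i) ^ n).map (algebraMap (G i) A) = maximalIdeal A ^ n := by
        rw [Ideal.map_pow, hmap]
      apply flat_baseChange_of_quotient_bijective (N := A) (maximalIdeal (G i) ^ n)
        (IsScalarTower.toAlgHom (G i) A (AdicCompletion (maximalIdeal A) A)).toLinearMap
      · intro x
        obtain ⟨a, ha⟩ := completion_exists_sub_mem (maximalIdeal A) hfg n x
        refine ⟨a, ?_⟩
        rw [mem_smul_top_iff_map (A := A), hpow]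
        exact ha
      · intro a ha
        rw [mem_smul_top_iff_map (A := A), hpow] at ha
        have := completion_mem_of_algebraMap_mem (maximalIdeal A) hfg n a ha
        rw [mem_smul_top_iff_map (A := A), hpow, smul_eq_mul, Ideal.mul_top]
        exact this
  haveI : Module.Flat A (AdicCompletion (maximalIdeal A) A) := hc.flat_of_forall_flat hfl
  haveI : Module.FaithfullyFlat A (AdicCompletion (maximalIdeal A) A) :=
    Module.FaithfullyFlat.of_flat_of_isLocalHom
  exact Groth.Agent.Lib.Helper87.Hens.isNoetherianRing_of_faithfullyFlat A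
    (AdicCompletion (maximalIdeal A) A)

end Main

end Groth.Agent.Lib.Helper87.NoethColim
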