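import Mathlib
import Groth.Agent.Lib.Helper87.NoethColim

set_option autoImplicit false
universe u

/-!
# A divisibility form of integral closedness, and its behaviour under directed unions and
faithfully flat descent
-/

namespace Groth.Agent.Lib.Helper87.NormalDvd

open Polynomial

/-- divisibility form of integral closedness: if `a / b` satisfies a monic equation
(written without denominators) then `b ∣ a`. -/
def DvdCond (D : Type*) [CommRing D] : Prop :=
  ∀ (a b : D) (p : D[X]), b ≠ 0 → p.Monic → (p.scaleRoots b).eval a = 0 → b ∣ a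

theorem dvdCond_of_isIntegrallyClosed (D : Type*) [CommRing D] [IsDomain D]
    [IsIntegrallyClosed D] : DvdCond D := by
  intro a b p hb hp h0
  let K := FractionRing D
  have hfb : algebraMap D K b ≠ 0 := by
    rw [Ne, map_eq_zero_iff _ (IsFractionRing.injective D K)]
    exact hb
  let x : K := algebraMap D K a / algebraMap D K b
  have hx : algebraMap D K b * x = algebraMap D K a := mul_div_cancel₀ _ hfb
  have h1 := scaleRoots_eval₂_mul (p := p) (algebraMap D K) x b
  rw [hx, eval₂_at_apply, h0, map_zero] at h1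
  have h2 : eval₂ (algebraMap D K) x p = 0 := by
    rcases mul_eq_zero.mp h1.symm with h | h
    · exact absurd (eq_zero_of_pow_eq_zero h) hfb
    · exact h
  have hint : IsIntegral D x := ⟨p, hp, h2⟩
  obtain ⟨y, hy⟩ := IsIntegrallyClosed.algebraMap_eq_of_integral hint
  refine ⟨y, ?_⟩
  apply IsFractionRing.injective D K
  rw [map_mul, hy, hx]

theorem isIntegrallyClosed_of_dvdCond (D : Type*) [CommRing D] [IsDomain D]
    (h : DvdCond D) : IsIntegrallyClosed D := by
  rw [isIntegrallyClosed_iff (FractionRing D)]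
  intro x hx
  obtain ⟨p, hp, hpx⟩ := hx
  obtain ⟨a, b, hb, rfl⟩ := IsFractionRing.div_surjective (A := D) x
  have hb0 : b ≠ 0 := nonZeroDivisors.ne_zero hb
  have h1 := scaleRoots_aeval_eq_zero_of_aeval_div_eq_zero
    (IsFractionRing.injective D (FractionRing D)) (p := p) (r := a) (s := b) hpx hb
  rw [aeval_def, eval₂_at_apply, map_eq_zero_iff _ (IsFractionRing.injective D _)] at h1
  obtain ⟨y, rfl⟩ := h a b p hb0 hp h1
  refine ⟨y, ?_⟩
  rw [map_mul]
  have hfb : algebraMap D (FractionRing D) b ≠ 0 := by
    rw [Ne, map_eq_zero_iff _ (IsFractionRing.injective D _)]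
    exact hb0
  field_simp

section Colimit

open NoethColim

variable {ι : Type*} [Preorder ι] [IsDirected ι (· ≤ ·)] [Nonempty ι]
variable {G : ι → Type u} [∀ i, CommRing (G i)]
variable {f : ∀ i j, i ≤ j → G i →+* G j}
variable {A : Type u} [CommRing A] {of : ∀ i, G i →+* A}

/-- a directed colimit of domains is a domain. -/
theorem isDomain_of_isColim (hc : IsColim G f A of) [∀ i, IsDomain (G i)] : IsDomain A := by
  classical
  obtain ⟨i₀⟩ := ‹Nonempty ι›
  have : Nontrivial A := by
    refine ⟨⟨0, 1, fun h => ?_⟩⟩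
    have h1 : of i₀ 0 = of i₀ 1 := by rw [map_zero, map_one, h]
    obtain ⟨j, hj, hk⟩ := (hc.eq_iff _ _).mp h1
    rw [map_zero, map_one] at hk
    exact zero_ne_one hk
  have : NoZeroDivisors A := by
    refine ⟨fun {a b} hab => ?_⟩
    obtain ⟨i, -, hi⟩ := hc.exists_finset i₀ {a, b}
    obtain ⟨x, rfl⟩ := hi a (by simp)
    obtain ⟨y, rfl⟩ := hi b (by simp)
    rw [← map_mul] at hab
    obtain ⟨j, hj, h0⟩ := hc.ker i _ hab
    rw [map_mul] at h0
    rcases mul_eq_zero.mp h0 with h | h
    · left
      rw [← hc.of_f i j hj, h, map_zero]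
    · right
      rw [← hc.of_f i j hj, h, map_zero]
  exact NoZeroDivisors.to_isDomain A

/-- the divisibility condition passes to directed colimits. -/
theorem dvdCond_of_isColim (hc : IsColim G f A of) (h : ∀ i, DvdCond (G i)) : DvdCond A := by
  classical
  intro a b p hb hp h0
  obtain ⟨i₀⟩ := ‹Nonempty ι›
  obtain ⟨i, -, hi⟩ := hc.exists_finset i₀ (insert a (insert b (p.support.image p.coeff)))
  have hmem : p ∈ Polynomial.lifts (of i) := by
    rw [Polynomial.lifts_iff_coeff_lifts]
    intro n
    by_cases hn : n ∈ p.support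
    · obtain ⟨y, hy⟩ := hi (p.coeff n)
        (Finset.mem_insert_of_mem (Finset.mem_insert_of_mem (Finset.mem_image_of_mem _ hn)))
      exact ⟨y, hy⟩
    · rw [Polynomial.notMem_support_iff] at hn
      rw [hn]
      exact ⟨0, map_zero _⟩
  obtain ⟨p', hp', -, hp'm⟩ := lifts_and_natDegree_eq_and_monic hmem hp
  obtain ⟨a', rfl⟩ := hi a (Finset.mem_insert_self _ _)
  obtain ⟨b', rfl⟩ := hi b (Finset.mem_insert_of_mem (Finset.mem_insert_self _ _))
  have : Nontrivial A := ⟨⟨_, _, hb⟩⟩
  have h1 : of i ((p'.scaleRoots b').eval a') = 0 := by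
    rw [← Polynomial.eval₂_at_apply, ← Polynomial.eval_map,
      Polynomial.map_scaleRoots _ _ _ (by rw [hp'm.leadingCoeff, map_one]; exact one_ne_zero),
      hp']
    exact h0
  obtain ⟨j, hj, h2⟩ := hc.ker i _ h1
  have hp'j : (p'.map (f i j hj)).Monic := hp'm.map _
  have h3 : ((p'.map (f i j hj)).scaleRoots (f i j hj b')).eval (f i j hj a') = 0 := by
    rw [← Polynomial.map_scaleRoots _ _ _ (by
      rw [hp'm.leadingCoeff, map_one]
      intro h10
      have : of j (1 : G j) = of j 0 := by rw [h10]
      rw [map_one, map_zero] at this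
      exact hb (by rw [← mul_one (of i b'), this, mul_zero])),
      Polynomial.eval_map, Polynomial.eval₂_at_apply]
    exact h2
  have hbj : f i j hj b' ≠ 0 := by
    intro h10
    apply hb
    rw [← hc.of_f i j hj, h10, map_zero]
  obtain ⟨w, hw⟩ := h j _ _ _ hbj hp'j h3
  refine ⟨of j w, ?_⟩
  rw [← hc.of_f i j hj a', hw, map_mul, hc.of_f]

end Colimit

section Descent

/-- the divisibility condition descends along faithfully flat maps. -/
theorem dvdCond_of_faithfullyFlat (A B : Type*) [CommRing A] [CommRing B] [Algebra A B]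
    [Module.FaithfullyFlat A B] (h : DvdCond B) : DvdCond A := by
  intro a b p hb hp h0
  have hinj : Function.Injective (algebraMap A B) := FaithfulSMul.algebraMap_injective A B
  have h1 : ((p.map (algebraMap A B)).scaleRoots (algebraMap A B b)).eval (algebraMap A B a)
      = 0 := by
    rw [← Polynomial.map_scaleRoots _ _ _ (by
      rw [hp.leadingCoeff, map_one]
      intro h10
      apply hb
      apply hinj
      rw [map_zero, ← mul_one (algebraMap A B b), h10, mul_zero]),
      Polynomial.eval_map, Polynomial.eval₂_at_apply, h0, map_zero]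
  have hb' : algebraMap A B b ≠ 0 := by
    rw [Ne, map_eq_zero_iff _ hinj]
    exact hb
  obtain ⟨w, hw⟩ := h _ _ _ hb' (hp.map _) h1
  have hmem : algebraMap A B a ∈ (Ideal.span {b}).map (algebraMap A B) := by
    rw [Ideal.map_span, Set.image_singleton, hw]
    exact Ideal.mul_mem_right _ _ (Ideal.subset_span rfl)
  have hmem' : a ∈ ((Ideal.span {b}).map (algebraMap A B)).comap (algebraMap A B) := hmem
  rw [Ideal.comap_map_eq_self_of_faithfullyFlat] at hmem'
  exact Ideal.mem_span_singleton.mp hmem'

end Descent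

end Groth.Agent.Lib.Helper87.NormalDvd
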