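import Mathlib
import Groth.Agent.Lib.Helper87.NormalDvd
import Groth.Agent.Lib.Helper25.SmoothReduced

set_option autoImplicit false
universe u

/-!
# Local rings of étale algebras over a normal domain are normal domains
-/

namespace Groth.Agent.Lib.Helper87.EtNormal

open TensorProduct Polynomial NormalDvd

section VonNeumann

/-- in a reduced Artinian ring every element is a multiple of its square. -/
lemma exists_eq_sq_mul (A : Type*) [CommRing A] [IsArtinianRing A] [IsReduced A] (z : A) :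
    ∃ c : A, z = z ^ 2 * c := by
  let F : ℕ →o (Ideal A)ᵒᵈ :=
    { toFun := fun n => OrderDual.toDual (Ideal.span {z ^ n})
      monotone' := fun m n hmn => by
        show Ideal.span {z ^ n} ≤ Ideal.span {z ^ m}
        rw [Ideal.span_singleton_le_span_singleton]
        exact pow_dvd_pow z hmn }
  obtain ⟨n, hn⟩ := IsArtinian.monotone_stabilizes F
  have h1 : Ideal.span {z ^ n} = Ideal.span {z ^ (n + 1)} := hn (n + 1) (Nat.le_succ n)
  have h2 : z ^ n ∈ Ideal.span {z ^ (n + 1)} := h1 ▸ Ideal.subset_span rfl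
  obtain ⟨c, hc⟩ := Ideal.mem_span_singleton'.mp h2
  refine ⟨c, ?_⟩
  have h3 : (z * (1 - z * c)) ^ (n + 1) = 0 := by
    have : z ^ n * (1 - z * c) = 0 := by
      have e : z ^ n * (z * c) = c * z ^ (n + 1) := by ring
      rw [mul_sub, mul_one, e, hc, sub_self]
    calc (z * (1 - z * c)) ^ (n + 1) = z * (1 - z * c) ^ n * (z ^ n * (1 - z * c)) := by
          rw [mul_pow, pow_succ, pow_succ]
          ring
      _ = 0 := by rw [this, mul_zero]
  have h4 : z * (1 - z * c) = 0 := IsReduced.eq_zero _ ⟨n + 1, h3⟩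
  have : z - z ^ 2 * c = 0 := by
    rw [← h4]
    ring
  exact sub_eq_zero.mp this

lemma eq_sq_mul_of_mul_unit {A : Type*} [CommRing A] {x c u : A} (hx : x = x ^ 2 * c)
    (hu : IsUnit u) : ∃ c', x * u = (x * u) ^ 2 * c' := by
  obtain ⟨v, rfl⟩ := hu
  refine ⟨c * ((v⁻¹ : Aˣ) : A), ?_⟩
  have : (x * (v : A)) ^ 2 * (c * ((v⁻¹ : Aˣ) : A)) = x ^ 2 * c * (v : A) * ((v : A) * ((v⁻¹ : Aˣ) : A)) := by
    ring
  rw [this, Units.mul_inv, mul_one, ← hx]

/-- a ring in which every element is a multiple of its square and whose idempotents are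
trivial: every nonzero element is a unit. -/
lemma isUnit_of_ne_zero {A : Type*} [CommRing A]
    (hvn : ∀ z : A, ∃ c, z = z ^ 2 * c) (hid : ∀ e : A, e * e = e → e = 0 ∨ e = 1)
    {a : A} (ha : a ≠ 0) : IsUnit a := by
  obtain ⟨c, hc⟩ := hvn a
  have he : (a * c) * (a * c) = a * c := by
    calc (a * c) * (a * c) = (a ^ 2 * c) * c := by ring
      _ = a * c := by rw [← hc]
  rcases hid _ he with h | h
  · exfalso
    apply ha
    calc a = a ^ 2 * c := hc
      _ = a * (a * c) := by ring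
      _ = 0 := by rw [h, mul_zero]
  · exact IsUnit.of_mul_eq_one _ h

end VonNeumann

section Main

variable {R : Type u} [CommRing R] [IsDomain R] [IsIntegrallyClosed R]
variable {S : Type u} [CommRing S] [Algebra R S] [Algebra.Etale R S]
variable (q : Ideal S) [q.IsPrime]

local notation "K" => FractionRing R
local notation "L" => Localization.AtPrime q

/-- integral elements of `L ⊗ K` come from `L`. -/
lemma exists_eq_tmul_one_of_isIntegral (t : L ⊗[R] K) (ht : IsIntegral L t) :
    ∃ l : L, t = l ⊗ₜ[R] (1 : K) := by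
  have H : Function.Bijective (TensorProduct.toIntegralClosure R S K) :=
    TensorProduct.toIntegralClosure_bijective_of_smooth
  have H' : Function.Bijective (TensorProduct.toIntegralClosure S L (S ⊗[R] K)) :=
    TensorProduct.toIntegralClosure_bijective_of_isLocalization q.primeCompl
  have hb : Function.Bijective (TensorProduct.toIntegralClosure R L K) :=
    TensorProduct.toIntegralClosure_bijective_of_tower H H'
  obtain ⟨y, hy⟩ := hb.2 ⟨t, ht⟩
  have hy' : (Algebra.TensorProduct.map (AlgHom.id L L) (integralClosure R K).val) y = t :=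
    congrArg Subtype.val hy
  rw [← hy']
  clear hy hy'
  induction y using TensorProduct.induction_on with
  | zero => exact ⟨0, by simp⟩
  | add x y hx hy =>
    obtain ⟨l₁, h₁⟩ := hx
    obtain ⟨l₂, h₂⟩ := hy
    exact ⟨l₁ + l₂, by rw [map_add, h₁, h₂, add_tmul]⟩
  | tmul l k =>
    obtain ⟨k, hk⟩ := k
    obtain ⟨r, hr⟩ := IsIntegrallyClosed.algebraMap_eq_of_integral hk
    refine ⟨r • l, ?_⟩
    rw [Algebra.TensorProduct.map_tmul]
    show l ⊗ₜ[R] k = (r • l) ⊗ₜ[R] (1 : K)
    rw [← hr, Algebra.algebraMap_eq_smul_one, smul_tmul]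

lemma tmul_one_injective : Function.Injective (fun l : L => l ⊗ₜ[R] (1 : K)) := by
  have : Module.Flat R L := Module.Flat.trans R S L
  exact Algebra.TensorProduct.includeLeft_injective (S := R) (A := L) (B := K)
    (IsFractionRing.injective R K)

/-- the generic fibre of an étale algebra is Artinian and reduced. -/
lemma generic_fibre_props : IsArtinianRing (K ⊗[R] S) ∧ IsReduced (K ⊗[R] S) := by
  have : Module.Finite K (K ⊗[R] S) := Algebra.FormallyUnramified.finite_of_free K (K ⊗[R] S)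
  exact ⟨IsArtinianRing.of_finite K _, Algebra.FormallyUnramified.isReduced_of_field K (K ⊗[R] S)⟩

variable (R) in
/-- the comparison map from the generic fibre of `S` to `L ⊗ K`. -/
noncomputable def ψ : K ⊗[R] S →ₐ[R] L ⊗[R] K :=
  (Algebra.TensorProduct.map (IsScalarTower.toAlgHom R S L) (AlgHom.id R K)).comp
    (Algebra.TensorProduct.comm R K S).toAlgHom

lemma ψ_tmul (k : K) (s : S) : ψ R q (k ⊗ₜ[R] s) = algebraMap S L s ⊗ₜ[R] k := by
  simp [ψ]

/-- every element of `L ⊗ K` is a multiple of its square. -/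
lemma exists_eq_sq_mul_tensor (t : L ⊗[R] K) : ∃ c, t = t ^ 2 * c := by
  obtain ⟨hart, hred⟩ := generic_fibre_props (R := R) (S := S)
  -- `L ⊗ K` is the localization of `L` at the image of the nonzero elements of `R`
  obtain ⟨l, m, rfl⟩ := IsLocalization.exists_mk'_eq
    (Algebra.algebraMapSubmonoid L (nonZeroDivisors R)) t
  obtain ⟨s, s', rfl⟩ := IsLocalization.exists_mk'_eq q.primeCompl l
  obtain ⟨c, hc⟩ := exists_eq_sq_mul (K ⊗[R] S) ((1 : K) ⊗ₜ[R] s)
  have hσ : ψ R q ((1 : K) ⊗ₜ[R] s) = (ψ R q ((1 : K) ⊗ₜ[R] s)) ^ 2 * ψ R q c := by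
    rw [← map_pow, ← map_mul, ← hc]
  have hu1 : IsUnit (algebraMap L (L ⊗[R] K) (algebraMap S L s')) :=
    (IsLocalization.map_units L s').map _
  have hu2 : IsUnit (algebraMap L (L ⊗[R] K) (m : L)) := IsLocalization.map_units _ m
  have hrepr : IsLocalization.mk' (L ⊗[R] K) (IsLocalization.mk' L s s') m =
      ψ R q ((1 : K) ⊗ₜ[R] s) * (((hu1.unit)⁻¹ : (L ⊗[R] K)ˣ) * ((hu2.unit)⁻¹ : (L ⊗[R] K)ˣ) :
        (L ⊗[R] K)ˣ) := by
    rw [IsLocalization.mk'_eq_iff_eq_mul, Units.val_mul, ψ_tmul]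
    have h1 : algebraMap L (L ⊗[R] K) (IsLocalization.mk' L s s') * hu1.unit =
        algebraMap S L s ⊗ₜ[R] (1 : K) := by
      rw [IsUnit.unit_spec, ← map_mul, IsLocalization.mk'_spec]
      rfl
    calc algebraMap L (L ⊗[R] K) (IsLocalization.mk' L s s')
        = algebraMap L (L ⊗[R] K) (IsLocalization.mk' L s s') * hu1.unit *
            ((hu1.unit)⁻¹ : (L ⊗[R] K)ˣ) := by
          rw [mul_assoc, Units.mul_inv, mul_one]
      _ = algebraMap S L s ⊗ₜ[R] (1 : K) * ((hu1.unit)⁻¹ : (L ⊗[R] K)ˣ) := by rw [h1]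
      _ = algebraMap S L s ⊗ₜ[R] (1 : K) * (((hu1.unit)⁻¹ : (L ⊗[R] K)ˣ) *
            ((hu2.unit)⁻¹ : (L ⊗[R] K)ˣ)) * algebraMap L (L ⊗[R] K) (m : L) := by
          have : ((hu2.unit)⁻¹ : (L ⊗[R] K)ˣ) * algebraMap L (L ⊗[R] K) (m : L) = (1 : L ⊗[R] K) :=
            IsUnit.val_inv_mul hu2
          rw [mul_assoc, mul_assoc, this, mul_one]
  rw [hrepr]
  exact eq_sq_mul_of_mul_unit hσ (Units.isUnit _)

lemma algebraMap_eq_tmul_one (l : L) : algebraMap L (L ⊗[R] K) l = l ⊗ₜ[R] (1 : K) := rfl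

/-- idempotents of `L ⊗ K` are trivial. -/
lemma idempotent_tensor (e : L ⊗[R] K) (he : e * e = e) : e = 0 ∨ e = 1 := by
  have hint : IsIntegral L e := by
    refine ⟨X ^ 2 - X, monic_X_pow_sub (by simp), ?_⟩
    simp [pow_two, he]
  obtain ⟨l, rfl⟩ := exists_eq_tmul_one_of_isIntegral q e hint
  have hl : l * l = l := by
    apply tmul_one_injective (R := R) q
    show (l * l) ⊗ₜ[R] (1 : K) = l ⊗ₜ[R] (1 : K)
    rw [← he, Algebra.TensorProduct.tmul_mul_tmul, mul_one]
  rcases IsLocalRing.isUnit_or_isUnit_one_sub_self l with h | h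
  · right
    have : l = 1 := by
      have h0 : l * (l - 1) = 0 := by rw [mul_sub, mul_one, hl, sub_self]
      have := h.mul_right_eq_zero.mp h0
      exact sub_eq_zero.mp this
    rw [this]
    rfl
  · left
    have : l = 0 := by
      have h0 : (1 - l) * l = 0 := by rw [sub_mul, one_mul, hl, sub_self]
      exact h.mul_right_eq_zero.mp h0
    rw [this, zero_tmul]

lemma isUnit_tmul_one {b : L} (hb : b ≠ 0) : IsUnit (b ⊗ₜ[R] (1 : K)) := by
  apply isUnit_of_ne_zero (exists_eq_sq_mul_tensor q) (idempotent_tensor q)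
  intro h
  apply hb
  apply tmul_one_injective (R := R) q
  show b ⊗ₜ[R] (1 : K) = (0 : L) ⊗ₜ[R] (1 : K)
  rw [h, zero_tmul]

variable (R) in
include R in
/-- the local rings of an étale algebra over a normal domain are domains. -/
theorem isDomain_localization : IsDomain L := by
  have : NoZeroDivisors L := by
    refine ⟨fun {a b} hab => ?_⟩
    by_contra hne
    rw [not_or] at hne
    have hu := isUnit_tmul_one (R := R) q hne.1
    have h0 : (a ⊗ₜ[R] (1 : K)) * (b ⊗ₜ[R] (1 : K)) = 0 := by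
      rw [Algebra.TensorProduct.tmul_mul_tmul, hab, zero_tmul]
    have hb0 := hu.mul_right_eq_zero.mp h0
    apply hne.2
    apply tmul_one_injective (R := R) q
    show b ⊗ₜ[R] (1 : K) = (0 : L) ⊗ₜ[R] (1 : K)
    rw [hb0, zero_tmul]
  exact NoZeroDivisors.to_isDomain L

variable (R) in
include R in
/-- the local rings of an étale algebra over a normal domain satisfy the divisibility form of
integral closedness. -/
theorem dvdCond_localization : DvdCond L := by
  intro a b p hb hp h0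
  have hu := isUnit_tmul_one (R := R) q hb
  obtain ⟨v, hv⟩ := hu
  let t : L ⊗[R] K := (a ⊗ₜ[R] (1 : K)) * ((v⁻¹ : (L ⊗[R] K)ˣ) : L ⊗[R] K)
  have hbt : algebraMap L (L ⊗[R] K) b * t = algebraMap L (L ⊗[R] K) a := by
    rw [algebraMap_eq_tmul_one, algebraMap_eq_tmul_one, ← hv]
    show (v : L ⊗[R] K) * ((a ⊗ₜ[R] (1 : K)) * ((v⁻¹ : (L ⊗[R] K)ˣ) : L ⊗[R] K)) = _
    rw [mul_comm, mul_assoc, Units.inv_mul, mul_one]
  have h1 := scaleRoots_eval₂_mul (p := p) (algebraMap L (L ⊗[R] K)) t b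
  rw [hbt, eval₂_at_apply, h0, map_zero] at h1
  have hub : IsUnit (algebraMap L (L ⊗[R] K) b ^ p.natDegree) := by
    rw [algebraMap_eq_tmul_one, ← hv]
    exact (Units.isUnit v).pow _
  have h2 : eval₂ (algebraMap L (L ⊗[R] K)) t p = 0 := hub.mul_right_eq_zero.mp h1.symm
  obtain ⟨l, hl⟩ := exists_eq_tmul_one_of_isIntegral q t ⟨p, hp, h2⟩
  refine ⟨l, ?_⟩
  apply tmul_one_injective (R := R) q
  show a ⊗ₜ[R] (1 : K) = (b * l) ⊗ₜ[R] (1 : K)
  rw [← algebraMap_eq_tmul_one, ← hbt, hl, algebraMap_eq_tmul_one,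
    Algebra.TensorProduct.tmul_mul_tmul, mul_one]

variable (R) in
include R in
theorem isIntegrallyClosed_localization [IsDomain L] : IsIntegrallyClosed L :=
  isIntegrallyClosed_of_dvdCond _ (dvdCond_localization R q)

end Main

end Groth.Agent.Lib.Helper87.EtNormal
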