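import Mathlib
import Groth.Agent.Lib.Helper87.IndEtaleConv
import Groth.Agent.Lib.Helper87.EtaleNormal

set_option autoImplicit false
set_option linter.style.haveILetI false
universe u

/-!
# A local ind-étale algebra over a normal domain is a domain (helper87)
-/

namespace Groth.Agent.Lib.Helper87.IndEtDomain

open Groth.Agent.Lib.Helper87.IndEt TensorProduct IsLocalRing

variable {N : Type u} [CommRing N] [IsDomain N] [IsIntegrallyClosed N]
  {T : Type u} [CommRing T] [Algebra N T] [IsLocalRing T]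

theorem isDomain_of_covered (h1 : CoveredByEtale N T) (h2 : KillsRelations N T) : IsDomain T := by
  have : NoZeroDivisors T := by
    refine ⟨fun {x y} hxy => ?_⟩
    obtain ⟨E₁, _, _, _, f₁, a₁, rfl⟩ := h1 x
    obtain ⟨E₂, _, _, _, f₂, a₂, rfl⟩ := h1 y
    let f : E₁ ⊗[N] E₂ →ₐ[N] T := Algebra.TensorProduct.lift f₁ f₂ (fun _ _ => Commute.all _ _)
    have hfa : f (a₁ ⊗ₜ 1) = f₁ a₁ := by simp [f]
    have hfb : f (1 ⊗ₜ a₂) = f₂ a₂ := by simp [f]
    have h0 : f ((a₁ ⊗ₜ 1) * (1 ⊗ₜ a₂)) = 0 := by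
      rw [map_mul, hfa, hfb]
      exact hxy
    haveI : Algebra.Etale E₁ (E₁ ⊗[N] E₂) := inferInstance
    haveI : Algebra.Etale N (E₁ ⊗[N] E₂) := Algebra.Etale.comp N E₁ _
    obtain ⟨E', _, _, _, g, f', hf', hg⟩ := h2 (E₁ ⊗[N] E₂) f _ h0
    let q : Ideal E' := (maximalIdeal T).comap f'.toRingHom
    haveI : q.IsPrime := Ideal.comap_isPrime _ _
    haveI : IsDomain (Localization.AtPrime q) := EtNormal.isDomain_localization N q
    have hunit : ∀ s : E', s ∈ q.primeCompl → IsUnit (f' s) := by
      intro s hs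
      by_contra hu
      exact hs hu
    have hkill : ∀ c : E', algebraMap E' (Localization.AtPrime q) c = 0 → f' c = 0 := by
      intro c hc
      obtain ⟨s, hs⟩ := (IsLocalization.map_eq_zero_iff q.primeCompl _ c).mp hc
      have h3 : f' (s : E') * f' c = 0 := by rw [← map_mul, hs, map_zero]
      exact (hunit s s.2).mul_right_eq_zero.mp h3
    rw [map_mul] at hg
    have h4 : algebraMap E' (Localization.AtPrime q) (g (a₁ ⊗ₜ 1)) *
        algebraMap E' (Localization.AtPrime q) (g (1 ⊗ₜ a₂)) = 0 := by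
      rw [← map_mul, hg, map_zero]
    have hfg : ∀ c, f' (g c) = f c := fun c => by rw [← hf']; rfl
    rcases mul_eq_zero.mp h4 with h | h
    · left
      show f₁ a₁ = 0
      rw [← hfa, ← hfg]
      exact hkill _ h
    · right
      show f₂ a₂ = 0
      rw [← hfb, ← hfg]
      exact hkill _ h
  exact NoZeroDivisors.to_isDomain T

theorem isDomain_of_hasPres (h : HasPres N T) : IsDomain T :=
  isDomain_of_covered h.coveredByEtale h.killsRelations

end Groth.Agent.Lib.Helper87.IndEtDomain
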