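import Mathlib
import Groth.Agent.Lib.Helper87.IndEtaleConv
import Groth.Agent.Lib.Helper25.SmoothReduced

set_option autoImplicit false
universe u

/-!
# Ind-étale algebras over reduced rings are reduced (helper87)
-/

namespace Groth.Agent.Lib.Helper87.IndEtReduced

open Groth.Agent.Lib.Helper87.IndEt

variable {A : Type u} [CommRing A] {B : Type u} [CommRing B] [Algebra A B]

theorem isReduced_of_covered [IsReduced A] (h1 : CoveredByEtale A B) (h2 : KillsRelations A B) :
    IsReduced B := by
  constructor
  rintro x ⟨n, hn⟩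
  obtain ⟨A₁, _, _, _, f, a, rfl⟩ := h1 x
  have h0 : f (a ^ n) = 0 := by
    rw [map_pow]
    exact hn
  obtain ⟨A', _, _, _, g, f', hf', hg⟩ := h2 A₁ f (a ^ n) h0
  have : IsReduced A' := Groth.Agent.Lib.Helper25.isReduced_of_smooth A A'
  have hga : g a = 0 := by
    rw [map_pow] at hg
    exact IsReduced.eq_zero _ ⟨n, hg⟩
  have : f a = f' (g a) := by rw [← hf']; rfl
  show f a = 0
  rw [this, hga, map_zero]

theorem isReduced_of_hasPres [IsReduced A] (h : HasPres A B) : IsReduced B :=
  isReduced_of_covered h.coveredByEtale h.killsRelations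

end Groth.Agent.Lib.Helper87.IndEtReduced
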