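import Mathlib
import Groth.Prelude.Def_Hensel
import Groth.Agent.Lib.Helper87.HensProps
import Groth.Agent.S0526
import Groth.Agent.S0525

set_option autoImplicit false
universe u

/-!
# Henselization of a local ring integral over a local ring (helper87)

For a local homomorphism `A → B` of local rings with `B` integral over `A` and `S` a henselization
of `A`, the ring `B ⊗[A] S` is local, henselian, and a henselization of `B`.
-/

namespace Groth.Agent.Lib.Helper87.HensIntegral

open IsLocalRing TensorProduct Groth.Agent.Lib.Helper87.Hens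

section General

/-- units lift along quotients by ideals in the Jacobson radical. -/
theorem isUnit_of_isUnit_mk {T : Type*} [CommRing T] (I : Ideal T) (hI : I ≤ Ideal.jacobson ⊥)
    (t : T) (h : IsUnit (Ideal.Quotient.mk I t)) : IsUnit t := by
  obtain ⟨u, hu⟩ := h.exists_right_inv
  obtain ⟨u, rfl⟩ := Ideal.Quotient.mk_surjective u
  rw [← map_mul, ← map_one (Ideal.Quotient.mk I), Ideal.Quotient.eq] at hu
  have h1 := (Ideal.mem_jacobson_bot.mp (hI hu)) 1
  rw [mul_one, sub_add_cancel] at h1
  exact isUnit_of_mul_isUnit_left h1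

/-- a ring is local as soon as a quotient by an ideal inside the Jacobson radical is local. -/
theorem isLocalRing_of_quotient {T : Type*} [CommRing T] (I : Ideal T)
    (hI : I ≤ Ideal.jacobson ⊥) [IsLocalRing (T ⧸ I)] : IsLocalRing T := by
  have : Nontrivial T := by
    by_contra h
    rw [not_nontrivial_iff_subsingleton] at h
    have : Subsingleton (T ⧸ I) := Function.Surjective.subsingleton Ideal.Quotient.mk_surjective
    exact not_subsingleton (T ⧸ I) this
  apply IsLocalRing.of_isUnit_or_isUnit_one_sub_self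
  intro t
  rcases IsLocalRing.isUnit_or_isUnit_one_sub_self (Ideal.Quotient.mk I t) with h | h
  · exact Or.inl (isUnit_of_isUnit_mk I hI t h)
  · right
    apply isUnit_of_isUnit_mk I hI
    rwa [map_sub, map_one]

end General

section Main

variable (A B S : Type u) [CommRing A] [IsLocalRing A] [CommRing B] [IsLocalRing B] [Algebra A B]
  [IsLocalHom (algebraMap A B)] [Algebra.IsIntegral A B]
  [CommRing S] [IsLocalRing S] [Algebra A S] [IsLocalHom (algebraMap A S)]
  [Hensel.IsHenselization A S]

attribute [local instance] Algebra.TensorProduct.rightAlgebra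

omit [IsLocalRing A] [IsLocalRing B] [IsLocalHom (algebraMap A B)] [IsLocalRing S]
  [IsLocalHom (algebraMap A S)] [Hensel.IsHenselization A S] in
theorem isIntegral_right : Algebra.IsIntegral S (B ⊗[A] S) := by
  constructor
  intro t
  induction t with
  | zero => exact isIntegral_zero
  | tmul b s =>
    have h1 : IsIntegral S (b ⊗ₜ[A] (1 : S)) := by
      have hb : IsIntegral A b := Algebra.IsIntegral.isIntegral b
      exact hb.map_of_comp_eq (algebraMap A S)
        (Algebra.TensorProduct.includeLeft (R := A) (S := A) (A := B) (B := S)).toRingHom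
        (by
          ext a
          show (1 : B) ⊗ₜ[A] (algebraMap A S a) = (algebraMap A B a) ⊗ₜ[A] (1 : S)
          rw [Algebra.algebraMap_eq_smul_one, Algebra.algebraMap_eq_smul_one, smul_tmul])
    have h2 : IsIntegral S ((1 : B) ⊗ₜ[A] s) := isIntegral_algebraMap (x := s)
    have : b ⊗ₜ[A] s = (b ⊗ₜ[A] (1 : S)) * ((1 : B) ⊗ₜ[A] s) := by
      rw [Algebra.TensorProduct.tmul_mul_tmul, mul_one, one_mul]
    rw [this]
    exact h1.mul h2
  | add x y hx hy => exact hx.add hy

theorem isLocalRing_and_henselian :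
    ∃ (_ : IsLocalRing (B ⊗[A] S)), HenselianLocalRing (B ⊗[A] S) ∧
      IsLocalHom (algebraMap B (B ⊗[A] S)) := by
  have hS : HenselianLocalRing S := Hensel.IsHenselization.henselian A
  have hff : Module.FaithfullyFlat A S := faithfullyFlat_of_isHenselization A S
  have hffB : Module.FaithfullyFlat B (B ⊗[A] S) := inferInstance
  have hint : Algebra.IsIntegral S (B ⊗[A] S) := isIntegral_right A B S
  have hnt : Nontrivial (B ⊗[A] S) :=
    (FaithfulSMul.algebraMap_injective B (B ⊗[A] S)).nontrivial
  have hpair : HenselianRing (B ⊗[A] S) ((maximalIdeal S).map (algebraMap S (B ⊗[A] S))) :=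
    Groth.Agent.S0526.result S (maximalIdeal S) (B ⊗[A] S)
  set I : Ideal (B ⊗[A] S) := (maximalIdeal S).map (algebraMap S (B ⊗[A] S)) with hIdef
  have hjac : I ≤ Ideal.jacobson ⊥ := hpair.jac
  have hI : I ≠ ⊤ := by
    intro h
    rw [h, top_le_iff] at hjac
    have : (1 : B ⊗[A] S) ∈ Ideal.jacobson (⊥ : Ideal (B ⊗[A] S)) := by rw [hjac]; trivial
    have h0 := (Ideal.mem_jacobson_bot.mp this) (-1)
    rw [one_mul, neg_add_cancel] at h0
    exact not_isUnit_zero h0
  -- the quotient is a quotient of `B`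
  have hsurj : Function.Surjective
      ((Ideal.Quotient.mk I).comp (algebraMap B (B ⊗[A] S))) := by
    intro y
    obtain ⟨t, rfl⟩ := Ideal.Quotient.mk_surjective y
    induction t with
    | zero => exact ⟨0, by simp⟩
    | tmul b s =>
      obtain ⟨a, ha⟩ := exists_sub_mem_of_isHenselization A S s
      refine ⟨a • b, ?_⟩
      rw [RingHom.comp_apply, Ideal.Quotient.eq, Algebra.TensorProduct.algebraMap_apply]
      have : (algebraMap B B (a • b)) ⊗ₜ[A] (1 : S) - b ⊗ₜ[A] s =
          -((b ⊗ₜ[A] (1 : S)) * algebraMap S (B ⊗[A] S) (s - algebraMap A S a)) := by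
        have e : algebraMap S (B ⊗[A] S) (s - algebraMap A S a) =
            (1 : B) ⊗ₜ[A] (s - algebraMap A S a) := rfl
        have e2 : b ⊗ₜ[A] (algebraMap A S a) = (a • b) ⊗ₜ[A] (1 : S) := by
          rw [Algebra.algebraMap_eq_smul_one, smul_tmul]
        rw [e, Algebra.TensorProduct.tmul_mul_tmul, mul_one, one_mul, tmul_sub, e2,
          Algebra.algebraMap_self, RingHom.id_apply, neg_sub]
      rw [this]
      exact neg_mem (Ideal.mul_mem_left _ _ (Ideal.mem_map_of_mem _ ha))
    | add x y hx hy =>
      obtain ⟨x', hx'⟩ := hx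
      obtain ⟨y', hy'⟩ := hy
      exact ⟨x' + y', by rw [map_add, hx', hy', map_add]⟩
  have hntq : Nontrivial ((B ⊗[A] S) ⧸ I) := Ideal.Quotient.nontrivial_iff.mpr hI
  have hlocq : IsLocalRing ((B ⊗[A] S) ⧸ I) := IsLocalRing.of_surjective' _ hsurj
  have hloc : IsLocalRing (B ⊗[A] S) := isLocalRing_of_quotient I hjac
  -- radical of `I`
  have hIle : I ≤ maximalIdeal (B ⊗[A] S) := IsLocalRing.le_maximalIdeal hI
  have hrad : I.radical = (maximalIdeal (B ⊗[A] S)).radical := by
    rw [(Ideal.IsPrime.isRadical (inferInstance : (maximalIdeal (B ⊗[A] S)).IsPrime)).radical]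
    apply le_antisymm
    · exact (Ideal.IsPrime.radical_le_iff inferInstance).mpr hIle
    · rw [Ideal.radical_eq_sInf]
      apply le_sInf
      rintro P ⟨hIP, hP⟩
      have h1 : maximalIdeal S ≤ P.comap (algebraMap S (B ⊗[A] S)) :=
        Ideal.map_le_iff_le_comap.mp hIP
      have h2 : (P.comap (algebraMap S (B ⊗[A] S))).IsPrime := Ideal.comap_isPrime _ _
      have h3 : P.comap (algebraMap S (B ⊗[A] S)) = maximalIdeal S :=
        ((maximalIdeal.isMaximal S).eq_of_le h2.ne_top h1).symm
      have h4 : P.IsMaximal :=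
        Ideal.isMaximal_of_isIntegral_of_isMaximal_comap P (by rw [h3]; infer_instance)
      rw [IsLocalRing.eq_maximalIdeal h4]
  have hpair' : HenselianRing (B ⊗[A] S) (maximalIdeal (B ⊗[A] S)) :=
    (Groth.Agent.S0525.result _ I _ hrad).mp hpair
  have hT : HenselianLocalRing (B ⊗[A] S) :=
    { toIsLocalRing := hloc
      is_henselian := fun f hf a₀ h₁ h₂ =>
        HenselianRing.is_henselian (R := B ⊗[A] S) (I := maximalIdeal (B ⊗[A] S)) f hf a₀ h₁
          (h₂.map _) }
  refine ⟨hloc, hT, ⟨fun b hb => ?_⟩⟩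
  by_contra hb'
  have hbm : b ∈ maximalIdeal B := hb'
  have h1 : (maximalIdeal B).map (algebraMap B (B ⊗[A] S)) = ⊤ :=
    Ideal.eq_top_of_isUnit_mem _ (Ideal.mem_map_of_mem _ hbm) hb
  have h2 := Ideal.comap_map_eq_self_of_faithfullyFlat (B := B ⊗[A] S) (maximalIdeal B)
  rw [h1, Ideal.comap_top] at h2
  exact (maximalIdeal.isMaximal B).ne_top h2.symm

theorem universal (T' : Type u) [CommRing T'] [HenselianLocalRing T'] (f : B →+* T')
    (hf : IsLocalHom f) :
    ∃! g : B ⊗[A] S →+* T', g.comp (algebraMap B (B ⊗[A] S)) = f := by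
  have hf' : IsLocalHom (f.comp (algebraMap A B)) := RingHom.isLocalHom_comp _ _
  obtain ⟨h, hh, hhu⟩ := Hensel.IsHenselization.universal (R := A) (S := S) T'
    (f.comp (algebraMap A B)) hf'
  letI : Algebra A T' := (f.comp (algebraMap A B)).toAlgebra
  let fB : B →ₐ[A] T' := { f with commutes' := fun a => rfl }
  let hS : S →ₐ[A] T' := { h with commutes' := fun a => congr($hh a) }
  let g : B ⊗[A] S →ₐ[A] T' := Algebra.TensorProduct.lift fB hS (fun _ _ => Commute.all _ _)
  refine ⟨g.toRingHom, ?_, ?_⟩
  · ext b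
    show g (b ⊗ₜ 1) = f b
    rw [Algebra.TensorProduct.lift_tmul, map_one, mul_one]
    rfl
  · intro g' hg'
    have hg'b : ∀ b, g' (b ⊗ₜ 1) = f b := fun b => congr($hg' b)
    have hc : ∀ a : A, g' (algebraMap A (B ⊗[A] S) a) = algebraMap A T' a := by
      intro a
      rw [Algebra.TensorProduct.algebraMap_apply, hg'b]
      rfl
    let G' : B ⊗[A] S →ₐ[A] T' := { g' with commutes' := hc }
    have hr : g'.comp (Algebra.TensorProduct.includeRight (R := A) (A := B) (B := S)).toRingHom
        = h := by
      apply hhu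
      ext a
      show g' ((1 : B) ⊗ₜ[A] (algebraMap A S a)) = f (algebraMap A B a)
      rw [← hg'b, Algebra.algebraMap_eq_smul_one, Algebra.algebraMap_eq_smul_one, tmul_smul,
        smul_tmul']
    have : G' = g := by
      apply Algebra.TensorProduct.ext'
      intro b s
      show g' (b ⊗ₜ s) = g (b ⊗ₜ s)
      have e1 : b ⊗ₜ[A] s = (b ⊗ₜ[A] (1 : S)) * ((1 : B) ⊗ₜ[A] s) := by
        rw [Algebra.TensorProduct.tmul_mul_tmul, mul_one, one_mul]
      rw [Algebra.TensorProduct.lift_tmul, e1, map_mul, hg'b]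
      congr 1
      exact congr($hr s)
    exact RingHom.ext fun t => congr($this t)

theorem isHenselization_tensor :
    ∃ (_ : IsLocalRing (B ⊗[A] S)) (_ : IsLocalHom (algebraMap B (B ⊗[A] S))),
      Hensel.IsHenselization B (B ⊗[A] S) := by
  obtain ⟨hloc, hT, hlh⟩ := isLocalRing_and_henselian A B S
  exact ⟨hloc, hlh, { henselian := hT, universal := fun T' _ _ f hf => universal A B S T' f hf }⟩

end Main

end Groth.Agent.Lib.Helper87.HensIntegral
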