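import Mathlib
import Groth.Agent.Lib.Helper87.HensIntegral

set_option autoImplicit false
set_option linter.style.haveILetI false
universe u

/-!
# Converse: a local tensor product forces a purely inseparable residue extension (helper87)

`exists_pow_sub_mem`: for local rings `A → C` (integral, local) and `A → S` (local, with residue field
separably closed and algebraic over that of `A`) such that `C ⊗[A] S` is local, every element of
`C` has a `p^n`-th power congruent to an element of `A` modulo the maximal ideal.
-/

namespace Groth.Agent.Lib.Helper87.PurelyInsepConverse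

open IsLocalRing TensorProduct Polynomial

/-- a separable element fixed by all embeddings into an algebraically closed field is rational. -/
theorem mem_range_of_forall_algHom_eq {k k' : Type*} [Field k] [Field k'] [Algebra k k']
    [Algebra.IsAlgebraic k k'] (Ω : Type*) [Field Ω] [IsAlgClosed Ω] [Algebra k Ω]
    (ι : k' →ₐ[k] Ω) (y : k') (hy : IsSeparable k y) (h : ∀ σ : k' →ₐ[k] Ω, σ y = ι y) :
    y ∈ (algebraMap k k').range := by
  classical
  rw [← minpoly.natDegree_eq_one_iff]
  have h1 := Algebra.IsAlgebraic.range_eval_eq_rootSet_minpoly (F := k) (K := k') Ω y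
  have h2 : (minpoly k y).rootSet Ω = {ι y} := by
    rw [← h1]
    ext z
    simp only [Set.mem_range, Set.mem_singleton_iff]
    constructor
    · rintro ⟨σ, rfl⟩
      exact h σ
    · rintro rfl
      exact ⟨ι, rfl⟩
  have h3 := Polynomial.card_rootSet_eq_natDegree (K := Ω) hy (IsAlgClosed.splits _)
  rw [← h3]
  simp [h2]

section

variable (A C S : Type u) [CommRing A] [IsLocalRing A]
    [CommRing C] [IsLocalRing C] [Algebra A C] [IsLocalHom (algebraMap A C)] [Algebra.IsIntegral A C]
    [CommRing S] [IsLocalRing S] [Algebra A S] [IsLocalHom (algebraMap A S)]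

omit [IsLocalHom (algebraMap A C)] in
theorem isAlgebraic_residueField [IsLocalHom (algebraMap A C)] :
    Algebra.IsAlgebraic (ResidueField A) (ResidueField C) := by
  have : Algebra.IsIntegral (ResidueField A) (ResidueField C) := by
    constructor
    intro x
    obtain ⟨c, rfl⟩ := residue_surjective x
    have h1 : IsIntegral A c := Algebra.IsIntegral.isIntegral c
    have h2 : IsIntegral A (residue C c) := h1.map (IsScalarTower.toAlgHom A C (ResidueField C))
    exact h2.tower_top
  infer_instance

attribute [local instance] Algebra.TensorProduct.rightAlgebra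

variable [IsSepClosed (ResidueField S)] [Algebra.IsAlgebraic (ResidueField A) (ResidueField S)]
  [IsLocalRing (C ⊗[A] S)]

/-- the map to the algebraic closure attached to an embedding of the residue field of `C`. -/
noncomputable def phi (j : ResidueField S →ₐ[ResidueField A] AlgebraicClosure (ResidueField C))
    (σ : ResidueField C →ₐ[ResidueField A] AlgebraicClosure (ResidueField C)) :
    C ⊗[A] S →ₐ[A] AlgebraicClosure (ResidueField C) :=
  Algebra.TensorProduct.lift
    ((σ.restrictScalars A).comp (IsScalarTower.toAlgHom A C (ResidueField C)))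
    ((j.restrictScalars A).comp (IsScalarTower.toAlgHom A S (ResidueField S)))
    (fun _ _ => Commute.all _ _)

omit [IsSepClosed (ResidueField S)] [Algebra.IsAlgebraic (ResidueField A) (ResidueField S)]
  [IsLocalRing (C ⊗[A] S)] [Algebra.IsIntegral A C] in
theorem phi_tmul (j : ResidueField S →ₐ[ResidueField A] AlgebraicClosure (ResidueField C))
    (σ : ResidueField C →ₐ[ResidueField A] AlgebraicClosure (ResidueField C)) (c : C) (s : S) :
    phi A C S j σ (c ⊗ₜ s) = σ (residue C c) * j (residue S s) := by
  simp [phi]

omit [IsSepClosed (ResidueField S)] [Algebra.IsAlgebraic (ResidueField A) (ResidueField S)] in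
theorem phi_eq_zero_iff (j : ResidueField S →ₐ[ResidueField A] AlgebraicClosure (ResidueField C))
    (σ : ResidueField C →ₐ[ResidueField A] AlgebraicClosure (ResidueField C)) (e : C ⊗[A] S) :
    phi A C S j σ e = 0 ↔ e ∈ maximalIdeal (C ⊗[A] S) := by
  have hint : Algebra.IsIntegral S (C ⊗[A] S) := HensIntegral.isIntegral_right A C S
  let P : Ideal (C ⊗[A] S) := RingHom.ker (phi A C S j σ).toRingHom
  have hP : P.IsPrime := RingHom.ker_isPrime _
  have hcomap : P.comap (algebraMap S (C ⊗[A] S)) = maximalIdeal S := by
    ext s
    rw [Ideal.mem_comap, RingHom.mem_ker]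
    show phi A C S j σ ((1 : C) ⊗ₜ[A] s) = 0 ↔ _
    rw [phi_tmul, map_one, map_one, one_mul, map_eq_zero, residue_eq_zero_iff]
  have hmax : P.IsMaximal :=
    Ideal.isMaximal_of_isIntegral_of_isMaximal_comap P (by rw [hcomap]; infer_instance)
  have hPeq : P = maximalIdeal (C ⊗[A] S) := IsLocalRing.eq_maximalIdeal hmax
  rw [← hPeq]
  exact Iff.rfl

include S in
theorem exists_pow_sub_mem (c : C) : ∃ (n : ℕ) (a : A),
    c ^ (ringExpChar (ResidueField A)) ^ n - algebraMap A C a ∈ maximalIdeal C := by
  haveI halg : Algebra.IsAlgebraic (ResidueField A) (ResidueField C) :=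
    isAlgebraic_residueField A C
  set p := ringExpChar (ResidueField A) with hp
  haveI : ExpChar (ResidueField A) p := ringExpChar.expChar _
  let Ω := AlgebraicClosure (ResidueField C)
  let j : ResidueField S →ₐ[ResidueField A] Ω := IsAlgClosed.lift
  let ι : ResidueField C →ₐ[ResidueField A] Ω :=
    IsScalarTower.toAlgHom (ResidueField A) (ResidueField C) Ω
  obtain ⟨n, ⟨y', hy'⟩⟩ := IsPurelyInseparable.pow_mem
    (separableClosure (ResidueField A) (ResidueField C)) p (residue C c)
  have hysep : IsSeparable (ResidueField A) (residue C c ^ p ^ n) := by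
    rw [← hy']
    exact mem_separableClosure_iff.mp y'.2
  set y := residue C c ^ p ^ n with hy
  have hyint : IsIntegral (ResidueField A) (ι y) :=
    (Algebra.IsIntegral.isIntegral (R := ResidueField A) y).map ι
  have hmin : minpoly (ResidueField A) (ι y) = minpoly (ResidueField A) y :=
    minpoly.algHom_eq ι ι.injective y
  have hsplit : ((minpoly (ResidueField A) (ι y)).map
      (algebraMap (ResidueField A) (ResidueField S))).Splits := by
    rw [hmin]
    exact IsSepClosed.splits_codomain _ hysep
  obtain ⟨s', hs'⟩ := hyint.mem_range_algHom_of_minpoly_splits hsplit j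
  obtain ⟨s, rfl⟩ := residue_surjective s'
  let e : C ⊗[A] S := (c ^ p ^ n) ⊗ₜ[A] (1 : S) - (1 : C) ⊗ₜ[A] s
  have he : ∀ σ : ResidueField C →ₐ[ResidueField A] Ω,
      phi A C S j σ e = σ y - j (residue S s) := by
    intro σ
    simp only [e, map_sub, phi_tmul, map_one, mul_one, one_mul, map_pow, hy]
  have h0 : phi A C S j ι e = 0 := by
    rw [he, sub_eq_zero]
    exact hs'.symm
  have hmem : e ∈ maximalIdeal (C ⊗[A] S) := (phi_eq_zero_iff A C S j ι e).mp h0
  have hfix : ∀ σ : ResidueField C →ₐ[ResidueField A] Ω, σ y = ι y := by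
    intro σ
    have h1 := (phi_eq_zero_iff A C S j σ e).mpr hmem
    rw [he, sub_eq_zero] at h1
    rw [h1]
    exact hs'
  obtain ⟨a', ha'⟩ := mem_range_of_forall_algHom_eq Ω ι y hysep hfix
  obtain ⟨a, rfl⟩ := residue_surjective a'
  refine ⟨n, a, ?_⟩
  rw [← residue_eq_zero_iff, map_sub, map_pow, ← hy, ← ha', sub_eq_zero]
  rfl

end

end Groth.Agent.Lib.Helper87.PurelyInsepConverse
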