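import Mathlib
import Groth.Agent.Lib.Helper87.HensIntegral

set_option autoImplicit false
set_option linter.style.haveILetI false
universe u

/-!
# Tensor products with purely inseparable residue extension (helper87)

`isLocalRing_tensor`: for local rings `R → A` (integral, local map, residue field extension purely
inseparable in elementwise form) and `R → B` local, the ring `A ⊗[R] B` is local, `B → A ⊗[R] B` is
local, and the residue extension over `B` is again purely inseparable (elementwise).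
-/

namespace Groth.Agent.Lib.Helper87.PurelyInsepTensor

open IsLocalRing TensorProduct

/-- Frobenius is additive when `p = 1` or `p` is a prime that vanishes. -/
theorem add_pow_of {S : Type*} [CommRing S] (p : ℕ) (hp : p = 1 ∨ (p.Prime ∧ (p : S) = 0))
    (x y : S) (n : ℕ) : (x + y) ^ p ^ n = x ^ p ^ n + y ^ p ^ n := by
  rcases hp with rfl | ⟨hp, h0⟩
  · simp
  · rw [add_pow_prime_pow_eq hp, h0]
    ring

section

variable (R A B : Type u) [CommRing R] [IsLocalRing R]
    [CommRing A] [IsLocalRing A] [Algebra R A] [IsLocalHom (algebraMap R A)] [Algebra.IsIntegral R A]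
    [CommRing B] [IsLocalRing B] [Algebra R B] [IsLocalHom (algebraMap R B)]

omit [Algebra.IsIntegral R A] in
theorem nontrivial_tensor : Nontrivial (A ⊗[R] B) := by
  let f : A ⊗[R] B →ₐ[R] ResidueField A ⊗[R] ResidueField B :=
    Algebra.TensorProduct.map (IsScalarTower.toAlgHom R A (ResidueField A))
      (IsScalarTower.toAlgHom R B (ResidueField B))
  let g : ResidueField A ⊗[R] ResidueField B →ₐ[R]
      ResidueField A ⊗[ResidueField R] ResidueField B :=
    Algebra.TensorProduct.mapOfCompatibleSMul (ResidueField R) R R (ResidueField A)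
      (ResidueField B)
  exact (g.comp f).toRingHom.domain_nontrivial

attribute [local instance] Algebra.TensorProduct.rightAlgebra

/-- the ideal generated by both maximal ideals. -/
noncomputable def bigIdeal : Ideal (A ⊗[R] B) :=
  (maximalIdeal A).map (Algebra.TensorProduct.includeLeft : A →ₐ[R] A ⊗[R] B).toRingHom ⊔
    (maximalIdeal B).map (Algebra.TensorProduct.includeRight : B →ₐ[R] A ⊗[R] B).toRingHom

omit [IsLocalHom (algebraMap R A)] in
theorem bigIdeal_le_of_isMaximal (M : Ideal (A ⊗[R] B)) [hM : M.IsMaximal] :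
    bigIdeal R A B ≤ M := by
  have hint : Algebra.IsIntegral B (A ⊗[R] B) := HensIntegral.isIntegral_right R A B
  have h1 : (M.comap (algebraMap B (A ⊗[R] B))).IsMaximal :=
    Ideal.isMaximal_comap_of_isIntegral_of_isMaximal M
  have h1' : M.comap (algebraMap B (A ⊗[R] B)) = maximalIdeal B := IsLocalRing.eq_maximalIdeal h1
  have h2 : (M.comap (algebraMap A (A ⊗[R] B))).IsPrime := Ideal.comap_isPrime _ _
  have h3 : (M.comap (algebraMap A (A ⊗[R] B))).comap (algebraMap R A) = maximalIdeal R := by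
    ext r
    rw [Ideal.mem_comap, Ideal.mem_comap]
    have e : algebraMap A (A ⊗[R] B) (algebraMap R A r) =
        algebraMap B (A ⊗[R] B) (algebraMap R B r) := by
      show (algebraMap R A r) ⊗ₜ[R] (1 : B) = (1 : A) ⊗ₜ[R] (algebraMap R B r)
      rw [Algebra.algebraMap_eq_smul_one, Algebra.algebraMap_eq_smul_one, smul_tmul]
    rw [e, ← Ideal.mem_comap, h1']
    constructor
    · intro h
      by_contra hr
      have hu : IsUnit r := by
        by_contra hu
        exact hr hu
      exact h (hu.map (algebraMap R B))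
    · intro h hu
      exact h (isUnit_of_map_unit (algebraMap R B) r hu)
  have h4 : (M.comap (algebraMap A (A ⊗[R] B))).IsMaximal :=
    Ideal.isMaximal_of_isIntegral_of_isMaximal_comap _ (by rw [h3]; infer_instance)
  have h4' : M.comap (algebraMap A (A ⊗[R] B)) = maximalIdeal A := IsLocalRing.eq_maximalIdeal h4
  apply sup_le
  · rw [Ideal.map_le_iff_le_comap]
    intro a ha
    rw [← h4'] at ha
    exact ha
  · rw [Ideal.map_le_iff_le_comap]
    intro b hb
    rw [← h1'] at hb
    exact hb

omit [IsLocalHom (algebraMap R A)] in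
theorem bigIdeal_le_jacobson : bigIdeal R A B ≤ Ideal.jacobson ⊥ := by
  apply le_sInf
  rintro M ⟨-, hM⟩
  exact bigIdeal_le_of_isMaximal R A B M

omit [IsLocalHom (algebraMap R A)] [Algebra.IsIntegral R A] [IsLocalHom (algebraMap R B)] in
theorem tmul_mem_bigIdeal_left {a : A} (ha : a ∈ maximalIdeal A) (b : B) :
    a ⊗ₜ[R] b ∈ bigIdeal R A B := by
  have : a ⊗ₜ[R] b = (a ⊗ₜ[R] (1 : B)) * ((1 : A) ⊗ₜ[R] b) := by
    rw [Algebra.TensorProduct.tmul_mul_tmul, mul_one, one_mul]
  rw [this]
  exact Ideal.mul_mem_right _ _ (Ideal.mem_sup_left (Ideal.mem_map_of_mem _ ha))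

omit [IsLocalHom (algebraMap R A)] [Algebra.IsIntegral R A] [IsLocalHom (algebraMap R B)] in
theorem tmul_mem_bigIdeal_right (a : A) {b : B} (hb : b ∈ maximalIdeal B) :
    a ⊗ₜ[R] b ∈ bigIdeal R A B := by
  have : a ⊗ₜ[R] b = (a ⊗ₜ[R] (1 : B)) * ((1 : A) ⊗ₜ[R] b) := by
    rw [Algebra.TensorProduct.tmul_mul_tmul, mul_one, one_mul]
  rw [this]
  exact Ideal.mul_mem_left _ _ (Ideal.mem_sup_right (Ideal.mem_map_of_mem _ hb))

variable (p : ℕ) (hp : p = 1 ∨ (p.Prime ∧ (p : R) ∈ maximalIdeal R))
  (hpi : ∀ a : A, ∃ (n : ℕ) (r : R), a ^ p ^ n - algebraMap R A r ∈ maximalIdeal A)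

include hp in
omit [Algebra.IsIntegral R A] [IsLocalHom (algebraMap R B)] in
theorem natCast_mk_eq_zero :
    p = 1 ∨ (p.Prime ∧ (p : (A ⊗[R] B) ⧸ bigIdeal R A B) = 0) := by
  rcases hp with h | ⟨h1, h2⟩
  · exact Or.inl h
  · refine Or.inr ⟨h1, ?_⟩
    have e : (p : (A ⊗[R] B) ⧸ bigIdeal R A B) =
        Ideal.Quotient.mk (bigIdeal R A B) ((algebraMap R A (p : R)) ⊗ₜ[R] (1 : B)) := by
      rw [map_natCast, ← Algebra.TensorProduct.natCast_def, map_natCast]
    rw [e, Ideal.Quotient.eq_zero_iff_mem]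
    apply tmul_mem_bigIdeal_left
    by_contra hu
    have hu' : IsUnit (algebraMap R A (p : R)) := by
      by_contra hu'
      exact hu hu'
    exact h2 (isUnit_of_map_unit (algebraMap R A) _ hu')

include hp hpi in
omit [Algebra.IsIntegral R A] [IsLocalHom (algebraMap R B)] in
theorem exists_pow_eq (x : A ⊗[R] B) : ∃ (n : ℕ) (b : B),
    Ideal.Quotient.mk (bigIdeal R A B) x ^ p ^ n =
      Ideal.Quotient.mk (bigIdeal R A B) ((1 : A) ⊗ₜ[R] b) := by
  have hp' := natCast_mk_eq_zero R A B p hp
  induction x with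
  | zero => exact ⟨0, 0, by simp⟩
  | tmul a b =>
    obtain ⟨n, r, hr⟩ := hpi a
    refine ⟨n, r • b ^ p ^ n, ?_⟩
    rw [← map_pow, Ideal.Quotient.eq, Algebra.TensorProduct.tmul_pow, ← smul_tmul,
      Algebra.smul_def, mul_one, ← sub_tmul]
    exact tmul_mem_bigIdeal_left R A B hr _
  | add x y hx hy =>
    obtain ⟨n, b, hb⟩ := hx
    obtain ⟨m, c, hc⟩ := hy
    refine ⟨n + m, b ^ p ^ m + c ^ p ^ n, ?_⟩
    rw [map_add, add_pow_of p hp', pow_add, pow_mul, hb, mul_comm, pow_mul, hc, tmul_add,
      map_add, ← map_pow, ← map_pow, Algebra.TensorProduct.tmul_pow, one_pow,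
      Algebra.TensorProduct.tmul_pow, one_pow]

include hp hpi in
theorem isLocalRing_tensor :
    ∃ _ : IsLocalRing (A ⊗[R] B),
      IsLocalHom (Algebra.TensorProduct.includeRight : B →ₐ[R] A ⊗[R] B).toRingHom ∧
      ∀ x : A ⊗[R] B, ∃ (n : ℕ) (b : B),
        x ^ p ^ n - (1 : A) ⊗ₜ[R] b ∈ IsLocalRing.maximalIdeal (A ⊗[R] B) := by
  haveI hnt : Nontrivial (A ⊗[R] B) := nontrivial_tensor R A B
  have hjac := bigIdeal_le_jacobson R A B
  have hp0 : p ≠ 0 := by
    rcases hp with h | ⟨h, -⟩
    · rw [h]; exact one_ne_zero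
    · exact h.ne_zero
  have key : ∀ x : A ⊗[R] B, IsUnit x ∨ x ∈ Ideal.jacobson (⊥ : Ideal (A ⊗[R] B)) := by
    intro x
    obtain ⟨n, b, hb⟩ := exists_pow_eq R A B p hp hpi x
    rw [← map_pow, Ideal.Quotient.eq] at hb
    by_cases hbu : IsUnit b
    · left
      have h1 : IsUnit ((1 : A) ⊗ₜ[R] b) := hbu.map (algebraMap B (A ⊗[R] B))
      have h2 := hjac hb
      obtain ⟨u, hu⟩ := h1
      have h3 := (Ideal.mem_jacobson_bot.mp h2) (↑u⁻¹)
      have h4 : IsUnit (x ^ p ^ n) := by
        have e : x ^ p ^ n = ((x ^ p ^ n - (1 : A) ⊗ₜ[R] b) * ↑u⁻¹ + 1) * ↑u := by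
          rw [add_mul, mul_assoc, Units.inv_mul, mul_one, one_mul, hu, sub_add_cancel]
        rw [e]
        exact h3.mul u.isUnit
      exact (isUnit_pow_iff (pow_ne_zero n hp0)).mp h4
    · right
      have h1 : (1 : A) ⊗ₜ[R] b ∈ bigIdeal R A B := tmul_mem_bigIdeal_right R A B 1 hbu
      have h2 : x ^ p ^ n ∈ bigIdeal R A B := by
        have := Ideal.add_mem _ hb h1
        rwa [sub_add_cancel] at this
      apply Ideal.mem_sInf.mpr
      rintro M ⟨-, hM⟩
      haveI := hM
      exact hM.isPrime.mem_of_pow_mem _ (bigIdeal_le_of_isMaximal R A B M h2)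
  have hloc : IsLocalRing (A ⊗[R] B) := by
    apply IsLocalRing.of_isUnit_or_isUnit_one_sub_self
    intro x
    rcases key x with h | h
    · exact Or.inl h
    · right
      have := (Ideal.mem_jacobson_bot.mp h) (-1)
      rwa [mul_neg, mul_one, neg_add_eq_sub] at this
  have hle : bigIdeal R A B ≤ maximalIdeal (A ⊗[R] B) := by
    intro x hx
    exact bigIdeal_le_of_isMaximal R A B (maximalIdeal (A ⊗[R] B)) hx
  refine ⟨hloc, ⟨fun b hb => ?_⟩, fun x => ?_⟩
  · by_contra hbu
    exact hle (tmul_mem_bigIdeal_right R A B 1 hbu) hb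
  · obtain ⟨n, b, hb⟩ := exists_pow_eq R A B p hp hpi x
    rw [← map_pow, Ideal.Quotient.eq] at hb
    exact ⟨n, b, hle hb⟩

end

/-- the characteristic exponent of the residue field, as needed by `isLocalRing_tensor`. -/
theorem ringExpChar_residueField_spec (R : Type*) [CommRing R] [IsLocalRing R] :
    ringExpChar (ResidueField R) = 1 ∨ ((ringExpChar (ResidueField R)).Prime ∧
      ((ringExpChar (ResidueField R) : ℕ) : R) ∈ maximalIdeal R) := by
  have h := ringExpChar.expChar (ResidueField R)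
  generalize ringExpChar (ResidueField R) = p at h
  cases h with
  | zero => exact Or.inl rfl
  | prime hp =>
    refine Or.inr ⟨hp, ?_⟩
    rw [← IsLocalRing.residue_eq_zero_iff, map_natCast]
    exact CharP.cast_eq_zero _ _

theorem ringExpChar_residueField_eq (R B : Type*) [CommRing R] [IsLocalRing R] [CommRing B]
    [IsLocalRing B] [Algebra R B] [IsLocalHom (algebraMap R B)] :
    ringExpChar (ResidueField B) = ringExpChar (ResidueField R) := by
  haveI := ringExpChar.expChar (ResidueField R)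
  haveI : ExpChar (ResidueField B) (ringExpChar (ResidueField R)) :=
    expChar_of_injective_ringHom (algebraMap (ResidueField R) (ResidueField B)).injective _
  exact ringExpChar.eq (ResidueField B) _

theorem isLocalRing_tensor_of_isPurelyInseparable
    (R A B : Type u) [CommRing R] [IsLocalRing R]
    [CommRing A] [IsLocalRing A] [Algebra R A] [IsLocalHom (algebraMap R A)] [Algebra.IsIntegral R A]
    [IsPurelyInseparable (ResidueField R) (ResidueField A)]
    [CommRing B] [IsLocalRing B] [Algebra R B] [IsLocalHom (algebraMap R B)] :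
    ∃ _ : IsLocalRing (A ⊗[R] B),
      IsLocalHom (Algebra.TensorProduct.includeRight : B →ₐ[R] A ⊗[R] B).toRingHom ∧
      ∀ x : A ⊗[R] B, ∃ (n : ℕ) (b : B),
        x ^ (ringExpChar (ResidueField B)) ^ n - (1 : A) ⊗ₜ[R] b ∈
          IsLocalRing.maximalIdeal (A ⊗[R] B) := by
  rw [ringExpChar_residueField_eq R B]
  apply isLocalRing_tensor R A B _ (ringExpChar_residueField_spec R)
  intro a
  haveI := ringExpChar.expChar (ResidueField R)
  obtain ⟨n, r, hr⟩ := IsPurelyInseparable.pow_mem (ResidueField R)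
    (ringExpChar (ResidueField R)) (residue A a)
  obtain ⟨r, rfl⟩ := residue_surjective r
  refine ⟨n, r, ?_⟩
  rw [← IsLocalRing.residue_eq_zero_iff, map_sub, map_pow, ← hr, sub_eq_zero]
  rfl

end Groth.Agent.Lib.Helper87.PurelyInsepTensor
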