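import Mathlib
import Groth.Prelude.Def_Hensel
import Groth.Agent.Lib.Helper87.HensProps
import Groth.Agent.S0499

set_option autoImplicit false
universe u

/-!
# Auxiliary lemmas for unibranch local rings (helper87)

* `isDomain_tensor_subalgebra`: for a domain `R` with fraction field `K`, a flat `A`-algebra `Ah`
  with `Ah ⊗[A] R` a domain, and a subalgebra `C ⊆ K` finitely generated as an `R`-module,
  `Ah ⊗[A] C` is a domain.
* `isLocalRing_of_isDomain_tensor`: a finite algebra `C` over a local ring `A` with henselization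
  `Ah` such that `Ah ⊗[A] C` is a domain is a local ring.
-/

namespace Groth.Agent.Lib.Helper87.Unibranch

open IsLocalRing TensorProduct Groth.Agent.Lib.Helper87.Hens

section Domain

variable {A R K Ah : Type*} [CommRing A] [CommRing R] [IsDomain R] [Field K] [Algebra R K]
  [IsFractionRing R K] [Algebra A R] [Algebra A K] [IsScalarTower A R K]
  [CommRing Ah] [Algebra A Ah] [Module.Flat A Ah]

theorem exists_denominator (C : Subalgebra R K) (hC : C.toSubmodule.FG) :
    ∃ d : R, d ≠ 0 ∧ ∀ c ∈ C, ∃ r : R, algebraMap R K r = d • c := by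
  classical
  obtain ⟨s, hs⟩ := hC
  obtain ⟨b, hb⟩ := IsLocalization.exist_integer_multiples_of_finset (nonZeroDivisors R) s
  refine ⟨b, nonZeroDivisors.ne_zero b.2, ?_⟩
  intro c hc
  have hc' : c ∈ Submodule.span R (s : Set K) := by rw [hs]; exact hc
  clear hc
  induction hc' using Submodule.span_induction with
  | mem x hx => exact hb x hx
  | zero => exact ⟨0, by simp⟩
  | add x y _ _ hx hy =>
    obtain ⟨r₁, h₁⟩ := hx
    obtain ⟨r₂, h₂⟩ := hy
    exact ⟨r₁ + r₂, by rw [map_add, h₁, h₂, smul_add]⟩
  | smul a x _ hx =>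
    obtain ⟨r, h⟩ := hx
    exact ⟨a * r, by rw [map_mul, h, smul_comm, Algebra.smul_def a]⟩

theorem isDomain_tensor_subalgebra (C : Subalgebra R K) (hC : C.toSubmodule.FG)
    [IsDomain (Ah ⊗[A] R)] : IsDomain (Ah ⊗[A] C) := by
  obtain ⟨d, hd, hdC⟩ := exists_denominator C hC
  choose δf hδf using fun c : C => hdC c.1 c.2
  have hKinj : Function.Injective (algebraMap R K) := IsFractionRing.injective R K
  let δ : C →ₗ[A] R :=
    { toFun := δf
      map_add' := fun x y => hKinj (by
        rw [map_add, hδf, hδf, hδf]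
        show d • ((x : K) + (y : K)) = _
        rw [smul_add])
      map_smul' := fun a x => hKinj (by
        simp only [RingHom.id_apply]
        have e1 : algebraMap R K (a • δf x) = a • algebraMap R K (δf x) := by
          rw [Algebra.smul_def, map_mul, ← IsScalarTower.algebraMap_apply, ← Algebra.smul_def]
        rw [hδf, e1, hδf]
        show d • (a • (x : K)) = a • (d • (x : K))
        rw [smul_comm]) }
  have hδ : ∀ c, algebraMap R K (δ c) = d • (c : K) := hδf
  have hδinj : Function.Injective δ := by
    intro x y hxy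
    have h1 : d • (x : K) = d • (y : K) := by rw [← hδ, ← hδ, hxy]
    rw [Algebra.smul_def, Algebra.smul_def] at h1
    have hd' : algebraMap R K d ≠ 0 := fun h => hd (hKinj (by rw [h, map_zero]))
    exact Subtype.ext (mul_left_cancel₀ hd' h1)
  let ι : R →ₐ[A] C := IsScalarTower.toAlgHom A R C
  have hιinj : Function.Injective ι := by
    intro x y hxy
    apply hKinj
    exact congrArg (fun z : C => (z : K)) hxy
  have hιδ : ∀ c : C, ι (δ c) = algebraMap R C d * c := by
    intro c
    apply Subtype.ext
    show algebraMap R K (δ c) = algebraMap R K d * (c : K)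
    rw [hδ, Algebra.smul_def]
  let δ' : Ah ⊗[A] C →ₗ[A] Ah ⊗[A] R := LinearMap.lTensor Ah δ
  have hδ'inj : Function.Injective δ' :=
    Module.Flat.lTensor_preserves_injective_linearMap δ hδinj
  let ι' : Ah ⊗[A] R →ₐ[A] Ah ⊗[A] C := Algebra.TensorProduct.map (AlgHom.id A Ah) ι
  have hι'inj : Function.Injective ι' := by
    have h1 : Function.Injective (LinearMap.lTensor Ah ι.toLinearMap) :=
      Module.Flat.lTensor_preserves_injective_linearMap _ hιinj
    have h2 : ∀ x, ι' x = LinearMap.lTensor Ah ι.toLinearMap x := by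
      intro x
      induction x with
      | zero => simp
      | tmul a b => simp [ι']
      | add x y hx hy => simp only [map_add, hx, hy]
    intro x y hxy
    apply h1
    rw [← h2, ← h2, hxy]
  have hkey : ∀ u : Ah ⊗[A] C, ι' (δ' u) = ((1 : Ah) ⊗ₜ[A] (algebraMap R C d)) * u := by
    intro u
    induction u with
    | zero => simp
    | tmul a c =>
      show ι' (a ⊗ₜ δ c) = _
      rw [Algebra.TensorProduct.map_tmul, Algebra.TensorProduct.tmul_mul_tmul, one_mul, hιδ]
      rfl
    | add x y hx hy => simp only [map_add, hx, hy, mul_add]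
  have hnt : Nontrivial (Ah ⊗[A] C) := hι'inj.nontrivial
  have hnzd : NoZeroDivisors (Ah ⊗[A] C) := by
    constructor
    intro u v huv
    have h1 : ι' (δ' u * δ' v) = 0 := by
      rw [map_mul, hkey, hkey]
      have : ((1 : Ah) ⊗ₜ[A] (algebraMap R C d)) * u * (((1 : Ah) ⊗ₜ[A] (algebraMap R C d)) * v)
          = ((1 : Ah) ⊗ₜ[A] (algebraMap R C d)) * ((1 : Ah) ⊗ₜ[A] (algebraMap R C d)) * (u * v) := by
        ring
      rw [this, huv, mul_zero]
    have h2 : δ' u * δ' v = 0 := hι'inj (by rw [h1, map_zero])
    rcases mul_eq_zero.mp h2 with h | h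
    · left; exact hδ'inj (by rw [h, map_zero])
    · right; exact hδ'inj (by rw [h, map_zero])
  exact NoZeroDivisors.to_isDomain _

end Domain

section Local

variable (A : Type u) [CommRing A] [IsLocalRing A] (Ah : Type u) [CommRing Ah] [IsLocalRing Ah]
  [Algebra A Ah] [IsLocalHom (algebraMap A Ah)] [Hensel.IsHenselization A Ah]

/-- a product of local rings which is a domain is local. -/
theorem isLocalRing_of_pi_isDomain {ι : Type*} [Fintype ι] (B : ι → Type*) [∀ i, CommRing (B i)]
    [∀ i, IsLocalRing (B i)] [IsDomain (∀ i, B i)] : IsLocalRing (∀ i, B i) := by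
  classical
  have hne : Nonempty ι := by
    by_contra h
    rw [not_nonempty_iff] at h
    exact zero_ne_one (α := ∀ i, B i) (Subsingleton.elim _ _)
  have hsub : Subsingleton ι := by
    constructor
    intro i j
    by_contra hij
    have h0 : (Pi.single i (1 : B i) : ∀ i, B i) * Pi.single j (1 : B j) = 0 := by
      ext k
      by_cases hk : k = i
      · subst hk
        simp [Pi.single_eq_of_ne hij]
      · simp [Pi.single_eq_of_ne hk]
    rcases mul_eq_zero.mp h0 with h | h
    · have := congrFun h i
      simp at this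
    · have := congrFun h j
      simp at this
  obtain ⟨i₀⟩ := hne
  haveI : Unique ι := { default := i₀, uniq := fun i => Subsingleton.elim _ _ }
  exact RingEquiv.isLocalRing (RingEquiv.piUnique B).symm

theorem isLocalRing_of_isDomain_tensor (C : Type u) [CommRing C] [Algebra A C] [Module.Finite A C]
    [IsDomain (Ah ⊗[A] C)] : IsLocalRing C := by
  have hAh : HenselianLocalRing Ah := Hensel.IsHenselization.henselian A
  obtain ⟨ι, _, B, _, hB, ⟨e⟩⟩ := Groth.Agent.S0499.result Ah (Ah ⊗[A] C)
  haveI := hB
  haveI : IsDomain (∀ i, B i) := e.symm.injective.isDomain e.symm.toRingHom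
  haveI hloc : IsLocalRing (∀ i, B i) := isLocalRing_of_pi_isDomain B
  haveI hloc1 : IsLocalRing (Ah ⊗[A] C) := RingEquiv.isLocalRing e.symm
  haveI hloc2 : IsLocalRing (C ⊗[A] Ah) :=
    RingEquiv.isLocalRing (Algebra.TensorProduct.comm A Ah C).toRingEquiv
  haveI hff : Module.FaithfullyFlat A Ah := faithfullyFlat_of_isHenselization A Ah
  haveI : Module.FaithfullyFlat C (C ⊗[A] Ah) := inferInstance
  exact Module.FaithfullyFlat.isLocalRing (A := C) (B := C ⊗[A] Ah)

end Local

end Groth.Agent.Lib.Helper87.Unibranch
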