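import Mathlib
import Groth.Agent.Lib.Helper87.HensMain
import Groth.Agent.Lib.Helper25.SmoothReduced

set_option autoImplicit false
universe u

namespace Groth.Agent.Lib.Helper87.Hens

open IsLocalRing TensorProduct Polynomial

section Reduced

variable {R : Type u} [CommRing R] {Ω : Type u} [Field Ω] [Algebra R Ω]

instance Idx.isReduced_A [IsReduced R] (i : Idx R Ω) : IsReduced i.A :=
  Groth.Agent.Lib.Helper25.isReduced_of_smooth R i.A

theorem H.isReduced [IsReduced R] : IsReduced (H R Ω) := by
  constructor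
  rintro x ⟨n, hn⟩
  obtain ⟨i, y, rfl⟩ := H.exists_of x
  have h0 : H.of i (y ^ n) = H.of i 0 := by rw [map_pow, hn, map_zero]
  obtain ⟨k, hik, hik', hk⟩ := (H.of_eq_of_iff _ _).mp h0
  rw [map_zero, map_pow] at hk
  have : tr i k hik y = 0 := IsReduced.eq_zero _ ⟨n, hk⟩
  rw [← H.of_tr i k hik, this, map_zero]

end Reduced

end Groth.Agent.Lib.Helper87.Hens
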