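import Mathlib
import Groth.Agent.Lib.Helper87.NoethColim
import Groth.Agent.Lib.Helper87.HensStrictProps

set_option autoImplicit false
universe u

/-!
# The local ring `H R Ω` is Noetherian when `R` is (in particular the strict henselization)
-/

namespace Groth.Agent.Lib.Helper87.Hens

open IsLocalRing

variable {R : Type u} [CommRing R] {Ω : Type u} [Field Ω] [Algebra R Ω]

lemma H.isColim : NoethColim.IsColim (fun i : Idx R Ω => i.L)
    (fun i j h => (tr i j h).toRingHom) (H R Ω) (fun i => (H.of i).toRingHom) where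
  comp i j k hij hjk x :=
    DirectedSystem.map_map (f := fun (i j : Idx R Ω) (h : i ≤ j) => ⇑(tr i j h)) hij hjk x
  of_f i j h x := H.of_tr i j h x
  surj a := H.exists_of a
  ker i x hx := by
    have h0 : H.of i x = H.of i 0 := by
      rw [map_zero]
      exact hx
    obtain ⟨k, hik, hik', hk⟩ := (H.of_eq_of_iff x (0 : i.L)).mp h0
    refine ⟨k, hik, ?_⟩
    rw [map_zero] at hk
    exact hk

lemma isLocalHom_tr (i j : Idx R Ω) (h : i ≤ j) : IsLocalHom (tr i j h).toRingHom := by
  constructor
  intro x hx
  have hx' : IsUnit (tr i j h x) := hx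
  rw [Loc.isUnit_iff, ε_tr] at hx'
  exact (Loc.isUnit_iff _ _).mpr hx'

lemma flat_tr (i j : Idx R Ω) (h : i ≤ j) : (tr i j h).toRingHom.Flat := by
  letI : Algebra i.L j.L := (tr i j h).toRingHom.toAlgebra
  haveI : IsScalarTower R i.L j.L :=
    IsScalarTower.of_algebraMap_eq (fun r => ((tr i j h).commutes r).symm)
  show Module.Flat i.L j.L
  exact Groth.Agent.Lib.Helper87.flat_of_unramified_of_flat (R := R)

variable [IsLocalRing R] [IsLocalHom (algebraMap R Ω)]

lemma map_maximalIdeal_tr (i j : Idx R Ω) (h : i ≤ j) :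
    (maximalIdeal i.L).map (tr i j h).toRingHom = maximalIdeal j.L := by
  rw [← Loc.map_maximalIdeal (φ := i.pt), Ideal.map_map, ← Loc.map_maximalIdeal (φ := j.pt)]
  congr 1
  ext r
  exact (tr i j h).commutes r

theorem H.isNoetherianRing [IsNoetherianRing R] : IsNoetherianRing (H R Ω) := by
  haveI : ∀ i : Idx R Ω, IsNoetherianRing i.L := fun i => by
    haveI : IsNoetherianRing i.A := Algebra.FiniteType.isNoetherianRing R i.A
    exact IsLocalization.isNoetherianRing (RingHom.ker i.pt).primeCompl i.L inferInstance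
  exact H.isColim.isNoetherianRing isLocalHom_tr map_maximalIdeal_tr flat_tr

end Groth.Agent.Lib.Helper87.Hens
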