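import Mathlib
import Groth.Agent.Lib.Helper87.EtaleNormal
import Groth.Agent.Lib.Helper87.HensNoethStrict

set_option autoImplicit false
universe u

/-!
# The local ring `H R Ω` over a normal domain is a normal domain; descent of normality
-/

namespace Groth.Agent.Lib.Helper87.Hens

open IsLocalRing NormalDvd

variable {R : Type u} [CommRing R] {Ω : Type u} [Field Ω] [Algebra R Ω]

theorem H.isDomain [IsDomain R] [IsIntegrallyClosed R] : IsDomain (H R Ω) :=
  haveI : ∀ i : Idx R Ω, IsDomain i.L := fun i =>
    EtNormal.isDomain_localization R (RingHom.ker i.pt)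
  isDomain_of_isColim H.isColim

theorem H.dvdCond [IsDomain R] [IsIntegrallyClosed R] : DvdCond (H R Ω) :=
  dvdCond_of_isColim H.isColim (fun i => EtNormal.dvdCond_localization R (RingHom.ker i.pt))

theorem H.isIntegrallyClosed [IsDomain R] [IsIntegrallyClosed R] [IsDomain (H R Ω)] :
    IsIntegrallyClosed (H R Ω) :=
  isIntegrallyClosed_of_dvdCond _ H.dvdCond

end Groth.Agent.Lib.Helper87.Hens

namespace Groth.Agent.Lib.Helper87.NormalDvd

/-- normality descends along faithfully flat maps. -/
theorem isDomain_and_isIntegrallyClosed_of_faithfullyFlat (A B : Type*) [CommRing A] [CommRing B]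
    [Algebra A B] [Module.FaithfullyFlat A B] [IsDomain B] [IsIntegrallyClosed B] :
    IsDomain A ∧ IsIntegrallyClosed A := by
  have hinj : Function.Injective (algebraMap A B) := FaithfulSMul.algebraMap_injective A B
  haveI : IsDomain A := hinj.isDomain _
  exact ⟨inferInstance, isIntegrallyClosed_of_dvdCond A
    (dvdCond_of_faithfullyFlat A B (dvdCond_of_isIntegrallyClosed B))⟩

/-- normality is invariant under ring isomorphisms. -/
theorem isDomain_and_isIntegrallyClosed_of_ringEquiv {A B : Type*} [CommRing A] [CommRing B]
    (e : A ≃+* B) [IsDomain A] [IsIntegrallyClosed A] : IsDomain B ∧ IsIntegrallyClosed B := by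
  haveI : IsDomain B := e.symm.injective.isDomain _
  exact ⟨inferInstance, IsIntegrallyClosed.of_equiv e⟩

end Groth.Agent.Lib.Helper87.NormalDvd
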