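import Mathlib
import Groth.Prelude.Def_Hensel
import Groth.Prelude.Def_CAlg2
import Groth.Prelude.Def_CAlgX
import Groth.Agent.Lib.Helper87.Unibranch1
import Groth.Agent.Lib.Helper87.HensIntegral
import Groth.Agent.Lib.Helper9.HenselSplit
import Groth.Agent.S0514
import Groth.Agent.S0515

set_option autoImplicit false
set_option linter.style.haveILetI false
universe u

/-!
# Unibranch local rings and the henselization (helper87)

`isUnibranch_iff A Ah`: a local ring `A` with henselization `Ah` is unibranch iff `Ah` has a unique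
minimal prime.  `reduced_isUnibranch_iff A Ah`: `A` is reduced and unibranch iff `Ah` is a domain.
-/

open IsLocalRing TensorProduct

namespace Groth.Agent.Lib.Helper87.Unibranch

section General

variable (A : Type u) [CommRing A]

instance isReduced_red : IsReduced (CAlg2.red A) :=
  (Ideal.isRadical_iff_quotient_reduced _).mp (Ideal.radical_isRadical _)

theorem isIntegrallyClosed_normRed [IsDomain (CAlg2.red A)] :
    IsIntegrallyClosed (CAlg2.normRed A) :=
  integralClosure.isIntegrallyClosedOfFiniteExtension (R := CAlg2.red A)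
    (FractionRing (CAlg2.red A)) (L := FractionRing (CAlg2.red A))

instance finite_red : Module.Finite A (CAlg2.red A) :=
  Module.Finite.of_surjective (Algebra.linearMap A (CAlg2.red A)) Ideal.Quotient.mk_surjective

instance isIntegral_red : Algebra.IsIntegral A (CAlg2.red A) := inferInstance

instance isIntegral_normRed : Algebra.IsIntegral A (CAlg2.normRed A) :=
  Algebra.IsIntegral.trans (R := A) (CAlg2.red A) (B := CAlg2.normRed A)

/-- a prime ideal contained in the nilradical is the unique minimal prime. -/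
theorem existsUnique_minimalPrimes_of_le_nilradical {T : Type*} [CommRing T] (J : Ideal T)
    [hJp : J.IsPrime] (hJ : J ≤ nilradical T) : ∃! p, p ∈ minimalPrimes T := by
  refine ⟨J, ?_, ?_⟩
  · refine ⟨⟨hJp, bot_le⟩, fun q hq _ => ?_⟩
    haveI := hq.1
    exact hJ.trans (nilradical_le_prime q)
  · intro q hq
    haveI := hq.1.1
    have h1 : J ≤ q := hJ.trans (nilradical_le_prime q)
    exact le_antisymm (hq.2 ⟨hJp, bot_le⟩ h1) h1

theorem nilradical_eq_of_unique {T : Type*} [CommRing T] (P : Ideal T) (hP : P ∈ minimalPrimes T)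
    (hPu : ∀ q, q ∈ minimalPrimes T → q = P) : nilradical T = P := by
  have h1 : sInf (minimalPrimes T) = nilradical T := by
    show sInf (⊥ : Ideal T).minimalPrimes = _
    rw [Ideal.sInf_minimalPrimes]
    rfl
  have hset : minimalPrimes T = {P} := Set.eq_singleton_iff_unique_mem.mpr ⟨hP, hPu⟩
  rw [← h1, hset, sInf_singleton]

end General

section Main

variable (A Ah : Type u) [CommRing A] [IsLocalRing A] [CommRing Ah] [IsLocalRing Ah] [Algebra A Ah]
  [IsLocalHom (algebraMap A Ah)] [Hensel.IsHenselization A Ah]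

theorem map_nilradical_le : (nilradical A).map (algebraMap A Ah) ≤ nilradical Ah := by
  rw [Ideal.map_le_iff_le_comap]
  intro x hx
  exact (mem_nilradical.mp hx).map _

theorem hasUniqueMinimalPrime_of_isUnibranch (h : CAlg2.IsUnibranch A) :
    CAlgX.HasUniqueMinimalPrime Ah := by
  obtain ⟨hd, hl⟩ := h
  haveI := hd
  haveI := hl
  haveI : IsIntegrallyClosed (CAlg2.normRed A) := isIntegrallyClosed_normRed A
  haveI : IsLocalHom (algebraMap A (CAlg2.normRed A)) :=
    Groth.Agent.Lib.Helper9.isLocalHom_of_isIntegral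
  obtain ⟨hloc, hlh, hH⟩ := HensIntegral.isHenselization_tensor A (CAlg2.normRed A) Ah
  haveI := hloc
  haveI := hlh
  haveI := hH
  haveI hdom : IsDomain (CAlg2.normRed A ⊗[A] Ah) :=
    ((Groth.Agent.S0515.result (CAlg2.normRed A) (CAlg2.normRed A ⊗[A] Ah)).mp
      ⟨inferInstance, inferInstance⟩).1
  haveI hfl : Module.Flat A Ah := Hens.flat_of_isHenselization A Ah
  let φ : CAlg2.red A ⊗[A] Ah →ₐ[A] CAlg2.normRed A ⊗[A] Ah :=
    Algebra.TensorProduct.map (IsScalarTower.toAlgHom A (CAlg2.red A) (CAlg2.normRed A))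
      (AlgHom.id A Ah)
  have hφ : Function.Injective φ := by
    have hinj : Function.Injective (IsScalarTower.toAlgHom A (CAlg2.red A) (CAlg2.normRed A)) := by
      intro x y hxy
      have := congrArg (fun z : CAlg2.normRed A => (z : FractionRing (CAlg2.red A))) hxy
      exact IsFractionRing.injective (CAlg2.red A) (FractionRing (CAlg2.red A)) this
    have h1 := Module.Flat.rTensor_preserves_injective_linearMap (M := Ah)
      (IsScalarTower.toAlgHom A (CAlg2.red A) (CAlg2.normRed A)).toLinearMap hinj
    have h2 : ∀ x, φ x = LinearMap.rTensor Ah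
        (IsScalarTower.toAlgHom A (CAlg2.red A) (CAlg2.normRed A)).toLinearMap x := by
      intro x
      induction x with
      | zero => simp
      | tmul a b => simp [φ]
      | add x y hx hy => simp only [map_add, hx, hy]
    intro x y hxy
    apply h1
    rw [← h2, ← h2, hxy]
  haveI hdom2 : IsDomain (CAlg2.red A ⊗[A] Ah) := hφ.isDomain φ
  let e := Algebra.TensorProduct.quotIdealMapEquivQuotTensor Ah (nilradical A)
  haveI hdom3 : IsDomain (Ah ⧸ (nilradical A).map (algebraMap A Ah)) :=
    e.injective.isDomain e.toRingEquiv.toRingHom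
  haveI hprime : ((nilradical A).map (algebraMap A Ah)).IsPrime :=
    (Ideal.Quotient.isDomain_iff_prime _).mp hdom3
  exact existsUnique_minimalPrimes_of_le_nilradical _ (map_nilradical_le A Ah)

theorem isUnibranch_of_hasUniqueMinimalPrime (h : CAlgX.HasUniqueMinimalPrime Ah) :
    CAlg2.IsUnibranch A := by
  obtain ⟨P, hP, hPu⟩ := h
  have hnil : nilradical Ah = P := nilradical_eq_of_unique P hP hPu
  haveI hPprime : P.IsPrime := hP.1.1
  haveI hff : Module.FaithfullyFlat A Ah := Hens.faithfullyFlat_of_isHenselization A Ah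
  have hinj : Function.Injective (algebraMap A Ah) := FaithfulSMul.algebraMap_injective A Ah
  have hcomap : nilradical A = P.comap (algebraMap A Ah) := by
    ext x
    rw [Ideal.mem_comap, ← hnil, mem_nilradical, mem_nilradical]
    exact (IsNilpotent.map_iff hinj).symm
  haveI hprime : (nilradical A).IsPrime := by
    rw [hcomap]
    exact Ideal.comap_isPrime _ _
  haveI hRdom : IsDomain (CAlg2.red A) := Ideal.Quotient.isDomain _
  haveI hRloc : IsLocalRing (CAlg2.red A) :=
    IsLocalRing.of_surjective' (Ideal.Quotient.mk (nilradical A)) Ideal.Quotient.mk_surjective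
  haveI : IsLocalHom (algebraMap A (CAlg2.red A)) :=
    Groth.Agent.Lib.Helper9.isLocalHom_of_isIntegral
  obtain ⟨hloc, hlh, hH⟩ := HensIntegral.isHenselization_tensor A (CAlg2.red A) Ah
  haveI := hloc
  haveI := hlh
  haveI := hH
  haveI hred : IsReduced (CAlg2.red A ⊗[A] Ah) :=
    (Groth.Agent.S0514.result (CAlg2.red A) (CAlg2.red A ⊗[A] Ah)).mp inferInstance
  let e := Algebra.TensorProduct.quotIdealMapEquivQuotTensor Ah (nilradical A)
  haveI hred2 : IsReduced (Ah ⧸ (nilradical A).map (algebraMap A Ah)) :=
    isReduced_of_injective e.toRingEquiv.toRingHom e.injective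
  have hrad : ((nilradical A).map (algebraMap A Ah)).IsRadical :=
    (Ideal.isRadical_iff_quotient_reduced _).mpr hred2
  have hJ : (nilradical A).map (algebraMap A Ah) = P := by
    apply le_antisymm
    · rw [← hnil]
      exact map_nilradical_le A Ah
    · rw [← hnil]
      intro x hx
      exact hrad (by
        obtain ⟨n, hn⟩ := mem_nilradical.mp hx
        exact ⟨n, by rw [hn]; exact Ideal.zero_mem _⟩)
  haveI hJprime : ((nilradical A).map (algebraMap A Ah)).IsPrime := by
    rw [hJ]
    exact hPprime
  haveI hdom3 : IsDomain (Ah ⧸ (nilradical A).map (algebraMap A Ah)) :=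
    Ideal.Quotient.isDomain _
  let e' := Algebra.TensorProduct.quotIdealMapEquivTensorQuot Ah (nilradical A)
  haveI hdom4 : IsDomain (Ah ⊗[A] CAlg2.red A) :=
    e'.symm.injective.isDomain e'.symm.toRingEquiv.toRingHom
  haveI hfl : Module.Flat A Ah := inferInstance
  refine ⟨hRdom, ?_⟩
  refine IsLocalRing.of_isUnit_or_isUnit_one_sub_self ?_
  intro t
  let C : Subalgebra (CAlg2.red A) (FractionRing (CAlg2.red A)) :=
    Algebra.adjoin (CAlg2.red A) {(t : FractionRing (CAlg2.red A))}
  have hC : C.toSubmodule.FG := IsIntegral.fg_adjoin_singleton t.2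
  haveI hdomC : IsDomain (Ah ⊗[A] C) :=
    isDomain_tensor_subalgebra (A := A) (R := CAlg2.red A) (K := FractionRing (CAlg2.red A))
      (Ah := Ah) C hC
  haveI hfinRC0 : Module.Finite (CAlg2.red A) (Subalgebra.toSubmodule C) :=
    Module.Finite.iff_fg.mpr hC
  haveI hfinRC : Module.Finite (CAlg2.red A) C :=
    Module.Finite.equiv (Subalgebra.toSubmoduleEquiv C)
  haveI hfinC : Module.Finite A C := Module.Finite.trans (CAlg2.red A) C
  haveI hlocC : IsLocalRing C := isLocalRing_of_isDomain_tensor A Ah C
  have hle : C ≤ integralClosure (CAlg2.red A) (FractionRing (CAlg2.red A)) := by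
    apply Algebra.adjoin_le
    intro x hx
    rw [Set.mem_singleton_iff] at hx
    rw [hx]
    exact t.2
  let tC : C := ⟨(t : FractionRing (CAlg2.red A)), Algebra.subset_adjoin (Set.mem_singleton _)⟩
  have ht : Subalgebra.inclusion hle tC = t := Subtype.ext rfl
  rcases IsLocalRing.isUnit_or_isUnit_one_sub_self tC with h | h
  · left
    rw [← ht]
    exact h.map (Subalgebra.inclusion hle)
  · right
    rw [← ht, ← map_one (Subalgebra.inclusion hle), ← map_sub]
    exact h.map (Subalgebra.inclusion hle)

theorem isUnibranch_iff : CAlg2.IsUnibranch A ↔ CAlgX.HasUniqueMinimalPrime Ah :=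
  ⟨hasUniqueMinimalPrime_of_isUnibranch A Ah, isUnibranch_of_hasUniqueMinimalPrime A Ah⟩

theorem reduced_isUnibranch_iff : (IsReduced A ∧ CAlg2.IsUnibranch A) ↔ IsDomain Ah := by
  constructor
  · rintro ⟨hred, hub⟩
    haveI : IsReduced Ah := (Groth.Agent.S0514.result A Ah).mp hred
    obtain ⟨P, hP, hPu⟩ := hasUniqueMinimalPrime_of_isUnibranch A Ah hub
    have hnil : nilradical Ah = P := nilradical_eq_of_unique P hP hPu
    have hbot : (⊥ : Ideal Ah) = P := by
      rw [← hnil]
      exact (nilradical_eq_zero Ah).symm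
    haveI : (⊥ : Ideal Ah).IsPrime := by
      rw [hbot]
      exact hP.1.1
    exact IsDomain.of_bot_isPrime Ah
  · intro hdom
    refine ⟨(Groth.Agent.S0514.result A Ah).mpr inferInstance, ?_⟩
    apply isUnibranch_of_hasUniqueMinimalPrime A Ah
    haveI : (⊥ : Ideal Ah).IsPrime := Ideal.isPrime_bot
    exact existsUnique_minimalPrimes_of_le_nilradical ⊥ bot_le

end Main

end Groth.Agent.Lib.Helper87.Unibranch
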