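import Mathlib
import Groth.Prelude.Def_Hensel
import Groth.Prelude.Def_CAlg2
import Groth.Prelude.Def_CAlgX
import Groth.Agent.Lib.Helper87.Unibranch2
import Groth.Agent.Lib.Helper87.HensStrictProps
import Groth.Agent.Lib.Helper87.HensIndEtale
import Groth.Agent.Lib.Helper87.IndEtaleDomain
import Groth.Agent.Lib.Helper87.IndEtaleReduced
import Groth.Agent.Lib.Helper87.PurelyInsepTensor
import Groth.Agent.Lib.Helper87.PurelyInsepConverse
import Groth.Agent.S0733

set_option autoImplicit false
set_option linter.style.haveILetI false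
universe u

/-!
# Geometrically unibranch local rings and the strict henselization (helper87)

`isGeomUnibranch_iff A Ash`: a local ring `A` with strict henselization `Ash` is geometrically
unibranch iff `Ash` has a unique minimal prime.  `reduced_isGeomUnibranch_iff A Ash`: `A` is reduced
and geometrically unibranch iff `Ash` is a domain.
-/

open IsLocalRing TensorProduct

namespace Groth.Agent.Lib.Helper87.Unibranch

section General

/-- a finite algebra over a henselian local ring which is a domain is local. -/
theorem isLocalRing_of_finite_of_isDomain (S : Type u) [CommRing S] [HenselianLocalRing S]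
    (D : Type u) [CommRing D] [Algebra S D] [Module.Finite S D] [IsDomain D] : IsLocalRing D := by
  obtain ⟨ι, _, B, _, hB, ⟨e⟩⟩ := Groth.Agent.S0499.result S D
  haveI := hB
  haveI : IsDomain (∀ i, B i) := e.symm.injective.isDomain e.symm.toRingHom
  haveI hloc : IsLocalRing (∀ i, B i) := isLocalRing_of_pi_isDomain B
  exact RingEquiv.isLocalRing e.symm

theorem map_nilradical_le' (A S : Type*) [CommRing A] [CommRing S] [Algebra A S] :
    (nilradical A).map (algebraMap A S) ≤ nilradical S := by
  rw [Ideal.map_le_iff_le_comap]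
  intro x hx
  exact (mem_nilradical.mp hx).map _

/-- if the reduction of `A` is a domain and `normRed A ⊗[A] S` is a domain for a flat `A`-algebra
`S`, then `S` has a unique minimal prime. -/
theorem hasUniqueMinimalPrime_of_isDomain_tensor (A S : Type u) [CommRing A] [CommRing S]
    [Algebra A S] [Module.Flat A S] [IsDomain (CAlg2.red A)]
    [IsDomain (CAlg2.normRed A ⊗[A] S)] : CAlgX.HasUniqueMinimalPrime S := by
  let φ : CAlg2.red A ⊗[A] S →ₐ[A] CAlg2.normRed A ⊗[A] S :=
    Algebra.TensorProduct.map (IsScalarTower.toAlgHom A (CAlg2.red A) (CAlg2.normRed A))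
      (AlgHom.id A S)
  have hφ : Function.Injective φ := by
    have hinj : Function.Injective (IsScalarTower.toAlgHom A (CAlg2.red A) (CAlg2.normRed A)) := by
      intro x y hxy
      have := congrArg (fun z : CAlg2.normRed A => (z : FractionRing (CAlg2.red A))) hxy
      exact IsFractionRing.injective (CAlg2.red A) (FractionRing (CAlg2.red A)) this
    have h1 := Module.Flat.rTensor_preserves_injective_linearMap (M := S)
      (IsScalarTower.toAlgHom A (CAlg2.red A) (CAlg2.normRed A)).toLinearMap hinj
    have h2 : ∀ x, φ x = LinearMap.rTensor S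
        (IsScalarTower.toAlgHom A (CAlg2.red A) (CAlg2.normRed A)).toLinearMap x := by
      intro x
      induction x with
      | zero => simp
      | tmul a b => simp [φ]
      | add x y hx hy => simp only [map_add, hx, hy]
    intro x y hxy
    apply h1
    rw [← h2, ← h2, hxy]
  haveI hdom2 : IsDomain (CAlg2.red A ⊗[A] S) := hφ.isDomain φ
  let e := Algebra.TensorProduct.quotIdealMapEquivQuotTensor S (nilradical A)
  haveI hdom3 : IsDomain (S ⧸ (nilradical A).map (algebraMap A S)) :=
    e.injective.isDomain e.toRingEquiv.toRingHom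
  haveI hprime : ((nilradical A).map (algebraMap A S)).IsPrime :=
    (Ideal.Quotient.isDomain_iff_prime _).mp hdom3
  exact existsUnique_minimalPrimes_of_le_nilradical _ (map_nilradical_le' A S)

end General

section Strict

variable (A Ash : Type u) [CommRing A] [IsLocalRing A] [CommRing Ash] [IsLocalRing Ash]
  [Algebra A Ash] [IsLocalHom (algebraMap A Ash)] [Hensel.IsStrictHenselization A Ash]

theorem hasPres_strict : IndEt.HasPres A Ash := by
  obtain ⟨e⟩ := Hens.nonempty_algEquiv_Hsh A Ash
  exact IndEt.exists_filtered_colimit_of_equiv e.symm Hens.H.exists_filtered_colimit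

theorem hasUniqueMinimalPrime_of_isGeomUnibranch (h : CAlg2.IsGeomUnibranch A) :
    CAlgX.HasUniqueMinimalPrime Ash := by
  obtain ⟨⟨hd, hl⟩, hpi⟩ := h
  haveI := hd
  haveI := hl
  haveI : IsIntegrallyClosed (CAlg2.normRed A) := isIntegrallyClosed_normRed A
  haveI : IsLocalHom (algebraMap A (CAlg2.normRed A)) :=
    Groth.Agent.Lib.Helper9.isLocalHom_of_isIntegral
  set p := ringExpChar (ResidueField (CAlg2.normRed A)) with hpdef
  have hp : p = 1 ∨ (p.Prime ∧ (p : A) ∈ maximalIdeal A) := by
    rcases PurelyInsepTensor.ringExpChar_residueField_spec (CAlg2.normRed A) with h | ⟨h1, h2⟩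
    · exact Or.inl h
    · refine Or.inr ⟨h1, ?_⟩
      by_contra hu
      have hu' : IsUnit ((p : ℕ) : A) := by
        by_contra hu'
        exact hu hu'
      have h3 := hu'.map (algebraMap A (CAlg2.normRed A))
      rw [map_natCast] at h3
      exact h2 h3
  have hpi' : ∀ a : CAlg2.normRed A, ∃ (n : ℕ) (r : A),
      a ^ p ^ n - algebraMap A (CAlg2.normRed A) r ∈ maximalIdeal (CAlg2.normRed A) := by
    intro a
    obtain ⟨n, r, hr⟩ := hpi (maximalIdeal (CAlg2.normRed A))
      (Ideal.Quotient.mk (maximalIdeal (CAlg2.normRed A)) a)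
    refine ⟨n, r, ?_⟩
    rw [← Ideal.Quotient.eq, map_pow]
    exact hr.symm
  obtain ⟨hloc, -, -⟩ := PurelyInsepTensor.isLocalRing_tensor A (CAlg2.normRed A) Ash p hp hpi'
  haveI := hloc
  have hpres : IndEt.HasPres (CAlg2.normRed A) (CAlg2.normRed A ⊗[A] Ash) :=
    Groth.Agent.S0733.result A Ash (CAlg2.normRed A) (hasPres_strict A Ash)
  haveI : IsDomain (CAlg2.normRed A ⊗[A] Ash) := IndEtDomain.isDomain_of_hasPres hpres
  haveI : Module.Flat A Ash := Hens.flat_of_isStrictHenselization A Ash
  exact hasUniqueMinimalPrime_of_isDomain_tensor A Ash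

/-- the key construction: every element of the normalization lies in a finite local subalgebra
whose residue field is purely inseparable over that of `A`. -/
theorem exists_subalgebra [IsDomain (CAlg2.red A)] [IsDomain (Ash ⊗[A] CAlg2.red A)]
    (t : CAlg2.normRed A) :
    ∃ (C : Subalgebra (CAlg2.red A) (FractionRing (CAlg2.red A)))
      (hle : C ≤ integralClosure (CAlg2.red A) (FractionRing (CAlg2.red A)))
      (_ : IsLocalRing C) (tC : C), Subalgebra.inclusion hle tC = t ∧
      ∀ c : C, ∃ (n : ℕ) (a : A),
        c ^ (ringExpChar (ResidueField A)) ^ n - algebraMap A C a ∈ maximalIdeal C := by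
  haveI hff : Module.FaithfullyFlat A Ash := Hens.faithfullyFlat_of_isStrictHenselization A Ash
  haveI hS : HenselianLocalRing Ash := Hensel.IsStrictHenselization.henselian A
  let C : Subalgebra (CAlg2.red A) (FractionRing (CAlg2.red A)) :=
    Algebra.adjoin (CAlg2.red A) {(t : FractionRing (CAlg2.red A))}
  have hC : C.toSubmodule.FG := IsIntegral.fg_adjoin_singleton t.2
  haveI hdomC : IsDomain (Ash ⊗[A] C) :=
    isDomain_tensor_subalgebra (A := A) (R := CAlg2.red A) (K := FractionRing (CAlg2.red A))
      (Ah := Ash) C hC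
  haveI hfinRC0 : Module.Finite (CAlg2.red A) (Subalgebra.toSubmodule C) :=
    Module.Finite.iff_fg.mpr hC
  haveI hfinRC : Module.Finite (CAlg2.red A) C :=
    Module.Finite.equiv (Subalgebra.toSubmoduleEquiv C)
  haveI hfinC : Module.Finite A C := Module.Finite.trans (CAlg2.red A) C
  haveI hloc1 : IsLocalRing (Ash ⊗[A] C) := isLocalRing_of_finite_of_isDomain Ash (Ash ⊗[A] C)
  haveI hloc2 : IsLocalRing (C ⊗[A] Ash) :=
    RingEquiv.isLocalRing (Algebra.TensorProduct.comm A Ash C).toRingEquiv
  haveI : Module.FaithfullyFlat C (C ⊗[A] Ash) := inferInstance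
  haveI hlocC : IsLocalRing C := Module.FaithfullyFlat.isLocalRing (A := C) (B := C ⊗[A] Ash)
  haveI : Algebra.IsIntegral A C := Algebra.IsIntegral.of_finite A C
  haveI : IsLocalHom (algebraMap A C) := Groth.Agent.Lib.Helper9.isLocalHom_of_isIntegral
  have hsc : IsSepClosure (ResidueField A) (ResidueField Ash) :=
    Hensel.IsStrictHenselization.isSepClosure
  haveI : IsSepClosed (ResidueField Ash) := hsc.sep_closed
  haveI : Algebra.IsSeparable (ResidueField A) (ResidueField Ash) := hsc.separable
  haveI : Algebra.IsAlgebraic (ResidueField A) (ResidueField Ash) := inferInstance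
  have hle : C ≤ integralClosure (CAlg2.red A) (FractionRing (CAlg2.red A)) := by
    apply Algebra.adjoin_le
    intro x hx
    rw [Set.mem_singleton_iff] at hx
    rw [hx]
    exact t.2
  refine ⟨C, hle, hlocC,
    ⟨(t : FractionRing (CAlg2.red A)), Algebra.subset_adjoin (Set.mem_singleton _)⟩,
    Subtype.ext rfl, fun c => ?_⟩
  exact PurelyInsepConverse.exists_pow_sub_mem A C Ash c

theorem isGeomUnibranch_of_hasUniqueMinimalPrime (h : CAlgX.HasUniqueMinimalPrime Ash) :
    CAlg2.IsGeomUnibranch A := by
  obtain ⟨P, hP, hPu⟩ := h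
  have hnil : nilradical Ash = P := nilradical_eq_of_unique P hP hPu
  haveI hPprime : P.IsPrime := hP.1.1
  haveI hff : Module.FaithfullyFlat A Ash := Hens.faithfullyFlat_of_isStrictHenselization A Ash
  have hinj : Function.Injective (algebraMap A Ash) := FaithfulSMul.algebraMap_injective A Ash
  have hcomap : nilradical A = P.comap (algebraMap A Ash) := by
    ext x
    rw [Ideal.mem_comap, ← hnil, mem_nilradical, mem_nilradical]
    exact (IsNilpotent.map_iff hinj).symm
  haveI hprime : (nilradical A).IsPrime := by
    rw [hcomap]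
    exact Ideal.comap_isPrime _ _
  haveI hRdom : IsDomain (CAlg2.red A) := Ideal.Quotient.isDomain _
  have hpres : IndEt.HasPres (CAlg2.red A) (CAlg2.red A ⊗[A] Ash) :=
    Groth.Agent.S0733.result A Ash (CAlg2.red A) (hasPres_strict A Ash)
  haveI hred : IsReduced (CAlg2.red A ⊗[A] Ash) := IndEtReduced.isReduced_of_hasPres hpres
  let e := Algebra.TensorProduct.quotIdealMapEquivQuotTensor Ash (nilradical A)
  haveI hred2 : IsReduced (Ash ⧸ (nilradical A).map (algebraMap A Ash)) :=
    isReduced_of_injective e.toRingEquiv.toRingHom e.injective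
  have hrad : ((nilradical A).map (algebraMap A Ash)).IsRadical :=
    (Ideal.isRadical_iff_quotient_reduced _).mpr hred2
  have hJ : (nilradical A).map (algebraMap A Ash) = P := by
    apply le_antisymm
    · rw [← hnil]
      exact map_nilradical_le' A Ash
    · rw [← hnil]
      intro x hx
      exact hrad (by
        obtain ⟨n, hn⟩ := mem_nilradical.mp hx
        exact ⟨n, by rw [hn]; exact Ideal.zero_mem _⟩)
  haveI hJprime : ((nilradical A).map (algebraMap A Ash)).IsPrime := by
    rw [hJ]
    exact hPprime
  haveI hdom3 : IsDomain (Ash ⧸ (nilradical A).map (algebraMap A Ash)) :=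
    Ideal.Quotient.isDomain _
  let e' := Algebra.TensorProduct.quotIdealMapEquivTensorQuot Ash (nilradical A)
  haveI hdom4 : IsDomain (Ash ⊗[A] CAlg2.red A) :=
    e'.symm.injective.isDomain e'.symm.toRingEquiv.toRingHom
  have hNloc : IsLocalRing (CAlg2.normRed A) := by
    refine IsLocalRing.of_isUnit_or_isUnit_one_sub_self ?_
    intro t
    obtain ⟨C, hle, hlocC, tC, ht, -⟩ := exists_subalgebra A Ash t
    rcases IsLocalRing.isUnit_or_isUnit_one_sub_self tC with h | h
    · left
      rw [← ht]
      exact h.map (Subalgebra.inclusion hle)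
    · right
      rw [← ht, ← map_one (Subalgebra.inclusion hle), ← map_sub]
      exact h.map (Subalgebra.inclusion hle)
  haveI := hNloc
  haveI : IsLocalHom (algebraMap A (CAlg2.normRed A)) :=
    Groth.Agent.Lib.Helper9.isLocalHom_of_isIntegral
  refine ⟨⟨hRdom, hNloc⟩, ?_⟩
  intro m' hm'
  have hm'eq : m' = maximalIdeal (CAlg2.normRed A) := IsLocalRing.eq_maximalIdeal hm'
  subst hm'eq
  intro x
  obtain ⟨t, rfl⟩ := Ideal.Quotient.mk_surjective x
  obtain ⟨C, hle, hlocC, tC, ht, hC⟩ := exists_subalgebra A Ash t
  obtain ⟨n, a, ha⟩ := hC tC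
  have hq : ringExpChar (CAlg2.normRed A ⧸ maximalIdeal (CAlg2.normRed A)) =
      ringExpChar (ResidueField A) :=
    PurelyInsepTensor.ringExpChar_residueField_eq A (CAlg2.normRed A)
  rw [hq]
  refine ⟨n, a, ?_⟩
  -- the inclusion of `C` is a local map
  let f : C →+* CAlg2.normRed A := (Subalgebra.inclusion hle).toRingHom
  have hfint : f.IsIntegral := by
    have h1 : (f.comp (algebraMap (CAlg2.red A) C)).IsIntegral := by
      have : f.comp (algebraMap (CAlg2.red A) C) =
          algebraMap (CAlg2.red A) (CAlg2.normRed A) := by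
        ext r
        rfl
      rw [this]
      exact algebraMap_isIntegral_iff.mpr inferInstance
    exact RingHom.IsIntegral.tower_top (algebraMap (CAlg2.red A) C) f h1
  have hfinj : Function.Injective f := Subalgebra.inclusion_injective hle
  haveI hfloc : IsLocalHom f := hfint.isLocalHom hfinj
  have hmem : f (tC ^ (ringExpChar (ResidueField A)) ^ n - algebraMap A C a) ∈
      maximalIdeal (CAlg2.normRed A) := by
    intro hu
    exact ha (isUnit_of_map_unit f _ hu)
  rw [map_sub, map_pow] at hmem
  have hft : f tC = t := ht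
  rw [hft] at hmem
  have hfa : f (algebraMap A C a) = algebraMap A (CAlg2.normRed A) a := rfl
  rw [hfa] at hmem
  show Ideal.Quotient.mk (maximalIdeal (CAlg2.normRed A)) (algebraMap A (CAlg2.normRed A) a) =
    Ideal.Quotient.mk (maximalIdeal (CAlg2.normRed A)) t ^ _
  rw [← map_pow]
  exact (Ideal.Quotient.eq.mpr hmem).symm

theorem isGeomUnibranch_iff : CAlg2.IsGeomUnibranch A ↔ CAlgX.HasUniqueMinimalPrime Ash :=
  ⟨hasUniqueMinimalPrime_of_isGeomUnibranch A Ash, isGeomUnibranch_of_hasUniqueMinimalPrime A Ash⟩

theorem isReduced_strict_iff : IsReduced A ↔ IsReduced Ash := by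
  constructor
  · intro h
    exact IndEtReduced.isReduced_of_hasPres (hasPres_strict A Ash)
  · intro h
    haveI := Hens.faithfullyFlat_of_isStrictHenselization A Ash
    exact isReduced_of_injective (algebraMap A Ash) (FaithfulSMul.algebraMap_injective A Ash)

theorem reduced_isGeomUnibranch_iff :
    (IsReduced A ∧ CAlg2.IsGeomUnibranch A) ↔ IsDomain Ash := by
  constructor
  · rintro ⟨hred, hub⟩
    haveI : IsReduced Ash := (isReduced_strict_iff A Ash).mp hred
    obtain ⟨P, hP, hPu⟩ := hasUniqueMinimalPrime_of_isGeomUnibranch A Ash hub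
    have hnil : nilradical Ash = P := nilradical_eq_of_unique P hP hPu
    have hbot : (⊥ : Ideal Ash) = P := by
      rw [← hnil]
      exact (nilradical_eq_zero Ash).symm
    haveI : (⊥ : Ideal Ash).IsPrime := by
      rw [hbot]
      exact hP.1.1
    exact IsDomain.of_bot_isPrime Ash
  · intro hdom
    refine ⟨(isReduced_strict_iff A Ash).mpr inferInstance, ?_⟩
    apply isGeomUnibranch_of_hasUniqueMinimalPrime A Ash
    haveI : (⊥ : Ideal Ash).IsPrime := Ideal.isPrime_bot
    exact existsUnique_minimalPrimes_of_le_nilradical ⊥ bot_le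

end Strict

end Groth.Agent.Lib.Helper87.Unibranch
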