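import Mathlib
import Groth.Agent.Lib.Helper87.GeomUnibranch
import Groth.Agent.Lib.Helper87.HensStrict

set_option autoImplicit false
set_option linter.style.haveILetI false
universe u

/-!
# Transport of strict henselizations and geometric unibranchness along ring isomorphisms (helper87)
-/

open IsLocalRing

namespace Groth.Agent.Lib.Helper87.GeomUnibranchEquiv

open Groth.Agent.Lib.Helper87.Unibranch

section Strict

variable {A A' S : Type u} [CommRing A] [IsLocalRing A] [CommRing A'] [IsLocalRing A']
  [CommRing S] [IsLocalRing S]
  [Algebra A S] [IsLocalHom (algebraMap A S)] [Hensel.IsStrictHenselization A S]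
  [Algebra A' S] [IsLocalHom (algebraMap A' S)]

theorem isStrictHenselization_of_ringEquiv (e : A ≃+* A')
    (he : ∀ a, algebraMap A' S (e a) = algebraMap A S a) : Hensel.IsStrictHenselization A' S := by
  have hS : Hensel.IsStrictHenselization A S := inferInstance
  refine ⟨hS.henselian, ?_, ?_⟩
  · haveI := hS.isSepClosure
    haveI : IsSepClosed (ResidueField S) := IsSepClosure.sep_closed (ResidueField A)
    haveI : Algebra.IsSeparable (ResidueField A) (ResidueField S) := IsSepClosure.separable
    refine ⟨inferInstance, ?_⟩
    refine Algebra.IsSeparable.of_equiv_equiv (ResidueField.mapEquiv e)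
      (RingEquiv.refl (ResidueField S)) ?_
    refine Ideal.Quotient.ringHom_ext ?_
    ext a
    show algebraMap (ResidueField A') (ResidueField S) (residue A' (e a)) =
      algebraMap (ResidueField A) (ResidueField S) (residue A a)
    rw [ResidueField.algebraMap_residue, ResidueField.algebraMap_residue, he]
  · intro T _ _ f _ τ hτ
    haveI : IsLocalHom (f.comp (e : A →+* A')) := RingHom.isLocalHom_comp _ _
    have hτ' : τ.comp (ResidueField.map (algebraMap A S)) =
        ResidueField.map (f.comp (e : A →+* A')) := by
      refine Ideal.Quotient.ringHom_ext ?_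
      ext a
      have h1 := congrArg (fun g => g (residue A' (e a))) hτ
      simp only [RingHom.comp_apply, ResidueField.map_residue] at h1
      show τ (ResidueField.map (algebraMap A S) (residue A a)) =
        ResidueField.map (f.comp (e : A →+* A')) (residue A a)
      rw [ResidueField.map_residue, ResidueField.map_residue, ← he]
      exact h1
    obtain ⟨g, ⟨hg1, hg2⟩, hguniq⟩ := hS.universal T (f.comp (e : A →+* A')) τ hτ'
    refine ⟨g, ⟨?_, hg2⟩, ?_⟩
    · ext a'
      obtain ⟨a, rfl⟩ := e.surjective a'
      have h1 := congrArg (fun φ => φ a) hg1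
      simp only [RingHom.comp_apply] at h1
      rw [RingHom.comp_apply, he]
      exact h1
    · rintro g' ⟨hg'1, hg'2⟩
      refine hguniq g' ⟨?_, hg'2⟩
      ext a
      have h1 := congrArg (fun φ => φ (e a)) hg'1
      simp only [RingHom.comp_apply] at h1
      rw [RingHom.comp_apply, ← he]
      exact h1

end Strict

section Unibranch

variable {A A' : Type u} [CommRing A] [IsLocalRing A] [CommRing A'] [IsLocalRing A']

theorem isGeomUnibranch_of_ringEquiv (e : A ≃+* A') (h : CAlg2.IsGeomUnibranch A) :
    CAlg2.IsGeomUnibranch A' := by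
  haveI := Hens.isStrictHenselization_Hsh A
  letI : Algebra A' (Hens.Hsh A) :=
    ((algebraMap A (Hens.Hsh A)).comp (e.symm : A' →+* A)).toAlgebra
  haveI : IsLocalHom (algebraMap A' (Hens.Hsh A)) :=
    RingHom.isLocalHom_comp (algebraMap A (Hens.Hsh A)) (e.symm : A' →+* A)
  haveI : Hensel.IsStrictHenselization A' (Hens.Hsh A) :=
    isStrictHenselization_of_ringEquiv e (fun a => by
      show algebraMap A (Hens.Hsh A) (e.symm (e a)) = _
      rw [e.symm_apply_apply])
  exact (isGeomUnibranch_iff A' (Hens.Hsh A)).mpr ((isGeomUnibranch_iff A (Hens.Hsh A)).mp h)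

end Unibranch

end Groth.Agent.Lib.Helper87.GeomUnibranchEquiv
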