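import Mathlib

set_option autoImplicit false
set_option linter.style.haveILetI false
universe u

/-!
# Minimal primes of a flat algebra, sorted by their contractions (helper87)

* `ENat_card_sigma`: cardinality of a finite sigma type as a sum in `ℕ∞`.
* `comap_mem_minimalPrimes`: flat `A → S`: minimal primes contract to minimal primes.
* `mem_minimalPrimes_map_iff`: the primes minimal over `pS` (`p` minimal in `A`) are the minimal
  primes of `S` lying over `p`.
* `card_minimalPrimes_eq_sum`.
* `card_minimalPrimes_of_surjective`.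
-/

namespace Groth.Agent.Lib.Helper87.BranchSum

theorem ENat_card_sigma {ι : Type*} [Fintype ι] (β : ι → Type*) :
    ENat.card (Σ i, β i) = ∑ i, ENat.card (β i) := by
  by_cases h : ∀ i, Finite (β i)
  · haveI := h
    rw [ENat.card_eq_coe_natCard, Nat.card_sigma, Nat.cast_sum]
    exact Finset.sum_congr rfl (fun i _ => (ENat.card_eq_coe_natCard _).symm)
  · push_neg at h
    obtain ⟨i, hi⟩ := h
    haveI := hi
    haveI : Infinite (Σ i, β i) := Infinite.of_injective (Sigma.mk i) sigma_mk_injective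
    rw [ENat.card_eq_top_of_infinite]
    symm
    rw [← top_le_iff]
    calc (⊤ : ℕ∞) = ENat.card (β i) := ENat.card_eq_top_of_infinite.symm
      _ ≤ ∑ i, ENat.card (β i) :=
        Finset.single_le_sum (f := fun i => ENat.card (β i)) (fun _ _ => zero_le)
          (Finset.mem_univ i)

theorem card_minimalPrimes_of_surjective {R R' : Type*} [CommRing R] [CommRing R'] (f : R →+* R')
    (hf : Function.Surjective f) :
    ENat.card (minimalPrimes R') = ENat.card ((RingHom.ker f).minimalPrimes) := by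
  have h1 : (RingHom.ker f).minimalPrimes = Ideal.comap f '' minimalPrimes R' := by
    rw [RingHom.ker_eq_comap_bot, Ideal.comap_minimalPrimes_eq_of_surjective hf]
  rw [h1, ENat.card_image_of_injective _ _ (Ideal.comap_injective_of_surjective f hf)]

section Flat

variable (A S : Type u) [CommRing A] [CommRing S] [Algebra A S] [Module.Flat A S]

theorem comap_mem_minimalPrimes {Q : Ideal S} (hQ : Q ∈ minimalPrimes S) :
    Q.comap (algebraMap A S) ∈ minimalPrimes A := by
  haveI : Q.IsPrime := hQ.1.1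
  refine ⟨⟨Ideal.comap_isPrime _ _, bot_le⟩, ?_⟩
  rintro p ⟨hp, -⟩ hle
  haveI := hp
  obtain ⟨P, hPQ, hPprime, hPover⟩ :=
    Ideal.exists_ideal_le_liesOver_of_le (p := p) (q := Q.under A) Q hle
  have hQP : Q ≤ P := hQ.2 ⟨hPprime, bot_le⟩ hPQ
  have : P = Q := le_antisymm hPQ hQP
  subst this
  rw [hPover.over]

theorem mem_minimalPrimes_map_iff {p : Ideal A} (hp : p ∈ minimalPrimes A) (Q : Ideal S) :
    Q ∈ (p.map (algebraMap A S)).minimalPrimes ↔
      Q ∈ minimalPrimes S ∧ Q.comap (algebraMap A S) = p := by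
  haveI : p.IsPrime := hp.1.1
  constructor
  · intro hQ
    haveI : Q.IsPrime := hQ.1.1
    have hpQ : p ≤ Q.under A := Ideal.map_le_iff_le_comap.mp hQ.1.2
    obtain ⟨P, hPQ, hPprime, hPover⟩ :=
      Ideal.exists_ideal_le_liesOver_of_le (p := p) (q := Q.under A) Q hpQ
    have hpP : p.map (algebraMap A S) ≤ P := by
      rw [Ideal.map_le_iff_le_comap]
      exact hPover.over.le
    have hQP : Q ≤ P := hQ.2 ⟨hPprime, hpP⟩ hPQ
    have hPeq : P = Q := le_antisymm hPQ hQP
    subst hPeq
    have hcomap : P.comap (algebraMap A S) = p := hPover.over.symm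
    refine ⟨⟨⟨inferInstance, bot_le⟩, ?_⟩, hcomap⟩
    rintro Q' ⟨hQ'prime, -⟩ hQ'le
    haveI := hQ'prime
    have h1 : Q'.comap (algebraMap A S) ≤ p := by
      rw [← hcomap]
      exact Ideal.comap_mono hQ'le
    have h2 : p ≤ Q'.comap (algebraMap A S) := hp.2 ⟨Ideal.comap_isPrime _ _, bot_le⟩ h1
    exact hQ.2 ⟨hQ'prime, Ideal.map_le_iff_le_comap.mpr h2⟩ hQ'le
  · rintro ⟨hQ, hcomap⟩
    haveI : Q.IsPrime := hQ.1.1
    refine ⟨⟨inferInstance, ?_⟩, ?_⟩
    · rw [Ideal.map_le_iff_le_comap, hcomap]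
    · rintro Q' ⟨hQ'prime, -⟩ hQ'le
      exact hQ.2 ⟨hQ'prime, bot_le⟩ hQ'le

theorem card_minimalPrimes_eq_sum [Fintype (minimalPrimes A)] :
    ENat.card (minimalPrimes S) =
      ∑ p : minimalPrimes A, ENat.card ((p.1.map (algebraMap A S)).minimalPrimes) := by
  rw [← ENat_card_sigma]
  let φ : minimalPrimes S → Σ p : minimalPrimes A, (p.1.map (algebraMap A S)).minimalPrimes :=
    fun Q => ⟨⟨Q.1.comap (algebraMap A S), comap_mem_minimalPrimes A S Q.2⟩,
      ⟨Q.1, (mem_minimalPrimes_map_iff A S (comap_mem_minimalPrimes A S Q.2) Q.1).mpr ⟨Q.2, rfl⟩⟩⟩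
  have hbij : Function.Bijective φ := by
    constructor
    · intro Q Q' h
      have := congrArg (fun x => (x.2 : Ideal S)) h
      exact Subtype.ext this
    · rintro ⟨p, Q, hQ⟩
      obtain ⟨hQmin, hcomap⟩ := (mem_minimalPrimes_map_iff A S p.2 Q).mp hQ
      refine ⟨⟨Q, hQmin⟩, ?_⟩
      apply Sigma.subtype_ext
      · exact Subtype.ext hcomap
      · rfl
  exact ENat.card_congr (Equiv.ofBijective φ hbij)

end Flat

end Groth.Agent.Lib.Helper87.BranchSum
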