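import Mathlib
import Groth.Agent.Lib.Helper87.EtaleNormal

set_option autoImplicit false
set_option linter.style.haveILetI false
universe u

/-!
# Local rings of a smooth algebra over a normal domain are normal domains (helper87)
-/

namespace Groth.Agent.Lib.Helper87.SmoothNormal

theorem isIntegrallyClosed_mvPolynomial (N : Type u) [CommRing N] [IsDomain N]
    [IsIntegrallyClosed N] (n : ℕ) : IsIntegrallyClosed (MvPolynomial (Fin n) N) := by
  induction n with
  | zero => exact IsIntegrallyClosed.of_equiv (MvPolynomial.isEmptyAlgEquiv N (Fin 0)).symm.toRingEquiv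
  | succ n ih =>
    haveI := ih
    exact IsIntegrallyClosed.of_equiv (MvPolynomial.finSuccEquiv N n).symm.toRingEquiv

theorem isLocalization_atPrime_of_eq {S : Type*} [CommRing S] {P P' : Ideal S} [hP : P.IsPrime]
    [hP' : P'.IsPrime] (h : P = P') (T : Type*) [CommRing T] [Algebra S T]
    [IsLocalization.AtPrime T P] : IsLocalization.AtPrime T P' := by
  subst h
  infer_instance

variable (N : Type u) [CommRing N] [IsDomain N] [IsIntegrallyClosed N]
  (S : Type u) [CommRing S] [Algebra N S] [Algebra.Smooth N S]

include N in
/-- any localization of a smooth algebra over a normal domain at a prime is a normal domain. -/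
theorem isDomain_and_isIntegrallyClosed (P : Ideal S) [P.IsPrime] (T : Type u) [CommRing T]
    [Algebra S T] [IsLocalization.AtPrime T P] : IsDomain T ∧ IsIntegrallyClosed T := by
  obtain ⟨f, hfP, n, alg, tower, hse⟩ :=
    Algebra.IsSmoothAt.exists_isStandardEtale_mvPolynomial (R := N) (p := P)
  haveI := isIntegrallyClosed_mvPolynomial N n
  have hdisj : Disjoint (Submonoid.powers f : Set S) (P : Set S) :=
    (Ideal.disjoint_powers_iff_notMem_of_isPrime _).mpr hfP
  haveI hQ : (Ideal.map (algebraMap S (Localization.Away f)) P).IsPrime :=
    IsLocalization.isPrime_of_isPrime_disjoint (.powers f) _ _ ‹_› hdisj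
  have hcomap : (Ideal.map (algebraMap S (Localization.Away f)) P).comap
      (algebraMap S (Localization.Away f)) = P :=
    IsLocalization.comap_map_of_isPrime_disjoint (.powers f) _ ‹_› hdisj
  haveI hd : IsDomain (Localization.AtPrime (Ideal.map (algebraMap S (Localization.Away f)) P)) :=
    EtNormal.isDomain_localization (MvPolynomial (Fin n) N) _
  haveI hic : IsIntegrallyClosed
      (Localization.AtPrime (Ideal.map (algebraMap S (Localization.Away f)) P)) :=
    EtNormal.isIntegrallyClosed_localization (MvPolynomial (Fin n) N) _
  haveI h1 : IsLocalization.AtPrime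
      (Localization.AtPrime (Ideal.map (algebraMap S (Localization.Away f)) P))
      ((Ideal.map (algebraMap S (Localization.Away f)) P).comap
        (algebraMap S (Localization.Away f))) :=
    IsLocalization.isLocalization_isLocalization_atPrime_isLocalization (Submonoid.powers f) _ _
  haveI h2 : IsLocalization.AtPrime
      (Localization.AtPrime (Ideal.map (algebraMap S (Localization.Away f)) P)) P :=
    isLocalization_atPrime_of_eq hcomap _
  let e : T ≃ₐ[S] Localization.AtPrime (Ideal.map (algebraMap S (Localization.Away f)) P) :=
    IsLocalization.algEquiv P.primeCompl T _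
  haveI : IsDomain T := e.toRingEquiv.injective.isDomain e.toRingEquiv.toRingHom
  exact ⟨inferInstance, IsIntegrallyClosed.of_equiv e.symm.toRingEquiv⟩

end Groth.Agent.Lib.Helper87.SmoothNormal
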