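import Mathlib
import Groth.Agent.Lib.Helper87.SmoothUnibranch
import Groth.Agent.Lib.Helper87.HensStrict
import Groth.Agent.Lib.Helper69.HensQFinite

set_option autoImplicit false
set_option linter.style.haveILetI false
universe u

/-!
# Smooth algebras over geometrically unibranch local domains (helper87)

* `isDomain_and_isGeomUnibranch_of_smooth`: `R` a geometrically unibranch local domain, `R'` smooth
  over `R`, `p` a prime of `R'` over the maximal ideal: `R'_p` is a geometrically unibranch domain
  and each of its strict henselizations is a domain.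
* `isGeomUnibranch_of_strictlyHenselian_domain`: a strictly henselian local domain is
  geometrically unibranch.
-/

open IsLocalRing TensorProduct

namespace Groth.Agent.Lib.Helper87.SmoothUnibranch

open Groth.Agent.Lib.Helper87.Unibranch

theorem hasUniqueMinimalPrime_of_isDomain (R : Type u) [CommRing R] [IsDomain R] :
    CAlgX.HasUniqueMinimalPrime R := by
  refine ⟨⊥, ⟨⟨Ideal.isPrime_bot, le_rfl⟩, fun _ _ _ => bot_le⟩, fun Q hQ => ?_⟩
  exact le_antisymm (hQ.2 ⟨Ideal.isPrime_bot, le_rfl⟩ bot_le) bot_le

theorem isGeomUnibranch_of_strictlyHenselian_domain (R : Type u) [CommRing R] [IsDomain R]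
    [HenselianLocalRing R] [IsSepClosed (ResidueField R)] : CAlg2.IsGeomUnibranch R := by
  haveI := Groth.Agent.Lib.Helper69.HensQFinite.isStrictHenselization_self R
  exact (isGeomUnibranch_iff R R).mpr (hasUniqueMinimalPrime_of_isDomain R)

section Smooth

variable (R : Type u) [CommRing R] [IsDomain R] [IsLocalRing R]
  (R' : Type u) [CommRing R'] [Algebra R R'] [Algebra.Smooth R R'] (p : Ideal R') [p.IsPrime]

theorem isDomain_strictHenselization_of_smooth (hR : CAlg2.IsGeomUnibranch R)
    (hp : (maximalIdeal R).map (algebraMap R R') ≤ p)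
    (Bsh : Type u) [CommRing Bsh] [IsLocalRing Bsh] [Algebra (Localization.AtPrime p) Bsh]
    [IsLocalHom (algebraMap (Localization.AtPrime p) Bsh)]
    [Hensel.IsStrictHenselization (Localization.AtPrime p) Bsh] :
    IsDomain (Localization.AtPrime p) ∧ IsDomain Bsh := by
  obtain ⟨⟨hd, hl⟩, hpi⟩ := hR
  haveI := hd
  haveI := hl
  haveI : IsIntegrallyClosed (CAlg2.normRed R) := isIntegrallyClosed_normRed R
  haveI : IsLocalHom (algebraMap R (CAlg2.normRed R)) :=
    Groth.Agent.Lib.Helper9.isLocalHom_of_isIntegral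
  set ℓ := ringExpChar (ResidueField (CAlg2.normRed R)) with hℓdef
  have hℓ : ℓ = 1 ∨ (ℓ.Prime ∧ (ℓ : R) ∈ maximalIdeal R) := by
    rcases PurelyInsepTensor.ringExpChar_residueField_spec (CAlg2.normRed R) with h | ⟨h1, h2⟩
    · exact Or.inl h
    · refine Or.inr ⟨h1, ?_⟩
      by_contra hu
      have hu' : IsUnit ((ℓ : ℕ) : R) := by
        by_contra hu'
        exact hu hu'
      have h3 := hu'.map (algebraMap R (CAlg2.normRed R))
      rw [map_natCast] at h3
      exact h2 h3
  have hpi' : ∀ a : CAlg2.normRed R, ∃ (n : ℕ) (r : R),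
      a ^ ℓ ^ n - algebraMap R (CAlg2.normRed R) r ∈ maximalIdeal (CAlg2.normRed R) := by
    intro a
    obtain ⟨n, r, hr⟩ := hpi (maximalIdeal (CAlg2.normRed R))
      (Ideal.Quotient.mk (maximalIdeal (CAlg2.normRed R)) a)
    refine ⟨n, r, ?_⟩
    rw [← Ideal.Quotient.eq, map_pow]
    exact hr.symm
  have hinj : Function.Injective (algebraMap R (CAlg2.normRed R)) := by
    rw [injective_iff_map_eq_zero]
    intro x hx
    rw [IsScalarTower.algebraMap_apply R (CAlg2.red R) (CAlg2.normRed R)] at hx
    have h1 : ((algebraMap (CAlg2.red R) (CAlg2.normRed R) (algebraMap R (CAlg2.red R) x) :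
        CAlg2.normRed R) : FractionRing (CAlg2.red R)) = 0 := by rw [hx]; rfl
    have h2 : algebraMap (CAlg2.red R) (FractionRing (CAlg2.red R))
        (algebraMap R (CAlg2.red R) x) = 0 := h1
    have h3 : algebraMap R (CAlg2.red R) x = 0 :=
      (map_eq_zero_iff _ (IsFractionRing.injective (CAlg2.red R)
        (FractionRing (CAlg2.red R)))).mp h2
    have hx' : x ∈ nilradical R := Ideal.Quotient.eq_zero_iff_mem.mp h3
    exact (mem_nilradical.mp hx').eq_zero
  exact isDomain_tensor_and_strictHenselization R (CAlg2.normRed R) hinj ℓ hℓ hpi' R' p hp Bsh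

theorem isDomain_and_isGeomUnibranch_of_smooth (hR : CAlg2.IsGeomUnibranch R)
    (hp : (maximalIdeal R).map (algebraMap R R') ≤ p) :
    IsDomain (Localization.AtPrime p) ∧ CAlg2.IsGeomUnibranch (Localization.AtPrime p) := by
  haveI := Hens.isStrictHenselization_Hsh (Localization.AtPrime p)
  obtain ⟨h1, h2⟩ := isDomain_strictHenselization_of_smooth R R' p hR hp
    (Hens.Hsh (Localization.AtPrime p))
  exact ⟨h1, ((reduced_isGeomUnibranch_iff (Localization.AtPrime p)
    (Hens.Hsh (Localization.AtPrime p))).mpr h2).2⟩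

end Smooth

end Groth.Agent.Lib.Helper87.SmoothUnibranch
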