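import Mathlib
import Groth.Agent.Lib.Helper9.HenselSplit

set_option autoImplicit false
universe u

/-!
# Idempotents separate maximal ideals of an integral algebra over a henselian local ring
(helper87)

Consequently a prime of such an algebra lies in at most one maximal ideal.
-/

namespace Groth.Agent.Lib.Helper87.IntHensIdem

variable (S : Type u) [CommRing S] [HenselianLocalRing S]
  {T : Type u} [CommRing T] [Algebra S T] [Algebra.IsIntegral S T]

include S

/-- two distinct maximal ideals are separated by an idempotent. -/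
theorem exists_idempotent_separating {m₁ m₂ : Ideal T} (h₁ : m₁.IsMaximal) (h₂ : m₂.IsMaximal)
    (hne : m₁ ≠ m₂) : ∃ e : T, e * e = e ∧ e ∈ m₁ ∧ 1 - e ∈ m₂ := by
  have hsup := Ideal.IsMaximal.coprime_of_ne h₁ h₂ hne
  have h1mem : (1 : T) ∈ m₁ ⊔ m₂ := by rw [hsup]; trivial
  obtain ⟨x, hx, y, hy, hxy⟩ := Submodule.mem_sup.mp h1mem
  have hy' : 1 - x ∈ m₂ := by
    have : 1 - x = y := by rw [← hxy]; ring
    rw [this]; exact hy
  let C : Subalgebra S T := Algebra.adjoin S {x}
  have hxC : x ∈ C := Algebra.subset_adjoin rfl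
  haveI : Module.Finite S C :=
    Algebra.finite_adjoin_simple_of_isIntegral (Algebra.IsIntegral.isIntegral x)
  obtain ⟨n, e, he, hloc⟩ :=
    Groth.Agent.Lib.Helper9.exists_completeOrthogonalIdempotents_of_finite (R := S) C
  let n₁ : Ideal C := m₁.comap (algebraMap C T)
  let n₂ : Ideal C := m₂.comap (algebraMap C T)
  haveI hp₁ : n₁.IsPrime := Ideal.comap_isPrime _ _
  haveI hp₂ : n₂.IsPrime := Ideal.comap_isPrime _ _
  -- some idempotent lies outside `n₁`
  have hex : ∃ i, e i ∉ n₁ := by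
    by_contra hall
    push_neg at hall
    have : (∑ i, e i) ∈ n₁ := Ideal.sum_mem _ (fun i _ => hall i)
    rw [he.complete] at this
    exact hp₁.ne_top ((Ideal.eq_top_iff_one _).mpr this)
  obtain ⟨i, hi⟩ := hex
  have hidem : e i * e i = e i := he.idem i
  have hmul : e i * (1 - e i) = 0 := by rw [mul_sub, mul_one, hidem, sub_self]
  have h1 : 1 - e i ∈ n₁ := by
    have h0 : e i * (1 - e i) ∈ n₁ := by rw [hmul]; exact n₁.zero_mem
    rcases hp₁.mem_or_mem h0 with h | h
    · exact absurd h hi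
    · exact h
  have h2 : e i ∈ n₂ := by
    by_contra hi2
    have h2' : 1 - e i ∈ n₂ := by
      have h0 : e i * (1 - e i) ∈ n₂ := by rw [hmul]; exact n₂.zero_mem
      rcases hp₂.mem_or_mem h0 with h | h
      · exact absurd h hi2
      · exact h
    haveI := hloc i
    let xC : C := ⟨x, hxC⟩
    have hxn₁ : xC ∈ n₁ := hx
    have hxn₂ : 1 - xC ∈ n₂ := hy'
    have hspan₁ : Ideal.span {1 - e i} ≤ n₁ := (Ideal.span_singleton_le_iff_mem _).mpr h1
    have hspan₂ : Ideal.span {1 - e i} ≤ n₂ := (Ideal.span_singleton_le_iff_mem _).mpr h2'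
    rcases IsLocalRing.isUnit_or_isUnit_one_sub_self
      (Ideal.Quotient.mk (Ideal.span {1 - e i}) xC) with hu | hu
    · obtain ⟨c, hc⟩ := hu.exists_right_inv
      obtain ⟨c', rfl⟩ := Ideal.Quotient.mk_surjective c
      rw [← map_mul, ← map_one (Ideal.Quotient.mk (Ideal.span {1 - e i})), Ideal.Quotient.eq] at hc
      have h3 : xC * c' - 1 ∈ n₁ := hspan₁ hc
      have h4 : xC * c' ∈ n₁ := n₁.mul_mem_right _ hxn₁
      have h5 : (1 : C) ∈ n₁ := by
        have := n₁.sub_mem h4 h3
        simpa using this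
      exact hp₁.ne_top ((Ideal.eq_top_iff_one _).mpr h5)
    · obtain ⟨c, hc⟩ := hu.exists_right_inv
      obtain ⟨c', rfl⟩ := Ideal.Quotient.mk_surjective c
      rw [← map_one (Ideal.Quotient.mk (Ideal.span {1 - e i})), ← map_sub, ← map_mul,
        Ideal.Quotient.eq] at hc
      have h3 : (1 - xC) * c' - 1 ∈ n₂ := hspan₂ hc
      have h4 : (1 - xC) * c' ∈ n₂ := n₂.mul_mem_right _ hxn₂
      have h5 : (1 : C) ∈ n₂ := by
        have := n₂.sub_mem h4 h3
        simpa using this
      exact hp₂.ne_top ((Ideal.eq_top_iff_one _).mpr h5)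
  refine ⟨((1 - e i : C) : T), ?_, h1, ?_⟩
  · have : (1 - e i) * (1 - e i) = 1 - e i := by
      have : (1 - e i) * (1 - e i) = 1 - e i - e i + e i * e i := by ring
      rw [this, hidem]; ring
    exact_mod_cast congrArg (fun c : C => (c : T)) this
  · have : (1 : T) - ((1 - e i : C) : T) = ((e i : C) : T) := by
      push_cast; ring
    rw [this]
    exact h2

/-- a prime lies in at most one maximal ideal. -/
theorem eq_of_le_of_le {P m₁ m₂ : Ideal T} (hP : P.IsPrime) (h₁ : m₁.IsMaximal)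
    (h₂ : m₂.IsMaximal) (hP₁ : P ≤ m₁) (hP₂ : P ≤ m₂) : m₁ = m₂ := by
  by_contra hne
  obtain ⟨e, hee, he₁, he₂⟩ := exists_idempotent_separating S h₁ h₂ hne
  have h0 : e * (1 - e) ∈ P := by
    have : e * (1 - e) = 0 := by rw [mul_sub, mul_one, hee, sub_self]
    rw [this]; exact P.zero_mem
  rcases hP.mem_or_mem h0 with h | h
  · have h3 : e ∈ m₂ := hP₂ h
    have h4 : (1 : T) ∈ m₂ := by
      have := m₂.add_mem h3 he₂
      simpa using this
    exact h₂.ne_top ((Ideal.eq_top_iff_one _).mpr h4)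
  · have h3 : 1 - e ∈ m₁ := hP₁ h
    have h4 : (1 : T) ∈ m₁ := by
      have := m₁.add_mem he₁ h3
      simpa using this
    exact h₁.ne_top ((Ideal.eq_top_iff_one _).mpr h4)

/-- every prime lies in exactly one maximal ideal. -/
theorem existsUnique_isMaximal_le {P : Ideal T} (hP : P.IsPrime) :
    ∃! m : Ideal T, m.IsMaximal ∧ P ≤ m := by
  obtain ⟨m, hm, hPm⟩ := Ideal.exists_le_maximal P hP.ne_top
  refine ⟨m, ⟨hm, hPm⟩, ?_⟩
  rintro m' ⟨hm', hPm'⟩
  exact eq_of_le_of_le S hP hm' hm hPm' hPm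

end Groth.Agent.Lib.Helper87.IntHensIdem
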