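import Mathlib
import Groth.Agent.Lib.Helper87.EtaleNormal
import Groth.Agent.Lib.Helper87.HensNormal

set_option autoImplicit false
universe u

/-!
# Normality of local rings along étale ring maps
-/

namespace Groth.Agent.Lib.Helper87.EtNormal

open TensorProduct NormalDvd IsLocalRing

attribute [local instance] Algebra.TensorProduct.rightAlgebra

set_option backward.isDefEq.respectTransparency false in
/-- ascent: if `A_p` is a normal domain then so is `B_q` for `B` étale over `A`, `q` over `p`. -/
theorem normal_localization_of_etale (A B : Type u) [CommRing A] [CommRing B]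
    [Algebra A B] [Algebra.Etale A B] (q : Ideal B) [q.IsPrime]
    [IsDomain (Localization.AtPrime (Ideal.comap (algebraMap A B) q))]
    [IsIntegrallyClosed (Localization.AtPrime (Ideal.comap (algebraMap A B) q))] :
    IsDomain (Localization.AtPrime q) ∧ IsIntegrallyClosed (Localization.AtPrime q) := by
  set p := Ideal.comap (algebraMap A B) q with hp
  let Ap := Localization.AtPrime p
  let S' := Ap ⊗[A] B
  let M : Submonoid B := Algebra.algebraMapSubmonoid B p.primeCompl
  have : IsLocalization M S' := IsLocalization.tensorRight Ap p.primeCompl
  have hdisj : Disjoint (M : Set B) (q : Set B) := by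
    rw [Set.disjoint_left]
    rintro _ ⟨a, ha, rfl⟩ hq
    exact ha hq
  let q' : Ideal S' := q.map (algebraMap B S')
  have hq' : q'.IsPrime := IsLocalization.isPrime_of_isPrime_disjoint M S' q inferInstance hdisj
  have hcomap : q'.comap (algebraMap B S') = q :=
    IsLocalization.under_map_of_isPrime_disjoint M S' inferInstance hdisj
  have : IsDomain (Localization.AtPrime q') := isDomain_localization Ap q'
  have : IsIntegrallyClosed (Localization.AtPrime q') := isIntegrallyClosed_localization Ap q'
  have : IsLocalization.AtPrime (Localization.AtPrime q') (q'.comap (algebraMap B S')) :=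
    IsLocalization.isLocalization_isLocalization_atPrime_isLocalization M _ q'
  have : IsLocalization.AtPrime (Localization.AtPrime q') q := by
    have h1 := ‹IsLocalization.AtPrime (Localization.AtPrime q') (q'.comap (algebraMap B S'))›
    have h2 : (q'.comap (algebraMap B S')).primeCompl = q.primeCompl :=
      Submonoid.ext fun x => by
        show x ∉ q'.comap (algebraMap B S') ↔ x ∉ q
        rw [hcomap]
    unfold IsLocalization.AtPrime at h1 ⊢
    rw [← h2]
    exact h1
  let e : Localization.AtPrime q' ≃ₐ[B] Localization.AtPrime q :=
    IsLocalization.algEquiv q.primeCompl _ _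
  exact isDomain_and_isIntegrallyClosed_of_ringEquiv (A := Localization.AtPrime q')
    (B := Localization.AtPrime q) e.toRingEquiv

/-- `A_p` is a normal domain iff `B_q` is, for `B` étale over `A` and `q` over `p`. -/
theorem normal_localization_iff_of_etale (A B : Type u) [CommRing A] [CommRing B]
    [Algebra A B] [Algebra.Etale A B] (q : Ideal B) [q.IsPrime] :
    (IsDomain (Localization.AtPrime (Ideal.comap (algebraMap A B) q)) ∧
      IsIntegrallyClosed (Localization.AtPrime (Ideal.comap (algebraMap A B) q))) ↔
    (IsDomain (Localization.AtPrime q) ∧ IsIntegrallyClosed (Localization.AtPrime q)) := by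
  constructor
  · rintro ⟨h1, h2⟩
    exact normal_localization_of_etale A B q
  · rintro ⟨h1, h2⟩
    set p := Ideal.comap (algebraMap A B) q with hp
    have hlo : q.LiesOver p := ⟨rfl⟩
    let _ := Localization.AtPrime.algebraOfLiesOver p q
    have hflat : Module.Flat (Localization.AtPrime p) (Localization.AtPrime q) := inferInstance
    have hloc : IsLocalHom (algebraMap (Localization.AtPrime p) (Localization.AtPrime q)) :=
      Localization.isLocalHom_localRingHom p q (algebraMap A B) Ideal.LiesOver.over
    have hff : Module.FaithfullyFlat (Localization.AtPrime p) (Localization.AtPrime q) :=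
      Module.FaithfullyFlat.of_flat_of_isLocalHom
    exact isDomain_and_isIntegrallyClosed_of_faithfullyFlat (Localization.AtPrime p)
      (Localization.AtPrime q)

end Groth.Agent.Lib.Helper87.EtNormal
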