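import Mathlib
import Groth.Agent.Lib.Helper87.IndEtaleConv
import Groth.Agent.Lib.Helper87.EtaleNormalIff

set_option autoImplicit false
set_option linter.style.haveILetI false
universe u

/-!
# Ind-étale algebras over a ring with normal local rings are locally domains (helper87)

If all local rings of `N` are integrally closed domains and `T` is a filtered colimit of étale
`N`-algebras, then the localization of `T` at any prime is a domain; in elementary terms, for
`x * y = 0` and a prime `M` there is `u ∉ M` killing `x` or `y`. In particular every prime of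
`T` contains exactly one minimal prime.
-/

namespace Groth.Agent.Lib.Helper87.LocDomain

open Groth.Agent.Lib.Helper87.IndEt TensorProduct

variable {N : Type u} [CommRing N] {T : Type u} [CommRing T] [Algebra N T]

theorem exists_notMem_mul_eq_zero
    (hN : ∀ (p : Ideal N) [p.IsPrime],
      IsDomain (Localization.AtPrime p) ∧ IsIntegrallyClosed (Localization.AtPrime p))
    (h1 : CoveredByEtale N T) (h2 : KillsRelations N T) (M : Ideal T) [M.IsPrime]
    (x y : T) (hxy : x * y = 0) : ∃ u, u ∉ M ∧ (u * x = 0 ∨ u * y = 0) := by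
  obtain ⟨E₁, _, _, _, f₁, a₁, rfl⟩ := h1 x
  obtain ⟨E₂, _, _, _, f₂, a₂, rfl⟩ := h1 y
  let f : E₁ ⊗[N] E₂ →ₐ[N] T := Algebra.TensorProduct.lift f₁ f₂ (fun _ _ => Commute.all _ _)
  have hfa : f (a₁ ⊗ₜ 1) = f₁ a₁ := by simp [f]
  have hfb : f (1 ⊗ₜ a₂) = f₂ a₂ := by simp [f]
  have h0 : f ((a₁ ⊗ₜ 1) * (1 ⊗ₜ a₂)) = 0 := by
    rw [map_mul, hfa, hfb]
    exact hxy
  haveI : Algebra.Etale E₁ (E₁ ⊗[N] E₂) := inferInstance
  haveI : Algebra.Etale N (E₁ ⊗[N] E₂) := Algebra.Etale.comp N E₁ _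
  obtain ⟨E', _, _, _, g, f', hf', hg⟩ := h2 (E₁ ⊗[N] E₂) f _ h0
  let q : Ideal E' := M.comap f'.toRingHom
  haveI : q.IsPrime := Ideal.comap_isPrime _ _
  haveI : IsDomain (Localization.AtPrime (Ideal.comap (algebraMap N E') q)) :=
    (hN (Ideal.comap (algebraMap N E') q)).1
  haveI : IsIntegrallyClosed (Localization.AtPrime (Ideal.comap (algebraMap N E') q)) :=
    (hN (Ideal.comap (algebraMap N E') q)).2
  haveI : IsDomain (Localization.AtPrime q) := (EtNormal.normal_localization_of_etale N E' q).1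
  have hkill : ∀ c : E', algebraMap E' (Localization.AtPrime q) c = 0 →
      ∃ u, u ∉ M ∧ u * f' c = 0 := by
    intro c hc
    obtain ⟨s, hs⟩ := (IsLocalization.map_eq_zero_iff q.primeCompl _ c).mp hc
    refine ⟨f' (s : E'), s.2, ?_⟩
    rw [← map_mul, hs, map_zero]
  rw [map_mul] at hg
  have h4 : algebraMap E' (Localization.AtPrime q) (g (a₁ ⊗ₜ 1)) *
      algebraMap E' (Localization.AtPrime q) (g (1 ⊗ₜ a₂)) = 0 := by
    rw [← map_mul, hg, map_zero]
  have hfg : ∀ c, f' (g c) = f c := fun c => by rw [← hf']; rfl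
  rcases mul_eq_zero.mp h4 with h | h
  · obtain ⟨u, hu, hu0⟩ := hkill _ h
    refine ⟨u, hu, Or.inl ?_⟩
    show u * f₁ a₁ = 0
    rw [← hfa, ← hfg]
    exact hu0
  · obtain ⟨u, hu, hu0⟩ := hkill _ h
    refine ⟨u, hu, Or.inr ?_⟩
    show u * f₂ a₂ = 0
    rw [← hfb, ← hfg]
    exact hu0

/-- the kernel of the localization map at a prime `M`. -/
def locKer (M : Ideal T) [M.IsPrime] : Ideal T where
  carrier := {x | ∃ u, u ∉ M ∧ u * x = 0}
  add_mem' := by
    rintro a b ⟨u, hu, hua⟩ ⟨v, hv, hvb⟩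
    refine ⟨u * v, fun h => ?_, ?_⟩
    · rcases ‹M.IsPrime›.mem_or_mem h with h | h
      · exact hu h
      · exact hv h
    · rw [mul_add]
      have e1 : u * v * a = v * (u * a) := by ring
      have e2 : u * v * b = u * (v * b) := by ring
      rw [e1, e2, hua, hvb, mul_zero, mul_zero, add_zero]
  zero_mem' := ⟨1, fun h => ‹M.IsPrime›.ne_top ((Ideal.eq_top_iff_one M).mpr h), by simp⟩
  smul_mem' := by
    rintro c a ⟨u, hu, hua⟩
    refine ⟨u, hu, ?_⟩
    rw [smul_eq_mul]
    have : u * (c * a) = c * (u * a) := by ring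
    rw [this, hua, mul_zero]

lemma mem_locKer {M : Ideal T} [M.IsPrime] {x : T} :
    x ∈ locKer M ↔ ∃ u, u ∉ M ∧ u * x = 0 := Iff.rfl

lemma locKer_le {M : Ideal T} [M.IsPrime] {P : Ideal T} [P.IsPrime] (hPM : P ≤ M) :
    locKer M ≤ P := by
  rintro x ⟨u, hu, hux⟩
  have h0 : u * x ∈ P := by rw [hux]; exact P.zero_mem
  rcases ‹P.IsPrime›.mem_or_mem h0 with h | h
  · exact absurd (hPM h) hu
  · exact h

/-- every prime of `T` contains exactly one minimal prime. -/
theorem existsUnique_minimalPrimes_le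
    (hN : ∀ (p : Ideal N) [p.IsPrime],
      IsDomain (Localization.AtPrime p) ∧ IsIntegrallyClosed (Localization.AtPrime p))
    (h1 : CoveredByEtale N T) (h2 : KillsRelations N T) (M : Ideal T) [M.IsPrime] :
    ∃! P : Ideal T, P ∈ minimalPrimes T ∧ P ≤ M := by
  have hprime : (locKer M).IsPrime := by
    refine ⟨fun htop => ?_, fun {x y} hxy => ?_⟩
    · have h1' : (1 : T) ∈ locKer M := by rw [htop]; trivial
      obtain ⟨u, hu, hu1⟩ := h1'
      rw [mul_one] at hu1
      exact hu (hu1 ▸ M.zero_mem)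
    · obtain ⟨u, hu, huxy⟩ := hxy
      have h0 : (u * x) * y = 0 := by rw [mul_assoc]; exact huxy
      obtain ⟨v, hv, hv0⟩ := exists_notMem_mul_eq_zero hN h1 h2 M (u * x) y h0
      rcases hv0 with hv0 | hv0
      · left
        refine ⟨v * u, fun h => ?_, by rw [mul_assoc]; exact hv0⟩
        rcases ‹M.IsPrime›.mem_or_mem h with h | h
        · exact hv h
        · exact hu h
      · right
        exact ⟨v, hv, hv0⟩
  have hKM : locKer M ≤ M := locKer_le le_rfl
  have hmin : locKer M ∈ minimalPrimes T := by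
    refine ⟨⟨hprime, bot_le⟩, ?_⟩
    rintro P ⟨hP, -⟩ hPK
    haveI := hP
    exact locKer_le (hPK.trans hKM)
  refine ⟨locKer M, ⟨hmin, hKM⟩, ?_⟩
  rintro P ⟨hPmin, hPM⟩
  haveI : P.IsPrime := hPmin.1.1
  have hle : locKer M ≤ P := locKer_le hPM
  exact le_antisymm (hPmin.2 ⟨hprime, bot_le⟩ hle) hle

end Groth.Agent.Lib.Helper87.LocDomain
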