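import Mathlib
import Groth.Agent.Lib.Helper87.EtaleNormal

set_option autoImplicit false
universe u

/-!
# Local rings of a ring that is integrally closed in an absolutely flat overring (helper87)

Let `R ⊆ K` with `R` integrally closed in `K` and every element of `K` a multiple of its
square. Then each localization of `R` at a prime is an integrally closed domain.
-/

namespace Groth.Agent.Lib.Helper87.NormalLoc

open TensorProduct Polynomial NormalDvd EtNormal

attribute [local instance] Algebra.TensorProduct.rightAlgebra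

variable {R : Type u} [CommRing R] {K : Type u} [CommRing K] [Algebra R K]
  [IsIntegrallyClosedIn R K]
variable (hinj : Function.Injective (algebraMap R K)) (hK : ∀ z : K, ∃ c, z = z ^ 2 * c)
variable (p : Ideal R) [p.IsPrime]

local notation "L" => Localization.AtPrime p

omit [IsIntegrallyClosedIn R K] in
include hinj in
lemma tmul_one_injective : Function.Injective (fun l : L => l ⊗ₜ[R] (1 : K)) :=
  Algebra.TensorProduct.includeLeft_injective (S := R) (A := L) (B := K) hinj

/-- integral elements of `L ⊗ K` come from `L`. -/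
lemma exists_eq_tmul_one_of_isIntegral (t : L ⊗[R] K) (ht : IsIntegral L t) :
    ∃ l : L, t = l ⊗ₜ[R] (1 : K) := by
  have hb : Function.Bijective (TensorProduct.toIntegralClosure R L K) :=
    TensorProduct.toIntegralClosure_bijective_of_isLocalization p.primeCompl
  obtain ⟨y, hy⟩ := hb.2 ⟨t, ht⟩
  have hy' : (Algebra.TensorProduct.map (AlgHom.id L L) (integralClosure R K).val) y = t :=
    congrArg Subtype.val hy
  rw [← hy']
  clear hy hy'
  induction y using TensorProduct.induction_on with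
  | zero => exact ⟨0, by simp⟩
  | add x y hx hy =>
    obtain ⟨l₁, h₁⟩ := hx
    obtain ⟨l₂, h₂⟩ := hy
    exact ⟨l₁ + l₂, by rw [map_add, h₁, h₂, add_tmul]⟩
  | tmul l k =>
    obtain ⟨k, hk⟩ := k
    obtain ⟨r, hr⟩ := IsIntegrallyClosedIn.algebraMap_eq_of_integral hk
    refine ⟨r • l, ?_⟩
    rw [Algebra.TensorProduct.map_tmul]
    show l ⊗ₜ[R] k = (r • l) ⊗ₜ[R] (1 : K)
    rw [← hr, Algebra.algebraMap_eq_smul_one, smul_tmul]

omit [IsIntegrallyClosedIn R K] in
include hK in
/-- every element of `L ⊗ K` is a multiple of its square. -/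
lemma exists_eq_sq_mul_tensor (t : L ⊗[R] K) : ∃ c, t = t ^ 2 * c := by
  obtain ⟨k, m, rfl⟩ := IsLocalization.exists_mk'_eq
    (Algebra.algebraMapSubmonoid K p.primeCompl) t
  obtain ⟨c, hc⟩ := hK k
  have hσ : algebraMap K (L ⊗[R] K) k =
      (algebraMap K (L ⊗[R] K) k) ^ 2 * algebraMap K (L ⊗[R] K) c := by
    rw [← map_pow, ← map_mul, ← hc]
  have hu : IsUnit (algebraMap K (L ⊗[R] K) (m : K)) := IsLocalization.map_units _ m
  have hrepr : IsLocalization.mk' (L ⊗[R] K) k m =
      algebraMap K (L ⊗[R] K) k * ((hu.unit)⁻¹ : (L ⊗[R] K)ˣ) := by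
    rw [IsLocalization.mk'_eq_iff_eq_mul, mul_assoc]
    have : ((hu.unit)⁻¹ : (L ⊗[R] K)ˣ) * algebraMap K (L ⊗[R] K) (m : K) = (1 : L ⊗[R] K) :=
      IsUnit.val_inv_mul hu
    rw [this, mul_one]
  rw [hrepr]
  exact eq_sq_mul_of_mul_unit hσ (Units.isUnit _)

include hinj in
/-- idempotents of `L ⊗ K` are trivial. -/
lemma idempotent_tensor (e : L ⊗[R] K) (he : e * e = e) : e = 0 ∨ e = 1 := by
  have hint : IsIntegral L e := by
    refine ⟨X ^ 2 - X, monic_X_pow_sub (by simp), ?_⟩
    simp [pow_two, he]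
  obtain ⟨l, rfl⟩ := exists_eq_tmul_one_of_isIntegral p e hint
  have hl : l * l = l := by
    apply tmul_one_injective hinj p
    show (l * l) ⊗ₜ[R] (1 : K) = l ⊗ₜ[R] (1 : K)
    rw [← he, Algebra.TensorProduct.tmul_mul_tmul, mul_one]
  rcases IsLocalRing.isUnit_or_isUnit_one_sub_self l with h | h
  · right
    have : l = 1 := by
      have h0 : l * (l - 1) = 0 := by rw [mul_sub, mul_one, hl, sub_self]
      have := h.mul_right_eq_zero.mp h0
      exact sub_eq_zero.mp this
    rw [this]
    rfl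
  · left
    have : l = 0 := by
      have h0 : (1 - l) * l = 0 := by rw [sub_mul, one_mul, hl, sub_self]
      exact h.mul_right_eq_zero.mp h0
    rw [this, zero_tmul]

include hinj hK in
lemma isUnit_tmul_one {b : L} (hb : b ≠ 0) : IsUnit (b ⊗ₜ[R] (1 : K)) := by
  apply isUnit_of_ne_zero (exists_eq_sq_mul_tensor hK p) (idempotent_tensor hinj p)
  intro h
  apply hb
  apply tmul_one_injective hinj p
  show b ⊗ₜ[R] (1 : K) = (0 : L) ⊗ₜ[R] (1 : K)
  rw [h, zero_tmul]

include hinj hK in
/-- the local rings of `R` are domains. -/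
theorem isDomain_localization : IsDomain L := by
  have : NoZeroDivisors L := by
    refine ⟨fun {a b} hab => ?_⟩
    by_contra hne
    rw [not_or] at hne
    have hu := isUnit_tmul_one hinj hK p hne.1
    have h0 : (a ⊗ₜ[R] (1 : K)) * (b ⊗ₜ[R] (1 : K)) = 0 := by
      rw [Algebra.TensorProduct.tmul_mul_tmul, hab, zero_tmul]
    have hb0 := hu.mul_right_eq_zero.mp h0
    apply hne.2
    apply tmul_one_injective hinj p
    show b ⊗ₜ[R] (1 : K) = (0 : L) ⊗ₜ[R] (1 : K)
    rw [hb0, zero_tmul]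
  exact NoZeroDivisors.to_isDomain L

lemma algebraMap_eq_tmul_one (l : L) :
    (Algebra.TensorProduct.includeLeft : L →ₐ[R] L ⊗[R] K) l = l ⊗ₜ[R] (1 : K) := rfl

include hinj hK in
/-- the local rings of `R` satisfy the divisibility form of integral closedness. -/
theorem dvdCond_localization : DvdCond L := by
  intro a b P hb hP h0
  have hu := isUnit_tmul_one hinj hK p hb
  obtain ⟨v, hv⟩ := hu
  let ι : L →+* L ⊗[R] K := (Algebra.TensorProduct.includeLeft : L →ₐ[R] L ⊗[R] K).toRingHom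
  have hι : ∀ l, ι l = l ⊗ₜ[R] (1 : K) := fun _ => rfl
  let t : L ⊗[R] K := (a ⊗ₜ[R] (1 : K)) * ((v⁻¹ : (L ⊗[R] K)ˣ) : L ⊗[R] K)
  have hbt : ι b * t = ι a := by
    rw [hι, hι, ← hv]
    show (v : L ⊗[R] K) * ((a ⊗ₜ[R] (1 : K)) * ((v⁻¹ : (L ⊗[R] K)ˣ) : L ⊗[R] K)) = _
    rw [mul_comm, mul_assoc, Units.inv_mul, mul_one]
  have h1 := scaleRoots_eval₂_mul (p := P) ι t b
  rw [hbt, eval₂_at_apply, h0, map_zero] at h1
  have hub : IsUnit (ι b ^ P.natDegree) := by
    rw [hι, ← hv]
    exact (Units.isUnit v).pow _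
  have h2 : eval₂ ι t P = 0 := hub.mul_right_eq_zero.mp h1.symm
  have hint : IsIntegral L t := ⟨P, hP, h2⟩
  obtain ⟨l, hl⟩ := exists_eq_tmul_one_of_isIntegral p t hint
  refine ⟨l, ?_⟩
  apply tmul_one_injective hinj p
  show a ⊗ₜ[R] (1 : K) = (b * l) ⊗ₜ[R] (1 : K)
  rw [← hι a, ← hbt, hl, hι, Algebra.TensorProduct.tmul_mul_tmul, mul_one]

include hinj hK in
theorem isIntegrallyClosed_localization [IsDomain L] : IsIntegrallyClosed L :=
  isIntegrallyClosed_of_dvdCond _ (dvdCond_localization hinj hK p)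

end Groth.Agent.Lib.Helper87.NormalLoc
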