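import Mathlib

set_option autoImplicit false
universe u

/-!
# The total ring of fractions of a reduced ring with finitely many minimal primes (helper87)

Every element of that ring of fractions is a multiple of its square (the ring is absolutely
flat).
-/

namespace Groth.Agent.Lib.Helper87.TotalFrac

variable {R : Type u} [CommRing R] [IsReduced R]

/-- an element of a reduced ring outside all minimal primes is a non-zero-divisor. -/
lemma mem_nonZeroDivisors_of_forall_notMem {x : R} (h : ∀ p ∈ minimalPrimes R, x ∉ p) :
    x ∈ nonZeroDivisors R := by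
  rw [mem_nonZeroDivisors_iff_right]
  intro y hy
  have hmem : y ∈ sInf (minimalPrimes R) := by
    rw [Ideal.mem_sInf]
    intro p hp
    have hprime : p.IsPrime := hp.1.1
    have h0 : y * x ∈ p := by rw [hy]; exact p.zero_mem
    rcases hprime.mem_or_mem h0 with h1 | h1
    · exact h1
    · exact absurd h1 (h p hp)
  rw [minimalPrimes, Ideal.sInf_minimalPrimes] at hmem
  have h2 : (⊥ : Ideal R).radical = ⊥ := by
    have := nilradical_eq_zero R
    rw [nilradical] at this
    exact this
  rw [h2] at hmem
  exact hmem

/-- an element lying in all minimal primes of a reduced ring is zero. -/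
lemma eq_zero_of_forall_mem {x : R} (h : ∀ p ∈ minimalPrimes R, x ∈ p) : x = 0 := by
  have hmem : x ∈ sInf (minimalPrimes R) := by
    rw [Ideal.mem_sInf]
    intro p hp
    exact h p hp
  rw [minimalPrimes, Ideal.sInf_minimalPrimes] at hmem
  have h2 : (⊥ : Ideal R).radical = ⊥ := by
    have := nilradical_eq_zero R
    rw [nilradical] at this
    exact this
  rw [h2] at hmem
  exact hmem

/-- every element has a complementary element: the product vanishes and the sum is a
non-zero-divisor. -/
lemma exists_complement (hfin : (minimalPrimes R).Finite) (a : R) :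
    ∃ b : R, a * b = 0 ∧ a + b ∈ nonZeroDivisors R := by
  classical
  set s := hfin.toFinset with hs
  have hsmem : ∀ p, p ∈ s ↔ p ∈ minimalPrimes R := fun p => hfin.mem_toFinset
  let I := s.filter (fun p => a ∈ p)
  let J := s.filter (fun p => a ∉ p)
  have hK : ¬ (((J.inf (fun i => i) : Ideal R) : Set R) ⊆
      ⋃ i ∈ (I : Set (Ideal R)), ((fun i => i) i : Set R)) := by
    rw [Ideal.subset_union_prime (f := fun i => i) ⊥ ⊥ (fun i hi _ _ => by
      have : i ∈ minimalPrimes R := (hsmem i).mp (Finset.mem_filter.mp hi).1
      exact this.1.1)]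
    rintro ⟨i, hi, hle⟩
    have himin : i ∈ minimalPrimes R := (hsmem i).mp (Finset.mem_filter.mp hi).1
    have hai : a ∈ i := (Finset.mem_filter.mp hi).2
    have hiP : i.IsPrime := himin.1.1
    obtain ⟨j, hj, hji⟩ := (Ideal.IsPrime.inf_le' hiP).mp hle
    have hjmin : j ∈ minimalPrimes R := (hsmem j).mp (Finset.mem_filter.mp hj).1
    have haj : a ∉ j := (Finset.mem_filter.mp hj).2
    have hij : i ≤ j := himin.2 hjmin.1 hji
    exact haj (hij hai)
  obtain ⟨b, hbK, hbI⟩ := Set.not_subset.mp hK
  have hbJ : ∀ j ∈ minimalPrimes R, a ∉ j → b ∈ j := by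
    intro j hj haj
    have hjJ : j ∈ J := Finset.mem_filter.mpr ⟨(hsmem j).mpr hj, haj⟩
    have : (J.inf (fun i => i) : Ideal R) ≤ j := Finset.inf_le hjJ
    exact this hbK
  have hbI' : ∀ i ∈ minimalPrimes R, a ∈ i → b ∉ i := by
    intro i hi hai hbi
    apply hbI
    have hiI : i ∈ I := Finset.mem_filter.mpr ⟨(hsmem i).mpr hi, hai⟩
    exact Set.mem_biUnion (Finset.mem_coe.mpr hiI) hbi
  refine ⟨b, ?_, ?_⟩
  · apply eq_zero_of_forall_mem
    intro p hp
    by_cases hap : a ∈ p
    · exact p.mul_mem_right _ hap
    · exact p.mul_mem_left _ (hbJ p hp hap)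
  · apply mem_nonZeroDivisors_of_forall_notMem
    intro p hp hmem
    have hprime : p.IsPrime := hp.1.1
    by_cases hap : a ∈ p
    · have : b ∈ p := by
        have := p.sub_mem hmem hap
        simpa using this
      exact hbI' p hp hap this
    · have hb := hbJ p hp hap
      have : a ∈ p := by
        have := p.sub_mem hmem hb
        simpa using this
      exact hap this

/-- the total ring of fractions of a reduced ring with finitely many minimal primes is
absolutely flat: every element is a multiple of its square. -/
theorem exists_eq_sq_mul (hfin : (minimalPrimes R).Finite) (K : Type*) [CommRing K]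
    [Algebra R K] [IsLocalization (nonZeroDivisors R) K] (z : K) : ∃ c : K, z = z ^ 2 * c := by
  obtain ⟨a, s, rfl⟩ := IsLocalization.exists_mk'_eq (nonZeroDivisors R) z
  obtain ⟨b, hab, hnz⟩ := exists_complement hfin a
  refine ⟨IsLocalization.mk' K (s : R) (⟨a + b, hnz⟩ : nonZeroDivisors R), ?_⟩
  rw [pow_two, ← IsLocalization.mk'_mul, ← IsLocalization.mk'_mul, IsLocalization.mk'_eq_iff_eq]
  congr 1
  simp only [Submonoid.coe_mul]
  have : (s : R) * (s : R) * (a + b) * a = (s : R) * (a * a * (s : R)) + (s : R) * (s : R) * (a * b) := by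
    ring
  rw [this, hab, mul_zero, add_zero]

end Groth.Agent.Lib.Helper87.TotalFrac
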