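import Mathlib
import Groth.Agent.Lib.Helper87.GeomUnibranch
import Groth.Agent.Lib.Helper87.NormalLoc
import Groth.Agent.Lib.Helper87.TotalFrac
import Groth.Agent.Lib.Helper87.LocDomain
import Groth.Agent.Lib.Helper87.IntegralHensIdem

set_option autoImplicit false
set_option linter.style.haveILetI false
universe u

/-!
# Minimal primes and maximal ideals of `A' ⊗ A^h` (helper87)

`A` a ring with finitely many minimal primes, `A'` the integral closure of `A_red` in its total
ring of fractions. The local rings of `A'` are integrally closed domains
(`normRed_localization`). For an ind-étale `A`-algebra `S` that is henselian local, every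
minimal prime of `A' ⊗[A] S` lies in exactly one maximal ideal and every maximal ideal contains
exactly one minimal prime (`minimal_maximal_unique`).
-/

open IsLocalRing TensorProduct

namespace Groth.Agent.Lib.Helper87.BranchTensor

open Groth.Agent.Lib.Helper87.Unibranch

section General

variable (A : Type u) [CommRing A]

theorem finite_minimalPrimes_red (hfin : (minimalPrimes A).Finite) :
    (minimalPrimes (CAlg2.red A)).Finite := by
  have h1 : minimalPrimes A =
      Ideal.comap (Ideal.Quotient.mk (nilradical A)) '' minimalPrimes (CAlg2.red A) := by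
    rw [← Ideal.minimalPrimes_eq_comap, nilradical, Ideal.radical_minimalPrimes]
    rfl
  rw [h1] at hfin
  exact Set.Finite.of_finite_image hfin
    (Ideal.comap_injective_of_surjective _ Ideal.Quotient.mk_surjective).injOn

/-- the local rings of the normalization are integrally closed domains. -/
theorem normRed_localization (hfin : (minimalPrimes A).Finite) (p : Ideal (CAlg2.normRed A))
    [p.IsPrime] :
    IsDomain (Localization.AtPrime p) ∧ IsIntegrallyClosed (Localization.AtPrime p) := by
  have hinj : Function.Injective
      (algebraMap (CAlg2.normRed A) (FractionRing (CAlg2.red A))) := Subtype.val_injective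
  have hK : ∀ z : FractionRing (CAlg2.red A), ∃ c, z = z ^ 2 * c :=
    TotalFrac.exists_eq_sq_mul (finite_minimalPrimes_red A hfin) _
  haveI := NormalLoc.isDomain_localization hinj hK p
  exact ⟨inferInstance, NormalLoc.isIntegrallyClosed_localization hinj hK p⟩

end General

section Main

variable (A S : Type u) [CommRing A] [CommRing S] [HenselianLocalRing S] [Algebra A S]

attribute [local instance] Algebra.TensorProduct.rightAlgebra

theorem minimal_maximal_unique (hfin : (minimalPrimes A).Finite) (hpres : IndEt.HasPres A S) :
    (∀ q ∈ minimalPrimes ((CAlg2.normRed A) ⊗[A] S),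
        ∃! m : Ideal ((CAlg2.normRed A) ⊗[A] S), m.IsMaximal ∧ q ≤ m) ∧
      (∀ m : Ideal ((CAlg2.normRed A) ⊗[A] S), m.IsMaximal →
        ∃! q : Ideal ((CAlg2.normRed A) ⊗[A] S),
          q ∈ minimalPrimes ((CAlg2.normRed A) ⊗[A] S) ∧ q ≤ m) := by
  haveI : Algebra.IsIntegral S (CAlg2.normRed A ⊗[A] S) :=
    HensIntegral.isIntegral_right A (CAlg2.normRed A) S
  have hpres' : IndEt.HasPres (CAlg2.normRed A) (CAlg2.normRed A ⊗[A] S) :=
    Groth.Agent.S0733.result A S (CAlg2.normRed A) hpres
  refine ⟨fun q hq => IntHensIdem.existsUnique_isMaximal_le S (T := CAlg2.normRed A ⊗[A] S) hq.1.1, fun m hm => ?_⟩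
  haveI : m.IsPrime := hm.isPrime
  exact LocDomain.existsUnique_minimalPrimes_le (fun p _ => normRed_localization A hfin p)
    hpres'.coveredByEtale hpres'.killsRelations m

end Main

end Groth.Agent.Lib.Helper87.BranchTensor
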