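import Mathlib

set_option autoImplicit false
set_option linter.style.haveILetI false
universe u

/-!
# Minimal primes along a fraction-like ring map (helper87)

`bijOn_comap_minimalPrimes`: let `φ : U →+* V` be a ring map with nil kernel and `S` a submonoid of
`U` whose elements avoid all minimal primes of `U` and (after `φ`) of `V`, such that every element
of `V` is carried into the image of `φ` by some element of `S`.  Then contraction along `φ` is a
bijection from the minimal primes of `V` onto the minimal primes of `U`.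
-/

namespace Groth.Agent.Lib.Helper87.MinPrimesLoc

variable {U V : Type*} [CommRing U] [CommRing V] (φ : U →+* V) (S : Submonoid U)

/-- the extension of an ideal through the fraction-like map. -/
def ext (h4 : ∀ v : V, ∃ s ∈ S, ∃ u, φ s * v = φ u) (q : Ideal U) : Ideal V where
  carrier := {v | ∃ s ∈ S, ∃ u ∈ q, φ s * v = φ u}
  zero_mem' := ⟨1, S.one_mem, 0, q.zero_mem, by simp⟩
  add_mem' := by
    rintro v w ⟨s, hs, u, hu, h1⟩ ⟨t, ht, u', hu', h2⟩
    refine ⟨s * t, S.mul_mem hs ht, t * u + s * u', q.add_mem (q.mul_mem_left _ hu)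
      (q.mul_mem_left _ hu'), ?_⟩
    rw [map_mul, map_add, map_mul, map_mul, ← h1, ← h2]
    ring
  smul_mem' := by
    rintro c v ⟨s, hs, u, hu, h1⟩
    obtain ⟨t, ht, u', h2⟩ := h4 c
    refine ⟨s * t, S.mul_mem hs ht, u' * u, q.mul_mem_left _ hu, ?_⟩
    rw [map_mul, map_mul, ← h1, ← h2, smul_eq_mul]
    ring

variable (h4 : ∀ v : V, ∃ s ∈ S, ∃ u, φ s * v = φ u)

theorem mem_ext {q : Ideal U} {v : V} :
    v ∈ ext φ S h4 q ↔ ∃ s ∈ S, ∃ u ∈ q, φ s * v = φ u := Iff.rfl

theorem comap_ext {q : Ideal U} [hq : q.IsPrime] (hker : RingHom.ker φ ≤ q)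
    (hS : ∀ s ∈ S, s ∉ q) : (ext φ S h4 q).comap φ = q := by
  ext x
  rw [Ideal.mem_comap, mem_ext]
  constructor
  · rintro ⟨s, hs, u, hu, h⟩
    have h1 : s * x - u ∈ RingHom.ker φ := by
      rw [RingHom.mem_ker, map_sub, map_mul, h, sub_self]
    have h2 : s * x ∈ q := by
      have := q.add_mem (hker h1) hu
      rwa [sub_add_cancel] at this
    exact (hq.mem_or_mem h2).resolve_left (hS s hs)
  · intro hx
    exact ⟨1, S.one_mem, x, hx, by simp⟩

theorem ext_isPrime {q : Ideal U} [hq : q.IsPrime] (hker : RingHom.ker φ ≤ q)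
    (hS : ∀ s ∈ S, s ∉ q) : (ext φ S h4 q).IsPrime := by
  have hc := comap_ext φ S h4 hker hS
  constructor
  · intro htop
    have : (1 : U) ∈ (ext φ S h4 q).comap φ := by
      rw [Ideal.mem_comap, htop]
      trivial
    rw [hc] at this
    exact hq.ne_top ((Ideal.eq_top_iff_one q).mpr this)
  · intro v w hvw
    obtain ⟨s, hs, u, hu, h⟩ := hvw
    obtain ⟨t₁, ht₁, u₁, h1⟩ := h4 v
    obtain ⟨t₂, ht₂, u₂, h2⟩ := h4 w
    have h3 : φ (s * (u₁ * u₂)) = φ (t₁ * t₂ * u) := by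
      rw [map_mul, map_mul, map_mul, map_mul, ← h1, ← h2, ← h]
      ring
    have h4' : s * (u₁ * u₂) - t₁ * t₂ * u ∈ RingHom.ker φ := by
      rw [RingHom.mem_ker, map_sub, h3, sub_self]
    have h5 : s * (u₁ * u₂) ∈ q := by
      have := q.add_mem (hker h4') (q.mul_mem_left (t₁ * t₂) hu)
      rwa [sub_add_cancel] at this
    have h6 : u₁ * u₂ ∈ q := (hq.mem_or_mem h5).resolve_left (hS s hs)
    rcases hq.mem_or_mem h6 with h7 | h7
    · left
      exact ⟨t₁, ht₁, u₁, h7, h1⟩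
    · right
      exact ⟨t₂, ht₂, u₂, h7, h2⟩

theorem ext_comap {P : Ideal V} [hP : P.IsPrime] (hS : ∀ s ∈ S, φ s ∉ P) :
    ext φ S h4 (P.comap φ) = P := by
  ext v
  rw [mem_ext]
  constructor
  · rintro ⟨s, hs, u, hu, h⟩
    have : φ s * v ∈ P := by
      rw [h]
      exact hu
    exact (hP.mem_or_mem this).resolve_left (hS s hs)
  · intro hv
    obtain ⟨t, ht, u, h⟩ := h4 v
    refine ⟨t, ht, u, ?_, h⟩
    rw [Ideal.mem_comap, ← h]
    exact P.mul_mem_left _ hv

include h4 in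
theorem bijOn_comap_minimalPrimes (hker : RingHom.ker φ ≤ nilradical U)
    (hSU : ∀ q ∈ minimalPrimes U, ∀ s ∈ S, s ∉ q)
    (hSV : ∀ P ∈ minimalPrimes V, ∀ s ∈ S, φ s ∉ P) :
    Set.BijOn (fun P : Ideal V => P.comap φ) (minimalPrimes V) (minimalPrimes U) := by
  have hkerq : ∀ q : Ideal U, q.IsPrime → RingHom.ker φ ≤ q := fun q hq =>
    hker.trans (@nilradical_le_prime _ _ q hq)
  refine ⟨?_, ?_, ?_⟩
  · intro P hP
    haveI hPp : P.IsPrime := hP.1.1
    haveI : (P.comap φ).IsPrime := Ideal.comap_isPrime φ P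
    obtain ⟨q, hq, hqle⟩ := Ideal.exists_minimalPrimes_le (I := ⊥) (J := P.comap φ) bot_le
    haveI hqp : q.IsPrime := hq.1.1
    have hqS := hSU q hq
    haveI := ext_isPrime φ S h4 (hkerq q hqp) hqS
    have hle : ext φ S h4 q ≤ P := by
      rintro v ⟨s, hs, u, hu, h⟩
      have : φ s * v ∈ P := by
        rw [h]
        exact hqle hu
      exact (hPp.mem_or_mem this).resolve_left (hSV P hP s hs)
    have heq : P = ext φ S h4 q := le_antisymm (hP.2 ⟨inferInstance, bot_le⟩ hle) hle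
    show P.comap φ ∈ minimalPrimes U
    rw [heq, comap_ext φ S h4 (hkerq q hqp) hqS]
    exact hq
  · intro P₁ hP₁ P₂ hP₂ h
    haveI : P₁.IsPrime := hP₁.1.1
    haveI : P₂.IsPrime := hP₂.1.1
    have h' : P₁.comap φ = P₂.comap φ := h
    rw [← ext_comap φ S h4 (hSV P₁ hP₁), ← ext_comap φ S h4 (hSV P₂ hP₂), h']
  · intro q hq
    haveI hqp : q.IsPrime := hq.1.1
    have hqS := hSU q hq
    haveI := ext_isPrime φ S h4 (hkerq q hqp) hqS
    obtain ⟨P, hP, hPle⟩ := Ideal.exists_minimalPrimes_le (I := ⊥) (J := ext φ S h4 q) bot_le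
    haveI : P.IsPrime := hP.1.1
    refine ⟨P, hP, ?_⟩
    have h1 : P.comap φ ≤ q := by
      rw [← comap_ext φ S h4 (hkerq q hqp) hqS]
      exact Ideal.comap_mono hPle
    exact le_antisymm h1 (hq.2 ⟨Ideal.comap_isPrime φ P, bot_le⟩ h1)

end Groth.Agent.Lib.Helper87.MinPrimesLoc
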