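import Mathlib
import Groth.Prelude.Def_CAlg2
import Groth.Agent.Lib.Helper87.MinPrimesLoc

set_option autoImplicit false
set_option linter.style.haveILetI false
universe u

/-!
# Minimal primes of `normRed A ⊗[A] S` for a flat `A`-algebra `S` (helper87)

`bijOn_comap_includeRight`: for a flat `A`-algebra `S`, contraction along
`S → normRed A ⊗[A] S` is a bijection from the minimal primes of `normRed A ⊗[A] S` onto the minimal
primes of `S`.
-/

open TensorProduct

namespace Groth.Agent.Lib.Helper87.MinPrimesTensor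

variable (A : Type u) [CommRing A] (S : Type u) [CommRing S] [Algebra A S]

/-- elements of `A` whose class in the reduction is a nonzerodivisor. -/
def S₀ : Submonoid A :=
  (nonZeroDivisors (CAlg2.red A)).comap (Ideal.Quotient.mk (nilradical A))

/-- their images in `S`. -/
def SS : Submonoid S := (S₀ A).map (algebraMap A S)

/-- the structure map `S → normRed A ⊗[A] S`. -/
noncomputable def φ : S →+* CAlg2.normRed A ⊗[A] S :=
  (Algebra.TensorProduct.includeRight : S →ₐ[A] CAlg2.normRed A ⊗[A] S).toRingHom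

theorem φ_apply (x : S) : φ A S x = (1 : CAlg2.normRed A) ⊗ₜ[A] x := rfl

variable {A}

theorem algebraMap_mem_nonZeroDivisors {a : A} (ha : a ∈ S₀ A) :
    algebraMap A (CAlg2.normRed A) a ∈ nonZeroDivisors (CAlg2.normRed A) := by
  rw [mem_nonZeroDivisors_iff_right]
  intro n hn
  have hu : IsUnit (algebraMap (CAlg2.red A) (FractionRing (CAlg2.red A))
      (Ideal.Quotient.mk (nilradical A) a)) :=
    IsLocalization.map_units (FractionRing (CAlg2.red A))
      (⟨Ideal.Quotient.mk (nilradical A) a, ha⟩ : nonZeroDivisors (CAlg2.red A))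
  have h1 : (n : FractionRing (CAlg2.red A)) * algebraMap (CAlg2.red A)
      (FractionRing (CAlg2.red A)) (Ideal.Quotient.mk (nilradical A) a) = 0 := by
    have := congrArg (fun z : CAlg2.normRed A => (z : FractionRing (CAlg2.red A))) hn
    exact this
  exact Subtype.ext (hu.mul_left_eq_zero.mp h1)

variable [Module.Flat A S]

theorem φ_mem_nonZeroDivisors {a : A} (ha : a ∈ S₀ A) :
    φ A S (algebraMap A S a) ∈ nonZeroDivisors (CAlg2.normRed A ⊗[A] S) := by
  have h1 : φ A S (algebraMap A S a) =
      algebraMap (CAlg2.normRed A) (CAlg2.normRed A ⊗[A] S)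
        (algebraMap A (CAlg2.normRed A) a) := by
    rw [φ_apply, Algebra.TensorProduct.algebraMap_apply, Algebra.algebraMap_self,
      RingHom.id_apply, Algebra.algebraMap_eq_smul_one, Algebra.algebraMap_eq_smul_one,
      smul_tmul]
  have h2 : IsSMulRegular (CAlg2.normRed A) (algebraMap A (CAlg2.normRed A) a) := by
    have := algebraMap_mem_nonZeroDivisors ha
    intro x y hxy
    simp only [smul_eq_mul] at hxy
    have h3 : (x - y) * algebraMap A (CAlg2.normRed A) a = 0 := by
      rw [sub_mul, mul_comm x, mul_comm y, hxy, sub_self]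
    exact sub_eq_zero.mp ((mem_nonZeroDivisors_iff_right.mp this) _ h3)
  have h3 := IsSMulRegular.of_flat (S := CAlg2.normRed A ⊗[A] S) h2
  rw [h1, mem_nonZeroDivisors_iff_right]
  intro v hv
  apply h3
  simp only [smul_eq_mul, mul_zero]
  rw [mul_comm]
  exact hv

variable (A)

omit [Module.Flat A S] in
theorem map_nilradical_le : (nilradical A).map (algebraMap A S) ≤ nilradical S := by
  rw [Ideal.map_le_iff_le_comap]
  intro x hx
  exact (mem_nilradical.mp hx).map _

theorem ker_φ_le : RingHom.ker (φ A S) ≤ nilradical S := by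
  intro x hx
  rw [RingHom.mem_ker, φ_apply] at hx
  -- pass to `red A ⊗[A] S`
  let ψ : CAlg2.red A ⊗[A] S →ₐ[A] CAlg2.normRed A ⊗[A] S :=
    Algebra.TensorProduct.map (IsScalarTower.toAlgHom A (CAlg2.red A) (CAlg2.normRed A))
      (AlgHom.id A S)
  have hψ : Function.Injective ψ := by
    have hinj : Function.Injective (IsScalarTower.toAlgHom A (CAlg2.red A) (CAlg2.normRed A)) := by
      intro x y hxy
      have := congrArg (fun z : CAlg2.normRed A => (z : FractionRing (CAlg2.red A))) hxy
      exact IsFractionRing.injective (CAlg2.red A) (FractionRing (CAlg2.red A)) this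
    have h1 := Module.Flat.rTensor_preserves_injective_linearMap (M := S)
      (IsScalarTower.toAlgHom A (CAlg2.red A) (CAlg2.normRed A)).toLinearMap hinj
    have h2 : ∀ x, ψ x = LinearMap.rTensor S
        (IsScalarTower.toAlgHom A (CAlg2.red A) (CAlg2.normRed A)).toLinearMap x := by
      intro x
      induction x with
      | zero => simp
      | tmul a b => simp [ψ]
      | add x y hx hy => simp only [map_add, hx, hy]
    intro x y hxy
    apply h1
    rw [← h2, ← h2, hxy]
  have h1 : ψ ((1 : CAlg2.red A) ⊗ₜ[A] x) = 0 := by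
    rw [Algebra.TensorProduct.map_tmul, map_one]
    exact hx
  have h2 : (1 : CAlg2.red A) ⊗ₜ[A] x = 0 := hψ (by rw [h1, map_zero])
  let e := Algebra.TensorProduct.quotIdealMapEquivTensorQuot S (nilradical A)
  have h3 : e (Ideal.Quotient.mk _ x) = 0 := by
    rw [Algebra.TensorProduct.quotIdealMapEquivTensorQuot_mk]
    have := congrArg (Algebra.TensorProduct.comm A (CAlg2.red A) S) h2
    rwa [Algebra.TensorProduct.comm_tmul, map_zero] at this
  have h4 : Ideal.Quotient.mk ((nilradical A).map (algebraMap A S)) x = 0 :=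
    e.injective (by rw [h3, map_zero])
  exact map_nilradical_le A S (Ideal.Quotient.eq_zero_iff_mem.mp h4)

omit [Module.Flat A S] in
theorem exists_mul_eq (v : CAlg2.normRed A ⊗[A] S) :
    ∃ s ∈ SS A S, ∃ u, φ A S s * v = φ A S u := by
  induction v with
  | zero => exact ⟨1, (SS A S).one_mem, 0, by simp⟩
  | tmul n x =>
    obtain ⟨b, r', hr'⟩ := IsLocalization.exists_integer_multiple (nonZeroDivisors (CAlg2.red A))
      (n : FractionRing (CAlg2.red A))
    obtain ⟨a, ha⟩ := Ideal.Quotient.mk_surjective (b : CAlg2.red A)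
    obtain ⟨a', rfl⟩ := Ideal.Quotient.mk_surjective r'
    have haS : a ∈ S₀ A := by
      show Ideal.Quotient.mk (nilradical A) a ∈ nonZeroDivisors (CAlg2.red A)
      rw [ha]
      exact b.2
    have hn : a • n = algebraMap A (CAlg2.normRed A) a' := by
      apply Subtype.ext
      show a • (n : FractionRing (CAlg2.red A)) = _
      have e1 : a • (n : FractionRing (CAlg2.red A)) =
          (Ideal.Quotient.mk (nilradical A) a) • (n : FractionRing (CAlg2.red A)) := by
        rw [← IsScalarTower.algebraMap_smul (CAlg2.red A) a (n : FractionRing (CAlg2.red A))]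
        rfl
      rw [e1, ha, ← hr']
      rfl
    refine ⟨algebraMap A S a, ⟨a, haS, rfl⟩, a' • x, ?_⟩
    rw [φ_apply, φ_apply, Algebra.TensorProduct.tmul_mul_tmul, one_mul, ← Algebra.smul_def,
      ← smul_tmul, hn, Algebra.algebraMap_eq_smul_one, smul_tmul]
  | add v w hv hw =>
    obtain ⟨s, hs, u, h1⟩ := hv
    obtain ⟨t, ht, u', h2⟩ := hw
    refine ⟨s * t, (SS A S).mul_mem hs ht, t * u + s * u', ?_⟩
    rw [map_mul, map_add, map_mul, map_mul, ← h1, ← h2]
    ring

theorem bijOn_comap_includeRight :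
    Set.BijOn (fun P : Ideal (CAlg2.normRed A ⊗[A] S) =>
        P.comap (Algebra.TensorProduct.includeRight.toRingHom :
          S →+* CAlg2.normRed A ⊗[A] S))
      (minimalPrimes (CAlg2.normRed A ⊗[A] S)) (minimalPrimes S) := by
  have hSV : ∀ P ∈ minimalPrimes (CAlg2.normRed A ⊗[A] S), ∀ s ∈ SS A S, φ A S s ∉ P := by
    rintro P hP _ ⟨a, ha, rfl⟩ hmem
    exact notMem_nonZeroDivisors_of_mem_mem_minimalPrimes hmem hP (φ_mem_nonZeroDivisors S ha)
  have hSU : ∀ q ∈ minimalPrimes S, ∀ s ∈ SS A S, s ∉ q := by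
    rintro q hq _ ⟨a, ha, rfl⟩ hmem
    have h1 : algebraMap A S a ∈ ⋃ p ∈ (⊥ : Ideal S).minimalPrimes, (p : Set S) :=
      Set.mem_biUnion hq hmem
    rw [Ideal.iUnion_minimalPrimes] at h1
    obtain ⟨y, hy, n, hn⟩ := h1
    rw [Ideal.mem_bot] at hn
    apply hy
    -- `y` is nilpotent
    have h2 : φ A S (algebraMap A S a) ^ n * φ A S (y ^ n) = 0 := by
      rw [← map_pow, ← map_mul, ← mul_pow, hn, map_zero]
    have h3 : φ A S (algebraMap A S a) ^ n ∈ nonZeroDivisors (CAlg2.normRed A ⊗[A] S) :=
      pow_mem (φ_mem_nonZeroDivisors S ha) n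
    have h4 : φ A S (y ^ n) = 0 := by
      rw [mul_comm] at h2
      exact (mem_nonZeroDivisors_iff_right.mp h3) _ h2
    have h5 : y ^ n ∈ nilradical S := ker_φ_le A S ((RingHom.mem_ker).mpr h4)
    obtain ⟨m, hm⟩ := mem_nilradical.mp h5
    exact ⟨n * m, by rw [pow_mul]; exact hm⟩
  have key := MinPrimesLoc.bijOn_comap_minimalPrimes (U := S) (V := CAlg2.normRed A ⊗[A] S)
    (φ A S) (SS A S) (exists_mul_eq A S) (ker_φ_le A S) hSU hSV
  exact key

end Groth.Agent.Lib.Helper87.MinPrimesTensor
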