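import Mathlib
import Groth.Agent.Lib.Helper87.BranchTensor
import Groth.Agent.Lib.Helper87.MinPrimesTensor
import Groth.Agent.Lib.Helper87.HensProps

set_option autoImplicit false
set_option linter.style.haveILetI false
universe u

/-!
# Counting minimal primes of the henselization (helper87)

* `card_minimalPrimes_eq_tensor`: `S` flat over `A`: `Min(S)` and `Min(A' ⊗ S)` have the same
  cardinality.
* `card_minimalPrimes_tensor_eq`: `S` henselian local and ind-étale over `A` (finitely many
  minimal primes): `Min(A' ⊗ S)` and `Max(A' ⊗ S)` have the same cardinality.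
* `card_maximalSpectrum_tensor_eq`: `S` a henselization of the local ring `A`, `B` integral over
  `A`: `Max(B ⊗ S)` and `Max(B)` have the same cardinality.
* `infinite_minimalPrimes_of_faithfullyFlat`.
-/

open IsLocalRing TensorProduct

namespace Groth.Agent.Lib.Helper87.BranchCount

open Groth.Agent.Lib.Helper87.Unibranch

attribute [local instance] Algebra.TensorProduct.rightAlgebra

section Flat

variable (A S : Type u) [CommRing A] [CommRing S] [Algebra A S]

theorem card_minimalPrimes_eq_tensor [Module.Flat A S] :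
    ENat.card (minimalPrimes S) = ENat.card (minimalPrimes (CAlg2.normRed A ⊗[A] S)) :=
  (ENat.card_congr (Set.BijOn.equiv _ (MinPrimesTensor.bijOn_comap_includeRight A S))).symm

theorem infinite_minimalPrimes_of_faithfullyFlat [Module.FaithfullyFlat A S]
    (h : ¬ (minimalPrimes A).Finite) : Infinite (minimalPrimes S) := by
  rw [Set.infinite_coe_iff]
  intro hfin
  apply h
  refine (hfin.image (Ideal.comap (algebraMap A S))).subset ?_
  intro p hp
  haveI : p.IsPrime := hp.1.1
  obtain ⟨Q', hQ'⟩ := PrimeSpectrum.comap_surjective_of_faithfullyFlat (A := A) (B := S)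
    ⟨p, inferInstance⟩
  obtain ⟨Q, hQmin, hQle⟩ := Ideal.exists_minimalPrimes_le (I := ⊥) (J := Q'.asIdeal) bot_le
  refine ⟨Q, hQmin, ?_⟩
  haveI : Q.IsPrime := hQmin.1.1
  have hle : Q.comap (algebraMap A S) ≤ p := by
    have h1 : Q.comap (algebraMap A S) ≤ Q'.asIdeal.comap (algebraMap A S) :=
      Ideal.comap_mono hQle
    have h2 : Q'.asIdeal.comap (algebraMap A S) = p := congrArg PrimeSpectrum.asIdeal hQ'
    rwa [h2] at h1
  exact le_antisymm hle (hp.2 ⟨Ideal.comap_isPrime _ _, bot_le⟩ hle)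

end Flat

section MinMax

variable (A S : Type u) [CommRing A] [CommRing S] [HenselianLocalRing S] [Algebra A S]

theorem card_minimalPrimes_tensor_eq (hfin : (minimalPrimes A).Finite)
    (hpres : IndEt.HasPres A S) :
    ENat.card (minimalPrimes (CAlg2.normRed A ⊗[A] S)) =
      ENat.card (MaximalSpectrum (CAlg2.normRed A ⊗[A] S)) := by
  obtain ⟨h1, h2⟩ := BranchTensor.minimal_maximal_unique A S hfin hpres
  let φ : minimalPrimes (CAlg2.normRed A ⊗[A] S) → MaximalSpectrum (CAlg2.normRed A ⊗[A] S) :=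
    fun q => ⟨(h1 q.1 q.2).choose, (h1 q.1 q.2).choose_spec.1.1⟩
  have hφ : ∀ q, q.1 ≤ (φ q).asIdeal := fun q => (h1 q.1 q.2).choose_spec.1.2
  have hbij : Function.Bijective φ := by
    constructor
    · intro q q' hqq'
      obtain ⟨P, -, hPuniq⟩ := h2 (φ q).asIdeal (φ q).isMaximal
      have e1 : q.1 = P := hPuniq q.1 ⟨q.2, hφ q⟩
      have e2 : q'.1 = P := hPuniq q'.1 ⟨q'.2, by rw [hqq']; exact hφ q'⟩
      exact Subtype.ext (e1.trans e2.symm)
    · intro m
      obtain ⟨P, ⟨hPmin, hPm⟩, -⟩ := h2 m.asIdeal m.isMaximal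
      refine ⟨⟨P, hPmin⟩, ?_⟩
      obtain ⟨M, -, hMuniq⟩ := h1 P hPmin
      have e1 : (φ ⟨P, hPmin⟩).asIdeal = M :=
        hMuniq _ ⟨(φ ⟨P, hPmin⟩).isMaximal, hφ ⟨P, hPmin⟩⟩
      have e2 : m.asIdeal = M := hMuniq _ ⟨m.isMaximal, hPm⟩
      exact MaximalSpectrum.ext (e1.trans e2.symm)
  exact ENat.card_congr (Equiv.ofBijective φ hbij)

end MinMax

section Hens

variable (A S : Type u) [CommRing A] [IsLocalRing A] [CommRing S] [IsLocalRing S] [Algebra A S]
  [IsLocalHom (algebraMap A S)] [Hensel.IsHenselization A S]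
variable (B : Type u) [CommRing B] [Algebra A B] [Algebra.IsIntegral A B]

theorem exists_sub_tmul_one_mem (t : B ⊗[A] S) :
    ∃ b : B, t - b ⊗ₜ[A] (1 : S) ∈ (maximalIdeal S).map (algebraMap S (B ⊗[A] S)) := by
  induction t with
  | zero => exact ⟨0, by simp⟩
  | tmul b s =>
    obtain ⟨a, ha⟩ := Hens.exists_sub_mem_of_isHenselization A S s
    refine ⟨a • b, ?_⟩
    have e : b ⊗ₜ[A] s - (a • b) ⊗ₜ[A] (1 : S) =
        (b ⊗ₜ[A] (1 : S)) * algebraMap S (B ⊗[A] S) (s - algebraMap A S a) := by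
      show _ = (b ⊗ₜ[A] (1 : S)) * ((1 : B) ⊗ₜ[A] (s - algebraMap A S a))
      rw [Algebra.TensorProduct.tmul_mul_tmul, mul_one, one_mul, tmul_sub, smul_tmul,
        Algebra.algebraMap_eq_smul_one]
    rw [e]
    exact Ideal.mul_mem_left _ _ (Ideal.mem_map_of_mem _ ha)
  | add x y hx hy =>
    obtain ⟨b₁, h₁⟩ := hx
    obtain ⟨b₂, h₂⟩ := hy
    refine ⟨b₁ + b₂, ?_⟩
    have e : x + y - (b₁ + b₂) ⊗ₜ[A] (1 : S) =
        (x - b₁ ⊗ₜ[A] (1 : S)) + (y - b₂ ⊗ₜ[A] (1 : S)) := by
      rw [add_tmul]; ring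
    rw [e]
    exact Ideal.add_mem _ h₁ h₂

theorem card_maximalSpectrum_tensor_eq :
    ENat.card (MaximalSpectrum (B ⊗[A] S)) = ENat.card (MaximalSpectrum B) := by
  haveI : Algebra.IsIntegral S (B ⊗[A] S) := HensIntegral.isIntegral_right A B S
  haveI : Module.FaithfullyFlat A S := Hens.faithfullyFlat_of_isHenselization A S
  have hmS : ∀ M : Ideal (B ⊗[A] S), M.IsMaximal →
      (maximalIdeal S).map (algebraMap S (B ⊗[A] S)) ≤ M := by
    intro M hM
    haveI := hM
    have h := Groth.Agent.Lib.Helper9.liesOver_maximalIdeal_of_isMaximal (R := S) M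
    rw [Ideal.map_le_iff_le_comap]
    exact h.over.le
  have hmax : ∀ M : Ideal (B ⊗[A] S), M.IsMaximal →
      (M.comap (algebraMap B (B ⊗[A] S))).IsMaximal := by
    intro M hM
    haveI := hM
    haveI hp : (M.comap (algebraMap B (B ⊗[A] S))).IsPrime := Ideal.comap_isPrime _ _
    -- the contraction to `A` is the maximal ideal
    have h1 : (M.comap (algebraMap B (B ⊗[A] S))).comap (algebraMap A B) = maximalIdeal A := by
      rw [Ideal.comap_comap, ← IsScalarTower.algebraMap_eq,
        IsScalarTower.algebraMap_eq A S (B ⊗[A] S), ← Ideal.comap_comap]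
      have h := Groth.Agent.Lib.Helper9.liesOver_maximalIdeal_of_isMaximal (R := S) M
      have h2 : M.comap (algebraMap S (B ⊗[A] S)) = maximalIdeal S := h.over.symm
      rw [h2]
      exact ((IsLocalRing.local_hom_TFAE (algebraMap A S)).out 0 4).mp ‹IsLocalHom (algebraMap A S)›
    have hmaxA : ((M.comap (algebraMap B (B ⊗[A] S))).comap (algebraMap A B)).IsMaximal := by
      rw [h1]; infer_instance
    exact Ideal.isMaximal_of_isIntegral_of_isMaximal_comap _ hmaxA
  let φ : MaximalSpectrum (B ⊗[A] S) → MaximalSpectrum B :=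
    fun M => ⟨M.asIdeal.comap (algebraMap B (B ⊗[A] S)), hmax _ M.isMaximal⟩
  have hbij : Function.Bijective φ := by
    constructor
    · intro M₁ M₂ h12
      have h12' : M₁.asIdeal.comap (algebraMap B (B ⊗[A] S)) =
          M₂.asIdeal.comap (algebraMap B (B ⊗[A] S)) := congrArg MaximalSpectrum.asIdeal h12
      have key : ∀ M M' : MaximalSpectrum (B ⊗[A] S),
          M.asIdeal.comap (algebraMap B (B ⊗[A] S)) =
            M'.asIdeal.comap (algebraMap B (B ⊗[A] S)) → M.asIdeal ≤ M'.asIdeal := by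
        intro M M' hMM' t ht
        obtain ⟨b, hb⟩ := exists_sub_tmul_one_mem A S B t
        have hbM : b ⊗ₜ[A] (1 : S) ∈ M.asIdeal := by
          have := M.asIdeal.sub_mem ht (hmS _ M.isMaximal hb)
          simpa using this
        have hbM' : b ⊗ₜ[A] (1 : S) ∈ M'.asIdeal := by
          have : b ∈ M.asIdeal.comap (algebraMap B (B ⊗[A] S)) := hbM
          rw [hMM'] at this
          exact this
        have := M'.asIdeal.add_mem (hmS _ M'.isMaximal hb) hbM'
        simpa using this
      exact MaximalSpectrum.ext (le_antisymm (key M₁ M₂ h12') (key M₂ M₁ h12'.symm))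
    · intro m'
      have hne : m'.asIdeal.map (algebraMap B (B ⊗[A] S)) ≠ ⊤ := by
        intro htop
        have h1 := Ideal.comap_map_eq_self_of_faithfullyFlat (B := B ⊗[A] S) m'.asIdeal
        rw [htop, Ideal.comap_top] at h1
        exact m'.isMaximal.ne_top h1.symm
      obtain ⟨M, hM, hle⟩ := Ideal.exists_le_maximal _ hne
      refine ⟨⟨M, hM⟩, MaximalSpectrum.ext ?_⟩
      show M.comap (algebraMap B (B ⊗[A] S)) = m'.asIdeal
      have h2 : m'.asIdeal ≤ M.comap (algebraMap B (B ⊗[A] S)) :=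
        Ideal.map_le_iff_le_comap.mp hle
      exact (m'.isMaximal.eq_of_le (hmax M hM).ne_top h2).symm
  exact ENat.card_congr (Equiv.ofBijective φ hbij)

end Hens

end Groth.Agent.Lib.Helper87.BranchCount
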