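import Mathlib
import Groth.Prelude.Def_EGA4b
import Groth.Agent.S9237
import Groth.Agent.Lib.Helper87.BranchSum
import Groth.Agent.Lib.Helper87.HensIntegral
import Groth.Agent.Lib.Helper87.HensUP

set_option autoImplicit false
set_option linter.style.haveILetI false
universe u

/-!
# Branches of a quotient by a prime, via the henselization (helper87)
-/

open IsLocalRing TensorProduct

namespace Groth.Agent.Lib.Helper87.BranchSum

section Ker

variable (A S : Type u) [CommRing A] [CommRing S] [Algebra A S] (p : Ideal A)

theorem includeRight_surjective :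
    Function.Surjective (Algebra.TensorProduct.includeRight : S →ₐ[A] (A ⧸ p) ⊗[A] S) := by
  intro t
  obtain ⟨y, rfl⟩ := (Algebra.TensorProduct.quotIdealMapEquivQuotTensor S p).surjective t
  obtain ⟨s, rfl⟩ := Ideal.Quotient.mk_surjective y
  exact ⟨s, rfl⟩

theorem ker_includeRight :
    RingHom.ker (Algebra.TensorProduct.includeRight : S →ₐ[A] (A ⧸ p) ⊗[A] S).toRingHom =
      p.map (algebraMap A S) := by
  ext s
  rw [RingHom.mem_ker]
  have h1 : (Algebra.TensorProduct.includeRight : S →ₐ[A] (A ⧸ p) ⊗[A] S).toRingHom s =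
      Algebra.TensorProduct.quotIdealMapEquivQuotTensor S p
        (Ideal.Quotient.mk (p.map (algebraMap A S)) s) := rfl
  rw [h1, EmbeddingLike.map_eq_zero_iff, Ideal.Quotient.eq_zero_iff_mem]

end Ker

section Hens

variable (A S : Type u) [CommRing A] [IsLocalRing A] [CommRing S] [IsLocalRing S] [Algebra A S]
  [IsLocalHom (algebraMap A S)] [Hensel.IsHenselization A S]

theorem numBranches_quotient (p : Ideal A) [p.IsPrime] :
    Brnch.numBranches (A ⧸ p) = ENat.card ((p.map (algebraMap A S)).minimalPrimes) := by
  haveI : IsLocalHom (algebraMap A (A ⧸ p)) :=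
    IsLocalHom.of_surjective _ Ideal.Quotient.mk_surjective
  obtain ⟨hloc, hlh, hH⟩ := HensIntegral.isHenselization_tensor A (A ⧸ p) S
  haveI := hloc
  haveI := hlh
  haveI := hH
  rw [← Groth.Agent.S9237.result (A ⧸ p) ((A ⧸ p) ⊗[A] S),
    card_minimalPrimes_of_surjective _ (includeRight_surjective A S p), ker_includeRight]

end Hens

end Groth.Agent.Lib.Helper87.BranchSum
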