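import Mathlib
import Groth.Agent.Lib.Helper87.SmoothUnibranch
import Groth.Agent.Lib.Helper87.BranchSumHens

set_option autoImplicit false
set_option linter.style.haveILetI false
universe u

/-!
# Primes of the base stay prime in strict henselizations of smooth algebras (helper87)

`R` local, `I` an ideal, `N` a local normal domain which is an integral `R`-algebra with kernel
`I`, local structure map and purely inseparable residue extension (e.g. the normalization of
`R / I` when that is a geometrically unibranch domain). For `R'` smooth over `R`, `p` a prime over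
the maximal ideal and `Bsh` a strict henselization of `R'_p`, the extension of `I` to `Bsh` is
prime.
-/

open IsLocalRing TensorProduct

namespace Groth.Agent.Lib.Helper87.SmoothUnibranch

attribute [local instance] Algebra.TensorProduct.rightAlgebra

variable (R N : Type u) [CommRing R] [IsLocalRing R] [CommRing N] [IsLocalRing N] [IsDomain N]
  [IsIntegrallyClosed N] [Algebra R N] [IsLocalHom (algebraMap R N)] [Algebra.IsIntegral R N]
  (ℓ : ℕ) (hℓ : ℓ = 1 ∨ (ℓ.Prime ∧ (ℓ : R) ∈ maximalIdeal R))
  (hpi : ∀ a : N, ∃ (n : ℕ) (r : R), a ^ ℓ ^ n - algebraMap R N r ∈ maximalIdeal N)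
  (R' : Type u) [CommRing R'] [Algebra R R'] [Algebra.Smooth R R'] (p : Ideal R') [p.IsPrime]
  (hp : (maximalIdeal R).map (algebraMap R R') ≤ p)

include hℓ hpi hp in
theorem isDomain_tensor_tensor
    (Bsh : Type u) [CommRing Bsh] [IsLocalRing Bsh] [Algebra (Localization.AtPrime p) Bsh]
    [IsLocalHom (algebraMap (Localization.AtPrime p) Bsh)]
    [Hensel.IsStrictHenselization (Localization.AtPrime p) Bsh] :
    IsDomain ((N ⊗[R] Localization.AtPrime p) ⊗[Localization.AtPrime p] Bsh) := by
  haveI hlh : IsLocalHom (algebraMap R (Localization.AtPrime p)) :=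
    isLocalHom_localization R R' p hp
  obtain ⟨hlocD, hlhD, hpiD⟩ :=
    PurelyInsepTensor.isLocalRing_tensor R N (Localization.AtPrime p) ℓ hℓ hpi
  haveI := hlocD
  let φ : N ⊗[R] R' →ₐ[N] N ⊗[R] Localization.AtPrime p :=
    Algebra.TensorProduct.map (AlgHom.id N N) (IsScalarTower.toAlgHom R R' (Localization.AtPrime p))
  letI algSD : Algebra (N ⊗[R] R') (N ⊗[R] Localization.AtPrime p) := φ.toRingHom.toAlgebra
  haveI : IsScalarTower N (N ⊗[R] R') (N ⊗[R] Localization.AtPrime p) :=
    IsScalarTower.of_algebraMap_eq' φ.comp_algebraMap.symm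
  have H : (algebraMap (N ⊗[R] R') (N ⊗[R] Localization.AtPrime p)).comp
      (Algebra.TensorProduct.includeRight : R' →ₐ[R] N ⊗[R] R').toRingHom =
      (Algebra.TensorProduct.includeRight : Localization.AtPrime p →ₐ[R]
        N ⊗[R] Localization.AtPrime p).toRingHom.comp (algebraMap R' (Localization.AtPrime p)) := by
    ext x
    show φ ((1 : N) ⊗ₜ[R] x) = (1 : N) ⊗ₜ[R] algebraMap R' (Localization.AtPrime p) x
    simp [φ]
  haveI hlocS : IsLocalization (p.primeCompl.map
      (Algebra.TensorProduct.includeRight (R := R) (A := N)))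
      (N ⊗[R] Localization.AtPrime p) :=
    IsLocalization.tensorProduct_tensorProduct_right R N p.primeCompl (Localization.AtPrime p) H
  haveI hPprime : ((maximalIdeal (N ⊗[R] Localization.AtPrime p)).comap
      (algebraMap (N ⊗[R] R') (N ⊗[R] Localization.AtPrime p))).IsPrime :=
    Ideal.comap_isPrime _ _
  haveI hAt : IsLocalization.AtPrime (N ⊗[R] Localization.AtPrime p)
      ((maximalIdeal (N ⊗[R] Localization.AtPrime p)).comap
        (algebraMap (N ⊗[R] R') (N ⊗[R] Localization.AtPrime p))) := by
    refine IsLocalization.of_le (p.primeCompl.map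
      (Algebra.TensorProduct.includeRight (R := R) (A := N))) _ ?_ ?_
    · intro m hm hmem
      have hu : IsUnit (algebraMap (N ⊗[R] R') (N ⊗[R] Localization.AtPrime p) m) :=
        IsLocalization.map_units (N ⊗[R] Localization.AtPrime p) ⟨m, hm⟩
      exact hmem hu
    · intro r hr
      by_contra hnu
      exact hr hnu
  obtain ⟨hdomD, hicD⟩ := SmoothNormal.isDomain_and_isIntegrallyClosed N (N ⊗[R] R')
    ((maximalIdeal (N ⊗[R] Localization.AtPrime p)).comap
      (algebraMap (N ⊗[R] R') (N ⊗[R] Localization.AtPrime p)))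
    (N ⊗[R] Localization.AtPrime p)
  haveI := hdomD
  haveI := hicD
  haveI : IsLocalHom (algebraMap (Localization.AtPrime p) (N ⊗[R] Localization.AtPrime p)) := hlhD
  haveI : Algebra.IsIntegral (Localization.AtPrime p) (N ⊗[R] Localization.AtPrime p) :=
    HensIntegral.isIntegral_right R N (Localization.AtPrime p)
  have hℓB : ℓ = 1 ∨ (ℓ.Prime ∧ (ℓ : Localization.AtPrime p) ∈
      maximalIdeal (Localization.AtPrime p)) := by
    rcases hℓ with h | ⟨h1, h2⟩
    · exact Or.inl h
    · refine Or.inr ⟨h1, ?_⟩
      have h4 : maximalIdeal R ≤ (maximalIdeal (Localization.AtPrime p)).comap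
          (algebraMap R (Localization.AtPrime p)) :=
        ((IsLocalRing.local_hom_TFAE (algebraMap R (Localization.AtPrime p))).out 0 3).mp hlh
      have h3 : algebraMap R (Localization.AtPrime p) (ℓ : R) ∈
          maximalIdeal (Localization.AtPrime p) := h4 h2
      rwa [map_natCast] at h3
  obtain ⟨hlocT, -, -⟩ := PurelyInsepTensor.isLocalRing_tensor (Localization.AtPrime p)
    (N ⊗[R] Localization.AtPrime p) Bsh ℓ hℓB hpiD
  haveI := hlocT
  have hpres : IndEt.HasPres (N ⊗[R] Localization.AtPrime p)
      ((N ⊗[R] Localization.AtPrime p) ⊗[Localization.AtPrime p] Bsh) :=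
    Groth.Agent.S0733.result (Localization.AtPrime p) Bsh (N ⊗[R] Localization.AtPrime p)
      (Unibranch.hasPres_strict (Localization.AtPrime p) Bsh)
  exact IndEtDomain.isDomain_of_hasPres hpres

end Groth.Agent.Lib.Helper87.SmoothUnibranch
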