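import Mathlib
import Groth.Agent.Lib.Helper87.SmoothUnibranch2
import Groth.Agent.Lib.Helper87.SmoothUnibranch3
import Groth.Agent.Lib.Helper69.HensFinite

set_option autoImplicit false
set_option linter.style.haveILetI false
universe u

/-!
# Prime ideals of the base in strict henselizations of smooth algebras (helper87)

* `ker_includeRight_of_flat`: for `S` flat over `A`, the kernel of `S → D ⊗[A] S` is the extension
  of the kernel of `A → D`.
* `isPrime_map_map_of_isGeomUnibranch`: `R` local, `I` a prime with `R ⧸ I` geometrically unibranch,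
  `R'` smooth over `R`, `p` a prime of `R'` over the maximal ideal, `Bsh` a strict henselization of
  `R'_p`: the extension of `I` to `Bsh` is prime.
* `isSepClosed_of_surjective`, `isGeomUnibranch_quotient`: quotients of strictly henselian local
  rings by primes are strictly henselian domains, hence geometrically unibranch.
-/

open IsLocalRing TensorProduct

namespace Groth.Agent.Lib.Helper87.SmoothPrime

open Groth.Agent.Lib.Helper87.Unibranch Groth.Agent.Lib.Helper87.SmoothUnibranch

section Ker

variable (A D S : Type u) [CommRing A] [CommRing D] [CommRing S] [Algebra A D] [Algebra A S]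

theorem ker_includeRight_of_flat [Module.Flat A S] :
    RingHom.ker (Algebra.TensorProduct.includeRight : S →ₐ[A] D ⊗[A] S).toRingHom =
      (RingHom.ker (algebraMap A D)).map (algebraMap A S) := by
  set K : Ideal A := RingHom.ker (algebraMap A D) with hK
  let j : A ⧸ K →ₐ[A] D := Ideal.Quotient.liftₐ K (Algebra.ofId A D) (fun a ha => ha)
  have hj : Function.Injective j := by
    rw [injective_iff_map_eq_zero]
    intro x hx
    obtain ⟨a, rfl⟩ := Ideal.Quotient.mk_surjective x
    have h1 : j (Ideal.Quotient.mk K a) = algebraMap A D a := rfl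
    rw [h1] at hx
    exact Ideal.Quotient.eq_zero_iff_mem.mpr hx
  have hinj : Function.Injective (LinearMap.rTensor S j.toLinearMap) :=
    Module.Flat.rTensor_preserves_injective_linearMap _ hj
  rw [← BranchSum.ker_includeRight A S K]
  ext s
  rw [RingHom.mem_ker, RingHom.mem_ker]
  have h2 : (Algebra.TensorProduct.includeRight : S →ₐ[A] D ⊗[A] S).toRingHom s =
      LinearMap.rTensor S j.toLinearMap
        ((Algebra.TensorProduct.includeRight : S →ₐ[A] (A ⧸ K) ⊗[A] S).toRingHom s) := by
    show (1 : D) ⊗ₜ[A] s = LinearMap.rTensor S j.toLinearMap ((1 : A ⧸ K) ⊗ₜ[A] s)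
    rw [LinearMap.rTensor_tmul]
    congr 1
    exact (map_one j).symm
  rw [h2]
  constructor
  · intro h
    exact hinj (by rw [h, map_zero])
  · intro h
    rw [h, map_zero]

end Ker

section Main

attribute [local instance] Algebra.TensorProduct.rightAlgebra

variable (R : Type u) [CommRing R] [IsLocalRing R] (I : Ideal R) [I.IsPrime]
  (R' : Type u) [CommRing R'] [Algebra R R'] [Algebra.Smooth R R'] (p : Ideal R') [p.IsPrime]

theorem isPrime_map_map_of_isGeomUnibranch (hI : CAlg2.IsGeomUnibranch (R ⧸ I))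
    (hp : (maximalIdeal R).map (algebraMap R R') ≤ p)
    (Bsh : Type u) [CommRing Bsh] [IsLocalRing Bsh] [Algebra (Localization.AtPrime p) Bsh]
    [IsLocalHom (algebraMap (Localization.AtPrime p) Bsh)]
    [Hensel.IsStrictHenselization (Localization.AtPrime p) Bsh] :
    ((I.map (algebraMap R (Localization.AtPrime p))).map
      (algebraMap (Localization.AtPrime p) Bsh)).IsPrime := by
  obtain ⟨⟨hd, hl⟩, hpi⟩ := hI
  haveI := hd
  haveI := hl
  haveI : IsIntegrallyClosed (CAlg2.normRed (R ⧸ I)) := isIntegrallyClosed_normRed (R ⧸ I)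
  haveI : Algebra.IsIntegral R (CAlg2.normRed (R ⧸ I)) :=
    Algebra.IsIntegral.trans (R ⧸ I)
  haveI : IsLocalHom (algebraMap R (CAlg2.normRed (R ⧸ I))) :=
    Groth.Agent.Lib.Helper9.isLocalHom_of_isIntegral
  set N := CAlg2.normRed (R ⧸ I) with hN
  set ℓ := ringExpChar (ResidueField N) with hℓdef
  have hℓ : ℓ = 1 ∨ (ℓ.Prime ∧ (ℓ : R) ∈ maximalIdeal R) := by
    rcases PurelyInsepTensor.ringExpChar_residueField_spec N with h | ⟨h1, h2⟩
    · exact Or.inl h
    · refine Or.inr ⟨h1, ?_⟩
      by_contra hu
      have hu' : IsUnit ((ℓ : ℕ) : R) := by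
        by_contra hu'
        exact hu hu'
      have h3 := hu'.map (algebraMap R N)
      rw [map_natCast] at h3
      exact h2 h3
  have hpi' : ∀ a : N, ∃ (n : ℕ) (r : R),
      a ^ ℓ ^ n - algebraMap R N r ∈ maximalIdeal N := by
    intro a
    obtain ⟨n, r, hr⟩ := hpi (maximalIdeal N) (Ideal.Quotient.mk (maximalIdeal N) a)
    obtain ⟨r', rfl⟩ := Ideal.Quotient.mk_surjective r
    refine ⟨n, r', ?_⟩
    rw [← Ideal.Quotient.eq, map_pow]
    exact hr.symm
  have hinj : Function.Injective (algebraMap (R ⧸ I) N) := by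
    rw [injective_iff_map_eq_zero]
    intro x hx
    rw [IsScalarTower.algebraMap_apply (R ⧸ I) (CAlg2.red (R ⧸ I)) N] at hx
    have h1 : ((algebraMap (CAlg2.red (R ⧸ I)) N (algebraMap (R ⧸ I) (CAlg2.red (R ⧸ I)) x) :
        N) : FractionRing (CAlg2.red (R ⧸ I))) = 0 := by rw [hx]; rfl
    have h2 : algebraMap (CAlg2.red (R ⧸ I)) (FractionRing (CAlg2.red (R ⧸ I)))
        (algebraMap (R ⧸ I) (CAlg2.red (R ⧸ I)) x) = 0 := h1
    have h3 : algebraMap (R ⧸ I) (CAlg2.red (R ⧸ I)) x = 0 :=
      (map_eq_zero_iff _ (IsFractionRing.injective (CAlg2.red (R ⧸ I))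
        (FractionRing (CAlg2.red (R ⧸ I))))).mp h2
    have hx' : x ∈ nilradical (R ⧸ I) := Ideal.Quotient.eq_zero_iff_mem.mp h3
    exact (mem_nilradical.mp hx').eq_zero
  have hker : RingHom.ker (algebraMap R N) = I := by
    ext r
    rw [RingHom.mem_ker, IsScalarTower.algebraMap_apply R (R ⧸ I) N,
      map_eq_zero_iff _ hinj]
    exact Ideal.Quotient.eq_zero_iff_mem
  haveI hW : IsDomain ((N ⊗[R] Localization.AtPrime p) ⊗[Localization.AtPrime p] Bsh) :=
    isDomain_tensor_tensor R N ℓ hℓ hpi' R' p hp Bsh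
  haveI : Module.Flat R (Localization.AtPrime p) := Module.Flat.trans R R' _
  haveI : Module.Flat (Localization.AtPrime p) Bsh :=
    Hens.flat_of_isStrictHenselization (Localization.AtPrime p) Bsh
  have h1 : RingHom.ker (algebraMap (Localization.AtPrime p) (N ⊗[R] Localization.AtPrime p)) =
      I.map (algebraMap R (Localization.AtPrime p)) := by
    have h0 := ker_includeRight_of_flat R N (Localization.AtPrime p)
    rw [hker] at h0
    exact h0
  have h2 := ker_includeRight_of_flat (Localization.AtPrime p) (N ⊗[R] Localization.AtPrime p) Bsh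
  rw [h1] at h2
  rw [← h2]
  exact RingHom.ker_isPrime _

end Main

section Quot

theorem isSepClosed_of_surjective {K L : Type*} [Field K] [Field L] [IsSepClosed K]
    (f : K →+* L) (hf : Function.Surjective f) : IsSepClosed L := by
  refine IsSepClosed.of_exists_root L (fun q _ hirr hsep => ?_)
  let e : K ≃+* L := RingEquiv.ofBijective f ⟨f.injective, hf⟩
  have hq : (q.map (e.symm : L →+* K)).Separable := hsep.map
  have hdeg : (q.map (e.symm : L →+* K)).degree ≠ 0 := by
    rw [Polynomial.degree_map]
    exact (Polynomial.degree_pos_of_irreducible hirr).ne'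
  obtain ⟨x, hx⟩ := IsSepClosed.exists_root (q.map (e.symm : L →+* K)) hdeg hq
  refine ⟨e x, ?_⟩
  have h1 : (e : K →+* L) ((q.map (e.symm : L →+* K)).eval x) = 0 := by rw [hx, map_zero]
  rw [Polynomial.eval_map, Polynomial.hom_eval₂] at h1
  have h2 : (e : K →+* L).comp (e.symm : L →+* K) = RingHom.id L := by
    ext y
    simp
  rw [h2, Polynomial.eval₂_id] at h1
  exact h1

variable (R : Type u) [CommRing R] [HenselianLocalRing R] [IsSepClosed (ResidueField R)]
  (I : Ideal R) [I.IsPrime]

theorem isGeomUnibranch_quotient : CAlg2.IsGeomUnibranch (R ⧸ I) := by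
  haveI : HenselianLocalRing (R ⧸ I) :=
    Groth.Agent.Lib.Helper69.HensFinite.henselianLocalRing_of_isIntegral R (R ⧸ I)
  haveI : IsLocalHom (algebraMap R (R ⧸ I)) :=
    IsLocalHom.of_surjective _ Ideal.Quotient.mk_surjective
  haveI : IsSepClosed (ResidueField (R ⧸ I)) := by
    refine isSepClosed_of_surjective (ResidueField.map (algebraMap R (R ⧸ I))) ?_
    intro y
    obtain ⟨y', rfl⟩ := residue_surjective y
    obtain ⟨r, rfl⟩ := Ideal.Quotient.mk_surjective y'
    exact ⟨residue R r, rfl⟩
  exact isGeomUnibranch_of_strictlyHenselian_domain (R ⧸ I)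

end Quot

end Groth.Agent.Lib.Helper87.SmoothPrime
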