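import Mathlib
import Groth.Agent.S9460
import Groth.Agent.Lib.Helper87.SmoothPrime
import Groth.Agent.Lib.Helper87.BranchSum

set_option autoImplicit false
set_option linter.style.haveILetI false
universe u

/-!
# Minimal primes of strict henselizations along smooth maps (helper87)

* `exists_strict_map`: a local homomorphism `A → B` extends to a local homomorphism between
  strict henselizations.
* `encard_minimalPrimes_eq_of_map_isPrime`: for `T → U` faithfully flat such that minimal primes
  of `T` extend to primes of `U`, both rings have the same number of minimal primes.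
* `encard_minimalPrimes_eq`: `R → S` smooth, `q` over `p`: strict henselizations of `R_p` and
  `S_q` have the same number of minimal primes.
-/

open IsLocalRing TensorProduct

namespace Groth.Agent.Lib.Helper87.SmoothMinPrimes

section Map

variable (A B T U : Type u) [CommRing A] [IsLocalRing A] [CommRing B] [IsLocalRing B]
  (f : A →+* B) [IsLocalHom f]
  [CommRing T] [IsLocalRing T] [Algebra A T] [IsLocalHom (algebraMap A T)]
  [Hensel.IsStrictHenselization A T]
  [CommRing U] [IsLocalRing U] [Algebra B U] [IsLocalHom (algebraMap B U)]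
  [Hensel.IsStrictHenselization B U]

theorem exists_strict_map :
    ∃ φ : T →+* U, IsLocalHom φ ∧ φ.comp (algebraMap A T) = (algebraMap B U).comp f := by
  have hT : Hensel.IsStrictHenselization A T := inferInstance
  have hU : Hensel.IsStrictHenselization B U := inferInstance
  haveI : HenselianLocalRing U := hU.henselian
  haveI := hT.isSepClosure
  haveI := hU.isSepClosure
  haveI : IsSepClosed (ResidueField U) := IsSepClosure.sep_closed (ResidueField B)
  haveI : Algebra.IsSeparable (ResidueField A) (ResidueField T) := IsSepClosure.separable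
  set g : A →+* U := (algebraMap B U).comp f with hg
  haveI hgl : IsLocalHom g := RingHom.isLocalHom_comp _ _
  letI : Algebra (ResidueField A) (ResidueField U) := (ResidueField.map g).toAlgebra
  let τ : ResidueField T →ₐ[ResidueField A] ResidueField U := IsSepClosed.lift
  have hτ : τ.toRingHom.comp (ResidueField.map (algebraMap A T)) = ResidueField.map g :=
    τ.comp_algebraMap
  obtain ⟨φ, ⟨hφ1, hφ2⟩, -⟩ := hT.universal U g τ.toRingHom hτ
  refine ⟨φ, ⟨fun x hx => ?_⟩, hφ1⟩
  by_contra hnu
  have h1 : residue T x = 0 := (residue_eq_zero_iff x).mpr ((mem_maximalIdeal x).mpr hnu)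
  have h2 : residue U (φ x) = 0 := by
    rw [hφ2, h1]
    exact map_zero _
  exact ((residue_eq_zero_iff _).mp h2) hx

end Map

section Count

variable (T U : Type u) [CommRing T] [CommRing U] [Algebra T U] [Module.FaithfullyFlat T U]

theorem encard_minimalPrimes_eq_of_map_isPrime
    (h : ∀ P : Ideal T, P ∈ minimalPrimes T → (P.map (algebraMap T U)).IsPrime) :
    (minimalPrimes T).encard = (minimalPrimes U).encard := by
  have himg : (fun P : Ideal T => P.map (algebraMap T U)) '' minimalPrimes T = minimalPrimes U := by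
    ext Q
    constructor
    · rintro ⟨P, hP, rfl⟩
      have hprime := h P hP
      refine ⟨⟨hprime, bot_le⟩, ?_⟩
      rintro Q' ⟨hQ', -⟩ hle
      haveI := hQ'
      have h1 : Q'.comap (algebraMap T U) ≤ P := by
        calc Q'.comap (algebraMap T U) ≤ (P.map (algebraMap T U)).comap (algebraMap T U) :=
              Ideal.comap_mono hle
          _ = P := Ideal.comap_map_eq_self_of_faithfullyFlat P
      have h2 : P ≤ Q'.comap (algebraMap T U) := hP.2 ⟨Ideal.comap_isPrime _ _, bot_le⟩ h1
      exact Ideal.map_le_iff_le_comap.mpr h2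
    · intro hQ
      have hP := BranchSum.comap_mem_minimalPrimes T U hQ
      refine ⟨Q.comap (algebraMap T U), hP, ?_⟩
      have hprime := h _ hP
      exact le_antisymm Ideal.map_comap_le (hQ.2 ⟨hprime, bot_le⟩ Ideal.map_comap_le)
  rw [← himg]
  refine (Set.InjOn.encard_image ?_).symm
  intro P _ P' _ hPP'
  have h1 := congrArg (Ideal.comap (algebraMap T U)) hPP'
  simpa only [Ideal.comap_map_eq_self_of_faithfullyFlat] using h1

end Count

section Main

open Groth.Agent.S9459

variable (R : Type u) [CommRing R] (S : Type u)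
    [CommRing S] [Algebra R S] (p : Ideal R) [p.IsPrime] (q : Ideal S) [q.IsPrime] [q.LiesOver p]
    (Rh : Type u) [CommRing Rh] [IsLocalRing Rh] [Algebra (Localization.AtPrime p) Rh]
    [IsLocalHom (algebraMap (Localization.AtPrime p) Rh)]
    [Hensel.IsStrictHenselization (Localization.AtPrime p) Rh] [Algebra R Rh]
    [IsScalarTower R (Localization.AtPrime p) Rh]
    (Sh : Type u) [CommRing Sh] [IsLocalRing Sh] [Algebra (Localization.AtPrime q) Sh]
    [IsLocalHom (algebraMap (Localization.AtPrime q) Sh)]
    [Hensel.IsStrictHenselization (Localization.AtPrime q) Sh] [Algebra S Sh]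
    [IsScalarTower S (Localization.AtPrime q) Sh] [Algebra R Sh] [IsScalarTower R S Sh]
    [Algebra Rh Sh] [IsScalarTower R Rh Sh]

include p q in
theorem isPrime_map [Algebra.Smooth R S] (P : Ideal Rh) [P.IsPrime] :
    (P.map (algebraMap Rh Sh)).IsPrime ∧ Module.FaithfullyFlat Rh Sh := by
  letI algC : Algebra (Localization.AtPrime (QQ R S Rh Sh)) Sh := (psi R S Rh Sh).toAlgebra
  haveI : IsLocalHom (algebraMap (Localization.AtPrime (QQ R S Rh Sh)) Sh) :=
    isLocalHom_psi R S Rh Sh
  haveI hSH : Hensel.IsStrictHenselization (Localization.AtPrime (QQ R S Rh Sh)) Sh :=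
    Groth.Agent.S9460.strictHens R S p q Rh Sh
  haveI hloc : IsLocalHom (algebraMap Rh Sh) := Groth.Agent.S9460.isLocalHom_Rh_Sh R S p q Rh Sh
  have hRh : Hensel.IsStrictHenselization (Localization.AtPrime p) Rh := inferInstance
  haveI : HenselianLocalRing Rh := hRh.henselian
  haveI := hRh.isSepClosure
  haveI : IsSepClosed (ResidueField Rh) :=
    IsSepClosure.sep_closed (ResidueField (Localization.AtPrime p))
  have hφl : ∀ a : Rh, phi R S Rh Sh (a ⊗ₜ 1) = algebraMap Rh Sh a := by intro a; simp [phi]
  have hcomp : (algebraMap (Localization.AtPrime (QQ R S Rh Sh)) Sh).comp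
      (algebraMap Rh (Localization.AtPrime (QQ R S Rh Sh))) = algebraMap Rh Sh := by
    ext a
    rw [RingHom.comp_apply,
      IsScalarTower.algebraMap_apply Rh (Rh ⊗[R] S) (Localization.AtPrime (QQ R S Rh Sh))]
    show psi R S Rh Sh _ = _
    rw [psi_algebraMap, Algebra.TensorProduct.algebraMap_apply, Algebra.algebraMap_self,
      RingHom.id_apply, hφl]
  haveI : IsScalarTower Rh (Localization.AtPrime (QQ R S Rh Sh)) Sh :=
    IsScalarTower.of_algebraMap_eq' hcomp.symm
  have hp : (maximalIdeal Rh).map (algebraMap Rh (Rh ⊗[R] S)) ≤ QQ R S Rh Sh := by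
    rw [Ideal.map_le_iff_le_comap]
    intro a ha
    rw [Ideal.mem_comap, Ideal.mem_comap, Algebra.TensorProduct.algebraMap_apply,
      Algebra.algebraMap_self, RingHom.id_apply, hφl]
    rw [mem_maximalIdeal] at ha ⊢
    intro hu
    exact ha (isUnit_of_map_unit _ _ hu)
  have hprime := SmoothPrime.isPrime_map_map_of_isGeomUnibranch Rh P (Rh ⊗[R] S) (QQ R S Rh Sh)
    (SmoothPrime.isGeomUnibranch_quotient Rh P) hp Sh
  rw [Ideal.map_map, hcomp] at hprime
  refine ⟨hprime, ?_⟩
  haveI : Module.Flat Rh (Localization.AtPrime (QQ R S Rh Sh)) := Module.Flat.trans Rh (Rh ⊗[R] S) _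
  haveI : Module.Flat (Localization.AtPrime (QQ R S Rh Sh)) Sh :=
    Hens.flat_of_isStrictHenselization _ Sh
  haveI : Module.Flat Rh Sh := Module.Flat.trans Rh (Localization.AtPrime (QQ R S Rh Sh)) Sh
  exact Module.FaithfullyFlat.of_flat_of_isLocalHom

include p q in
theorem encard_minimalPrimes_eq [Algebra.Smooth R S] :
    (minimalPrimes Rh).encard = (minimalPrimes Sh).encard := by
  haveI : Module.FaithfullyFlat Rh Sh := (isPrime_map R S p q Rh Sh (maximalIdeal Rh)).2
  refine encard_minimalPrimes_eq_of_map_isPrime Rh Sh (fun P hP => ?_)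
  haveI := hP.1.1
  exact (isPrime_map R S p q Rh Sh P).1

end Main

end Groth.Agent.Lib.Helper87.SmoothMinPrimes
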