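import Mathlib
import Groth.Agent.Lib.Helper87.GeomUnibranchEquiv
import Groth.Agent.Lib.Helper87.SmoothMinPrimes
import Groth.Agent.Lib.Helper30.SmoothLocal
import Groth.Agent.Lib.Helper19.Sm.SmoothDescent

set_option autoImplicit false
set_option linter.style.haveILetI false
universe u

/-!
# Geometric unibranchness ascends and descends along smooth maps (helper87)

* `PGU A`: `A` is a geometrically unibranch local ring; `PDGU A`: moreover a domain.
* `pgu_iff_smooth`, `pdgu_iff_smooth`: for `R → S` smooth and `q` a prime of `S` over `p`: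
  `R_p` has the property iff `S_q` has it.
* `stalk_pgu_iff_of_smoothAt`, `stalk_pdgu_iff_of_smoothAt`: scheme versions at smooth points.
-/

open IsLocalRing TensorProduct AlgebraicGeometry

namespace Groth.Agent.Lib.Helper87.GeomUnibranchSmooth

open Groth.Agent.Lib.Helper87.Unibranch

/-- geometrically unibranch local ring, as a property of bare rings. -/
def PGU (A : Type u) [CommRing A] : Prop := ∃ h : IsLocalRing A, @CAlg2.IsGeomUnibranch A _ h

/-- geometrically unibranch local domain, as a property of bare rings. -/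
def PDGU (A : Type u) [CommRing A] : Prop :=
  ∃ h : IsLocalRing A, IsDomain A ∧ @CAlg2.IsGeomUnibranch A _ h

theorem PGU.of_ringEquiv (A A' : Type u) [CommRing A] [CommRing A'] (e : A ≃+* A')
    (h : PGU A) : PGU A' := by
  obtain ⟨hl, hg⟩ := h
  haveI := hl
  haveI : IsLocalRing A' := e.isLocalRing
  exact ⟨inferInstance, GeomUnibranchEquiv.isGeomUnibranch_of_ringEquiv e hg⟩

theorem PDGU.of_ringEquiv (A A' : Type u) [CommRing A] [CommRing A'] (e : A ≃+* A')
    (h : PDGU A) : PDGU A' := by
  obtain ⟨hl, hd, hg⟩ := h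
  haveI := hl
  haveI := hd
  haveI : IsLocalRing A' := e.isLocalRing
  exact ⟨inferInstance, e.symm.injective.isDomain e.symm.toRingHom,
    GeomUnibranchEquiv.isGeomUnibranch_of_ringEquiv e hg⟩

theorem pdgu_iff (A Ash : Type u) [CommRing A] [IsLocalRing A] [CommRing Ash] [IsLocalRing Ash]
    [Algebra A Ash] [IsLocalHom (algebraMap A Ash)] [Hensel.IsStrictHenselization A Ash] :
    PDGU A ↔ IsDomain Ash := by
  rw [← reduced_isGeomUnibranch_iff A Ash]
  constructor
  · rintro ⟨_, hd, hg⟩
    haveI := hd
    exact ⟨inferInstance, hg⟩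
  · rintro ⟨hred, hg⟩
    refine ⟨inferInstance, ?_, hg⟩
    haveI := hred
    haveI hdr : IsDomain (CAlg2.red A) := hg.1.1
    have hprime : (nilradical A).IsPrime := (Ideal.Quotient.isDomain_iff_prime _).mp hdr
    rw [nilradical_eq_zero A] at hprime
    haveI : (⊥ : Ideal A).IsPrime := hprime
    exact IsDomain.of_bot_isPrime A

theorem hasUniqueMinimalPrime_iff_encard (T : Type u) [CommRing T] :
    CAlgX.HasUniqueMinimalPrime T ↔ (minimalPrimes T).encard = 1 := by
  rw [Set.encard_eq_one]
  constructor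
  · rintro ⟨P, hP, hu⟩
    refine ⟨P, ?_⟩
    ext Q
    constructor
    · intro hQ
      exact hu Q hQ
    · rintro rfl
      exact hP
  · rintro ⟨P, hP⟩
    refine ⟨P, ?_, ?_⟩
    · rw [hP]; rfl
    · intro Q hQ
      rw [hP] at hQ
      exact hQ

section Ring

variable (R S : Type u) [CommRing R] [CommRing S] [Algebra R S] [Algebra.Smooth R S]
  (q : Ideal S) [q.IsPrime]

theorem strict_iff :
    (IsDomain (Hens.Hsh (Localization.AtPrime (q.comap (algebraMap R S)))) ↔
      IsDomain (Hens.Hsh (Localization.AtPrime q))) ∧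
    (CAlgX.HasUniqueMinimalPrime (Hens.Hsh (Localization.AtPrime (q.comap (algebraMap R S)))) ↔
      CAlgX.HasUniqueMinimalPrime (Hens.Hsh (Localization.AtPrime q))) := by
  set p : Ideal R := q.comap (algebraMap R S) with hp
  haveI : q.LiesOver p := ⟨rfl⟩
  set Ash := Hens.Hsh (Localization.AtPrime p) with hAsh
  set Bsh := Hens.Hsh (Localization.AtPrime q) with hBsh
  haveI := Hens.isStrictHenselization_Hsh (Localization.AtPrime p)
  haveI := Hens.isStrictHenselization_Hsh (Localization.AtPrime q)
  letI : Algebra R Ash :=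
    ((algebraMap (Localization.AtPrime p) Ash).comp (algebraMap R (Localization.AtPrime p))).toAlgebra
  haveI : IsScalarTower R (Localization.AtPrime p) Ash := IsScalarTower.of_algebraMap_eq' rfl
  letI : Algebra S Bsh :=
    ((algebraMap (Localization.AtPrime q) Bsh).comp (algebraMap S (Localization.AtPrime q))).toAlgebra
  haveI : IsScalarTower S (Localization.AtPrime q) Bsh := IsScalarTower.of_algebraMap_eq' rfl
  letI : Algebra R Bsh := ((algebraMap S Bsh).comp (algebraMap R S)).toAlgebra
  haveI : IsScalarTower R S Bsh := IsScalarTower.of_algebraMap_eq' rfl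
  haveI : IsLocalHom (Localization.localRingHom p q (algebraMap R S)
      (Ideal.LiesOver.over (P := q) (p := p))) := Localization.isLocalHom_localRingHom _ _ _ _
  obtain ⟨φ, hφloc, hφ⟩ := SmoothMinPrimes.exists_strict_map
    (Localization.AtPrime p) (Localization.AtPrime q) Ash Bsh
    (Localization.localRingHom p q (algebraMap R S) (Ideal.LiesOver.over (P := q) (p := p)))
  letI : Algebra Ash Bsh := φ.toAlgebra
  haveI : IsScalarTower R Ash Bsh := by
    refine IsScalarTower.of_algebraMap_eq' ?_
    ext r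
    have h1 := congrArg (fun g => g (algebraMap R (Localization.AtPrime p) r)) hφ
    simp only [RingHom.comp_apply, Localization.localRingHom_to_map] at h1
    exact h1.symm
  haveI hff : Module.FaithfullyFlat Ash Bsh :=
    (SmoothMinPrimes.isPrime_map R S p q Ash Bsh (maximalIdeal Ash)).2
  refine ⟨⟨fun hd => ?_, fun hd => ?_⟩, ?_⟩
  · haveI := hd
    haveI : (⊥ : Ideal Ash).IsPrime := Ideal.isPrime_bot
    have h1 := (SmoothMinPrimes.isPrime_map R S p q Ash Bsh (⊥ : Ideal Ash)).1
    rw [Ideal.map_bot] at h1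
    haveI := h1
    exact IsDomain.of_bot_isPrime Bsh
  · haveI := hd
    exact (FaithfulSMul.algebraMap_injective Ash Bsh).isDomain (algebraMap Ash Bsh)
  · rw [hasUniqueMinimalPrime_iff_encard, hasUniqueMinimalPrime_iff_encard,
      SmoothMinPrimes.encard_minimalPrimes_eq R S p q Ash Bsh]

theorem pgu_iff_smooth :
    PGU (Localization.AtPrime (q.comap (algebraMap R S))) ↔ PGU (Localization.AtPrime q) := by
  haveI := Hens.isStrictHenselization_Hsh (Localization.AtPrime (q.comap (algebraMap R S)))
  haveI := Hens.isStrictHenselization_Hsh (Localization.AtPrime q)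
  have h := (strict_iff R S q).2
  rw [← isGeomUnibranch_iff (Localization.AtPrime (q.comap (algebraMap R S))),
    ← isGeomUnibranch_iff (Localization.AtPrime q)] at h
  exact ⟨fun ⟨_, hg⟩ => ⟨inferInstance, h.mp hg⟩, fun ⟨_, hg⟩ => ⟨inferInstance, h.mpr hg⟩⟩

theorem pdgu_iff_smooth :
    PDGU (Localization.AtPrime (q.comap (algebraMap R S))) ↔ PDGU (Localization.AtPrime q) := by
  haveI := Hens.isStrictHenselization_Hsh (Localization.AtPrime (q.comap (algebraMap R S)))
  haveI := Hens.isStrictHenselization_Hsh (Localization.AtPrime q)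
  rw [pdgu_iff _ (Hens.Hsh (Localization.AtPrime (q.comap (algebraMap R S)))),
    pdgu_iff _ (Hens.Hsh (Localization.AtPrime q))]
  exact (strict_iff R S q).1

end Ring

section Scheme

theorem stalk_pgu_iff_of_smoothAt {X Y : Scheme.{u}} (f : X ⟶ Y) [LocallyOfFinitePresentation f]
    (x : X) (hx : x ∈ f.smoothLocus) :
    PGU (X.presheaf.stalk x) ↔ PGU (Y.presheaf.stalk (f.base x)) :=
  Groth.Agent.Lib.Helper30.SmoothLocal.stalk_iff_of_smoothAt (fun A _ => PGU A)
    (fun A A' _ _ e h => PGU.of_ringEquiv A A' e h)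
    (fun R S _ _ _ _ q _ => pgu_iff_smooth R S q) f x hx

theorem stalk_pdgu_iff_of_smoothAt {X Y : Scheme.{u}} (f : X ⟶ Y) [LocallyOfFinitePresentation f]
    (x : X) (hx : x ∈ f.smoothLocus) :
    PDGU (X.presheaf.stalk x) ↔ PDGU (Y.presheaf.stalk (f.base x)) :=
  Groth.Agent.Lib.Helper30.SmoothLocal.stalk_iff_of_smoothAt (fun A _ => PDGU A)
    (fun A A' _ _ e h => PDGU.of_ringEquiv A A' e h)
    (fun R S _ _ _ _ q _ => pdgu_iff_smooth R S q) f x hx

end Scheme

end Groth.Agent.Lib.Helper87.GeomUnibranchSmooth
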