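import Mathlib
import Groth.Prelude.Def_CAlg2

/-!
For a domain `A` with integral closure `A'` in its fraction field and a prime `p`, the ring
`CAlg2.normRed (Localization.AtPrime p)` is the localization of `A'` at the image of the
complement of `p`.  Consequences for primes over `p`.
-/

set_option autoImplicit false
set_option linter.style.haveILetI false
set_option linter.unusedSectionVars false

universe u

namespace Groth.Agent.Lib.Helper87.NormRadicial

open IsLocalRing

section Setup

variable {A : Type u} [CommRing A] [IsDomain A] (p : Ideal A) [p.IsPrime]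

/-- the quotient of the local domain by its nilradical is the local domain itself -/
theorem mk_bijective :
    Function.Bijective (Ideal.Quotient.mk (nilradical (Localization.AtPrime p))) := by
  refine ⟨?_, Ideal.Quotient.mk_surjective⟩
  rw [injective_iff_map_eq_zero]
  intro x hx
  rw [Ideal.Quotient.eq_zero_iff_mem, nilradical_eq_zero, Ideal.zero_eq_bot,
    Ideal.mem_bot] at hx
  exact hx

/-- the equivalence between the localization and its reduction -/
noncomputable def redEquiv : Localization.AtPrime p ≃ₐ[A] CAlg2.red (Localization.AtPrime p) :=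
  AlgEquiv.ofBijective (Ideal.Quotient.mkₐ A (nilradical (Localization.AtPrime p)))
    (mk_bijective p)

instance isDomain_red : IsDomain (CAlg2.red (Localization.AtPrime p)) :=
  (redEquiv p).symm.toRingEquiv.toMulEquiv.isDomain _

instance isLocalization_red : IsLocalization p.primeCompl (CAlg2.red (Localization.AtPrime p)) :=
  IsLocalization.isLocalization_of_algEquiv p.primeCompl (redEquiv p)

instance isLocalRing_red : IsLocalRing (CAlg2.red (Localization.AtPrime p)) :=
  (redEquiv p).toRingEquiv.isLocalRing

theorem algebraMap_red_injective :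
    Function.Injective (algebraMap A (CAlg2.red (Localization.AtPrime p))) :=
  IsLocalization.injective _ p.primeCompl_le_nonZeroDivisors

instance isFractionRing_A :
    IsFractionRing A (FractionRing (CAlg2.red (Localization.AtPrime p))) := by
  haveI : FaithfulSMul A (FractionRing (CAlg2.red (Localization.AtPrime p))) := by
    rw [faithfulSMul_iff_algebraMap_injective,
      IsScalarTower.algebraMap_eq A (CAlg2.red (Localization.AtPrime p))]
    exact (IsFractionRing.injective (CAlg2.red (Localization.AtPrime p)) _).comp
      (algebraMap_red_injective p)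
  refine IsFractionRing.of_field A _ fun z => ?_
  obtain ⟨r1, r2, hr2, rfl⟩ := IsFractionRing.div_surjective
    (A := CAlg2.red (Localization.AtPrime p)) z
  obtain ⟨a1, s1, h1⟩ := IsLocalization.exists_mk'_eq p.primeCompl r1
  obtain ⟨a2, s2, h2⟩ := IsLocalization.exists_mk'_eq p.primeCompl r2
  refine ⟨a1 * s2, a2 * s1, ?_⟩
  have hinj : Function.Injective (algebraMap A (FractionRing (CAlg2.red (Localization.AtPrime p)))) :=
    FaithfulSMul.algebraMap_injective _ _
  have hr2' : r2 ≠ 0 := nonZeroDivisors.ne_zero hr2
  have ha2 : a2 ≠ 0 := by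
    rintro rfl
    rw [IsLocalization.mk'_zero] at h2
    exact hr2' h2.symm
  have hs1 : (s1 : A) ≠ 0 := fun h => s1.2 (by rw [h]; exact p.zero_mem)
  have e1 : algebraMap _ (FractionRing (CAlg2.red (Localization.AtPrime p))) r1 *
      algebraMap A (FractionRing (CAlg2.red (Localization.AtPrime p))) s1 =
      algebraMap A (FractionRing (CAlg2.red (Localization.AtPrime p))) a1 := by
    have h0 : r1 * algebraMap A (CAlg2.red (Localization.AtPrime p)) s1 =
        algebraMap A (CAlg2.red (Localization.AtPrime p)) a1 := by
      rw [← h1, IsLocalization.mk'_spec]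
    have := congrArg (algebraMap (CAlg2.red (Localization.AtPrime p))
      (FractionRing (CAlg2.red (Localization.AtPrime p)))) h0
    rwa [map_mul, ← IsScalarTower.algebraMap_apply, ← IsScalarTower.algebraMap_apply] at this
  have e2 : algebraMap _ (FractionRing (CAlg2.red (Localization.AtPrime p))) r2 *
      algebraMap A (FractionRing (CAlg2.red (Localization.AtPrime p))) s2 =
      algebraMap A (FractionRing (CAlg2.red (Localization.AtPrime p))) a2 := by
    have h0 : r2 * algebraMap A (CAlg2.red (Localization.AtPrime p)) s2 =
        algebraMap A (CAlg2.red (Localization.AtPrime p)) a2 := by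
      rw [← h2, IsLocalization.mk'_spec]
    have := congrArg (algebraMap (CAlg2.red (Localization.AtPrime p))
      (FractionRing (CAlg2.red (Localization.AtPrime p)))) h0
    rwa [map_mul, ← IsScalarTower.algebraMap_apply, ← IsScalarTower.algebraMap_apply] at this
  rw [div_eq_div_iff]
  · rw [map_mul, map_mul]
    linear_combination
      (algebraMap A (FractionRing (CAlg2.red (Localization.AtPrime p))) a2) * e1 -
      (algebraMap A (FractionRing (CAlg2.red (Localization.AtPrime p))) a1) * e2
  · exact fun h => hr2' ((IsFractionRing.injective _ _) (by rw [h, map_zero]))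
  · exact fun h => (mul_ne_zero ha2 hs1) (hinj (by rw [h, map_zero]))

/-- the comparison of fraction fields -/
noncomputable def fracEquiv :
    FractionRing A ≃ₐ[A] FractionRing (CAlg2.red (Localization.AtPrime p)) :=
  FractionRing.algEquiv A _

noncomputable instance algebraFrac :
    Algebra (FractionRing A) (FractionRing (CAlg2.red (Localization.AtPrime p))) :=
  (fracEquiv p : FractionRing A →+* _).toAlgebra

instance isScalarTower_frac :
    IsScalarTower A (FractionRing A) (FractionRing (CAlg2.red (Localization.AtPrime p))) :=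
  IsScalarTower.of_algebraMap_eq fun a => ((fracEquiv p).commutes a).symm

theorem algebraMap_frac_bijective : Function.Bijective
    (algebraMap (FractionRing A) (FractionRing (CAlg2.red (Localization.AtPrime p)))) :=
  (fracEquiv p).bijective

instance isLocalization_frac :
    IsLocalization (Algebra.algebraMapSubmonoid (FractionRing A) p.primeCompl)
      (FractionRing (CAlg2.red (Localization.AtPrime p))) := by
  refine IsLocalization.of_le_isUnit_of_bijective ?_ (algebraMap_frac_bijective p)
  rintro _ ⟨_, ⟨s, hs, rfl⟩, rfl⟩
  refine IsUnit.mk0 _ fun h => ?_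
  have h1 : algebraMap A (FractionRing A) s = 0 :=
    (algebraMap_frac_bijective p).injective (by rw [h, map_zero])
  have h0 : s = 0 := (IsFractionRing.injective A (FractionRing A)) (by rw [h1, map_zero])
  exact hs (by rw [h0]; exact p.zero_mem)

/-- the map from the integral closure of `A` to the normalization of the local ring -/
noncomputable def toNorm :
    integralClosure A (FractionRing A) →+* CAlg2.normRed (Localization.AtPrime p) where
  toFun x := ⟨algebraMap (FractionRing A) _ (x : FractionRing A), by
    have h1 : IsIntegral A (algebraMap (FractionRing A)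
        (FractionRing (CAlg2.red (Localization.AtPrime p))) (x : FractionRing A)) :=
      x.2.map (IsScalarTower.toAlgHom A (FractionRing A) _)
    exact h1.tower_top⟩
  map_one' := Subtype.ext (by simp)
  map_mul' x y := Subtype.ext (by simp)
  map_zero' := Subtype.ext (by simp)
  map_add' x y := Subtype.ext (by simp)

noncomputable instance algebraNorm :
    Algebra (integralClosure A (FractionRing A)) (CAlg2.normRed (Localization.AtPrime p)) :=
  (toNorm p).toAlgebra

theorem coe_algebraMap_norm (x : integralClosure A (FractionRing A)) :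
    ((algebraMap _ (CAlg2.normRed (Localization.AtPrime p)) x :
      CAlg2.normRed (Localization.AtPrime p)) :
      FractionRing (CAlg2.red (Localization.AtPrime p))) =
    algebraMap (FractionRing A) _ (x : FractionRing A) := rfl

instance isScalarTower_norm1 :
    IsScalarTower (integralClosure A (FractionRing A)) (CAlg2.normRed (Localization.AtPrime p))
      (FractionRing (CAlg2.red (Localization.AtPrime p))) :=
  IsScalarTower.of_algebraMap_eq fun _ => rfl

instance isScalarTower_norm2 :
    IsScalarTower A (integralClosure A (FractionRing A))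
      (CAlg2.normRed (Localization.AtPrime p)) := by
  refine IsScalarTower.of_algebraMap_eq fun a => Subtype.ext ?_
  rw [coe_algebraMap_norm]
  show algebraMap (CAlg2.red (Localization.AtPrime p)) _ (algebraMap A _ a) =
    algebraMap (FractionRing A) _ (algebraMap A (FractionRing A) a)
  rw [← IsScalarTower.algebraMap_apply, ← IsScalarTower.algebraMap_apply]

instance isLocalization_norm :
    IsLocalization (Algebra.algebraMapSubmonoid (integralClosure A (FractionRing A)) p.primeCompl)
      (CAlg2.normRed (Localization.AtPrime p)) :=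
  IsLocalization.integralClosure (R := A) (S := FractionRing A)
    (Rf := CAlg2.red (Localization.AtPrime p))
    (Sf := FractionRing (CAlg2.red (Localization.AtPrime p))) p.primeCompl

end Setup

section Primes

variable {A : Type u} [CommRing A] [IsDomain A] (p : Ideal A) [p.IsPrime]

theorem comap_maximalIdeal_red :
    (maximalIdeal (CAlg2.red (Localization.AtPrime p))).comap (algebraMap A _) = p :=
  IsLocalization.AtPrime.under_maximalIdeal (CAlg2.red (Localization.AtPrime p)) p

theorem comap_red_eq_maximalIdeal (m' : Ideal (CAlg2.normRed (Localization.AtPrime p)))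
    [m'.IsMaximal] :
    m'.comap (algebraMap (CAlg2.red (Localization.AtPrime p)) _) =
      maximalIdeal (CAlg2.red (Localization.AtPrime p)) :=
  eq_maximalIdeal (Ideal.isMaximal_comap_of_isIntegral_of_isMaximal m')

/-- maximal ideals of the normalization of the local ring contract to primes over `p` -/
theorem comap_comap_eq (m' : Ideal (CAlg2.normRed (Localization.AtPrime p))) [m'.IsMaximal] :
    (m'.comap (algebraMap (integralClosure A (FractionRing A)) _)).comap
      (algebraMap A (integralClosure A (FractionRing A))) = p := by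
  rw [Ideal.comap_comap, ← IsScalarTower.algebraMap_eq A (integralClosure A (FractionRing A)),
    IsScalarTower.algebraMap_eq A (CAlg2.red (Localization.AtPrime p)), ← Ideal.comap_comap,
    comap_red_eq_maximalIdeal, comap_maximalIdeal_red]

theorem disjoint_of_comap_eq (q : Ideal (integralClosure A (FractionRing A)))
    (hq : q.comap (algebraMap A (integralClosure A (FractionRing A))) = p) :
    Disjoint (Algebra.algebraMapSubmonoid (integralClosure A (FractionRing A)) p.primeCompl : Set _)
      (q : Set (integralClosure A (FractionRing A))) := by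
  rw [Set.disjoint_left]
  rintro _ ⟨s, hs, rfl⟩ hmem
  apply hs
  rw [← hq]
  exact hmem

theorem comap_map_eq (q : Ideal (integralClosure A (FractionRing A))) [q.IsPrime]
    (hq : q.comap (algebraMap A (integralClosure A (FractionRing A))) = p) :
    (q.map (algebraMap _ (CAlg2.normRed (Localization.AtPrime p)))).comap
      (algebraMap (integralClosure A (FractionRing A)) _) = q :=
  IsLocalization.under_map_of_isPrime_disjoint
    (Algebra.algebraMapSubmonoid (integralClosure A (FractionRing A)) p.primeCompl) _
    inferInstance (disjoint_of_comap_eq p q hq)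

theorem isPrime_map (q : Ideal (integralClosure A (FractionRing A))) [q.IsPrime]
    (hq : q.comap (algebraMap A (integralClosure A (FractionRing A))) = p) :
    (q.map (algebraMap _ (CAlg2.normRed (Localization.AtPrime p)))).IsPrime :=
  IsLocalization.isPrime_of_isPrime_disjoint
    (Algebra.algebraMapSubmonoid (integralClosure A (FractionRing A)) p.primeCompl) _ _
    inferInstance (disjoint_of_comap_eq p q hq)

theorem isMaximal_map (q : Ideal (integralClosure A (FractionRing A))) [q.IsPrime]
    (hq : q.comap (algebraMap A (integralClosure A (FractionRing A))) = p) :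
    (q.map (algebraMap _ (CAlg2.normRed (Localization.AtPrime p)))).IsMaximal := by
  haveI := isPrime_map p q hq
  apply Ideal.isMaximal_of_isIntegral_of_isMaximal_comap
    (R := CAlg2.red (Localization.AtPrime p))
  have hP : ((q.map (algebraMap _ (CAlg2.normRed (Localization.AtPrime p)))).comap
      (algebraMap (CAlg2.red (Localization.AtPrime p)) _)).comap (algebraMap A _) = p := by
    rw [Ideal.comap_comap, ← IsScalarTower.algebraMap_eq A (CAlg2.red (Localization.AtPrime p)),
      IsScalarTower.algebraMap_eq A (integralClosure A (FractionRing A)), ← Ideal.comap_comap,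
      comap_map_eq p q hq, hq]
  have heq : (q.map (algebraMap _ (CAlg2.normRed (Localization.AtPrime p)))).comap
      (algebraMap (CAlg2.red (Localization.AtPrime p)) _) =
      maximalIdeal (CAlg2.red (Localization.AtPrime p)) := by
    rw [← IsLocalization.map_under p.primeCompl (CAlg2.red (Localization.AtPrime p))
      ((q.map (algebraMap _ (CAlg2.normRed (Localization.AtPrime p)))).comap
      (algebraMap (CAlg2.red (Localization.AtPrime p)) _)), Ideal.under_def, hP,
      ← IsLocalization.map_under p.primeCompl (CAlg2.red (Localization.AtPrime p))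
      (maximalIdeal (CAlg2.red (Localization.AtPrime p))), Ideal.under_def,
      comap_maximalIdeal_red]
  rw [heq]
  infer_instance

/-- if the normalization of the local ring is local then there is at most one prime over `p` -/
theorem eq_of_isLocalRing [IsLocalRing (CAlg2.normRed (Localization.AtPrime p))]
    (q1 q2 : Ideal (integralClosure A (FractionRing A))) [q1.IsPrime] [q2.IsPrime]
    (h1 : q1.comap (algebraMap A (integralClosure A (FractionRing A))) = p)
    (h2 : q2.comap (algebraMap A (integralClosure A (FractionRing A))) = p) : q1 = q2 := by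
  haveI := isMaximal_map p q1 h1
  haveI := isMaximal_map p q2 h2
  rw [← comap_map_eq p q1 h1, ← comap_map_eq p q2 h2,
    eq_maximalIdeal (inferInstance : (q1.map (algebraMap _
      (CAlg2.normRed (Localization.AtPrime p)))).IsMaximal),
    eq_maximalIdeal (inferInstance : (q2.map (algebraMap _
      (CAlg2.normRed (Localization.AtPrime p)))).IsMaximal)]

/-- if there is at most one prime over `p` then the normalization of the local ring is local -/
theorem isLocalRing_of_unique
    (h : ∀ (q1 q2 : Ideal (integralClosure A (FractionRing A))) [q1.IsPrime] [q2.IsPrime],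
      q1.comap (algebraMap A (integralClosure A (FractionRing A))) = p →
      q2.comap (algebraMap A (integralClosure A (FractionRing A))) = p → q1 = q2) :
    IsLocalRing (CAlg2.normRed (Localization.AtPrime p)) := by
  haveI : Nontrivial (CAlg2.normRed (Localization.AtPrime p)) := inferInstance
  refine IsLocalRing.of_unique_max_ideal ?_
  obtain ⟨m, hm⟩ := Ideal.exists_maximal (CAlg2.normRed (Localization.AtPrime p))
  refine ⟨m, hm, fun m2 hm2 => ?_⟩
  haveI : m.IsMaximal := hm
  haveI : m2.IsMaximal := hm2
  have hc := h _ _ (comap_comap_eq p m2) (comap_comap_eq p m)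
  rw [← IsLocalization.map_under
    (Algebra.algebraMapSubmonoid (integralClosure A (FractionRing A)) p.primeCompl) _ m2,
    Ideal.under_def, hc, ← Ideal.under_def, IsLocalization.map_under
    (Algebra.algebraMapSubmonoid (integralClosure A (FractionRing A)) p.primeCompl)]

end Primes

section AbstractPow

theorem pow_mem_of_isGeomUnibranch {B : Type u} [CommRing B] [IsLocalRing B]
    (h : CAlg2.IsGeomUnibranch B) (m' : Ideal (CAlg2.normRed B)) [m'.IsMaximal]
    (x : CAlg2.normRed B ⧸ m') :
    ∃ n : ℕ, ∃ b : B, ((Ideal.Quotient.mk m').comp ((algebraMap (CAlg2.red B)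
      (CAlg2.normRed B)).comp (Ideal.Quotient.mk (nilradical B)))) b =
      x ^ (ringExpChar (CAlg2.normRed B ⧸ m')) ^ n := by
  obtain ⟨n, b, hb⟩ := h.2 m' x
  exact ⟨n, b, hb⟩

theorem eq_of_pow_mem {A A' B N F : Type*} [CommRing A] [CommRing A'] [Algebra A A']
    [CommRing B] [Algebra A B] (M : Submonoid A) [IsLocalization M B] [CommRing N] [Field F]
    (g : A' →+* N) (Q : Ideal N) [Q.IsMaximal] (f : B →+* N ⧸ Q)
    (hf : ∀ c : A, f (algebraMap A B c) = Ideal.Quotient.mk Q (g (algebraMap A A' c)))
    (hpow : ∀ y : N ⧸ Q, ∃ n : ℕ, ∃ b : B, f b = y ^ (ringExpChar (N ⧸ Q)) ^ n)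
    (φ1 φ2 : A' →+* F) (h1 : RingHom.ker φ1 = Q.comap g) (h2 : RingHom.ker φ2 = Q.comap g)
    (hφ : ∀ c : A, φ1 (algebraMap A A' c) = φ2 (algebraMap A A' c))
    (hM : ∀ s ∈ M, φ1 (algebraMap A A' s) ≠ 0) : φ1 = φ2 := by
  -- characteristic exponents agree
  have hle : RingHom.ker φ1 ≤ Q.comap g := h1.le
  have hinj1 : Function.Injective (Ideal.quotientMap Q g hle) :=
    Ideal.quotientMap_injective' (J := RingHom.ker φ1) (I := Q) (f := g) (H := hle) h1.ge
  haveI : ExpChar (A' ⧸ RingHom.ker φ1) (ringExpChar (N ⧸ Q)) :=
    RingHom.expChar (Ideal.quotientMap Q g hle) hinj1 (ringExpChar (N ⧸ Q))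
  haveI : ExpChar F (ringExpChar (N ⧸ Q)) :=
    expChar_of_injective_ringHom (RingHom.kerLift_injective φ1) (ringExpChar (N ⧸ Q))
  ext x
  obtain ⟨n, b, hb⟩ := hpow (Ideal.Quotient.mk Q (g x))
  obtain ⟨a, s, rfl⟩ := IsLocalization.exists_mk'_eq M b
  have hmem : x ^ (ringExpChar (N ⧸ Q)) ^ n * algebraMap A A' (s : A) - algebraMap A A' a ∈
      Q.comap g := by
    rw [Ideal.mem_comap, ← Ideal.Quotient.eq_zero_iff_mem, map_sub, map_mul, map_pow,
      map_sub, map_mul, map_pow, ← hb, sub_eq_zero, ← hf, ← hf, ← map_mul,
      IsLocalization.mk'_spec]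
  have hm1 : φ1 (x ^ (ringExpChar (N ⧸ Q)) ^ n * algebraMap A A' (s : A) - algebraMap A A' a) =
      0 := by
    rw [← h1] at hmem
    exact (RingHom.mem_ker).mp hmem
  have hm2 : φ2 (x ^ (ringExpChar (N ⧸ Q)) ^ n * algebraMap A A' (s : A) - algebraMap A A' a) =
      0 := by
    rw [← h2] at hmem
    exact (RingHom.mem_ker).mp hmem
  rw [map_sub, map_mul, map_pow, sub_eq_zero] at hm1 hm2
  have hpow' : φ1 x ^ (ringExpChar (N ⧸ Q)) ^ n = φ2 x ^ (ringExpChar (N ⧸ Q)) ^ n := by
    apply mul_right_cancel₀ (hM s s.2)
    rw [hm1, hφ a, ← hm2, hφ]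
  apply iterateFrobenius_inj F (ringExpChar (N ⧸ Q)) n
  rw [iterateFrobenius_def, iterateFrobenius_def]
  exact hpow'

theorem pow_mem_of_ringUI {A A' B N : Type u} [CommRing A] [CommRing A'] [Algebra A A']
    [CommRing B] [IsLocalRing B] [Algebra A B] [CommRing N] [Algebra A' N] (M' : Submonoid A')
    [IsLocalization M' N] (Q : Ideal N) [Q.IsMaximal] (f : B →+* N ⧸ Q)
    (hfker : ∀ b ∈ maximalIdeal B, f b = 0)
    (hf : ∀ c : A, f (algebraMap A B c) =
      Ideal.Quotient.mk Q (algebraMap A' N (algebraMap A A' c)))
    (hUI : ∀ (F : Type u) [Field F] (φ1 φ2 : A' →+* F),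
      (∀ c : A, φ1 (algebraMap A A' c) = φ2 (algebraMap A A' c)) → φ1 = φ2)
    (y : N ⧸ Q) : ∃ n : ℕ, y ^ (ringExpChar (N ⧸ Q)) ^ n ∈ f.range := by
  letI : Field (N ⧸ Q) := Ideal.Quotient.field Q
  let fbar : ResidueField B →+* N ⧸ Q := Ideal.Quotient.lift (maximalIdeal B) f hfker
  letI : Algebra (ResidueField B) (N ⧸ Q) := fbar.toAlgebra
  have hfbar : ∀ b : B, algebraMap (ResidueField B) (N ⧸ Q) (residue B b) = f b := fun b => rfl
  haveI : ExpChar (ResidueField B) (ringExpChar (N ⧸ Q)) :=
    RingHom.expChar fbar fbar.injective (ringExpChar (N ⧸ Q))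
  have hpi : IsPurelyInseparable (ResidueField B) (N ⧸ Q) := by
    rw [isPurelyInseparable_iff_subsingleton_emb]
    refine ⟨fun σ1 σ2 => ?_⟩
    have hσ : ∀ σ : N ⧸ Q →ₐ[ResidueField B] AlgebraicClosure (N ⧸ Q), ∀ c : A,
        ((σ : N ⧸ Q →+* AlgebraicClosure (N ⧸ Q)).comp
          ((Ideal.Quotient.mk Q).comp (algebraMap A' N))) (algebraMap A A' c) =
        algebraMap (ResidueField B) (AlgebraicClosure (N ⧸ Q)) (residue B (algebraMap A B c)) := by
      intro σ c
      show σ (Ideal.Quotient.mk Q (algebraMap A' N (algebraMap A A' c))) = _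
      rw [← hf, ← hfbar, σ.commutes]
    have heq := hUI (AlgebraicClosure (N ⧸ Q))
      ((σ1 : N ⧸ Q →+* AlgebraicClosure (N ⧸ Q)).comp
        ((Ideal.Quotient.mk Q).comp (algebraMap A' N)))
      ((σ2 : N ⧸ Q →+* AlgebraicClosure (N ⧸ Q)).comp
        ((Ideal.Quotient.mk Q).comp (algebraMap A' N)))
      (fun c => (hσ σ1 c).trans (hσ σ2 c).symm)
    apply AlgHom.ext
    intro z
    obtain ⟨t, rfl⟩ := Ideal.Quotient.mk_surjective z
    obtain ⟨⟨x, s⟩, hxs⟩ := IsLocalization.surj M' t
    have hu : IsUnit (Ideal.Quotient.mk Q (algebraMap A' N s)) :=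
      (IsLocalization.map_units N s).map (Ideal.Quotient.mk Q)
    have h1 : ∀ σ : N ⧸ Q →ₐ[ResidueField B] AlgebraicClosure (N ⧸ Q),
        σ (Ideal.Quotient.mk Q t) * σ (Ideal.Quotient.mk Q (algebraMap A' N s)) =
        σ (Ideal.Quotient.mk Q (algebraMap A' N x)) := by
      intro σ
      rw [← map_mul, ← map_mul, hxs]
    have h2 : σ1 (Ideal.Quotient.mk Q (algebraMap A' N s)) =
        σ2 (Ideal.Quotient.mk Q (algebraMap A' N s)) := RingHom.congr_fun heq s
    have h3 : σ1 (Ideal.Quotient.mk Q (algebraMap A' N x)) =
        σ2 (Ideal.Quotient.mk Q (algebraMap A' N x)) := RingHom.congr_fun heq x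
    have hu2 : σ2 (Ideal.Quotient.mk Q (algebraMap A' N s)) ≠ 0 := (hu.map σ2).ne_zero
    apply mul_right_cancel₀ hu2
    rw [h1 σ2, ← h2, h1 σ1, h3]
  obtain ⟨n, z, hz⟩ := (isPurelyInseparable_iff_pow_mem (ResidueField B)
    (ringExpChar (N ⧸ Q))).mp hpi y
  obtain ⟨b, rfl⟩ := residue_surjective z
  exact ⟨n, b, by rw [← hz, hfbar]⟩

end AbstractPow

section Radicial

variable (A : Type u) [CommRing A] [IsDomain A]

/-- ring form of the field valued points criterion -/
def RingUI : Prop :=
  ∀ (F : Type u) [Field F] (φ1 φ2 : integralClosure A (FractionRing A) →+* F),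
    φ1.comp (algebraMap A (integralClosure A (FractionRing A))) =
      φ2.comp (algebraMap A (integralClosure A (FractionRing A))) → φ1 = φ2

variable {A}

theorem comap_injective_of_isGeomUnibranch
    (h : ∀ (p : Ideal A) [p.IsPrime], CAlg2.IsGeomUnibranch (Localization.AtPrime p)) :
    Function.Injective (PrimeSpectrum.comap (algebraMap A (integralClosure A (FractionRing A)))) := by
  intro x1 x2 hx
  have h1 : x1.asIdeal.comap (algebraMap A (integralClosure A (FractionRing A))) =
      (PrimeSpectrum.comap (algebraMap A (integralClosure A (FractionRing A))) x1).asIdeal := rfl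
  have h2 : x2.asIdeal.comap (algebraMap A (integralClosure A (FractionRing A))) =
      (PrimeSpectrum.comap (algebraMap A (integralClosure A (FractionRing A))) x1).asIdeal := by
    rw [hx]
    rfl
  haveI := (h (PrimeSpectrum.comap (algebraMap A (integralClosure A (FractionRing A)))
    x1).asIdeal).1.2
  exact PrimeSpectrum.ext (eq_of_isLocalRing _ x1.asIdeal x2.asIdeal h1 h2)

theorem ringUI_of_isGeomUnibranch
    (h : ∀ (p : Ideal A) [p.IsPrime], CAlg2.IsGeomUnibranch (Localization.AtPrime p)) :
    RingUI A := by
  intro F _ φ1 φ2 hφ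
  haveI : (RingHom.ker φ1).IsPrime := RingHom.ker_isPrime φ1
  haveI : (RingHom.ker φ2).IsPrime := RingHom.ker_isPrime φ2
  have hp : ((RingHom.ker φ1).comap (algebraMap A (integralClosure A (FractionRing A)))).IsPrime :=
    Ideal.comap_isPrime _ _
  have hp2 : (RingHom.ker φ2).comap (algebraMap A (integralClosure A (FractionRing A))) =
      (RingHom.ker φ1).comap (algebraMap A (integralClosure A (FractionRing A))) := by
    rw [RingHom.comap_ker, RingHom.comap_ker, hφ]
  generalize hpdef : (RingHom.ker φ1).comap (algebraMap A (integralClosure A (FractionRing A))) = p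
    at hp hp2
  haveI := hp
  have hgu := h p
  haveI : IsLocalRing (CAlg2.normRed (Localization.AtPrime p)) := hgu.1.2
  have hq2 : RingHom.ker φ2 = RingHom.ker φ1 := eq_of_isLocalRing p _ _ hp2 hpdef
  haveI hQmax := isMaximal_map p (RingHom.ker φ1) hpdef
  have hQ := comap_map_eq p (RingHom.ker φ1) hpdef
  refine eq_of_pow_mem (A := A) (B := Localization.AtPrime p) p.primeCompl
    (algebraMap (integralClosure A (FractionRing A)) (CAlg2.normRed (Localization.AtPrime p)))
    ((RingHom.ker φ1).map (algebraMap _ (CAlg2.normRed (Localization.AtPrime p))))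
    ((Ideal.Quotient.mk _).comp ((algebraMap (CAlg2.red (Localization.AtPrime p))
      (CAlg2.normRed (Localization.AtPrime p))).comp
      (Ideal.Quotient.mk (nilradical (Localization.AtPrime p))))) ?_ ?_ φ1 φ2 hQ.symm
    (hq2.trans hQ.symm) (fun c => RingHom.congr_fun hφ c) ?_
  · intro c
    rw [← IsScalarTower.algebraMap_apply A (integralClosure A (FractionRing A))
      (CAlg2.normRed (Localization.AtPrime p)),
      IsScalarTower.algebraMap_apply A (CAlg2.red (Localization.AtPrime p))
      (CAlg2.normRed (Localization.AtPrime p)),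
      IsScalarTower.algebraMap_apply A (Localization.AtPrime p)
      (CAlg2.red (Localization.AtPrime p))]
    rfl
  · intro y
    exact pow_mem_of_isGeomUnibranch hgu _ y
  · intro s hs h0
    apply hs
    rw [← hpdef]
    exact (RingHom.mem_ker).mpr h0

theorem isGeomUnibranch_of_ringUI (hUI : RingUI A)
    (hinj : Function.Injective
      (PrimeSpectrum.comap (algebraMap A (integralClosure A (FractionRing A)))))
    (p : Ideal A) [p.IsPrime] : CAlg2.IsGeomUnibranch (Localization.AtPrime p) := by
  have hloc : IsLocalRing (CAlg2.normRed (Localization.AtPrime p)) := by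
    refine isLocalRing_of_unique p fun q1 q2 _ _ h1 h2 => ?_
    have := @hinj ⟨q1, inferInstance⟩ ⟨q2, inferInstance⟩ (PrimeSpectrum.ext (h1.trans h2.symm))
    exact congrArg PrimeSpectrum.asIdeal this
  refine ⟨⟨inferInstance, hloc⟩, ?_⟩
  intro m' hm' y
  refine pow_mem_of_ringUI (A := A) (A' := integralClosure A (FractionRing A))
    (B := Localization.AtPrime p)
    (Algebra.algebraMapSubmonoid (integralClosure A (FractionRing A)) p.primeCompl) m'
    ((Ideal.Quotient.mk m').comp ((algebraMap (CAlg2.red (Localization.AtPrime p))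
      (CAlg2.normRed (Localization.AtPrime p))).comp
      (Ideal.Quotient.mk (nilradical (Localization.AtPrime p))))) ?_ ?_ ?_ y
  · intro b hb
    show Ideal.Quotient.mk m' (algebraMap (CAlg2.red (Localization.AtPrime p))
      (CAlg2.normRed (Localization.AtPrime p))
      (Ideal.Quotient.mk (nilradical (Localization.AtPrime p)) b)) = 0
    rw [Ideal.Quotient.eq_zero_iff_mem, ← Ideal.mem_comap, comap_red_eq_maximalIdeal,
      mem_maximalIdeal, mem_nonunits_iff]
    intro hu
    have hu' : IsUnit (redEquiv p b) := hu
    exact (mem_nonunits_iff.mp ((mem_maximalIdeal b).mp hb)) ((isUnit_map_iff (redEquiv p) b).mp hu')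
  · intro c
    rw [← IsScalarTower.algebraMap_apply A (integralClosure A (FractionRing A))
      (CAlg2.normRed (Localization.AtPrime p)),
      IsScalarTower.algebraMap_apply A (CAlg2.red (Localization.AtPrime p))
      (CAlg2.normRed (Localization.AtPrime p)),
      IsScalarTower.algebraMap_apply A (Localization.AtPrime p)
      (CAlg2.red (Localization.AtPrime p))]
    rfl
  · intro F _ φ1 φ2 h
    exact hUI F φ1 φ2 (RingHom.ext h)


end Radicial

end Groth.Agent.Lib.Helper87.NormRadicial
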