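import Mathlib
import Groth.Prelude.Def_CAlg2
import Groth.Prelude.Def_Curv2
import Groth.Prelude.Def_Flat
import Groth.Agent.S4567
import Groth.Agent.Lib.Helper66.EtaSN
import Groth.Agent.Lib.Helper87.GeomUnibranchEquiv

/-!
# Normalization of an integral scheme with geometrically unibranch stalks
-/

set_option autoImplicit false
universe u

open CategoryTheory CategoryTheory.Limits AlgebraicGeometry

namespace Groth.Agent.Lib.Helper87.NormScheme

section Ring

/-- version of the radicial statement for an arbitrary model of the fraction field -/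
theorem universallyInjective_integralClosure {A L : Type u} [CommRing A] [IsDomain A]
    [CommRing L] [Algebra A L] [IsFractionRing A L]
    (h : ∀ (p : Ideal A) [p.IsPrime], CAlg2.IsGeomUnibranch (Localization.AtPrime p)) :
    UniversallyInjective (Spec.map (CommRingCat.ofHom (algebraMap A (integralClosure A L)))) := by
  have h0 : UniversallyInjective (Spec.map (CommRingCat.ofHom
      (algebraMap A (integralClosure A (FractionRing A))))) :=
    (Groth.Agent.S4567.result (A := A)).1.mpr h
  let e : FractionRing A ≃ₐ[A] L := FractionRing.algEquiv A L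
  let e' : integralClosure A (FractionRing A) ≃ₐ[A] integralClosure A L := e.mapIntegralClosure
  have hcomp : algebraMap A (integralClosure A L) =
      (e'.toRingEquiv.toRingHom).comp (algebraMap A (integralClosure A (FractionRing A))) := by
    ext a
    exact Subtype.ext_iff.mp (e'.commutes a).symm
  rw [hcomp, CommRingCat.ofHom_comp, Spec.map_comp]
  haveI : IsIso (CommRingCat.ofHom e'.toRingEquiv.toRingHom) :=
    (e'.toRingEquiv.toCommRingCatIso).isIso_hom
  haveI := h0
  exact MorphismProperty.comp_mem _ _ _ inferInstance h0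

end Ring

section Scheme

variable (X : Scheme.{u}) [IsIntegral X]

theorem preimage_eq_top (U : X.Opens) [hne : Nonempty U] :
    (X.fromSpecStalk (genericPoint X)) ⁻¹ᵁ U = ⊤ := by
  have hη : genericPoint X ∈ U :=
    ((genericPoint_spec X).mem_open_set_iff U.isOpen).mpr (by simpa using hne)
  refine top_le_iff.mp fun z _ => ?_
  show (X.fromSpecStalk (genericPoint X)) z ∈ U
  have hz : z = IsLocalRing.closedPoint (X.presheaf.stalk (genericPoint X)) :=
    @Subsingleton.elim (PrimeSpectrum X.functionField) inferInstance _ _
  rw [hz, Scheme.fromSpecStalk_closedPoint]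
  exact hη

/-- the comparison map from the function field to the sections over the preimage -/
noncomputable def ψ (U : X.Opens) :
    X.functionField ⟶
      Γ(Spec (X.presheaf.stalk (genericPoint X)), (X.fromSpecStalk (genericPoint X)) ⁻¹ᵁ U) :=
  (Scheme.ΓSpecIso (X.presheaf.stalk (genericPoint X))).inv ≫
    (Spec (X.presheaf.stalk (genericPoint X))).presheaf.map (homOfLE le_top).op

instance isIso_ψ (U : X.Opens) [Nonempty U] : IsIso (ψ X U) := by
  have h : IsIso ((Spec (X.presheaf.stalk (genericPoint X))).presheaf.map
      (homOfLE (le_top : (X.fromSpecStalk (genericPoint X)) ⁻¹ᵁ U ≤ ⊤)).op) := by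
    have h2 : (homOfLE (le_top : (X.fromSpecStalk (genericPoint X)) ⁻¹ᵁ U ≤ ⊤)) =
        eqToHom (preimage_eq_top X U) := Subsingleton.elim _ _
    rw [h2]
    infer_instance
  unfold ψ
  infer_instance

theorem app_eq (U : X.Opens) [hne : Nonempty U] :
    (X.fromSpecStalk (genericPoint X)).app U = X.germToFunctionField U ≫ ψ X U :=
  Scheme.fromSpecStalk_app _

theorem isFractionRing_app (U : X.Opens) (hU : IsAffineOpen U) [Nonempty U] :
    letI := ((X.fromSpecStalk (genericPoint X)).app U).hom.toAlgebra
    IsFractionRing Γ(X, U)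
      Γ(Spec (X.presheaf.stalk (genericPoint X)), (X.fromSpecStalk (genericPoint X)) ⁻¹ᵁ U) := by
  letI := ((X.fromSpecStalk (genericPoint X)).app U).hom.toAlgebra
  haveI := functionField_isFractionRing_of_isAffineOpen X U hU
  let e0 : X.functionField ≃+*
      Γ(Spec (X.presheaf.stalk (genericPoint X)), (X.fromSpecStalk (genericPoint X)) ⁻¹ᵁ U) :=
    (asIso (ψ X U)).commRingCatIsoToRingEquiv
  let e : X.functionField ≃ₐ[Γ(X, U)]
      Γ(Spec (X.presheaf.stalk (genericPoint X)), (X.fromSpecStalk (genericPoint X)) ⁻¹ᵁ U) :=
    AlgEquiv.ofRingEquiv (f := e0) (fun a => by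
      have h := congrArg (fun g => g.hom a) (app_eq X U)
      exact h.symm)
  exact IsLocalization.isLocalization_of_algEquiv (nonZeroDivisors Γ(X, U)) e

omit [IsIntegral X] in
theorem isGeomUnibranch_localization_of_stalk
    (hX : ∀ x : X, CAlg2.IsGeomUnibranch (X.presheaf.stalk x)) {U : X.Opens}
    (hU : IsAffineOpen U) (p : Ideal Γ(X, U)) [p.IsPrime] :
    CAlg2.IsGeomUnibranch (Localization.AtPrime p) := by
  have hy : hU.fromSpec ⟨p, inferInstance⟩ ∈ U := by
    have h1 : hU.fromSpec ⟨p, inferInstance⟩ ∈ Set.range hU.fromSpec := ⟨_, rfl⟩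
    rw [hU.range_fromSpec] at h1
    exact h1
  letI := TopCat.Presheaf.algebra_section_stalk X.presheaf ⟨hU.fromSpec ⟨p, inferInstance⟩, hy⟩
  haveI : IsLocalization.AtPrime (X.presheaf.stalk (hU.fromSpec ⟨p, inferInstance⟩)) p :=
    hU.isLocalization_stalk' ⟨p, inferInstance⟩ hy
  let e : X.presheaf.stalk (hU.fromSpec ⟨p, inferInstance⟩) ≃ₐ[Γ(X, U)] Localization.AtPrime p :=
    IsLocalization.algEquiv p.primeCompl _ _
  exact GeomUnibranchEquiv.isGeomUnibranch_of_ringEquiv e.toRingEquiv (hX _)

theorem universallyInjective_app
    (hX : ∀ x : X, CAlg2.IsGeomUnibranch (X.presheaf.stalk x)) (U : X.affineOpens) :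
    UniversallyInjective (Spec.map
      ((X.fromSpecStalk (genericPoint X)).normalizationDiagramMap.app (.op U.1))) := by
  by_cases hne : Nonempty U.1
  · letI := ((X.fromSpecStalk (genericPoint X)).app U.1).hom.toAlgebra
    haveI := isFractionRing_app X U.1 U.2
    haveI : IsDomain Γ(X, U.1) := inferInstance
    exact universallyInjective_integralClosure
      (fun p _ => isGeomUnibranch_localization_of_stalk X hX U.2 p)
  · letI := ((X.fromSpecStalk (genericPoint X)).app U.1).hom.toAlgebra
    have hbot : U.1 = ⊥ := by
      rw [not_nonempty_iff] at hne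
      ext z
      simp only [TopologicalSpace.Opens.coe_bot, Set.mem_empty_iff_false, iff_false]
      exact fun hz => hne.false ⟨z, hz⟩
    haveI : Subsingleton Γ(X, U.1) := by
      rw [hbot]
      infer_instance
    haveI : Subsingleton (integralClosure Γ(X, U.1)
        Γ(Spec (X.presheaf.stalk (genericPoint X)),
          (X.fromSpecStalk (genericPoint X)) ⁻¹ᵁ U.1)) := by
      refine ⟨fun a b => ?_⟩
      have h1 : (1 : Γ(X, U.1)) = 0 := Subsingleton.elim _ _
      have h2 : (1 : integralClosure Γ(X, U.1)
        Γ(Spec (X.presheaf.stalk (genericPoint X)),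
          (X.fromSpecStalk (genericPoint X)) ⁻¹ᵁ U.1)) = 0 := by
        rw [← map_one (algebraMap Γ(X, U.1) _), h1, map_zero]
      rw [← mul_one a, ← mul_one b, h2, mul_zero, mul_zero]
    haveI : IsEmpty (Spec ((X.fromSpecStalk (genericPoint X)).normalizationDiagram.obj
        (.op U.1))) := by
      show IsEmpty (PrimeSpectrum (integralClosure Γ(X, U.1)
        Γ(Spec (X.presheaf.stalk (genericPoint X)),
          (X.fromSpecStalk (genericPoint X)) ⁻¹ᵁ U.1)))
      infer_instance
    infer_instance

variable [QuasiCompact (X.fromSpecStalk (genericPoint X))]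
  [QuasiSeparated (X.fromSpecStalk (genericPoint X))]

set_option backward.isDefEq.respectTransparency false in
theorem universallyInjective_fromNormalization
    (hX : ∀ x : X, CAlg2.IsGeomUnibranch (X.presheaf.stalk x)) :
    UniversallyInjective (X.fromSpecStalk (genericPoint X)).fromNormalization := by
  rw [IsZariskiLocalAtTarget.iff_of_iSup_eq_top (P := @UniversallyInjective) _
    (iSup_affineOpens_eq_top _)]
  intro U
  let e := IsOpenImmersion.isoOfRangeEq
      ((X.fromSpecStalk (genericPoint X)).fromNormalization ⁻¹ᵁ U).ι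
      ((X.fromSpecStalk (genericPoint X)).normalizationOpenCover.f U)
      (by simpa using congr($((X.fromSpecStalk (genericPoint X)).fromNormalization_preimage U).1))
  rw [← MorphismProperty.cancel_left_of_respectsIso @UniversallyInjective e.inv,
    ← MorphismProperty.cancel_right_of_respectsIso @UniversallyInjective _ U.2.isoSpec.hom]
  convert! universallyInjective_app X hX U
  rw [← cancel_mono U.2.fromSpec]
  simp [IsAffineOpen.isoSpec_hom, e, Scheme.Hom.ι_fromNormalization]

theorem surjective_fromNormalization :
    Surjective (X.fromSpecStalk (genericPoint X)).fromNormalization := by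
  refine ⟨fun x => ?_⟩
  have hcl : IsClosed (Set.range (X.fromSpecStalk (genericPoint X)).fromNormalization) :=
    (X.fromSpecStalk (genericPoint X)).fromNormalization.isClosedMap.isClosed_range
  have hη : genericPoint X ∈ Set.range (X.fromSpecStalk (genericPoint X)).fromNormalization := by
    refine ⟨(X.fromSpecStalk (genericPoint X)).toNormalization
      (IsLocalRing.closedPoint (X.presheaf.stalk (genericPoint X))), ?_⟩
    rw [← Scheme.Hom.comp_apply, Scheme.Hom.toNormalization_fromNormalization,
      Scheme.fromSpecStalk_closedPoint]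
  have h2 : closure {genericPoint X} ⊆
      Set.range (X.fromSpecStalk (genericPoint X)).fromNormalization :=
    hcl.closure_subset_iff.mpr (Set.singleton_subset_iff.mpr hη)
  apply h2
  rw [show closure {genericPoint X} = Set.univ from genericPoint_spec X]
  trivial

theorem isUnivHomeo_normalizationι
    (hX : ∀ x : X, CAlg2.IsGeomUnibranch (X.presheaf.stalk x)) :
    FlatMor.IsUnivHomeo (Curv2.normalizationι X) := by
  have h1 := universallyInjective_fromNormalization X hX
  have h2 := surjective_fromNormalization X
  exact @Groth.Agent.Lib.Helper66.EtaSN.isUnivHomeo_of _ _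
    (X.fromSpecStalk (genericPoint X)).fromNormalization inferInstance h1 h2

end Scheme

end Groth.Agent.Lib.Helper87.NormScheme
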