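import Mathlib
import Groth.Prelude.Def_CAlg2
import Groth.Agent.Lib.Helper87.Unibranch2

/-!
# Geometric unibranchness through an arbitrary model of the normalization
-/

set_option autoImplicit false
set_option linter.style.haveILetI false
universe u

open IsLocalRing

namespace Groth.Agent.Lib.Helper87.GUModel

open Groth.Agent.Lib.Helper87.Unibranch

section Model

variable (A : Type u) [CommRing A] (N : Type u) [CommRing N] [IsDomain N] [Algebra A N]

/-- `N` is a model of the normalization of the reduction of `A`. -/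
structure IsModel : Prop where
  isIntegrallyClosed : IsIntegrallyClosed N
  isIntegral : Algebra.IsIntegral A N
  ker_eq : RingHom.ker (algebraMap A N) = nilradical A
  frac : ∀ x : N, ∃ a s : A, algebraMap A N s ≠ 0 ∧ x * algebraMap A N s = algebraMap A N a

variable {A N}

namespace IsModel

variable (h : IsModel A N)

include h

theorem isPrime_nilradical : (nilradical A).IsPrime := by
  rw [← h.ker_eq]
  exact RingHom.ker_isPrime _

/-- the induced map from the reduction -/
noncomputable def redHom : CAlg2.red A →+* N :=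
  Ideal.Quotient.lift (nilradical A) (algebraMap A N) (fun a ha => by
    rw [← h.ker_eq] at ha
    exact ha)

theorem redHom_mk (a : A) : h.redHom (Ideal.Quotient.mk _ a) = algebraMap A N a := rfl

theorem redHom_injective : Function.Injective h.redHom := by
  rw [injective_iff_map_eq_zero]
  intro x hx
  obtain ⟨a, rfl⟩ := Ideal.Quotient.mk_surjective x
  rw [redHom_mk] at hx
  rw [Ideal.Quotient.eq_zero_iff_mem, ← h.ker_eq]
  exact hx

theorem isDomain_red : IsDomain (CAlg2.red A) :=
  h.redHom_injective.isDomain h.redHom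

/-- every element of the fraction field of `N` is a quotient of elements of `A` -/
theorem exists_div (z : FractionRing N) : ∃ a s : A, algebraMap A N s ≠ 0 ∧
    z = algebraMap N (FractionRing N) (algebraMap A N a) /
      algebraMap N (FractionRing N) (algebraMap A N s) := by
  obtain ⟨x, y, hy, rfl⟩ := IsFractionRing.div_surjective (A := N) z
  obtain ⟨a1, s1, hs1, h1⟩ := h.frac x
  obtain ⟨a2, s2, hs2, h2⟩ := h.frac y
  have hy0 : y ≠ 0 := nonZeroDivisors.ne_zero hy
  have ha2 : algebraMap A N a2 ≠ 0 := by
    rw [← h2]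
    exact mul_ne_zero hy0 hs2
  refine ⟨a1 * s2, s1 * a2, ?_, ?_⟩
  · rw [map_mul]
    exact mul_ne_zero hs1 ha2
  · have inj := IsFractionRing.injective N (FractionRing N)
    have e1 : algebraMap N (FractionRing N) y ≠ 0 := (map_ne_zero_iff _ inj).mpr hy0
    have e2 : algebraMap N (FractionRing N) (algebraMap A N (s1 * a2)) ≠ 0 := by
      rw [map_mul]
      exact (map_ne_zero_iff _ inj).mpr (mul_ne_zero hs1 ha2)
    rw [div_eq_div_iff e1 e2, ← map_mul, ← map_mul]
    congr 1
    rw [map_mul, map_mul, ← h1, ← h2]
    ring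

theorem exists_equiv : ∃ E : CAlg2.normRed A ≃+* N, ∀ a : A,
    E (algebraMap (CAlg2.red A) (CAlg2.normRed A) (Ideal.Quotient.mk _ a)) = algebraMap A N a := by
  haveI := h.isDomain_red
  letI : Algebra (CAlg2.red A) N := h.redHom.toAlgebra
  haveI : IsScalarTower A (CAlg2.red A) N := IsScalarTower.of_algebraMap_eq' rfl
  have hinj : Function.Injective (algebraMap (CAlg2.red A) (FractionRing N)) := by
    rw [IsScalarTower.algebraMap_eq (CAlg2.red A) N (FractionRing N)]
    exact (IsFractionRing.injective N (FractionRing N)).comp h.redHom_injective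
  haveI : FaithfulSMul (CAlg2.red A) (FractionRing N) :=
    (faithfulSMul_iff_algebraMap_injective _ _).mpr hinj
  haveI : IsFractionRing (CAlg2.red A) (FractionRing N) := IsFractionRing.of_field (CAlg2.red A) (FractionRing N) (fun z => by
    obtain ⟨a, s, -, rfl⟩ := h.exists_div z
    refine ⟨Ideal.Quotient.mk _ a, Ideal.Quotient.mk _ s, ?_⟩
    rw [IsScalarTower.algebraMap_apply (CAlg2.red A) N (FractionRing N),
      IsScalarTower.algebraMap_apply (CAlg2.red A) N (FractionRing N)]
    rfl)
  haveI := h.isIntegrallyClosed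
  haveI := h.isIntegral
  haveI : Algebra.IsIntegral (CAlg2.red A) N :=
    ⟨fun x => (Algebra.IsIntegral.isIntegral (R := A) x).tower_top⟩
  haveI : IsIntegralClosure N (CAlg2.red A) (FractionRing N) :=
    { algebraMap_injective := IsFractionRing.injective N _
      isIntegral_iff := fun {x} =>
        ⟨fun hx => IsIntegrallyClosed.isIntegral_iff.mp (hx.tower_top (A := N)),
          fun ⟨y, hy⟩ => hy ▸ (Algebra.IsIntegral.isIntegral (R := CAlg2.red A) y).algebraMap⟩ }
  let e1 : CAlg2.normRed A ≃ₐ[CAlg2.red A] integralClosure (CAlg2.red A) (FractionRing N) :=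
    (FractionRing.algEquiv (CAlg2.red A) (FractionRing N)).mapIntegralClosure
  let e2 : integralClosure (CAlg2.red A) (FractionRing N) ≃ₐ[CAlg2.red A] N :=
    IsIntegralClosure.equiv (CAlg2.red A) _ (FractionRing N) N
  refine ⟨(e1.trans e2).toRingEquiv, fun a => ?_⟩
  exact (e1.trans e2).commutes (Ideal.Quotient.mk _ a)

end IsModel

end Model

section ExpChar

theorem ringExpChar_eq_of_injective {K L : Type*} [CommRing K] [IsDomain K] [CommRing L]
    (f : K →+* L) (hf : Function.Injective f) : ringExpChar L = ringExpChar K := by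
  haveI : ExpChar L (ringExpChar K) := expChar_of_injective_ringHom hf (ringExpChar K)
  exact ringExpChar.eq L (ringExpChar K)

end ExpChar

section PICond

/-- elementary pure inseparability of all residue fields of `N` over `A` -/
def PICond (A N : Type u) [CommRing A] [CommRing N] [Algebra A N] : Prop :=
  ∀ (M : Ideal N) [M.IsMaximal], ∀ x : N ⧸ M, ∃ n : ℕ,
    x ^ (ringExpChar (N ⧸ M)) ^ n ∈ ((Ideal.Quotient.mk M).comp (algebraMap A N)).range

/-- transport of the condition along a ring isomorphism of the targets -/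
theorem piCond_of_equiv {A N N' : Type u} [CommRing A] [CommRing N] [CommRing N'] [Algebra A N]
    [Algebra A N'] (E : N ≃+* N') (hE : ∀ a, E (algebraMap A N a) = algebraMap A N' a)
    (h : PICond A N) : PICond A N' := by
  intro M hM x
  haveI : (M.comap (E : N →+* N')).IsMaximal :=
    Ideal.comap_isMaximal_of_surjective _ E.surjective
  have hmap : M = (M.comap (E : N →+* N')).map (E : N →+* N') :=
    (Ideal.map_comap_of_surjective _ E.surjective M).symm
  let φ : N ⧸ M.comap (E : N →+* N') ≃+* N' ⧸ M := Ideal.quotientEquiv _ _ E hmap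
  haveI : IsDomain (N ⧸ M.comap (E : N →+* N')) := inferInstance
  have hexp : ringExpChar (N' ⧸ M) = ringExpChar (N ⧸ M.comap (E : N →+* N')) :=
    ringExpChar_eq_of_injective φ.toRingHom φ.injective
  obtain ⟨n, a, ha⟩ := h (M.comap (E : N →+* N')) (φ.symm x)
  refine ⟨n, a, ?_⟩
  have h2 := congrArg φ ha
  rw [map_pow, RingEquiv.apply_symm_apply] at h2
  rw [hexp, ← h2]
  show Ideal.Quotient.mk M (algebraMap A N' a) = φ (Ideal.Quotient.mk _ (algebraMap A N a))
  rw [← hE]
  rfl

end PICond

section ModelLemma

variable {A : Type u} [CommRing A] [IsLocalRing A] {N : Type u} [CommRing N] [IsDomain N]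
  [Algebra A N]

/-- the algebra structure used by the prelude definition -/
theorem isGeomUnibranch_iff_normRed :
    CAlg2.IsGeomUnibranch A ↔
      (IsDomain (CAlg2.red A) ∧ IsLocalRing (CAlg2.normRed A)) ∧ PICond A (CAlg2.normRed A) :=
  Iff.rfl

theorem isGeomUnibranch_iff_of_isModel (h : IsModel A N) :
    CAlg2.IsGeomUnibranch A ↔ IsLocalRing N ∧ PICond A N := by
  obtain ⟨E, hE⟩ := h.exists_equiv
  have hE' : ∀ a, E (algebraMap A (CAlg2.normRed A) a) = algebraMap A N a := hE
  rw [isGeomUnibranch_iff_normRed]
  constructor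
  · rintro ⟨⟨-, hl⟩, hpi⟩
    haveI := hl
    exact ⟨E.isLocalRing, piCond_of_equiv E hE' hpi⟩
  · rintro ⟨hl, hpi⟩
    haveI := hl
    refine ⟨⟨h.isDomain_red, E.symm.isLocalRing⟩, piCond_of_equiv E.symm (fun a => ?_) hpi⟩
    rw [← hE' a, RingEquiv.symm_apply_apply]

end ModelLemma

section NormRedModel

variable (B : Type u) [CommRing B] [IsDomain (CAlg2.red B)]

theorem algebraMap_red_normRed_injective :
    Function.Injective (algebraMap (CAlg2.red B) (CAlg2.normRed B)) := by
  intro x y hxy
  have h1 := congrArg Subtype.val hxy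
  exact IsFractionRing.injective (CAlg2.red B) (FractionRing (CAlg2.red B)) h1

theorem ker_algebraMap_normRed :
    RingHom.ker (algebraMap B (CAlg2.normRed B)) = nilradical B := by
  ext b
  rw [RingHom.mem_ker, IsScalarTower.algebraMap_apply B (CAlg2.red B) (CAlg2.normRed B),
    map_eq_zero_iff _ (algebraMap_red_normRed_injective B)]
  exact Ideal.Quotient.eq_zero_iff_mem

theorem isModel_normRed : IsModel B (CAlg2.normRed B) where
  isIntegrallyClosed := isIntegrallyClosed_normRed B
  isIntegral := inferInstance
  ker_eq := ker_algebraMap_normRed B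
  frac := by
    intro x
    obtain ⟨a, s, hs, hx⟩ := IsFractionRing.div_surjective (A := CAlg2.red B) x.1
    obtain ⟨a', rfl⟩ := Ideal.Quotient.mk_surjective a
    obtain ⟨s', rfl⟩ := Ideal.Quotient.mk_surjective s
    have hs0 : (Ideal.Quotient.mk (nilradical B) s') ≠ 0 := nonZeroDivisors.ne_zero hs
    refine ⟨a', s', ?_, ?_⟩
    · rw [IsScalarTower.algebraMap_apply B (CAlg2.red B) (CAlg2.normRed B)]
      exact (map_ne_zero_iff _ (algebraMap_red_normRed_injective B)).mpr hs0
    · apply Subtype.ext
      have hne : algebraMap (CAlg2.red B) (FractionRing (CAlg2.red B))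
          (Ideal.Quotient.mk (nilradical B) s') ≠ 0 :=
        (map_ne_zero_iff _ (IsFractionRing.injective _ _)).mpr hs0
      show x.1 * algebraMap (CAlg2.red B) (FractionRing (CAlg2.red B))
          (Ideal.Quotient.mk (nilradical B) s') =
        algebraMap (CAlg2.red B) (FractionRing (CAlg2.red B)) (Ideal.Quotient.mk (nilradical B) a')
      rw [← hx, div_mul_cancel₀ _ hne]

end NormRedModel

end Groth.Agent.Lib.Helper87.GUModel
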