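import Mathlib
import Groth.Prelude.Def_CAlg2
import Groth.Prelude.Def_CAlgX
import Groth.Agent.Lib.Helper87.GUModel

/-!
# Geometric unibranchness along an integral birational extension (local form)
-/

set_option autoImplicit false
set_option linter.style.haveILetI false
universe u

open IsLocalRing

namespace Groth.Agent.Lib.Helper87.GUIntegral

open Groth.Agent.Lib.Helper87.Unibranch Groth.Agent.Lib.Helper87.GUModel

section Hyp

variable (A B : Type u) [CommRing A] [CommRing B] [Algebra A B]

/-- birationality of `A → B` in elementary terms -/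
structure BirHyp : Prop where
  c1 : ∀ a : A, algebraMap A B a ∈ nilradical B → a ∈ nilradical A
  c2 : CAlgX.HasUniqueMinimalPrime A → CAlgX.HasUniqueMinimalPrime B
  c3 : CAlgX.HasUniqueMinimalPrime B → ∀ b : B, ∃ a s : A, s ∉ nilradical A ∧
    algebraMap A B s * b - algebraMap A B a ∈ nilradical B

variable {A B}

theorem isDomain_red_of_hasUniqueMinimalPrime {T : Type u} [CommRing T]
    (h : CAlgX.HasUniqueMinimalPrime T) : IsDomain (CAlg2.red T) := by
  obtain ⟨P, hP, hu⟩ := h
  have hnil : nilradical T = P := nilradical_eq_of_unique P hP hu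
  haveI : (nilradical T).IsPrime := hnil ▸ hP.1.1
  exact Ideal.Quotient.isDomain _

theorem hasUniqueMinimalPrime_of_isDomain_red {T : Type u} [CommRing T]
    [hd : IsDomain (CAlg2.red T)] : CAlgX.HasUniqueMinimalPrime T := by
  haveI : (nilradical T).IsPrime := (Ideal.Quotient.isDomain_iff_prime _).mp hd
  exact existsUnique_minimalPrimes_of_le_nilradical (nilradical T) le_rfl

theorem algebraMap_normRed_eq_zero_iff [IsDomain (CAlg2.red B)] (b : B) :
    algebraMap B (CAlg2.normRed B) b = 0 ↔ b ∈ nilradical B := by
  rw [← RingHom.mem_ker, ker_algebraMap_normRed]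

theorem isModel_of_birHyp [Algebra.IsIntegral A B] [IsDomain (CAlg2.red B)] (h : BirHyp A B) :
    IsModel A (CAlg2.normRed B) where
  isIntegrallyClosed := isIntegrallyClosed_normRed B
  isIntegral := Algebra.IsIntegral.trans (R := A) B (B := CAlg2.normRed B)
  ker_eq := by
    ext a
    rw [RingHom.mem_ker, IsScalarTower.algebraMap_apply A B (CAlg2.normRed B),
      algebraMap_normRed_eq_zero_iff]
    constructor
    · exact h.c1 a
    · intro ha
      obtain ⟨n, hn⟩ := mem_nilradical.mp ha
      exact mem_nilradical.mpr ⟨n, by rw [← map_pow, hn, map_zero]⟩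
  frac := by
    intro x
    have huB : CAlgX.HasUniqueMinimalPrime B := hasUniqueMinimalPrime_of_isDomain_red
    obtain ⟨b, t, ht, hx⟩ := (isModel_normRed B).frac x
    obtain ⟨a1, s1, hs1, h1⟩ := h.c3 huB b
    obtain ⟨a2, s2, hs2, h2⟩ := h.c3 huB t
    have e1 : algebraMap B (CAlg2.normRed B) (algebraMap A B s1) * algebraMap B (CAlg2.normRed B) b
        = algebraMap B (CAlg2.normRed B) (algebraMap A B a1) := by
      have := (algebraMap_normRed_eq_zero_iff _).mpr h1
      rwa [map_sub, map_mul, sub_eq_zero] at this
    have e2 : algebraMap B (CAlg2.normRed B) (algebraMap A B s2) * algebraMap B (CAlg2.normRed B) t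
        = algebraMap B (CAlg2.normRed B) (algebraMap A B a2) := by
      have := (algebraMap_normRed_eq_zero_iff _).mpr h2
      rwa [map_sub, map_mul, sub_eq_zero] at this
    have hne : ∀ s : A, s ∉ nilradical A →
        algebraMap B (CAlg2.normRed B) (algebraMap A B s) ≠ 0 := by
      intro s hs h0
      exact hs (h.c1 s ((algebraMap_normRed_eq_zero_iff _).mp h0))
    refine ⟨a1 * s2, a2 * s1, ?_, ?_⟩
    · rw [IsScalarTower.algebraMap_apply A B (CAlg2.normRed B), map_mul, map_mul, ← e2]
      exact mul_ne_zero (mul_ne_zero (hne s2 hs2) ht) (hne s1 hs1)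
    · rw [IsScalarTower.algebraMap_apply A B (CAlg2.normRed B),
        IsScalarTower.algebraMap_apply A B (CAlg2.normRed B), map_mul, map_mul, map_mul, map_mul,
        ← e2, ← e1]
      calc x * (algebraMap B (CAlg2.normRed B) (algebraMap A B s2) *
            algebraMap B (CAlg2.normRed B) t * algebraMap B (CAlg2.normRed B) (algebraMap A B s1))
          = (x * algebraMap B (CAlg2.normRed B) t) *
            (algebraMap B (CAlg2.normRed B) (algebraMap A B s2) *
              algebraMap B (CAlg2.normRed B) (algebraMap A B s1)) := by ring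
        _ = _ := by rw [hx]; ring

end Hyp

end Groth.Agent.Lib.Helper87.GUIntegral
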