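import Mathlib
import Groth.Prelude.Def_CAlg2
import Groth.Prelude.Def_CAlgX
import Groth.Agent.Lib.Helper87.GUIntegral

/-!
# Geometric unibranchness along an integral birational extension of a local ring
-/

set_option autoImplicit false
set_option linter.style.haveILetI false
universe u

open IsLocalRing

namespace Groth.Agent.Lib.Helper87.GUIntegral

open Groth.Agent.Lib.Helper87.Unibranch Groth.Agent.Lib.Helper87.GUModel

section BirRing

variable (A B : Type u) [CommRing A] [CommRing B] [Algebra A B]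

/-- birationality of `Spec B → Spec A` in terms of prime ideals -/
structure BirRing : Prop where
  k1 : ∀ P ∈ minimalPrimes A, ∃ Q : Ideal B, Q.IsPrime ∧ Q.comap (algebraMap A B) = P
  k2 : ∀ Q Q' : Ideal B, Q.IsPrime → Q'.IsPrime → Q.comap (algebraMap A B) ∈ minimalPrimes A →
    Q'.comap (algebraMap A B) = Q.comap (algebraMap A B) → Q' = Q
  k3 : ∀ Q ∈ minimalPrimes B, Q.comap (algebraMap A B) ∈ minimalPrimes A
  k4 : ∀ Q : Ideal B, Q.IsPrime → Q.comap (algebraMap A B) ∈ minimalPrimes A → ∀ b : B,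
    ∃ a s : A, s ∉ Q.comap (algebraMap A B) ∧ algebraMap A B s * b - algebraMap A B a ∈ Q

variable {A B}

theorem nilradical_eq_sInf_minimalPrimes (T : Type u) [CommRing T] :
    nilradical T = sInf (minimalPrimes T) := by
  show _ = sInf (⊥ : Ideal T).minimalPrimes
  rw [Ideal.sInf_minimalPrimes]
  rfl

theorem birHyp_of_birRing (h : BirRing A B) : BirHyp A B where
  c1 := by
    intro a ha
    rw [nilradical_eq_sInf_minimalPrimes, Ideal.mem_sInf]
    intro P hP
    obtain ⟨Q, hQ, rfl⟩ := h.k1 P hP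
    haveI := hQ
    exact nilradical_le_prime Q ha
  c2 := by
    rintro ⟨P, hP, hPu⟩
    obtain ⟨Q₀, hQ₀, hQ₀P⟩ := h.k1 P hP
    haveI := hQ₀
    obtain ⟨Q, hQ, -⟩ := Ideal.exists_minimalPrimes_le (I := (⊥ : Ideal B)) (J := Q₀) bot_le
    refine ⟨Q, hQ, ?_⟩
    intro Q' hQ'
    have h1 := h.k3 Q hQ
    have h2 := h.k3 Q' hQ'
    exact h.k2 Q Q' hQ.1.1 hQ'.1.1 h1 ((hPu _ h2).trans (hPu _ h1).symm)
  c3 := by
    rintro ⟨Q, hQ, hQu⟩ b
    have hnil : nilradical B = Q := nilradical_eq_of_unique Q hQ hQu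
    have hmin := h.k3 Q hQ
    obtain ⟨a, s, hs, hmem⟩ := h.k4 Q hQ.1.1 hmin b
    refine ⟨a, s, fun hs' => hs ?_, hnil ▸ hmem⟩
    haveI := hmin.1.1
    exact nilradical_le_prime _ hs'

end BirRing

section Local

/-- a ring with an integral extension which is local and whose kernel is nil is local -/
theorem isLocalRing_of_integral (B N : Type u) [CommRing B] [CommRing N] [IsLocalRing N]
    [Algebra B N] [Algebra.IsIntegral B N]
    (hker : RingHom.ker (algebraMap B N) ≤ nilradical B) :
    IsLocalRing B ∧ ∀ M : Ideal B, M.IsMaximal → M = (maximalIdeal N).comap (algebraMap B N) := by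
  have key : ∀ M : Ideal B, M.IsMaximal → M = (maximalIdeal N).comap (algebraMap B N) := by
    intro M hM
    haveI := hM
    have hle : RingHom.ker (algebraMap B N) ≤ M := hker.trans (nilradical_le_prime M)
    obtain ⟨Q, hQ, hQM⟩ := Ideal.exists_ideal_over_maximal_of_isIntegral (S := N) M hle
    rw [← hQM, IsLocalRing.eq_maximalIdeal hQ]
  haveI : Nontrivial B := (algebraMap B N).domain_nontrivial
  refine ⟨IsLocalRing.of_unique_max_ideal ?_, key⟩
  obtain ⟨M, hM⟩ := Ideal.exists_maximal B
  exact ⟨M, hM, fun M' hM' => (key M' hM').trans (key M hM).symm⟩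

end Local

section LT

/-- elementary pure inseparability of the residue extension of a local homomorphism -/
def PIelem {A B : Type*} [CommRing A] [IsLocalRing A] [CommRing B] [IsLocalRing B]
    (ψ : A →+* B) : Prop :=
  ∀ b : B, ∃ (n : ℕ) (a : A), b ^ (ringExpChar (ResidueField A)) ^ n - ψ a ∈ maximalIdeal B

theorem comap_eq_maximalIdeal_of_isIntegral (A N : Type u) [CommRing A] [IsLocalRing A]
    [CommRing N] [Algebra A N] [Algebra.IsIntegral A N] (M : Ideal N) [M.IsMaximal] :
    M.comap (algebraMap A N) = maximalIdeal A :=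
  IsLocalRing.eq_maximalIdeal (Ideal.isMaximal_comap_of_isIntegral_of_isMaximal M)

theorem ringExpChar_quotient_eq (A N : Type u) [CommRing A] [IsLocalRing A] [CommRing N]
    [Algebra A N] [Algebra.IsIntegral A N] (M : Ideal N) [M.IsMaximal] :
    ringExpChar (N ⧸ M) = ringExpChar (ResidueField A) := by
  have hle : maximalIdeal A ≤ M.comap (algebraMap A N) :=
    (comap_eq_maximalIdeal_of_isIntegral A N M).ge
  let f : A ⧸ maximalIdeal A →+* N ⧸ M := Ideal.quotientMap M (algebraMap A N) hle
  letI : Field (A ⧸ maximalIdeal A) := Ideal.Quotient.field _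
  exact ringExpChar_eq_of_injective f (RingHom.injective f)

variable (A B : Type u) [CommRing A] [IsLocalRing A] [CommRing B] [Algebra A B]
  [Algebra.IsIntegral A B]

theorem isGeomUnibranch_iff_of_birRing (h : BirRing A B) :
    CAlg2.IsGeomUnibranch A ↔ ∃ hB : IsLocalRing B, @CAlg2.IsGeomUnibranch B _ hB ∧
      @PIelem A B _ _ _ hB (algebraMap A B) := by
  have hBH := birHyp_of_birRing h
  constructor
  · intro hA
    haveI hdomA : IsDomain (CAlg2.red A) := hA.1.1
    have huA : CAlgX.HasUniqueMinimalPrime A := hasUniqueMinimalPrime_of_isDomain_red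
    have huB := hBH.c2 huA
    haveI : IsDomain (CAlg2.red B) := isDomain_red_of_hasUniqueMinimalPrime huB
    have hmod : IsModel A (CAlg2.normRed B) := isModel_of_birHyp hBH
    obtain ⟨hNloc, hpi⟩ := (isGeomUnibranch_iff_of_isModel hmod).mp hA
    haveI := hNloc
    obtain ⟨hBloc, hmax⟩ :=
      isLocalRing_of_integral B (CAlg2.normRed B) (ker_algebraMap_normRed B).le
    haveI := hBloc
    haveI : Algebra.IsIntegral A (CAlg2.normRed B) := hmod.isIntegral
    refine ⟨hBloc, ?_, ?_⟩
    · rw [isGeomUnibranch_iff_normRed]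
      refine ⟨⟨inferInstance, hNloc⟩, ?_⟩
      intro M hM x
      obtain ⟨n, a, ha⟩ := hpi M x
      refine ⟨n, algebraMap A B a, ?_⟩
      rw [← ha]
      simp only [RingHom.comp_apply]
      rw [← IsScalarTower.algebraMap_apply A B (CAlg2.normRed B)]
    · intro b
      obtain ⟨n, a, ha⟩ := hpi (maximalIdeal (CAlg2.normRed B))
        (Ideal.Quotient.mk _ (algebraMap B (CAlg2.normRed B) b))
      refine ⟨n, a, ?_⟩
      rw [hmax (maximalIdeal B) (IsLocalRing.maximalIdeal.isMaximal B), Ideal.mem_comap,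
        ← Ideal.Quotient.eq_zero_iff_mem, map_sub, map_sub, map_pow, map_pow,
        ← ringExpChar_quotient_eq A (CAlg2.normRed B) (maximalIdeal (CAlg2.normRed B)), ← ha,
        sub_eq_zero]
      simp only [RingHom.comp_apply]
      rw [← IsScalarTower.algebraMap_apply A B (CAlg2.normRed B)]
  · rintro ⟨hBloc, hB, hpiB⟩
    haveI := hBloc
    haveI : IsDomain (CAlg2.red B) := hB.1.1
    have hNloc : IsLocalRing (CAlg2.normRed B) := hB.1.2
    haveI := hNloc
    have hmod : IsModel A (CAlg2.normRed B) := isModel_of_birHyp hBH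
    haveI : Algebra.IsIntegral A (CAlg2.normRed B) := hmod.isIntegral
    rw [isGeomUnibranch_iff_of_isModel hmod]
    refine ⟨hNloc, ?_⟩
    intro M hM x
    obtain ⟨n, b, hb⟩ := (isGeomUnibranch_iff_normRed.mp hB).2 M x
    obtain ⟨k, a, ha⟩ := hpiB b
    refine ⟨n + k, a, ?_⟩
    have hmem : algebraMap B (CAlg2.normRed B)
        (b ^ (ringExpChar (ResidueField A)) ^ k - algebraMap A B a) ∈ M := by
      rw [← Ideal.mem_comap, comap_eq_maximalIdeal_of_isIntegral B (CAlg2.normRed B) M]
      exact ha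
    rw [← Ideal.Quotient.eq_zero_iff_mem, map_sub, map_sub, map_pow, map_pow, sub_eq_zero,
      ← ringExpChar_quotient_eq A (CAlg2.normRed B) M] at hmem
    simp only [RingHom.comp_apply] at hb ⊢
    rw [pow_add, pow_mul, ← hb, hmem, ← IsScalarTower.algebraMap_apply A B (CAlg2.normRed B)]

end LT

end Groth.Agent.Lib.Helper87.GUIntegral
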