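import Mathlib
import Groth.Agent.Lib.Helper87.BranchSum
import Groth.Agent.Lib.Helper87.Unibranch2

set_option autoImplicit false
set_option linter.style.haveILetI false
universe u

/-!
# Locally irreducible spaces and schemes (helper87)

* topology: a point with an irreducible open neighbourhood lies on exactly one irreducible
  component, which contains that neighbourhood; if every point has such a neighbourhood, the
  irreducible components are open.
* rings: finitely many minimal primes, exactly one of them inside the prime `q`: some basic open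
  neighbourhood of `q` is irreducible. Flat quasi-finite algebras over rings with finitely many
  minimal primes have finitely many minimal primes.
* schemes: `exists_irreducible_nhd`.
-/

open AlgebraicGeometry

namespace Groth.Agent.Lib.Helper87.LocIrred

section Top

variable {X : Type*} [TopologicalSpace X]

theorem subset_of_mem_irreducibleComponents {U : Set X} (hU : IsOpen U) (hUi : IsIrreducible U)
    {x : X} (hx : x ∈ U) {Z : Set X} (hZ : Z ∈ irreducibleComponents X) (hxZ : x ∈ Z) : U ⊆ Z := by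
  obtain ⟨Z', hZ', hUZ'⟩ := exists_mem_irreducibleComponents_subset_of_isIrreducible U hUi
  have hZ'c : IsClosed Z' := isClosed_of_mem_irreducibleComponents Z' hZ'
  have h1 : Z ⊆ closure (Z ∩ U) :=
    subset_closure_inter_of_isPreirreducible_of_isOpen hZ.1.2 hU ⟨x, hxZ, hx⟩
  have h2 : closure (Z ∩ U) ⊆ Z' :=
    closure_minimal (Set.inter_subset_right.trans hUZ') hZ'c
  exact hUZ'.trans (hZ.2 hZ'.1 (h1.trans h2))

theorem existsUnique_irreducibleComponent {U : Set X} (hU : IsOpen U) (hUi : IsIrreducible U)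
    {x : X} (hx : x ∈ U) : ∃! Z, Z ∈ irreducibleComponents X ∧ x ∈ Z := by
  refine ⟨irreducibleComponent x, ⟨irreducibleComponent_mem_irreducibleComponents x,
    mem_irreducibleComponent⟩, ?_⟩
  rintro Z ⟨hZ, hxZ⟩
  have hZ₀ := irreducibleComponent_mem_irreducibleComponents x
  have hUZ₀ : U ⊆ irreducibleComponent x :=
    subset_of_mem_irreducibleComponents hU hUi hx hZ₀ mem_irreducibleComponent
  have h1 : Z ⊆ closure (Z ∩ U) :=
    subset_closure_inter_of_isPreirreducible_of_isOpen hZ.1.2 hU ⟨x, hxZ, hx⟩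
  have h2 : closure (Z ∩ U) ⊆ irreducibleComponent x :=
    closure_minimal (Set.inter_subset_right.trans hUZ₀) isClosed_irreducibleComponent
  have h3 : Z ⊆ irreducibleComponent x := h1.trans h2
  exact le_antisymm h3 (hZ.2 hZ₀.1 h3)

theorem isOpen_of_mem_irreducibleComponents
    (h : ∀ x : X, ∃ U : Set X, IsOpen U ∧ IsIrreducible U ∧ x ∈ U)
    {Z : Set X} (hZ : Z ∈ irreducibleComponents X) : IsOpen Z := by
  rw [isOpen_iff_forall_mem_open]
  intro x hxZ
  obtain ⟨U, hU, hUi, hxU⟩ := h x
  exact ⟨U, subset_of_mem_irreducibleComponents hU hUi hxU hZ hxZ, hU, hxU⟩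

end Top

section Ring

theorem exists_isIrreducible_basicOpen (B : Type*) [CommRing B]
    (hfin : (minimalPrimes B).Finite) (q : Ideal B) [q.IsPrime] (P₀ : Ideal B)
    (hP₀ : P₀ ∈ minimalPrimes B) (hP₀q : P₀ ≤ q)
    (huniq : ∀ P ∈ minimalPrimes B, P ≤ q → P = P₀) :
    ∃ g : B, g ∉ q ∧ IsIrreducible (PrimeSpectrum.basicOpen g : Set (PrimeSpectrum B)) := by
  classical
  have hex : ∀ P : Ideal B, P ∈ minimalPrimes B → P ≠ P₀ → ∃ b : B, b ∈ P ∧ b ∉ q := by
    intro P hP hne
    by_contra hcon
    push_neg at hcon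
    exact hne (huniq P hP hcon)
  let gfun : Ideal B → B := fun P =>
    if h : P ∈ minimalPrimes B ∧ P ≠ P₀ then (hex P h.1 h.2).choose else 1
  have hgP : ∀ P, P ∈ minimalPrimes B → P ≠ P₀ → gfun P ∈ P := by
    intro P hP hne
    simp only [gfun, dif_pos (And.intro hP hne)]
    exact (hex P hP hne).choose_spec.1
  have hgq : ∀ P, gfun P ∉ q := by
    intro P
    by_cases h : P ∈ minimalPrimes B ∧ P ≠ P₀
    · simp only [gfun, dif_pos h]
      exact (hex P h.1 h.2).choose_spec.2
    · simp only [gfun, dif_neg h]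
      exact fun h1 => (inferInstance : q.IsPrime).ne_top ((Ideal.eq_top_iff_one q).mpr h1)
  set g : B := ∏ P ∈ hfin.toFinset, gfun P with hg
  have hgnq : g ∉ q := by
    rw [hg, Ideal.IsPrime.prod_mem_iff]
    push_neg
    intro P _
    exact hgq P
  have hgmem : ∀ P, P ∈ minimalPrimes B → P ≠ P₀ → g ∈ P := by
    intro P hP hne
    have hdvd : gfun P ∣ g := Finset.dvd_prod_of_mem gfun (hfin.mem_toFinset.mpr hP)
    obtain ⟨c, hc⟩ := hdvd
    rw [hc]
    exact P.mul_mem_right c (hgP P hP hne)
  refine ⟨g, hgnq, ?_⟩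
  haveI hP₀prime : P₀.IsPrime := hP₀.1.1
  let ξ : PrimeSpectrum B := ⟨P₀, hP₀prime⟩
  have hξ : ξ ∈ (PrimeSpectrum.basicOpen g : Set (PrimeSpectrum B)) := by
    show g ∉ P₀
    exact fun h => hgnq (hP₀q h)
  have hsub : (PrimeSpectrum.basicOpen g : Set (PrimeSpectrum B)) ⊆ closure {ξ} := by
    intro Q hQ
    rw [PrimeSpectrum.closure_singleton, PrimeSpectrum.mem_zeroLocus]
    have hgQ : g ∉ Q.asIdeal := hQ
    obtain ⟨P, hP, hPQ⟩ := Ideal.exists_minimalPrimes_le (show (⊥ : Ideal B) ≤ Q.asIdeal from bot_le)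
    by_cases hne : P = P₀
    · subst hne
      exact hPQ
    · exact absurd (hPQ (hgmem P hP hne)) hgQ
  exact ⟨⟨ξ, hξ⟩, (isIrreducible_singleton.closure).isPreirreducible.open_subset
    (PrimeSpectrum.basicOpen g).isOpen hsub⟩

theorem finite_minimalPrimes_of_flat_quasiFinite (A B : Type u) [CommRing A] [CommRing B]
    [Algebra A B] [Module.Flat A B] [Algebra.QuasiFinite A B] (h : (minimalPrimes A).Finite) :
    (minimalPrimes B).Finite := by
  have hsub : minimalPrimes B ⊆ ⋃ p ∈ minimalPrimes A, p.primesOver B := by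
    intro Q hQ
    haveI : Q.IsPrime := hQ.1.1
    have hp := BranchSum.comap_mem_minimalPrimes A B hQ
    simp only [Set.mem_iUnion]
    exact ⟨Q.comap (algebraMap A B), hp, inferInstance, ⟨rfl⟩⟩
  refine Set.Finite.subset (h.biUnion fun p _ => ?_) hsub
  exact Algebra.QuasiFinite.finite_primesOver p

end Ring

end Groth.Agent.Lib.Helper87.LocIrred
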