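import Mathlib
import Groth.Agent.Lib.Helper87.LocIrred
import Groth.Agent.Lib.Helper87.GeomUnibranchSmooth
import Groth.Agent.Lib.Helper19.UnramifiedLocus
import Groth.Agent.Lib.Helper37.EtaleFibres

set_option autoImplicit false
set_option linter.style.haveILetI false
universe u

/-!
# Schemes étale over a geometrically unibranch irreducible scheme are locally irreducible (helper87)
-/

open AlgebraicGeometry CategoryTheory

namespace Groth.Agent.Lib.Helper87.LocIrred

open Groth.Agent.Lib.Helper87.Unibranch Groth.Agent.Lib.Helper87.GeomUnibranchSmooth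

section Ring

theorem exists_minimalPrime_le_of_isLocalization (B S' : Type u) [CommRing B] [CommRing S']
    [Algebra B S'] (q : Ideal B) [q.IsPrime] [IsLocalization.AtPrime S' q]
    (h : CAlgX.HasUniqueMinimalPrime S') :
    ∃ P₀ ∈ minimalPrimes B, P₀ ≤ q ∧ ∀ P ∈ minimalPrimes B, P ≤ q → P = P₀ := by
  obtain ⟨Q₀, hQ₀, huQ⟩ := h
  have hmin : minimalPrimes S' = Ideal.under B ⁻¹' minimalPrimes B := by
    have := IsLocalization.minimalPrimes_map q.primeCompl S' (⊥ : Ideal B)
    rwa [Ideal.map_bot] at this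
  haveI : Q₀.IsPrime := hQ₀.1.1
  have hdisj := ((IsLocalization.isPrime_iff_isPrime_disjoint q.primeCompl S' Q₀).mp inferInstance).2
  refine ⟨Q₀.under B, ?_, ?_, ?_⟩
  · have : Q₀ ∈ Ideal.under B ⁻¹' minimalPrimes B := hmin ▸ hQ₀
    exact this
  · intro b hb
    by_contra hbq
    exact Set.disjoint_left.mp hdisj hbq hb
  · intro P hP hPq
    haveI : P.IsPrime := hP.1.1
    have hd : Disjoint (q.primeCompl : Set B) (P : Set B) := by
      rw [Set.disjoint_left]
      intro b hb hbP
      exact hb (hPq hbP)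
    have hprime : (P.map (algebraMap B S')).IsPrime :=
      IsLocalization.isPrime_of_isPrime_disjoint q.primeCompl S' P inferInstance hd
    have hunder : (P.map (algebraMap B S')).under B = P :=
      IsLocalization.under_map_of_isPrime_disjoint q.primeCompl S' inferInstance hd
    have hmem : P.map (algebraMap B S') ∈ minimalPrimes S' := by
      rw [hmin]
      show (P.map (algebraMap B S')).under B ∈ minimalPrimes B
      rw [hunder]
      exact hP
    rw [← hunder, huQ _ hmem]

end Ring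

section Scheme

theorem exists_irreducible_nhd {X : Scheme.{u}} {U : X.Opens} (hU : IsAffineOpen U) (x : X)
    (hx : x ∈ U) (hfin : (minimalPrimes Γ(X, U)).Finite)
    (huniq : CAlgX.HasUniqueMinimalPrime (X.presheaf.stalk x)) :
    ∃ W : Set X, IsOpen W ∧ IsIrreducible W ∧ x ∈ W := by
  letI := X.presheaf.algebra_section_stalk ⟨x, hx⟩
  haveI := hU.isLocalization_stalk ⟨x, hx⟩
  obtain ⟨P₀, hP₀, hP₀q, hu⟩ := exists_minimalPrime_le_of_isLocalization Γ(X, U)
    (X.presheaf.stalk x) (hU.primeIdealOf ⟨x, hx⟩).asIdeal huniq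
  obtain ⟨g, hgq, hirr⟩ := exists_isIrreducible_basicOpen Γ(X, U) hfin
    (hU.primeIdealOf ⟨x, hx⟩).asIdeal P₀ hP₀ hP₀q hu
  refine ⟨(X.basicOpen g : Set X), (X.basicOpen g).isOpen, ?_,
    (Groth.Agent.Lib.Helper19.mem_basicOpen_iff_notMem_primeIdealOf hU x hx g).mpr hgq⟩
  have himg : (X.basicOpen g : Set X) =
      hU.fromSpec '' (PrimeSpectrum.basicOpen g : Set (PrimeSpectrum Γ(X, U))) := by
    rw [← hU.fromSpec_image_basicOpen]
    rfl
  rw [himg]
  exact hirr.image _ hU.fromSpec.continuous.continuousOn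

theorem hasUniqueMinimalPrime_of_pgu (A : Type u) [CommRing A] (h : PGU A) :
    CAlgX.HasUniqueMinimalPrime A := by
  obtain ⟨hl, hg⟩ := h
  haveI := hl
  haveI hdr : IsDomain (CAlg2.red A) := hg.1.1
  haveI hprime : (nilradical A).IsPrime := (Ideal.Quotient.isDomain_iff_prime _).mp hdr
  exact existsUnique_minimalPrimes_of_le_nilradical (nilradical A) le_rfl

theorem exists_irreducible_nhd_of_etale {X Y : Scheme.{u}} (f : X ⟶ Y) [Etale f]
    [IrreducibleSpace Y] (hY : ∀ y : Y, CAlg2.IsGeomUnibranch (Y.presheaf.stalk y)) (x : X) :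
    ∃ W : Set X, IsOpen W ∧ IsIrreducible W ∧ x ∈ W := by
  obtain ⟨_, ⟨V : Y.Opens, hV : IsAffineOpen V, rfl⟩, hxV, -⟩ :=
    Y.isBasis_affineOpens.exists_subset_of_mem_open (Set.mem_univ (f x)) isOpen_univ
  obtain ⟨_, ⟨U : X.Opens, hU : IsAffineOpen U, rfl⟩, hxU, hUV⟩ :=
    X.isBasis_affineOpens.exists_subset_of_mem_open (show x ∈ f ⁻¹ᵁ V from hxV) (f ⁻¹ᵁ V).2
  have hUV' : U ≤ f ⁻¹ᵁ V := hUV
  -- the base ring has a unique minimal prime
  haveI : Nonempty (Spec Γ(Y, V)) := ⟨hV.primeIdealOf ⟨f x, hxV⟩⟩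
  haveI : IrreducibleSpace (Spec Γ(Y, V)) :=
    hV.fromSpec.isOpenEmbedding.irreducibleSpace
  have hnil : (nilradical Γ(Y, V)).IsPrime := by
    have h1 : IsIrreducible (PrimeSpectrum.zeroLocus ((⊥ : Ideal Γ(Y, V)) : Set Γ(Y, V))) := by
      rw [PrimeSpectrum.zeroLocus_bot]
      exact IrreducibleSpace.isIrreducible_univ (Spec Γ(Y, V))
    rw [PrimeSpectrum.isIrreducible_zeroLocus_iff] at h1
    exact h1
  have hfinA : (minimalPrimes Γ(Y, V)).Finite := by
    obtain ⟨P, hP, hPu⟩ := existsUnique_minimalPrimes_of_le_nilradical (nilradical Γ(Y, V)) le_rfl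
    have : minimalPrimes Γ(Y, V) ⊆ {P} := fun Q hQ => hPu Q hQ
    exact (Set.finite_singleton P).subset this
  have het := f.etale_appLE hV hU hUV'
  algebraize [(f.appLE V U hUV').hom]
  haveI : Algebra.Etale Γ(Y, V) Γ(X, U) := het
  have hfinB : (minimalPrimes Γ(X, U)).Finite :=
    finite_minimalPrimes_of_flat_quasiFinite Γ(Y, V) Γ(X, U) hfinA
  -- the stalk at `x` is geometrically unibranch
  have hx : x ∈ f.smoothLocus := by
    rw [Scheme.Hom.smoothLocus_eq_top]
    trivial
  have hpgu : PGU (X.presheaf.stalk x) :=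
    (stalk_pgu_iff_of_smoothAt f x hx).mpr ⟨inferInstance, hY (f x)⟩
  exact exists_irreducible_nhd hU x hxU hfinB (hasUniqueMinimalPrime_of_pgu _ hpgu)

end Scheme

end Groth.Agent.Lib.Helper87.LocIrred
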