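import Mathlib
import Groth.Prelude.Def_CAlg2
import Groth.Prelude.Def_Hensel
import Groth.Agent.Lib.Helper87.GeomUnibranch
import Groth.Agent.Lib.Helper87.GeomUnibranchSmooth
import Groth.Agent.Lib.Helper87.LocIrredScheme
import Groth.Agent.Lib.Helper87.HensNoethStrict

/-!
# Geometric unibranchness and connectedness of punctured spectra of strict henselizations
-/

set_option autoImplicit false
set_option linter.style.haveILetI false
universe u

open IsLocalRing

namespace Groth.Agent.Lib.Helper87.PunctConn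

open Groth.Agent.Lib.Helper87 Groth.Agent.Lib.Helper87.Unibranch
  Groth.Agent.Lib.Helper87.GeomUnibranchSmooth

section GoingDown

theorem comap_mem_minimalPrimes_of_flat {E S : Type*} [CommRing E] [CommRing S] [Algebra E S]
    [Module.Flat E S] (q : Ideal S) (hq : q ∈ minimalPrimes S) :
    q.comap (algebraMap E S) ∈ minimalPrimes E := by
  haveI : q.IsPrime := hq.1.1
  refine ⟨⟨inferInstance, bot_le⟩, ?_⟩
  rintro p' ⟨hp', -⟩ hle
  haveI := hp'
  haveI : q.LiesOver (q.comap (algebraMap E S)) := ⟨rfl⟩
  obtain ⟨Q', hQ'q, hQ'prime, hQ'over⟩ :=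
    Ideal.exists_ideal_le_liesOver_of_le (p := p') (q := q.comap (algebraMap E S)) q hle
  have hQ' : Q' = q := le_antisymm hQ'q (hq.2 ⟨hQ'prime, bot_le⟩ hQ'q)
  rw [hQ'over.over, hQ']

end GoingDown

section Key

variable {B S : Type u} [CommRing B] [CommRing S] [Algebra B S] [Module.Flat B S]

theorem pgu_congr {I J : Ideal B} [I.IsPrime] [J.IsPrime] (h : I = J)
    (hI : PGU (Localization.AtPrime I)) : PGU (Localization.AtPrime J) := by
  subst h
  exact hI

/-- at most one minimal prime of an ind-etale flat algebra below a prime whose contraction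
has geometrically unibranch local ring. -/
theorem eq_of_le_of_pgu (hcov : IndEt.CoveredByEtale B S) (P : Ideal S) [P.IsPrime]
    (hP : PGU (Localization.AtPrime (P.comap (algebraMap B S))))
    (q1 q2 : Ideal S) (h1 : q1 ∈ minimalPrimes S) (h2 : q2 ∈ minimalPrimes S)
    (h1P : q1 ≤ P) (h2P : q2 ≤ P) : q1 = q2 := by
  by_contra hne
  have hnle : ¬ q1 ≤ q2 := fun hle => hne (le_antisymm hle (h2.2 h1.1 hle))
  obtain ⟨a, ha1, ha2⟩ := Set.not_subset.mp hnle
  obtain ⟨E, _, _, _, f, b, hb⟩ := hcov a
  letI : Algebra E S := f.toRingHom.toAlgebra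
  haveI : IsScalarTower B E S := IsScalarTower.of_algebraMap_eq' f.comp_algebraMap.symm
  haveI : Module.Flat E S := Algebra.FormallyUnramified.flat_of_restrictScalars B E S
  have hfb : algebraMap E S b = a := hb
  have hm1 := comap_mem_minimalPrimes_of_flat (E := E) q1 h1
  have hm2 := comap_mem_minimalPrimes_of_flat (E := E) q2 h2
  have hQ : (P.comap (algebraMap E S)).comap (algebraMap B E) = P.comap (algebraMap B S) := by
    rw [Ideal.comap_comap, ← IsScalarTower.algebraMap_eq]
  have hpgu : PGU (Localization.AtPrime (P.comap (algebraMap E S))) :=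
    (pgu_iff_smooth B E (P.comap (algebraMap E S))).mp (pgu_congr hQ.symm hP)
  have huniq := LocIrred.hasUniqueMinimalPrime_of_pgu _ hpgu
  obtain ⟨P₀, -, -, hu⟩ := LocIrred.exists_minimalPrime_le_of_isLocalization E
    (Localization.AtPrime (P.comap (algebraMap E S))) (P.comap (algebraMap E S)) huniq
  have e1 := hu _ hm1 (Ideal.comap_mono h1P)
  have e2 := hu _ hm2 (Ideal.comap_mono h2P)
  have hb1 : b ∈ q1.comap (algebraMap E S) := by
    rw [Ideal.mem_comap, hfb]; exact ha1
  have hb2 : b ∉ q2.comap (algebraMap E S) := by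
    rw [Ideal.mem_comap, hfb]; exact ha2
  rw [e1, ← e2] at hb1
  exact hb2 hb1

end Key

section Strict

variable (R S : Type u) [CommRing R] [IsLocalRing R] [CommRing S] [IsLocalRing S] [Algebra R S]
  [IsLocalHom (algebraMap R S)] [Hensel.IsStrictHenselization R S]

theorem comap_maximalIdeal_eq :
    (maximalIdeal S).comap (algebraMap R S) = maximalIdeal R :=
  IsLocalRing.maximalIdeal_comap (algebraMap R S)

theorem isNoetherianRing_strict [IsNoetherianRing R] : IsNoetherianRing S := by
  obtain ⟨e⟩ := Hens.nonempty_algEquiv_Hsh R S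
  haveI : IsNoetherianRing (Hens.Hsh R) := Hens.H.isNoetherianRing
  exact isNoetherianRing_of_ringEquiv (Hens.Hsh R) e.symm.toRingEquiv

theorem eq_maximalIdeal_of_comap_eq (P : Ideal S) [P.IsPrime]
    (h : P.comap (algebraMap R S) = maximalIdeal R) : P = maximalIdeal S := by
  refine le_antisymm (IsLocalRing.le_maximalIdeal (Ideal.IsPrime.ne_top inferInstance)) ?_
  rw [← Hens.map_maximalIdeal_of_isStrictHenselization R S, Ideal.map_le_iff_le_comap, h]

/-- the forward direction: punctured spectrum connected. -/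
theorem connectedSpace_punctured (hR : CAlg2.IsGeomUnibranch R)
    (hm : maximalIdeal R ∉ minimalPrimes R) :
    ConnectedSpace ↥({closedPoint S}ᶜ : Set (PrimeSpectrum S)) := by
  obtain ⟨q0, hq0, hu⟩ := hasUniqueMinimalPrime_of_isGeomUnibranch R S hR
  haveI : q0.IsPrime := hq0.1.1
  haveI : Module.Flat R S := Hens.flat_of_isStrictHenselization R S
  have hne : q0 ≠ maximalIdeal S := by
    intro h
    apply hm
    have := comap_mem_minimalPrimes_of_flat (E := R) q0 hq0
    rwa [h, comap_maximalIdeal_eq] at this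
  set x0 : PrimeSpectrum S := ⟨q0, inferInstance⟩ with hx0
  have hx0s : x0 ∈ ({closedPoint S}ᶜ : Set (PrimeSpectrum S)) := by
    intro h
    apply hne
    exact congrArg PrimeSpectrum.asIdeal (Set.mem_singleton_iff.mp h)
  have hsub : ({closedPoint S}ᶜ : Set (PrimeSpectrum S)) ⊆ closure {x0} := by
    intro P _
    rw [← specializes_iff_mem_closure, ← PrimeSpectrum.le_iff_specializes]
    obtain ⟨q, hq, hqP⟩ := Ideal.exists_minimalPrimes_le (I := (⊥ : Ideal S)) (J := P.asIdeal) bot_le
    have : q = q0 := hu q hq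
    rw [this] at hqP
    exact hqP
  have hpre : IsPreconnected ({closedPoint S}ᶜ : Set (PrimeSpectrum S)) :=
    IsPreconnected.subset_closure isPreconnected_singleton (Set.singleton_subset_iff.mpr hx0s) hsub
  exact isConnected_iff_connectedSpace.mp ⟨⟨x0, hx0s⟩, hpre⟩

/-- zero dimensional case. -/
theorem hasUniqueMinimalPrime_of_mem (hm : maximalIdeal R ∈ minimalPrimes R) :
    CAlgX.HasUniqueMinimalPrime S := by
  have hall : ∀ (P : Ideal S) [P.IsPrime], P = maximalIdeal S := by
    intro P _
    apply eq_maximalIdeal_of_comap_eq R S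
    have hle : P.comap (algebraMap R S) ≤ maximalIdeal R :=
      IsLocalRing.le_maximalIdeal (Ideal.IsPrime.ne_top inferInstance)
    exact le_antisymm hle (hm.2 ⟨inferInstance, bot_le⟩ hle)
  refine ⟨maximalIdeal S, ⟨⟨inferInstance, bot_le⟩, ?_⟩, ?_⟩
  · rintro Q ⟨hQ, -⟩ _
    haveI := hQ
    rw [hall Q]
  · intro Q hQ
    haveI := hQ.1.1
    exact hall Q

/-- the induction step of the converse direction. -/
theorem hasUniqueMinimalPrime_of_preconnected [IsNoetherianRing R]
    (hconn : PreconnectedSpace ↥({closedPoint S}ᶜ : Set (PrimeSpectrum S)))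
    (hIH : ∀ (p : Ideal R) [p.IsPrime], p ≠ maximalIdeal R → PGU (Localization.AtPrime p)) :
    CAlgX.HasUniqueMinimalPrime S := by
  haveI : IsNoetherianRing S := isNoetherianRing_strict R S
  haveI : Module.Flat R S := Hens.flat_of_isStrictHenselization R S
  have hcov : IndEt.CoveredByEtale R S := (hasPres_strict R S).coveredByEtale
  have hfin : (minimalPrimes S).Finite := minimalPrimes.finite_of_isNoetherianRing S
  obtain ⟨q1, hq1⟩ : (minimalPrimes S).Nonempty := by
    obtain ⟨q, hq, -⟩ := Ideal.exists_minimalPrimes_le (I := (⊥ : Ideal S))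
      (J := maximalIdeal S) bot_le
    exact ⟨q, hq⟩
  refine ⟨q1, hq1, ?_⟩
  intro q2 hq2
  by_contra hne
  -- the maximal ideal is not minimal
  have hmax : ∀ q ∈ minimalPrimes S, q ≠ maximalIdeal S := by
    intro q hq hqm
    have h1 : q1 = maximalIdeal S := by
      have hle : q1 ≤ maximalIdeal S :=
        IsLocalRing.le_maximalIdeal (Ideal.IsPrime.ne_top hq1.1.1)
      have := (hqm ▸ hq).2 hq1.1 hle
      exact le_antisymm hle this
    have h2 : q2 = maximalIdeal S := by
      have hle : q2 ≤ maximalIdeal S :=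
        IsLocalRing.le_maximalIdeal (Ideal.IsPrime.ne_top hq2.1.1)
      have := (hqm ▸ hq).2 hq2.1 hle
      exact le_antisymm hle this
    exact hne (h2.trans h1.symm)
  set U : Set (PrimeSpectrum S) := {closedPoint S}ᶜ with hU
  let t1 : Set U := Subtype.val ⁻¹' PrimeSpectrum.zeroLocus (q1 : Set S)
  let t2 : Set U := Subtype.val ⁻¹' ⋃ q ∈ (minimalPrimes S \ {q1}),
    PrimeSpectrum.zeroLocus (q : Set S)
  have ht1 : IsClosed t1 :=
    (PrimeSpectrum.isClosed_zeroLocus _).preimage continuous_subtype_val
  have ht2 : IsClosed t2 := by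
    refine IsClosed.preimage continuous_subtype_val ?_
    exact (hfin.subset Set.diff_subset).isClosed_biUnion
      fun q _ => PrimeSpectrum.isClosed_zeroLocus _
  have hcover : (Set.univ : Set U) ⊆ t1 ∪ t2 := by
    rintro ⟨P, hP⟩ -
    obtain ⟨q, hq, hqP⟩ := Ideal.exists_minimalPrimes_le (I := (⊥ : Ideal S))
      (J := P.asIdeal) bot_le
    by_cases hqq : q = q1
    · left
      show P ∈ PrimeSpectrum.zeroLocus (q1 : Set S)
      rw [PrimeSpectrum.mem_zeroLocus, ← hqq]
      exact hqP
    · right
      show P ∈ ⋃ q ∈ (minimalPrimes S \ {q1}), PrimeSpectrum.zeroLocus (q : Set S)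
      simp only [Set.mem_iUnion]
      exact ⟨q, ⟨hq, hqq⟩, (PrimeSpectrum.mem_zeroLocus _ _).mpr hqP⟩
  have hne1 : (Set.univ ∩ t1).Nonempty := by
    haveI := hq1.1.1
    refine ⟨⟨⟨q1, inferInstance⟩, ?_⟩, trivial, ?_⟩
    · intro h
      exact hmax q1 hq1 (congrArg PrimeSpectrum.asIdeal (Set.mem_singleton_iff.mp h))
    · show (⟨q1, inferInstance⟩ : PrimeSpectrum S) ∈ PrimeSpectrum.zeroLocus (q1 : Set S)
      rw [PrimeSpectrum.mem_zeroLocus]
  have hne2 : (Set.univ ∩ t2).Nonempty := by
    haveI := hq2.1.1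
    refine ⟨⟨⟨q2, inferInstance⟩, ?_⟩, trivial, ?_⟩
    · intro h
      exact hmax q2 hq2 (congrArg PrimeSpectrum.asIdeal (Set.mem_singleton_iff.mp h))
    · show (⟨q2, inferInstance⟩ : PrimeSpectrum S) ∈
        ⋃ q ∈ (minimalPrimes S \ {q1}), PrimeSpectrum.zeroLocus (q : Set S)
      simp only [Set.mem_iUnion]
      exact ⟨q2, ⟨hq2, hne⟩, (PrimeSpectrum.mem_zeroLocus _ _).mpr le_rfl⟩
  obtain ⟨⟨P, hP⟩, -, hP1, hP2⟩ :=
    isPreconnected_closed_iff.mp hconn.isPreconnected_univ t1 t2 ht1 ht2 hcover hne1 hne2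
  have hP1' : q1 ≤ P.asIdeal := (PrimeSpectrum.mem_zeroLocus _ _).mp hP1
  have hP2' : P ∈ ⋃ q ∈ (minimalPrimes S \ {q1}), PrimeSpectrum.zeroLocus (q : Set S) := hP2
  simp only [Set.mem_iUnion] at hP2'
  obtain ⟨q, ⟨hq, hqq⟩, hqP⟩ := hP2'
  have hqP' : q ≤ P.asIdeal := (PrimeSpectrum.mem_zeroLocus _ _).mp hqP
  have hPne : P.asIdeal.comap (algebraMap R S) ≠ maximalIdeal R := by
    intro h
    apply hP
    have := eq_maximalIdeal_of_comap_eq R S P.asIdeal h
    exact PrimeSpectrum.ext this
  exact hqq (eq_of_le_of_pgu hcov P.asIdeal (hIH _ hPne) q1 q hq1 hq hP1' hqP').symm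

end Strict

section Induction

variable (A : Type u) [CommRing A] [IsNoetherianRing A]

/-- for a prime `p`, data of a model of the local ring with a strict henselization whose
punctured spectrum is preconnected. -/
def HasConnModel (p : Ideal A) [p.IsPrime] : Prop :=
  ∃ (B : Type u) (_ : CommRing B) (_ : IsLocalRing B) (_ : Algebra A B)
    (_ : IsLocalization.AtPrime B p)
    (S : Type u) (_ : CommRing S) (_ : IsLocalRing S) (_ : Algebra B S)
    (_ : IsLocalHom (algebraMap B S)) (_ : Hensel.IsStrictHenselization B S),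
    PreconnectedSpace ↥({closedPoint S}ᶜ : Set (PrimeSpectrum S))

theorem pgu_of_isLocalization {B : Type u} [CommRing B] [Algebra A B] (p : Ideal A) [p.IsPrime]
    [IsLocalization.AtPrime B p] (h : PGU B) : PGU (Localization.AtPrime p) :=
  PGU.of_ringEquiv _ _ (IsLocalization.algEquiv p.primeCompl B (Localization.AtPrime p)).toRingEquiv h

theorem pgu_of_isLocalization' {B : Type u} [CommRing B] [Algebra A B] (p : Ideal A) [p.IsPrime]
    [IsLocalization.AtPrime B p] (h : PGU (Localization.AtPrime p)) : PGU B :=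
  PGU.of_ringEquiv _ _
    (IsLocalization.algEquiv p.primeCompl (Localization.AtPrime p) B).toRingEquiv h

theorem pgu_localization_of_connModel
    (h : ∀ (p : Ideal A) [p.IsPrime], p ∉ minimalPrimes A → HasConnModel A p)
    (p : Ideal A) [p.IsPrime] : PGU (Localization.AtPrime p) := by
  suffices H : ∀ n : ℕ, ∀ (p : Ideal A) [p.IsPrime], p.height = n →
      PGU (Localization.AtPrime p) by
    have hfin := Ideal.height_lt_top_of_isPrime (I := p)
    obtain ⟨n, hn⟩ := ENat.ne_top_iff_exists.mp hfin.ne
    exact H n p hn.symm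
  intro n
  induction n using Nat.strong_induction_on with
  | _ n ih =>
  intro p _ hp
  by_cases hmin : p ∈ minimalPrimes A
  · -- zero dimensional
    haveI := Hens.isStrictHenselization_Hsh (Localization.AtPrime p)
    have hm : maximalIdeal (Localization.AtPrime p) ∈ minimalPrimes (Localization.AtPrime p) := by
      refine ⟨⟨inferInstance, bot_le⟩, ?_⟩
      rintro Q ⟨hQ, -⟩ hQle
      haveI := hQ
      have h1 : Q.comap (algebraMap A (Localization.AtPrime p)) ≤ p :=
        (Ideal.comap_mono (f := algebraMap A (Localization.AtPrime p)) hQle).trans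
          (Localization.AtPrime.comap_maximalIdeal (I := p)).le
      have h2 : p ≤ Q.comap (algebraMap A (Localization.AtPrime p)) :=
        hmin.2 ⟨inferInstance, bot_le⟩ h1
      rw [← Localization.AtPrime.map_eq_maximalIdeal, Ideal.map_le_iff_le_comap]
      exact h2
    exact ⟨inferInstance, (isGeomUnibranch_iff (Localization.AtPrime p)
      (Hens.Hsh (Localization.AtPrime p))).mpr
      (hasUniqueMinimalPrime_of_mem _ _ hm)⟩
  · obtain ⟨B, _, _, _, _, S, _, _, _, _, _, hconn⟩ := h p hmin
    haveI : IsNoetherianRing B := IsLocalization.isNoetherianRing p.primeCompl B inferInstance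
    apply pgu_of_isLocalization A p (B := B)
    refine ⟨inferInstance, (isGeomUnibranch_iff B S).mpr ?_⟩
    apply hasUniqueMinimalPrime_of_preconnected B S hconn
    intro p'' _ hp''
    -- the contraction to `A`
    haveI : IsLocalization.AtPrime (Localization.AtPrime p'')
        (p''.comap (algebraMap A B)) :=
      IsLocalization.isLocalization_isLocalization_atPrime_isLocalization p.primeCompl
        (Localization.AtPrime p'') p''
    apply pgu_of_isLocalization' A (p''.comap (algebraMap A B))
    have hle : p''.comap (algebraMap A B) ≤ p := by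
      have h1 : p'' ≤ maximalIdeal B := IsLocalRing.le_maximalIdeal (Ideal.IsPrime.ne_top inferInstance)
      exact (Ideal.comap_mono (f := algebraMap A B) h1).trans
        (IsLocalization.AtPrime.comap_maximalIdeal B p).le
    have hlt : p''.comap (algebraMap A B) < p := by
      refine lt_of_le_of_ne hle ?_
      intro heq
      apply hp''
      refine le_antisymm (IsLocalRing.le_maximalIdeal (Ideal.IsPrime.ne_top inferInstance)) ?_
      rw [← IsLocalization.AtPrime.map_eq_maximalIdeal p B, Ideal.map_le_iff_le_comap, heq]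
    have hht := Ideal.height_strict_mono_of_isPrime hlt
    have hfin' := Ideal.height_lt_top_of_isPrime (I := p''.comap (algebraMap A B))
    obtain ⟨m, hm⟩ := ENat.ne_top_iff_exists.mp hfin'.ne
    rw [hp, ← hm] at hht
    exact ih m (by exact_mod_cast hht) _ hm.symm

end Induction

end Groth.Agent.Lib.Helper87.PunctConn
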