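import Mathlib
import Groth.Agent.Lib.Helper87.GULocal
import Groth.Agent.Lib.Helper87.PunctConn

/-!
# Geometric unibranchness along an integral birational ring map, at a prime
-/

set_option autoImplicit false
set_option linter.style.haveILetI false
universe u

open IsLocalRing

namespace Groth.Agent.Lib.Helper87.GUIntegral

open Groth.Agent.Lib.Helper87.Unibranch Groth.Agent.Lib.Helper87.GUModel
  Groth.Agent.Lib.Helper87.GeomUnibranchSmooth

section Stability

variable {R S : Type u} [CommRing R] [CommRing S] [Algebra R S] (M : Submonoid R)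
  (Rₘ Sₘ : Type u) [CommRing Rₘ] [CommRing Sₘ] [Algebra R Rₘ] [IsLocalization M Rₘ]
  [Algebra S Sₘ] [IsLocalization (Algebra.algebraMapSubmonoid S M) Sₘ] [Algebra Rₘ Sₘ]
  [Algebra R Sₘ] [IsScalarTower R Rₘ Sₘ] [IsScalarTower R S Sₘ]

omit [IsLocalization M Rₘ] [IsLocalization (Algebra.algebraMapSubmonoid S M) Sₘ] in
theorem comap_comap_eq (Q : Ideal Sₘ) :
    (Q.comap (algebraMap Rₘ Sₘ)).comap (algebraMap R Rₘ) =
      (Q.comap (algebraMap S Sₘ)).comap (algebraMap R S) := by
  rw [Ideal.comap_comap, Ideal.comap_comap, ← IsScalarTower.algebraMap_eq,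
    ← IsScalarTower.algebraMap_eq]

theorem mem_minimalPrimes_localization_iff {T : Type u} [CommRing T] (N : Submonoid T)
    (Tₙ : Type u) [CommRing Tₙ] [Algebra T Tₙ] [IsLocalization N Tₙ] (P : Ideal Tₙ) :
    P ∈ minimalPrimes Tₙ ↔ P.comap (algebraMap T Tₙ) ∈ minimalPrimes T := by
  have h := IsLocalization.minimalPrimes_map N Tₙ (⊥ : Ideal T)
  rw [Ideal.map_bot] at h
  show P ∈ (⊥ : Ideal Tₙ).minimalPrimes ↔ _
  rw [h]
  rfl

theorem eq_of_comap_eq {T : Type u} [CommRing T] (N : Submonoid T)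
    (Tₙ : Type u) [CommRing Tₙ] [Algebra T Tₙ] [IsLocalization N Tₙ] (P P' : Ideal Tₙ)
    (h : P.comap (algebraMap T Tₙ) = P'.comap (algebraMap T Tₙ)) : P = P' := by
  have h1 : (P.comap (algebraMap T Tₙ)).map (algebraMap T Tₙ) = P :=
    IsLocalization.map_comap N Tₙ P
  have h2 : (P'.comap (algebraMap T Tₙ)).map (algebraMap T Tₙ) = P' :=
    IsLocalization.map_comap N Tₙ P'
  rw [← h1, ← h2, h]

omit [IsLocalization M Rₘ] [IsLocalization (Algebra.algebraMapSubmonoid S M) Sₘ] [Algebra R Sₘ]
  [IsScalarTower R Rₘ Sₘ] [IsScalarTower R S Sₘ] [Algebra S Sₘ] [Algebra Rₘ Sₘ] in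
theorem disjoint_algebraMapSubmonoid (q : Ideal S)
    (h : Disjoint (M : Set R) (q.comap (algebraMap R S) : Set R)) :
    Disjoint (Algebra.algebraMapSubmonoid S M : Set S) (q : Set S) := by
  rw [Set.disjoint_left]
  rintro _ ⟨m, hm, rfl⟩ hq
  exact Set.disjoint_left.mp h hm hq

include M in
theorem BirRing.localization (h : BirRing R S) : BirRing Rₘ Sₘ where
  k1 := by
    intro P hP
    have hPp : P.IsPrime := hP.1.1
    rw [mem_minimalPrimes_localization_iff M Rₘ] at hP
    obtain ⟨q, hq, hqP⟩ := h.k1 _ hP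
    have hdisj : Disjoint (Algebra.algebraMapSubmonoid S M : Set S) (q : Set S) := by
      apply disjoint_algebraMapSubmonoid
      rw [hqP]
      exact ((IsLocalization.isPrime_iff_isPrime_disjoint M Rₘ P).mp hPp).2
    refine ⟨q.map (algebraMap S Sₘ),
      IsLocalization.isPrime_of_isPrime_disjoint _ Sₘ q hq hdisj, ?_⟩
    apply eq_of_comap_eq M Rₘ
    have h1 : (q.map (algebraMap S Sₘ)).comap (algebraMap S Sₘ) = q :=
      IsLocalization.comap_map_of_isPrime_disjoint _ Sₘ hq hdisj
    rw [comap_comap_eq (S := S) Rₘ Sₘ, h1, hqP]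
  k2 := by
    intro Q Q' hQ hQ' hmin heq
    haveI := hQ
    haveI := hQ'
    rw [mem_minimalPrimes_localization_iff M Rₘ, comap_comap_eq (S := S) Rₘ Sₘ] at hmin
    apply eq_of_comap_eq (Algebra.algebraMapSubmonoid S M) Sₘ
    refine h.k2 _ _ (Ideal.IsPrime.comap _) (Ideal.IsPrime.comap _) hmin ?_
    rw [← comap_comap_eq (S := S) Rₘ Sₘ, ← comap_comap_eq (S := S) Rₘ Sₘ, heq]
  k3 := by
    intro Q hQ
    rw [mem_minimalPrimes_localization_iff (Algebra.algebraMapSubmonoid S M) Sₘ] at hQ
    rw [mem_minimalPrimes_localization_iff M Rₘ, comap_comap_eq (S := S) Rₘ Sₘ]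
    exact h.k3 _ hQ
  k4 := by
    intro Q hQ hmin b'
    haveI := hQ
    rw [mem_minimalPrimes_localization_iff M Rₘ, comap_comap_eq (S := S) Rₘ Sₘ] at hmin
    obtain ⟨⟨b, ⟨_, m, hm, rfl⟩⟩, hb⟩ :=
      IsLocalization.surj (Algebra.algebraMapSubmonoid S M) b'
    simp only at hb
    obtain ⟨a, s, hs, hmem⟩ := h.k4 (Q.comap (algebraMap S Sₘ)) (Ideal.IsPrime.comap _) hmin b
    refine ⟨algebraMap R Rₘ a, algebraMap R Rₘ (s * m), ?_, ?_⟩
    · rw [← Ideal.mem_comap, comap_comap_eq (S := S) Rₘ Sₘ]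
      intro hsm
      rcases (Ideal.IsPrime.comap (algebraMap R S)
        (hK := Ideal.IsPrime.comap (algebraMap S Sₘ) (hK := hQ))).mem_or_mem hsm with h1 | h1
      · exact hs h1
      · rw [Ideal.mem_comap, Ideal.mem_comap, ← IsScalarTower.algebraMap_apply,
          IsScalarTower.algebraMap_apply R Rₘ Sₘ] at h1
        have hu : IsUnit (algebraMap Rₘ Sₘ (algebraMap R Rₘ m)) :=
          (IsLocalization.map_units Rₘ ⟨m, hm⟩).map _
        exact hQ.ne_top (Ideal.eq_top_of_isUnit_mem _ h1 hu)
    · rw [Ideal.mem_comap] at hmem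
      have e1 : algebraMap Rₘ Sₘ (algebraMap R Rₘ (s * m)) =
          algebraMap S Sₘ (algebraMap R S s) * algebraMap S Sₘ (algebraMap R S m) := by
        rw [← IsScalarTower.algebraMap_apply R Rₘ Sₘ, IsScalarTower.algebraMap_apply R S Sₘ,
          map_mul, map_mul]
      have e2 : algebraMap Rₘ Sₘ (algebraMap R Rₘ a) = algebraMap S Sₘ (algebraMap R S a) := by
        rw [← IsScalarTower.algebraMap_apply R Rₘ Sₘ, IsScalarTower.algebraMap_apply R S Sₘ]
      have e : algebraMap Rₘ Sₘ (algebraMap R Rₘ (s * m)) * b' - algebraMap Rₘ Sₘ (algebraMap R Rₘ a)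
          = algebraMap S Sₘ (algebraMap R S s * b - algebraMap R S a) := by
        rw [e1, e2, map_sub, map_mul, ← hb]
        ring
      rw [e]
      exact hmem

end Stability

section Transfer

theorem PIelem.of_equiv {A B B' : Type*} [CommRing A] [IsLocalRing A] [CommRing B] [IsLocalRing B]
    [CommRing B'] [IsLocalRing B'] (ψ : A →+* B) (ψ' : A →+* B') (E : B ≃+* B')
    (hE : ∀ a, E (ψ a) = ψ' a) (h : PIelem ψ) : PIelem ψ' := by
  intro b'
  obtain ⟨n, a, ha⟩ := h (E.symm b')
  refine ⟨n, a, ?_⟩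
  have h1 : b' ^ (ringExpChar (ResidueField A)) ^ n - ψ' a =
      E ((E.symm b') ^ (ringExpChar (ResidueField A)) ^ n - ψ a) := by
    rw [map_sub, map_pow, hE, E.apply_symm_apply]
  rw [h1, mem_maximalIdeal, mem_nonunits_iff, isUnit_map_iff]
  exact ha

theorem pgu_localization_of_pgu {T : Type u} [CommRing T] {B : Type u} [CommRing B] [Algebra T B]
    (q : Ideal T) [q.IsPrime] [IsLocalization.AtPrime B q] (h : PGU B) :
    PGU (Localization.AtPrime q) :=
  PGU.of_ringEquiv _ _
    (IsLocalization.algEquiv q.primeCompl B (Localization.AtPrime q)).toRingEquiv h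

theorem pgu_of_pgu_localization {T : Type u} [CommRing T] {B : Type u} [CommRing B] [Algebra T B]
    (q : Ideal T) [q.IsPrime] [IsLocalization.AtPrime B q] (h : PGU (Localization.AtPrime q)) :
    PGU B :=
  PGU.of_ringEquiv _ _
    (IsLocalization.algEquiv q.primeCompl (Localization.AtPrime q) B).toRingEquiv h

end Transfer

section AtPrime

variable {R S : Type u} [CommRing R] [CommRing S] [Algebra R S] [Algebra.IsIntegral R S]
  (p : Ideal R) [p.IsPrime]

local notation "Ap" => Localization.AtPrime p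
local notation "Bp" => Localization (Algebra.algebraMapSubmonoid S p.primeCompl)

instance isIntegral_Ap_Bp : Algebra.IsIntegral Ap Bp :=
  ⟨isIntegral_localization⟩

omit [Algebra.IsIntegral R S] in
theorem comap_maximalIdeal_Ap : (maximalIdeal Ap).comap (algebraMap R Ap) = p :=
  IsLocalization.AtPrime.comap_maximalIdeal Ap p

theorem map_isMaximal_of_comap_eq (q : Ideal S) [hqp : q.IsPrime]
    (hq : q.comap (algebraMap R S) = p) :
    (q.map (algebraMap S Bp)).IsMaximal ∧
      (q.map (algebraMap S Bp)).comap (algebraMap S Bp) = q := by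
  have hdisj : Disjoint (Algebra.algebraMapSubmonoid S p.primeCompl : Set S) (q : Set S) := by
    apply disjoint_algebraMapSubmonoid
    rw [hq]
    exact Set.disjoint_left.mpr (fun x hx hx' => hx hx')
  have hprime := IsLocalization.isPrime_of_isPrime_disjoint _ Bp q hqp hdisj
  have hcomap : (q.map (algebraMap S Bp)).comap (algebraMap S Bp) = q :=
    IsLocalization.comap_map_of_isPrime_disjoint _ Bp hqp hdisj
  refine ⟨?_, hcomap⟩
  haveI := hprime
  apply Ideal.isMaximal_of_isIntegral_of_isMaximal_comap (R := Ap)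
  have h1 : (q.map (algebraMap S Bp)).comap (algebraMap Ap Bp) = maximalIdeal Ap := by
    apply eq_of_comap_eq p.primeCompl Ap
    rw [comap_comap_eq (S := S) Ap Bp, hcomap, hq, comap_maximalIdeal_Ap]
  rw [h1]
  infer_instance

theorem comap_comap_maximalIdeal [IsLocalRing Bp] :
    ((maximalIdeal Bp).comap (algebraMap S Bp)).comap (algebraMap R S) = p := by
  rw [← comap_comap_eq Ap Bp, comap_eq_maximalIdeal_of_isIntegral Ap Bp (maximalIdeal Bp),
    comap_maximalIdeal_Ap]

theorem eq_comap_maximalIdeal [IsLocalRing Bp] (q' : Ideal S) [q'.IsPrime]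
    (hq' : q'.comap (algebraMap R S) = p) :
    q' = (maximalIdeal Bp).comap (algebraMap S Bp) := by
  obtain ⟨hmax, hcomap⟩ := map_isMaximal_of_comap_eq p q' hq'
  rw [← IsLocalRing.eq_maximalIdeal hmax, hcomap]

theorem isLocalization_atPrime_of_isLocalRing [IsLocalRing Bp] :
    IsLocalization.AtPrime Bp ((maximalIdeal Bp).comap (algebraMap S Bp)) := by
  refine IsLocalization.of_le (Algebra.algebraMapSubmonoid S p.primeCompl) _ ?_ ?_
  · rintro _ ⟨m, hm, rfl⟩
    intro hmem
    have h1 : m ∈ ((maximalIdeal Bp).comap (algebraMap S Bp)).comap (algebraMap R S) := hmem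
    rw [comap_comap_maximalIdeal] at h1
    exact hm h1
  · intro t ht
    by_contra hnu
    exact ht ((IsLocalRing.mem_maximalIdeal _).mpr hnu)

theorem isLocalRing_of_unique (q : Ideal S) [q.IsPrime] (hq : q.comap (algebraMap R S) = p)
    (hu : ∀ q' : Ideal S, q'.IsPrime → q'.comap (algebraMap R S) = p → q' = q) :
    IsLocalRing Bp := by
  obtain ⟨hmax, hcomap⟩ := map_isMaximal_of_comap_eq p q hq
  apply IsLocalRing.of_unique_max_ideal
  refine ⟨q.map (algebraMap S Bp), hmax, ?_⟩
  intro I hI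
  haveI := hI
  apply eq_of_comap_eq (Algebra.algebraMapSubmonoid S p.primeCompl) Bp
  rw [hcomap]
  apply hu _ (Ideal.IsPrime.comap _)
  rw [← comap_comap_eq Ap Bp, comap_eq_maximalIdeal_of_isIntegral Ap Bp I, comap_maximalIdeal_Ap]

theorem BirRing.exists_comap_eq (h : BirRing R S) :
    ∃ q : Ideal S, q.IsPrime ∧ q.comap (algebraMap R S) = p := by
  obtain ⟨P, hP, hPp⟩ := Ideal.exists_minimalPrimes_le (I := (⊥ : Ideal R)) (J := p) bot_le
  obtain ⟨Q₁, hQ₁, hQ₁P⟩ := h.k1 P hP
  obtain ⟨q, -, hq, hqp⟩ :=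
    Ideal.exists_ideal_over_prime_of_isIntegral p Q₁ (hQ₁P ▸ hPp)
  exact ⟨q, hq, hqp⟩

theorem pgu_atPrime_iff (h : BirRing R S) :
    PGU (Localization.AtPrime p) ↔
      (∀ q q' : Ideal S, q.IsPrime → q'.IsPrime → q.comap (algebraMap R S) = p →
        q'.comap (algebraMap R S) = p → q = q') ∧
      ∀ (q : Ideal S) [q.IsPrime] (hq : p = q.comap (algebraMap R S)),
        PIelem (Localization.localRingHom p q (algebraMap R S) hq) ∧
          PGU (Localization.AtPrime q) := by
  have hbir : BirRing Ap Bp := h.localization p.primeCompl Ap Bp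
  have hLT := isGeomUnibranch_iff_of_birRing Ap Bp hbir
  have hcompat : ∀ (q : Ideal S) [q.IsPrime] (hq : p = q.comap (algebraMap R S))
      [IsLocalization.AtPrime Bp q] (a : Ap),
      (IsLocalization.algEquiv q.primeCompl Bp (Localization.AtPrime q)) (algebraMap Ap Bp a) =
        Localization.localRingHom p q (algebraMap R S) hq a := by
    intro q _ hq _ a
    have h1 : ((IsLocalization.algEquiv q.primeCompl Bp (Localization.AtPrime q)).toRingEquiv.toRingHom.comp
        (algebraMap Ap Bp)) = Localization.localRingHom p q (algebraMap R S) hq := by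
      apply IsLocalization.ringHom_ext p.primeCompl
      ext r
      simp only [RingHom.comp_apply, Localization.localRingHom_to_map]
      rw [← IsScalarTower.algebraMap_apply R Ap Bp, IsScalarTower.algebraMap_apply R S Bp]
      exact (IsLocalization.algEquiv q.primeCompl Bp (Localization.AtPrime q)).commutes _
    exact congr($h1 a)
  constructor
  · rintro ⟨hl, hg⟩
    obtain ⟨hB, hgB, hpi⟩ := hLT.mp hg
    haveI := hB
    have hq₀p := comap_comap_maximalIdeal p (S := S)
    have huniq := eq_comap_maximalIdeal p (S := S)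
    haveI hloc := isLocalization_atPrime_of_isLocalRing p (S := S)
    refine ⟨fun q q' hq hq' h1 h2 => ?_, ?_⟩
    · haveI := hq
      haveI := hq'
      exact (huniq q h1).trans (huniq q' h2).symm
    · intro q _ hq
      obtain rfl : q = (maximalIdeal Bp).comap (algebraMap S Bp) := huniq q hq.symm
      refine ⟨?_, pgu_localization_of_pgu _ ⟨hB, hgB⟩⟩
      exact PIelem.of_equiv (algebraMap Ap Bp) _
        (IsLocalization.algEquiv _ Bp (Localization.AtPrime _)).toRingEquiv
        (hcompat _ hq) hpi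
  · rintro ⟨huniq, hall⟩
    obtain ⟨q, hq, hqp⟩ := h.exists_comap_eq p
    haveI := hq
    have hB : IsLocalRing Bp :=
      isLocalRing_of_unique p q hqp (fun q' hq' h' => huniq q' q hq' hq h' hqp)
    haveI := hB
    have hqeq : q = (maximalIdeal Bp).comap (algebraMap S Bp) := eq_comap_maximalIdeal p q hqp
    haveI hloc : IsLocalization.AtPrime Bp q := by
      have := isLocalization_atPrime_of_isLocalRing p (S := S)
      convert this
    obtain ⟨hpi, hpgu⟩ := hall q hqp.symm
    obtain ⟨hB', hgB⟩ := pgu_of_pgu_localization (B := Bp) q hpgu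
    refine ⟨inferInstance, hLT.mpr ⟨hB, hgB, ?_⟩⟩
    refine PIelem.of_equiv (Localization.localRingHom p q (algebraMap R S) hqp.symm) _
      (IsLocalization.algEquiv q.primeCompl Bp (Localization.AtPrime q)).symm.toRingEquiv ?_ hpi
    intro a
    rw [← hcompat q hqp.symm a]
    exact (IsLocalization.algEquiv q.primeCompl Bp (Localization.AtPrime q)).symm_apply_apply _

end AtPrime

end Groth.Agent.Lib.Helper87.GUIntegral
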