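import Mathlib
import Groth.Agent.Lib.Helper87.GUModel
import Groth.Agent.Lib.Helper87.GULocalize

set_option autoImplicit false
set_option linter.style.haveILetI false
set_option linter.unusedSectionVars false
universe u
open IsLocalRing

namespace Groth.Agent.Lib.Helper87.UnibranchBridge

open Groth.Agent.Lib.Helper87

section Core

variable (A S : Type u) [CommRing A] [CommRing S] [IsDomain S] [Algebra A S]
  (h : GUModel.IsModel A S) (p : Ideal A) [p.IsPrime]

include h

theorem algebraMap_ne_zero_of_notMem (t : A) (ht : t ∉ p) : algebraMap A S t ≠ 0 := by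
  intro h0
  have : t ∈ nilradical A := by rw [← h.ker_eq]; exact h0
  exact ht (nilradical_le_prime p this)

theorem submonoid_le : Algebra.algebraMapSubmonoid S p.primeCompl ≤ nonZeroDivisors S := by
  rintro _ ⟨t, ht, rfl⟩
  exact mem_nonZeroDivisors_of_ne_zero (algebraMap_ne_zero_of_notMem A S h p t ht)

/-- Localizing a model of the normalization at a prime gives a model for the local ring. -/
theorem isModel_localization
    [IsDomain (Localization (Algebra.algebraMapSubmonoid S p.primeCompl))] :
    GUModel.IsModel (Localization.AtPrime p)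
      (Localization (Algebra.algebraMapSubmonoid S p.primeCompl)) := by
  have hM := submonoid_le A S h p
  haveI := h.isIntegrallyClosed
  haveI := h.isIntegral
  have hinjN : Function.Injective (algebraMap S
      (Localization (Algebra.algebraMapSubmonoid S p.primeCompl))) := IsLocalization.injective _ hM
  refine
    { isIntegrallyClosed := isIntegrallyClosed_of_isLocalization _ _ hM
      isIntegral := inferInstance
      ker_eq := ?_
      frac := ?_ }
  · ext x
    rw [RingHom.mem_ker, mem_nilradical]
    constructor
    · intro hx
      obtain ⟨⟨a, s⟩, hxs⟩ := IsLocalization.surj p.primeCompl x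
      have h3 : algebraMap A (Localization (Algebra.algebraMapSubmonoid S p.primeCompl)) a = 0 := by
        rw [IsScalarTower.algebraMap_apply A (Localization.AtPrime p), ← hxs, map_mul, hx,
          zero_mul]
      rw [IsScalarTower.algebraMap_apply A S, map_eq_zero_iff _ hinjN] at h3
      have ha : IsNilpotent a := by
        rw [← mem_nilradical, ← h.ker_eq]; exact h3
      have hu : IsUnit (algebraMap A (Localization.AtPrime p) s) :=
        IsLocalization.map_units _ s
      have h4 : IsNilpotent (x * algebraMap A (Localization.AtPrime p) s) := by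
        rw [hxs]; exact ha.map _
      obtain ⟨n, hn⟩ := h4
      refine ⟨n, ?_⟩
      rw [mul_pow] at hn
      exact (hu.pow n).mul_left_eq_zero.mp hn
    · intro hx
      exact (hx.map _).eq_zero
  · intro x
    obtain ⟨⟨y, m⟩, hxm⟩ := IsLocalization.surj (Algebra.algebraMapSubmonoid S p.primeCompl) x
    obtain ⟨t, ht, htm⟩ := m.2
    obtain ⟨a, s, hs, hy⟩ := h.frac y
    refine ⟨algebraMap A _ a, algebraMap A _ (s * t), ?_, ?_⟩
    · rw [← IsScalarTower.algebraMap_apply, IsScalarTower.algebraMap_apply A S,
        map_ne_zero_iff _ hinjN, map_mul]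
      exact mul_ne_zero hs (algebraMap_ne_zero_of_notMem A S h p t ht)
    · rw [← IsScalarTower.algebraMap_apply, ← IsScalarTower.algebraMap_apply,
        IsScalarTower.algebraMap_apply A S, IsScalarTower.algebraMap_apply A S _ a,
        map_mul, map_mul, htm, mul_comm (algebraMap _ _ (algebraMap A S s)), ← mul_assoc, hxm,
        ← map_mul, hy]

/-- A model of the normalization has exactly one prime over a unibranch point. -/
theorem unique_prime_of_isModel (hU : CAlg2.IsUnibranch (Localization.AtPrime p))
    (P₁ P₂ : Ideal S) [P₁.IsPrime] [P₂.IsPrime]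
    (h1 : P₁.comap (algebraMap A S) = p) (h2 : P₂.comap (algebraMap A S) = p) : P₁ = P₂ := by
  haveI := h.isIntegral
  haveI : IsDomain (Localization (Algebra.algebraMapSubmonoid S p.primeCompl)) :=
    IsLocalization.isDomain_of_le_nonZeroDivisors _ (submonoid_le A S h p)
  obtain ⟨E, -⟩ := (isModel_localization A S h p).exists_equiv
  haveI : IsLocalRing (CAlg2.normRed (Localization.AtPrime p)) := hU.2
  haveI : IsLocalRing (Localization (Algebra.algebraMapSubmonoid S p.primeCompl)) :=
    E.isLocalRing
  rw [GUIntegral.eq_comap_maximalIdeal p P₁ h1, GUIntegral.eq_comap_maximalIdeal p P₂ h2]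

end Core


/-- The integral closure of a domain `A₁` in its fraction field is a model of the normalization of
any ring `A` surjecting onto `A₁` with nilpotent kernel. -/
theorem isModel_of_surjective (A A₁ : Type u) [CommRing A] [CommRing A₁] [IsDomain A₁]
    (π : A →+* A₁) (hπ : Function.Surjective π) (hker : RingHom.ker π = nilradical A) :
    letI : Algebra A (integralClosure A₁ (FractionRing A₁)) :=
      ((algebraMap A₁ (integralClosure A₁ (FractionRing A₁))).comp π).toAlgebra
    GUModel.IsModel A (integralClosure A₁ (FractionRing A₁)) := by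
  letI : Algebra A (integralClosure A₁ (FractionRing A₁)) :=
    ((algebraMap A₁ (integralClosure A₁ (FractionRing A₁))).comp π).toAlgebra
  have hAS : ∀ a, algebraMap A (integralClosure A₁ (FractionRing A₁)) a =
      algebraMap A₁ (integralClosure A₁ (FractionRing A₁)) (π a) := fun _ => rfl
  have hinjS : Function.Injective (algebraMap A₁ (integralClosure A₁ (FractionRing A₁))) := by
    intro x y hxy
    exact IsFractionRing.injective A₁ (FractionRing A₁) (congrArg Subtype.val hxy)
  refine
    { isIntegrallyClosed := integralClosure.isIntegrallyClosedOfFiniteExtension (FractionRing A₁)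
      isIntegral := ?_
      ker_eq := ?_
      frac := ?_ }
  · rw [← algebraMap_isIntegral_iff]
    exact RingHom.IsIntegral.trans _ _ (RingHom.isIntegral_of_surjective π hπ)
      (algebraMap_isIntegral_iff.mpr inferInstance)
  · ext a
    rw [RingHom.mem_ker, hAS, map_eq_zero_iff _ hinjS, ← hker, RingHom.mem_ker]
  · intro y
    obtain ⟨⟨a₁, s₁⟩, hy⟩ := IsLocalization.surj (nonZeroDivisors A₁) y.1
    obtain ⟨a, rfl⟩ := hπ a₁
    obtain ⟨s, hs⟩ := hπ s₁.1
    refine ⟨a, s, ?_, ?_⟩
    · rw [hAS, map_ne_zero_iff _ hinjS, hs]
      exact nonZeroDivisors.ne_zero s₁.2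
    · apply Subtype.ext
      rw [hAS, hAS, hs]
      exact hy


/-- If the local ring at `p` is unibranch, the normalization of the reduction has exactly one prime
over `p`. The reduction is presented as a surjection `π : A → A₁` onto a domain with nilpotent
kernel. -/
theorem unique_prime_of_isUnibranch (A A₁ : Type u) [CommRing A] [CommRing A₁] [IsDomain A₁]
    (π : A →+* A₁) (hπ : Function.Surjective π) (hker : RingHom.ker π = nilradical A)
    (p : Ideal A) [p.IsPrime] (hU : CAlg2.IsUnibranch (Localization.AtPrime p))
    (P₁ P₂ : Ideal (integralClosure A₁ (FractionRing A₁))) [P₁.IsPrime] [P₂.IsPrime]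
    (h1 : (P₁.comap (algebraMap A₁ _)).comap π = p)
    (h2 : (P₂.comap (algebraMap A₁ _)).comap π = p) : P₁ = P₂ := by
  letI : Algebra A (integralClosure A₁ (FractionRing A₁)) :=
    ((algebraMap A₁ (integralClosure A₁ (FractionRing A₁))).comp π).toAlgebra
  exact unique_prime_of_isModel A _ (isModel_of_surjective A A₁ π hπ hker) p hU P₁ P₂ h1 h2

end Groth.Agent.Lib.Helper87.UnibranchBridge
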