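import Mathlib

set_option autoImplicit false
set_option linter.style.haveILetI false
universe u
open IsLocalRing PrimeSpectrum

namespace Groth.Agent.Lib.Helper87.UnibranchOpenRing

/-- An integral torsion-free extension of an integrally closed domain by a domain has open
spectrum map. -/
theorem isOpenMap_comap_of_isIntegrallyClosed (A B : Type*) [CommRing A] [IsDomain A]
    [IsIntegrallyClosed A] [CommRing B] [IsDomain B] [Algebra A B] [Algebra.IsIntegral A B]
    [FaithfulSMul A B] : IsOpenMap (comap (algebraMap A B)) := by
  rw [isBasis_basic_opens.isOpenMap_iff]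
  rintro _ ⟨_, ⟨b, rfl⟩, rfl⟩
  have hb : IsIntegral A b := Algebra.IsIntegral.isIntegral b
  haveI : Module.IsTorsionFree A B := inferInstance
  let C := Algebra.adjoin A ({b} : Set B)
  let bC : C := ⟨b, Algebra.subset_adjoin rfl⟩
  haveI : Algebra.IsIntegral C B := Algebra.IsIntegral.tower_top (R := A)
  have h1 : comap (algebraMap A B) '' (basicOpen b : Set (PrimeSpectrum B)) =
      comap (algebraMap A C) '' (basicOpen bC : Set (PrimeSpectrum C)) := by
    have hcomp : comap (algebraMap A B) = comap (algebraMap A C) ∘ comap (algebraMap C B) := by
      ext P : 1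
      apply PrimeSpectrum.ext
      change Ideal.comap (algebraMap A B) P.asIdeal =
        Ideal.comap (algebraMap A C) (Ideal.comap (algebraMap C B) P.asIdeal)
      rw [Ideal.comap_comap, ← IsScalarTower.algebraMap_eq]
    rw [hcomp, Set.image_comp]
    congr 1
    ext Q
    constructor
    · rintro ⟨P, hP, rfl⟩
      intro hmem
      exact hP hmem
    · intro hQ
      obtain ⟨P, rfl⟩ := Algebra.IsIntegral.comap_surjective C B Q
      exact ⟨P, fun hmem => hQ hmem, rfl⟩
  rw [h1]
  let pb := Algebra.adjoin.powerBasis' hb
  haveI : Module.Free A C := Module.Free.of_basis pb.basis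
  haveI : Algebra.FinitePresentation A C :=
    Algebra.FinitePresentation.equiv (minpoly.equivAdjoin hb)
  exact isOpenMap_comap_of_hasGoingDown_of_finitePresentation _ (basicOpen bC).isOpen


theorem comap_comp_eq {R S T : Type*} [CommRing R] [CommRing S] [CommRing T] [Algebra R S]
    [Algebra S T] [Algebra R T] [IsScalarTower R S T] (P : PrimeSpectrum T) :
    comap (algebraMap R S) (comap (algebraMap S T) P) = comap (algebraMap R T) P := by
  apply PrimeSpectrum.ext
  change Ideal.comap (algebraMap R S) (Ideal.comap (algebraMap S T) P.asIdeal) =
    Ideal.comap (algebraMap R T) P.asIdeal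
  rw [Ideal.comap_comap, ← IsScalarTower.algebraMap_eq]

attribute [local instance] FractionRing.liftAlgebra FractionRing.isScalarTower_liftAlgebra in
/-- Openness at a prime for an integral extension of domains, when the normalization of the base
has a unique prime over the image point. -/
theorem isOpenAt_comap_of_unique (A B : Type u) [CommRing A] [IsDomain A] [CommRing B]
    [IsDomain B] [Algebra A B] [Algebra.IsIntegral A B] [FaithfulSMul A B] (q : PrimeSpectrum B)
    (H1 : ∀ P₁ P₂ : PrimeSpectrum (integralClosure A (FractionRing A)),
      comap (algebraMap A _) P₁ = comap (algebraMap A B) q →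
      comap (algebraMap A _) P₂ = comap (algebraMap A B) q → P₁ = P₂) :
    ∀ W ∈ nhds q, comap (algebraMap A B) '' W ∈ nhds (comap (algebraMap A B) q) := by
  intro W hW
  haveI : FaithfulSMul A (FractionRing B) := by
    rw [faithfulSMul_iff_algebraMap_injective, IsScalarTower.algebraMap_eq A B (FractionRing B)]
    exact (IsFractionRing.injective B (FractionRing B)).comp
      (FaithfulSMul.algebraMap_injective A B)
  let g : integralClosure A (FractionRing A) →ₐ[A] integralClosure A (FractionRing B) :=
    (IsScalarTower.toAlgHom A (FractionRing A) (FractionRing B)).mapIntegralClosure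
  letI : Algebra (integralClosure A (FractionRing A)) (integralClosure A (FractionRing B)) :=
    g.toRingHom.toAlgebra
  haveI : IsScalarTower A (integralClosure A (FractionRing A))
      (integralClosure A (FractionRing B)) :=
    IsScalarTower.of_algebraMap_eq fun a => (g.commutes a).symm
  haveI : Algebra.IsIntegral (integralClosure A (FractionRing A))
      (integralClosure A (FractionRing B)) := Algebra.IsIntegral.tower_top (R := A)
  haveI : FaithfulSMul (integralClosure A (FractionRing A))
      (integralClosure A (FractionRing B)) := by
    rw [faithfulSMul_iff_algebraMap_injective]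
    intro x y hxy
    have h1 : algebraMap (FractionRing A) (FractionRing B) x.1 =
        algebraMap (FractionRing A) (FractionRing B) y.1 := congrArg Subtype.val hxy
    exact Subtype.ext ((algebraMap (FractionRing A) (FractionRing B)).injective h1)
  haveI : IsIntegrallyClosed (integralClosure A (FractionRing A)) :=
    integralClosure.isIntegrallyClosedOfFiniteExtension (FractionRing A)
  have hopen : IsOpenMap (comap (algebraMap (integralClosure A (FractionRing A))
      (integralClosure A (FractionRing B)))) :=
    isOpenMap_comap_of_isIntegrallyClosed _ _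
  let h : B →+* integralClosure A (FractionRing B) :=
    (algebraMap B (FractionRing B)).codRestrict (integralClosure A (FractionRing B))
      (fun b => (Algebra.IsIntegral.isIntegral (R := A) b).algebraMap)
  letI : Algebra B (integralClosure A (FractionRing B)) := h.toAlgebra
  haveI : IsScalarTower A B (integralClosure A (FractionRing B)) :=
    IsScalarTower.of_algebraMap_eq fun a =>
      Subtype.ext (IsScalarTower.algebraMap_apply A B (FractionRing B) a)
  haveI : Algebra.IsIntegral B (integralClosure A (FractionRing B)) :=
    Algebra.IsIntegral.tower_top (R := A)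
  haveI : FaithfulSMul B (integralClosure A (FractionRing B)) := by
    rw [faithfulSMul_iff_algebraMap_injective]
    intro x y hxy
    exact IsFractionRing.injective B (FractionRing B) (congrArg Subtype.val hxy)
  -- a point over `q`
  obtain ⟨q', hq'⟩ := Algebra.IsIntegral.comap_surjective B (integralClosure A (FractionRing B)) q
  set p' := comap (algebraMap (integralClosure A (FractionRing A))
      (integralClosure A (FractionRing B))) q' with hp'
  have hp'p : comap (algebraMap A (integralClosure A (FractionRing A))) p' =
      comap (algebraMap A B) q := by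
    rw [hp', comap_comp_eq, ← hq', comap_comp_eq]
  have hW' : comap (algebraMap B (integralClosure A (FractionRing B))) ⁻¹' W ∈ nhds q' := by
    apply (continuous_comap (algebraMap B (integralClosure A (FractionRing B)))).continuousAt
    rw [hq']; exact hW
  have hN' := hopen.image_mem_nhds hW'
  obtain ⟨O', hO'sub, hO'open, hp'O'⟩ := mem_nhds_iff.mp hN'
  have hclosed : IsClosed (comap (algebraMap A (integralClosure A (FractionRing A))) '' O'ᶜ) :=
    isClosedMap_comap_of_isIntegral _ (algebraMap_isIntegral_iff.mpr inferInstance) _
      hO'open.isClosed_compl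
  have hpF : comap (algebraMap A B) q ∉
      comap (algebraMap A (integralClosure A (FractionRing A))) '' O'ᶜ := by
    rintro ⟨r, hr, hrp⟩
    have : r = p' := H1 r p' hrp hp'p
    exact hr (this ▸ hp'O')
  refine Filter.mem_of_superset (hclosed.isOpen_compl.mem_nhds hpF) ?_
  intro y hy
  obtain ⟨r, hr⟩ := Algebra.IsIntegral.comap_surjective A (integralClosure A (FractionRing A)) y
  have hrO' : r ∈ O' := by
    by_contra hcon
    exact hy ⟨r, hcon, hr⟩
  obtain ⟨t, ht, htr⟩ := hO'sub hrO'
  refine ⟨comap (algebraMap B (integralClosure A (FractionRing B))) t, ht, ?_⟩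
  rw [comap_comp_eq, ← hr, ← htr, comap_comp_eq]

end Groth.Agent.Lib.Helper87.UnibranchOpenRing
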