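import Mathlib
import Groth.Agent.Lib.Helper87.UnibranchOpenRing
import Groth.Agent.Lib.Helper87.UnibranchBridge

set_option autoImplicit false
set_option linter.style.haveILetI false
universe u
open IsLocalRing PrimeSpectrum

namespace Groth.Agent.Lib.Helper87.UnibranchOpenGeneral

open Groth.Agent.Lib.Helper87

/-- The spectrum map of a surjection with nilpotent kernel is an open map. -/
theorem isOpenMap_comap_of_surjective_of_ker_le {R S : Type*} [CommRing R] [CommRing S]
    (π : R →+* S) (hπ : Function.Surjective π) (hker : RingHom.ker π ≤ nilradical R) :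
    IsOpenMap (comap π) := by
  have hemb := isClosedEmbedding_comap_of_surjective S π hπ
  have hsurj : Function.Surjective (comap π) := by
    intro P
    have : P ∈ Set.range (comap π) := by
      rw [range_comap_of_surjective _ _ hπ, mem_zeroLocus]
      exact fun x hx => nilradical_le_prime P.asIdeal (hker hx)
    exact this
  exact (hemb.isEmbedding.toHomeomorphOfSurjective hsurj).isOpenMap

/-- Part (i): integral extension of domains over a unibranch point. -/
theorem isOpenAt_comap_of_isUnibranch_domain (A B : Type u) [CommRing A] [IsDomain A]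
    [CommRing B] [IsDomain B] [Algebra A B] (hinj : Function.Injective (algebraMap A B))
    [Algebra.IsIntegral A B] (q : PrimeSpectrum B)
    (hU : CAlg2.IsUnibranch (Localization.AtPrime (q.asIdeal.comap (algebraMap A B)))) :
    ∀ W ∈ nhds q, comap (algebraMap A B) '' W ∈ nhds (comap (algebraMap A B) q) := by
  haveI : FaithfulSMul A B := (faithfulSMul_iff_algebraMap_injective A B).mpr hinj
  apply UnibranchOpenRing.isOpenAt_comap_of_unique A B q
  intro P₁ P₂ h1 h2
  apply PrimeSpectrum.ext
  have hker : RingHom.ker (RingHom.id A) = nilradical A := by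
    rw [nilradical_eq_zero]
    exact (RingHom.injective_iff_ker_eq_bot _).mp Function.injective_id
  exact UnibranchBridge.unique_prime_of_isUnibranch A A (RingHom.id A) Function.surjective_id
    hker _ hU P₁.asIdeal P₂.asIdeal (congrArg PrimeSpectrum.asIdeal h1)
    (congrArg PrimeSpectrum.asIdeal h2)


/-- General form: integral extension with irreducible spectra, dominant, over a unibranch
point. -/
theorem isOpenAt_comap_of_isUnibranch (A S : Type u) [CommRing A] [CommRing S] [Algebra A S]
    [Algebra.IsIntegral A S] (hS : (nilradical S).IsPrime)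
    (hAS : (nilradical S).comap (algebraMap A S) = nilradical A) (q : PrimeSpectrum S)
    (hU : CAlg2.IsUnibranch (Localization.AtPrime (q.asIdeal.comap (algebraMap A S)))) :
    ∀ W ∈ nhds q, comap (algebraMap A S) '' W ∈ nhds (comap (algebraMap A S) q) := by
  intro W hW
  haveI := hS
  haveI : ((nilradical S).comap (algebraMap A S)).IsPrime := Ideal.comap_isPrime _ _
  let π : A →+* A ⧸ (nilradical S).comap (algebraMap A S) := Ideal.Quotient.mk _
  let σ : S →+* S ⧸ nilradical S := Ideal.Quotient.mk _
  have hπ : Function.Surjective π := Ideal.Quotient.mk_surjective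
  have hσ : Function.Surjective σ := Ideal.Quotient.mk_surjective
  have hkerπ : RingHom.ker π = nilradical A := by rw [Ideal.mk_ker, hAS]
  have hkerσ : RingHom.ker σ = nilradical S := Ideal.mk_ker
  have hsq : (algebraMap (A ⧸ (nilradical S).comap (algebraMap A S)) (S ⧸ nilradical S)).comp π =
      σ.comp (algebraMap A S) := rfl
  have hinj : Function.Injective
      (algebraMap (A ⧸ (nilradical S).comap (algebraMap A S)) (S ⧸ nilradical S)) :=
    Ideal.algebraMap_quotient_injective
  -- the point of the reduction over `q`
  obtain ⟨q₁, hq₁⟩ : ∃ q₁ : PrimeSpectrum (S ⧸ nilradical S), comap σ q₁ = q := by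
    have : q ∈ Set.range (comap σ) := by
      rw [range_comap_of_surjective _ _ hσ, mem_zeroLocus, hkerσ]
      exact fun x hx => nilradical_le_prime q.asIdeal hx
    exact this
  have hcomm : ∀ P : PrimeSpectrum (S ⧸ nilradical S),
      comap (algebraMap A S) (comap σ P) = comap π (comap (algebraMap _ _) P) := by
    intro P
    apply PrimeSpectrum.ext
    change Ideal.comap (algebraMap A S) (Ideal.comap σ P.asIdeal) =
      Ideal.comap π (Ideal.comap (algebraMap _ _) P.asIdeal)
    rw [Ideal.comap_comap, Ideal.comap_comap, hsq]
  have hU₁ : CAlg2.IsUnibranch (Localization.AtPrime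
      ((comap (algebraMap (A ⧸ (nilradical S).comap (algebraMap A S)) (S ⧸ nilradical S))
        q₁).asIdeal.comap π)) := by
    have h1 : (comap (algebraMap (A ⧸ (nilradical S).comap (algebraMap A S)) (S ⧸ nilradical S))
        q₁).asIdeal.comap π = q.asIdeal.comap (algebraMap A S) := by
      have := congrArg PrimeSpectrum.asIdeal (hcomm q₁)
      rw [hq₁] at this
      exact this.symm
    have key : ∀ (I J : Ideal A) [I.IsPrime] [J.IsPrime], I = J →
        CAlg2.IsUnibranch (Localization.AtPrime J) → CAlg2.IsUnibranch (Localization.AtPrime I) := by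
      intro I J _ _ h hJ
      subst h
      exact hJ
    exact key _ _ h1 hU
  haveI : FaithfulSMul (A ⧸ (nilradical S).comap (algebraMap A S)) (S ⧸ nilradical S) :=
    (faithfulSMul_iff_algebraMap_injective _ _).mpr hinj
  have hopen₁ := UnibranchOpenRing.isOpenAt_comap_of_unique
    (A ⧸ (nilradical S).comap (algebraMap A S)) (S ⧸ nilradical S) q₁ (by
      intro P₁ P₂ h1 h2
      apply PrimeSpectrum.ext
      exact UnibranchBridge.unique_prime_of_isUnibranch A _ π hπ hkerπ _ hU₁ P₁.asIdeal P₂.asIdeal
        (congrArg (fun P : PrimeSpectrum _ => P.asIdeal.comap π) h1)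
        (congrArg (fun P : PrimeSpectrum _ => P.asIdeal.comap π) h2))
  -- transfer along the homeomorphisms
  have hW₁ : comap σ ⁻¹' W ∈ nhds q₁ := by
    apply (continuous_comap σ).continuousAt
    rw [hq₁]; exact hW
  have h2 := hopen₁ _ hW₁
  have h3 := (isOpenMap_comap_of_surjective_of_ker_le π hπ hkerπ.le).image_mem_nhds h2
  rw [← hcomm q₁, hq₁] at h3
  refine Filter.mem_of_superset h3 ?_
  rintro _ ⟨_, ⟨P, hP, rfl⟩, rfl⟩
  exact ⟨comap σ P, hP, hcomm P⟩


/-- If `S' → B` becomes an isomorphism after inverting `r`, then the spectrum map sends open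
subsets of `D(r)` to open sets. -/
theorem isOpen_image_of_awayMap_bijective {S' B : Type u} [CommRing S'] [CommRing B]
    (ι : S' →+* B) (r : S') (hbij : Function.Bijective (Localization.awayMap ι r))
    (O : Set (PrimeSpectrum B)) (hO : IsOpen O) (hOr : O ⊆ (basicOpen (ι r) : Set _)) :
    IsOpen (comap ι '' O) := by
  let am := Localization.awayMap ι r
  have hamopen : IsOpenMap (comap am) := by
    apply isOpenMap_comap_of_surjective_of_ker_le am hbij.2
    rw [(RingHom.injective_iff_ker_eq_bot am).mp hbij.1]
    exact bot_le
  have hjB := localization_away_isOpenEmbedding (Localization.Away (ι r)) (ι r)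
  have hjS := localization_away_isOpenEmbedding (Localization.Away r) r
  have hrange := localization_away_comap_range (Localization.Away (ι r)) (ι r)
  have hcompat : ∀ P : PrimeSpectrum (Localization.Away (ι r)),
      comap ι (comap (algebraMap B (Localization.Away (ι r))) P) =
        comap (algebraMap S' (Localization.Away r)) (comap am P) := by
    intro P
    apply PrimeSpectrum.ext
    change Ideal.comap ι (Ideal.comap (algebraMap B _) P.asIdeal) =
      Ideal.comap (algebraMap S' _) (Ideal.comap am P.asIdeal)
    rw [Ideal.comap_comap, Ideal.comap_comap]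
    congr 1
    exact (IsLocalization.map_comp _).symm
  have hOeq : comap ι '' O = comap (algebraMap S' (Localization.Away r)) ''
      (comap am '' (comap (algebraMap B (Localization.Away (ι r))) ⁻¹' O)) := by
    ext Q
    constructor
    · rintro ⟨P, hP, rfl⟩
      obtain ⟨P', rfl⟩ : P ∈ Set.range (comap (algebraMap B (Localization.Away (ι r)))) := by
        rw [hrange]; exact hOr hP
      exact ⟨comap am P', ⟨P', hP, rfl⟩, (hcompat P').symm⟩
    · rintro ⟨_, ⟨P', hP', rfl⟩, rfl⟩
      exact ⟨_, hP', hcompat P'⟩
  rw [hOeq]
  apply hjS.isOpenMap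
  apply hamopen
  exact hO.preimage (continuous_comap _)


/-- Finite type algebra, quasi-finite at a prime lying over a unibranch point, irreducible
spectra, dominant: the spectrum map is open at that prime. -/
theorem isOpenAt_comap_of_quasiFiniteAt (A B : Type u) [CommRing A] [CommRing B] [Algebra A B]
    [Algebra.FiniteType A B] (hB : (nilradical B).IsPrime)
    (hAB : (nilradical B).comap (algebraMap A B) = nilradical A) (q : PrimeSpectrum B)
    [Algebra.QuasiFiniteAt A q.asIdeal]
    (hU : CAlg2.IsUnibranch (Localization.AtPrime (q.asIdeal.comap (algebraMap A B)))) :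
    ∀ W ∈ nhds q, comap (algebraMap A B) '' W ∈ nhds (comap (algebraMap A B) q) := by
  intro W hW
  obtain ⟨r, hrq, hbij⟩ := Algebra.ZariskisMainProperty.of_finiteType (R := A) q.asIdeal
  -- notation
  have hinjι : Function.Injective (algebraMap (integralClosure A B) B) := Subtype.val_injective
  have hnil : nilradical (integralClosure A B) =
      (nilradical B).comap (algebraMap (integralClosure A B) B) := by
    ext x
    rw [Ideal.mem_comap, mem_nilradical, mem_nilradical]
    constructor
    · intro hx; exact hx.map _
    · rintro ⟨n, hn⟩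
      refine ⟨n, hinjι ?_⟩
      rw [map_pow, hn, map_zero]
  have hS : (nilradical (integralClosure A B)).IsPrime := by
    rw [hnil]
    haveI := hB
    exact Ideal.comap_isPrime _ _
  have hAS : (nilradical (integralClosure A B)).comap (algebraMap A (integralClosure A B)) =
      nilradical A := by
    rw [hnil, Ideal.comap_comap, ← IsScalarTower.algebraMap_eq, hAB]
  let q' : PrimeSpectrum (integralClosure A B) := comap (algebraMap (integralClosure A B) B) q
  have hq'p : comap (algebraMap A (integralClosure A B)) q' = comap (algebraMap A B) q :=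
    UnibranchOpenRing.comap_comp_eq q
  have hU' : CAlg2.IsUnibranch (Localization.AtPrime
      (q'.asIdeal.comap (algebraMap A (integralClosure A B)))) := by
    have h1 : q'.asIdeal.comap (algebraMap A (integralClosure A B)) =
        q.asIdeal.comap (algebraMap A B) := congrArg PrimeSpectrum.asIdeal hq'p
    have key : ∀ (I J : Ideal A) [I.IsPrime] [J.IsPrime], I = J →
        CAlg2.IsUnibranch (Localization.AtPrime J) → CAlg2.IsUnibranch (Localization.AtPrime I) := by
      intro I J _ _ h hJ
      subst h
      exact hJ
    exact key _ _ h1 hU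
  have hopenS := isOpenAt_comap_of_isUnibranch A (integralClosure A B) hS hAS q' hU'
  -- shrink `W`
  have hqr : q ∈ (basicOpen (algebraMap (integralClosure A B) B r) : Set (PrimeSpectrum B)) := hrq
  obtain ⟨O, hOW, hOopen, hqO⟩ := mem_nhds_iff.mp
    (Filter.inter_mem hW ((basicOpen (algebraMap (integralClosure A B) B r)).isOpen.mem_nhds hqr))
  have hOimg : IsOpen (comap (algebraMap (integralClosure A B) B) '' O) :=
    isOpen_image_of_awayMap_bijective (algebraMap (integralClosure A B) B) r hbij O hOopen
      (fun P hP => (hOW hP).2)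
  have h1 : comap (algebraMap (integralClosure A B) B) '' O ∈ nhds q' :=
    hOimg.mem_nhds ⟨q, hqO, rfl⟩
  have h2 := hopenS _ h1
  rw [hq'p] at h2
  refine Filter.mem_of_superset h2 ?_
  rintro _ ⟨_, ⟨P, hP, rfl⟩, rfl⟩
  exact ⟨P, (hOW hP).1, (UnibranchOpenRing.comap_comp_eq P).symm⟩

end Groth.Agent.Lib.Helper87.UnibranchOpenGeneral
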