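import Mathlib
import Groth.Prelude.Def_Hensel
import Groth.Agent.Lib.Helper87.HensStrictProps

set_option autoImplicit false
universe u

/-!
# Flat modules over ind-unramified algebras (helper87)

A module over a (filtered union of) unramified algebra(s) `S` over `R` which is flat over `R`
is flat over `S`.  Applies to henselizations and strict henselizations.
-/

namespace Groth.Agent.Lib.Helper87.FlatModule

open TensorProduct Groth.Agent.Lib.Helper87.Hens

section Unram

variable {R A M : Type*} [CommRing R] [CommRing A] [Algebra R A]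
  [AddCommGroup M] [Module R M] [Module A M] [IsScalarTower R A M]

/-- `a ⊗ b ↦ a ⊗ b • m`. -/
noncomputable def psi (m : M) : A ⊗[R] A →ₗ[R] A ⊗[R] M :=
  LinearMap.lTensor A ((LinearMap.toSpanSingleton A M m).restrictScalars R)

omit [IsScalarTower R A M] in
@[simp] lemma psi_tmul [IsScalarTower R A M] (m : M) (a b : A) :
    psi (R := R) m (a ⊗ₜ b) = a ⊗ₜ (b • m) := by
  simp [psi]

lemma psi_add (m m' : M) (x : A ⊗[R] A) :
    psi (R := R) (m + m') x = psi (R := R) m x + psi (R := R) m' x := by
  induction x with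
  | zero => simp
  | tmul a b => simp [smul_add, tmul_add]
  | add x y hx hy => simp only [map_add, hx, hy]; abel

lemma psi_smul (a : A) (m : M) (x : A ⊗[R] A) :
    psi (R := R) (a • m) x = psi (R := R) m (x * ((1 : A) ⊗ₜ[R] a)) := by
  induction x with
  | zero => simp
  | tmul b c => simp [mul_smul]
  | add x y hx hy => simp only [map_add, hx, hy, add_mul]

lemma smul_psi (a : A) (m : M) (x : A ⊗[R] A) :
    a • psi (R := R) m x = psi (R := R) m ((a ⊗ₜ[R] (1 : A)) * x) := by
  induction x with
  | zero => simp
  | tmul b c => simp [TensorProduct.smul_tmul']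
  | add x y hx hy => simp only [map_add, hx, hy, mul_add, smul_add]

lemma lift_psi (m : M) (x : A ⊗[R] A) :
    (LinearMap.id (R := R) (M := M)).liftBaseChange A (psi (R := R) m x) =
      (Algebra.TensorProduct.lmul' R x) • m := by
  induction x with
  | zero => simp
  | tmul b c => simp [mul_smul]
  | add x y hx hy => simp only [map_add, hx, hy, add_smul]

/-- a module over an unramified algebra `A` which is flat over the base is flat over `A`:
it is an `A`-linear retract of `A ⊗ M`. -/
theorem flat_of_unramified [Algebra.EssFiniteType R A] [Algebra.FormallyUnramified R A]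
    [Module.Flat R M] : Module.Flat A M := by
  obtain ⟨e₀, he₀, hsp⟩ : ∃ e, IsIdempotentElem e ∧
      KaehlerDifferential.ideal R A = Ideal.span {e} :=
    (Ideal.isIdempotentElem_iff_of_fg _ (KaehlerDifferential.ideal_fg R A)).mp <|
      (Ideal.cotangent_subsingleton_iff _).mp <| inferInstanceAs <| Subsingleton Ω[A⁄R]
  have hemem : e₀ ∈ KaehlerDifferential.ideal R A := by
    rw [hsp]
    exact Ideal.mem_span_singleton_self e₀
  have hμ : Algebra.TensorProduct.lmul' R e₀ = 0 := (RingHom.mem_ker).1 hemem
  have hkey : ∀ a : A, (1 - e₀) * ((1 : A) ⊗ₜ[R] a) = (a ⊗ₜ[R] (1 : A)) * (1 - e₀) := by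
    intro a
    have hmem : (1 : A) ⊗ₜ[R] a - a ⊗ₜ[R] (1 : A) ∈ Ideal.span {e₀} := by
      rw [← hsp]
      exact KaehlerDifferential.one_smul_sub_smul_one_mem_ideal R a
    obtain ⟨c, hc⟩ := Ideal.mem_span_singleton'.1 hmem
    have h0 : ((1 : A) ⊗ₜ[R] a - a ⊗ₜ[R] (1 : A)) * (1 - e₀) = 0 := by
      rw [← hc, mul_assoc, mul_sub, mul_one, he₀.eq, sub_self, mul_zero]
    have : (1 - e₀) * ((1 : A) ⊗ₜ[R] a) - (a ⊗ₜ[R] (1 : A)) * (1 - e₀) =
        ((1 : A) ⊗ₜ[R] a - a ⊗ₜ[R] (1 : A)) * (1 - e₀) := by ring
    rw [h0, sub_eq_zero] at this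
    exact this
  let i : M →ₗ[A] A ⊗[R] M :=
    { toFun := fun m => psi (R := R) m (1 - e₀)
      map_add' := fun m m' => psi_add m m' _
      map_smul' := fun a m => by
        simp only [RingHom.id_apply]
        rw [psi_smul, smul_psi, hkey] }
  have hret : ((LinearMap.id (R := R) (M := M)).liftBaseChange A) ∘ₗ i = LinearMap.id := by
    ext m
    show (LinearMap.id (R := R) (M := M)).liftBaseChange A (psi (R := R) m (1 - e₀)) = m
    rw [lift_psi, map_sub, map_one, hμ, sub_zero, one_smul]
  exact Module.Flat.of_retract i _ hret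

end Unram

section LocUnram

variable (R : Type u) [CommRing R] (S : Type u) [CommRing S] [Algebra R S]

/-- every finite subset of `S` lies in the image of an essentially finite type unramified
`R`-algebra. -/
def LocUnram : Prop :=
  ∀ F : Finset S, ∃ (L : Type u) (_ : CommRing L) (_ : Algebra R L)
    (_ : Algebra.EssFiniteType R L) (_ : Algebra.FormallyUnramified R L) (φ : L →ₐ[R] S),
    ∀ s ∈ F, s ∈ Set.range φ

variable {R S}

theorem LocUnram.of_algEquiv {S' : Type u} [CommRing S'] [Algebra R S'] (e : S ≃ₐ[R] S')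
    (h : LocUnram R S) : LocUnram R S' := by
  classical
  intro F
  obtain ⟨L, _, _, _, _, φ, hφ⟩ := h (F.image e.symm)
  refine ⟨L, inferInstance, inferInstance, inferInstance, inferInstance,
    e.toAlgHom.comp φ, ?_⟩
  intro s hs
  obtain ⟨y, hy⟩ := hφ (e.symm s) (Finset.mem_image_of_mem _ hs)
  exact ⟨y, by simp [hy]⟩

theorem LocUnram.flat (h : LocUnram R S) (M : Type*) [AddCommGroup M] [Module R M] [Module S M]
    [IsScalarTower R S M] [Module.Flat R M] : Module.Flat S M := by
  classical
  apply Module.Flat.of_forall_isTrivialRelation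
  intro l f x hx
  obtain ⟨L, _, _, _, _, φ, hφ⟩ := h (Finset.univ.image f)
  choose f' hf' using fun t : Fin l => hφ (f t) (Finset.mem_image_of_mem _ (Finset.mem_univ _))
  letI : Module L M := Module.compHom M φ.toRingHom
  have hsmul : ∀ (z : L) (y : M), z • y = φ z • y := fun z y => rfl
  haveI : IsScalarTower R L M := ⟨fun r z y => by
    rw [hsmul, hsmul, map_smul, smul_assoc]⟩
  haveI : Module.Flat L M := flat_of_unramified (R := R)
  have hx' : ∑ t, f' t • x t = 0 := by
    rw [← hx]
    apply Finset.sum_congr rfl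
    intro t _
    rw [hsmul, hf']
  obtain ⟨κ, a, y, hy1, hy2⟩ := Module.Flat.isTrivialRelation_of_sum_smul_eq_zero
    (R := L) (M := M) (f := f') (x := x) hx'
  refine ⟨κ, fun t j => φ (a t j), y, ?_, ?_⟩
  · intro t
    rw [hy1 t]
    apply Finset.sum_congr rfl
    intro j _
    rw [hsmul]
  · intro j
    have := congrArg φ (hy2 j)
    rw [map_sum, map_zero] at this
    rw [← this]
    apply Finset.sum_congr rfl
    intro t _
    rw [map_mul, hf']

end LocUnram

section Hens

variable {R : Type u} [CommRing R] {Ω : Type u} [Field Ω] [Algebra R Ω]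

theorem H.locUnram : LocUnram R (H R Ω) := by
  intro F
  obtain ⟨i, hi⟩ := H.exists_of_finset F
  exact ⟨i.L, inferInstance, inferInstance, inferInstance, inferInstance, H.of i, hi⟩

end Hens

section Abstract

variable (R : Type u) [CommRing R] [IsLocalRing R]
variable (S : Type u) [CommRing S] [IsLocalRing S] [Algebra R S] [IsLocalHom (algebraMap R S)]

theorem locUnram_of_isHenselization [Hensel.IsHenselization R S] : LocUnram R S := by
  obtain ⟨e⟩ := nonempty_algEquiv_Hh R S
  exact (H.locUnram (R := R) (Ω := IsLocalRing.ResidueField R)).of_algEquiv e.symm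

theorem locUnram_of_isStrictHenselization [Hensel.IsStrictHenselization R S] : LocUnram R S := by
  obtain ⟨e⟩ := nonempty_algEquiv_Hsh R S
  exact (H.locUnram (R := R)).of_algEquiv e.symm

end Abstract

end Groth.Agent.Lib.Helper87.FlatModule
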