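import Mathlib
import Groth.Agent.Lib.Helper87.IndEtale
import Groth.Agent.Lib.Helper87.FlatModule
import Groth.Agent.Lib.Helper87.BranchSum

set_option autoImplicit false
set_option linter.style.haveILetI false
universe u

/-!
# Minimal primes of an ind-étale local algebra come from an étale stage (helper87)

* `encard_minimalPrimes_le_of_faithfullyFlat`: a faithfully flat extension has at least as many
  minimal primes.
* `exists_etale_of_finset`: finitely many elements of an algebra covered by étale algebras come
  from one étale algebra.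
* `exists_etale_encard_le`: for a flat local `R`-algebra `B` covered by étale `R`-algebras and
  `n` at most the number of minimal primes of `B`, there is an étale `R`-algebra `S` with a map
  to `B` such that the localization of `S` at the contraction of the maximal ideal has at least
  `n` minimal primes.
-/

open IsLocalRing TensorProduct

namespace Groth.Agent.Lib.Helper87.BranchEtaleRing

theorem encard_minimalPrimes_le_of_faithfullyFlat (A S : Type*) [CommRing A] [CommRing S]
    [Algebra A S] [Module.FaithfullyFlat A S] :
    (minimalPrimes A).encard ≤ (minimalPrimes S).encard := by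
  have key : ∀ P : minimalPrimes A, ∃ Q : minimalPrimes S,
      Q.1.comap (algebraMap A S) = P.1 := by
    rintro ⟨P, hP⟩
    haveI : P.IsPrime := hP.1.1
    obtain ⟨Q', hQ'prime, hQ'over⟩ := Ideal.exists_isPrime_liesOver_of_faithfullyFlat (B := S) P
    obtain ⟨Q, hQ, hQle⟩ := Ideal.exists_minimalPrimes_le (I := ⊥) (J := Q') bot_le
    refine ⟨⟨Q, hQ⟩, ?_⟩
    haveI : Q.IsPrime := hQ.1.1
    have hle : Q.comap (algebraMap A S) ≤ P := by
      rw [hQ'over.over]
      exact Ideal.comap_mono hQle
    exact le_antisymm hle (hP.2 ⟨Ideal.comap_isPrime _ _, bot_le⟩ hle)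
  choose F hF using key
  have hinj : Function.Injective F := by
    intro P P' h
    apply Subtype.ext
    rw [← hF P, ← hF P', h]
  exact Function.Embedding.encard_le ⟨F, hinj⟩

section Finset

variable {R : Type u} [CommRing R] {B : Type u} [CommRing B] [Algebra R B]

theorem exists_etale_of_finset (h1 : IndEt.CoveredByEtale R B) (s : Finset B) :
    ∃ (A : Type u) (_ : CommRing A) (_ : Algebra R A) (_ : Algebra.Etale R A)
      (f : A →ₐ[R] B), ∀ b ∈ s, b ∈ f.range := by
  classical
  induction s using Finset.induction_on with
  | empty => exact ⟨R, inferInstance, inferInstance, inferInstance, Algebra.ofId R B, by simp⟩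
  | insert a s _ ih =>
    obtain ⟨A₁, _, _, _, f₁, hf₁⟩ := ih
    obtain ⟨A₂, _, _, _, f₂, hf₂⟩ := h1 a
    have : Algebra.Etale R (A₁ ⊗[R] A₂) := Algebra.Etale.comp R A₁ _
    refine ⟨A₁ ⊗[R] A₂, inferInstance, inferInstance, inferInstance,
      Algebra.TensorProduct.productMap f₁ f₂, ?_⟩
    intro b hb
    rcases Finset.mem_insert.mp hb with rfl | hb
    · obtain ⟨y, hy⟩ := hf₂
      have hy' : f₂ y = b := hy
      exact ⟨1 ⊗ₜ y, by simp [hy']⟩
    · obtain ⟨y, hy⟩ := hf₁ b hb
      have hy' : f₁ y = b := hy
      exact ⟨y ⊗ₜ 1, by simp [hy']⟩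

end Finset

section Main

variable {R : Type u} [CommRing R] {B : Type u} [CommRing B] [Algebra R B] [IsLocalRing B]
  [Module.Flat R B]

theorem exists_etale_encard_le (h1 : IndEt.CoveredByEtale R B) (n : ℕ)
    (hn : (n : ℕ∞) ≤ (minimalPrimes B).encard) :
    ∃ (S : Type u) (_ : CommRing S) (_ : Algebra R S) (_ : Algebra.Etale R S) (f : S →ₐ[R] B),
      ∀ (T : Type u) [CommRing T] [Algebra S T]
        [IsLocalization.AtPrime T ((maximalIdeal B).comap f.toRingHom)],
        (n : ℕ∞) ≤ (minimalPrimes T).encard := by
  classical
  obtain ⟨t, htsub, htcard⟩ := Set.exists_subset_encard_eq hn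
  have htfin : t.Finite := Set.finite_of_encard_eq_coe htcard
  have hsep : ∀ P ∈ t, ∀ P' ∈ t, P ≠ P' → ∃ a : B, a ∈ P ∧ a ∉ P' := by
    intro P hP P' hP' hne
    by_contra hcon
    push_neg at hcon
    have hle : P ≤ P' := fun a ha => hcon a ha
    have hP'min := htsub hP'
    have hPmin := htsub hP
    exact hne (le_antisymm hle (hP'min.2 hPmin.1 hle))
  choose! a ha using hsep
  let F : Finset B := (htfin.toFinset ×ˢ htfin.toFinset).image (fun PP => a PP.1 PP.2)
  obtain ⟨S, _, _, _, f, hf⟩ := exists_etale_of_finset h1 F
  refine ⟨S, inferInstance, inferInstance, inferInstance, f, ?_⟩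
  intro T _ _ _
  set q : Ideal S := (maximalIdeal B).comap f.toRingHom with hq
  have hunits : ∀ y : q.primeCompl, IsUnit (f.toRingHom y) := by
    intro y
    have : f.toRingHom y ∉ maximalIdeal B := y.2
    rwa [mem_maximalIdeal, mem_nonunits_iff, not_not] at this
  let f' : T →+* B := IsLocalization.lift hunits
  have hf' : ∀ s : S, f' (algebraMap S T s) = f s := fun s => IsLocalization.lift_eq hunits s
  letI : Algebra R T := ((algebraMap S T).comp (algebraMap R S)).toAlgebra
  haveI : IsScalarTower R S T := IsScalarTower.of_algebraMap_eq' rfl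
  letI : Algebra T B := f'.toAlgebra
  haveI : IsScalarTower R T B := by
    refine IsScalarTower.of_algebraMap_eq fun r => ?_
    show algebraMap R B r = f' (algebraMap S T (algebraMap R S r))
    rw [hf', AlgHom.commutes]
  haveI : Algebra.EssFiniteType S T := Algebra.EssFiniteType.of_isLocalization T q.primeCompl
  haveI : Algebra.EssFiniteType R T := Algebra.EssFiniteType.comp R S T
  haveI : Algebra.FormallyUnramified S T := Algebra.FormallyUnramified.of_isLocalization q.primeCompl
  haveI : Algebra.FormallyUnramified R T := Algebra.FormallyUnramified.comp R S T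
  haveI : Module.Flat T B := FlatModule.flat_of_unramified (R := R) (A := T) (M := B)
  have hmaps : Set.MapsTo (fun P : Ideal B => P.comap (algebraMap T B)) t (minimalPrimes T) := by
    intro P hP
    exact BranchSum.comap_mem_minimalPrimes T B (htsub hP)
  have hinj : Set.InjOn (fun P : Ideal B => P.comap (algebraMap T B)) t := by
    intro P hP P' hP' heq
    by_contra hne
    obtain ⟨ha1, ha2⟩ := ha P hP P' hP' hne
    have hmemF : a P P' ∈ F := by
      refine Finset.mem_image.mpr ⟨(P, P'), ?_, rfl⟩
      rw [Finset.mem_product]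
      exact ⟨htfin.mem_toFinset.mpr hP, htfin.mem_toFinset.mpr hP'⟩
    obtain ⟨s, hs⟩ := hf _ hmemF
    have h1 : algebraMap S T s ∈ P.comap (algebraMap T B) := by
      rw [Ideal.mem_comap]
      show f' (algebraMap S T s) ∈ P
      rw [hf']
      have : f s = a P P' := hs
      rw [this]
      exact ha1
    have h2 : algebraMap S T s ∉ P'.comap (algebraMap T B) := by
      rw [Ideal.mem_comap]
      show f' (algebraMap S T s) ∉ P'
      rw [hf']
      have : f s = a P P' := hs
      rw [this]
      exact ha2
    apply h2
    have heq' : P.comap (algebraMap T B) = P'.comap (algebraMap T B) := heq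
    rw [← heq']
    exact h1
  rw [← htcard]
  exact Set.encard_le_encard_of_injOn hmaps hinj

end Main

end Groth.Agent.Lib.Helper87.BranchEtaleRing
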