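import Mathlib

set_option autoImplicit false
set_option linter.style.haveILetI false
universe u

/-!
# Irreducible components through a point and minimal primes of the stalk (helper87)

* `encard_irreducibleComponents_of_embedding`: topological form. `ι : S → X` an embedding into a
  quasi-sober space whose range is the set of generizations of `x`: the irreducible components of
  `X` through `x` are equinumerous with the irreducible components of `S`.
* `encard_irreducibleComponents_mem_eq`: for a scheme `X` and a point `x`, the number of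
  irreducible components of `X` through `x` is the number of minimal primes of the stalk.
-/

open AlgebraicGeometry Topology

namespace Groth.Agent.Lib.Helper87.CompStalk

section Top

variable {S X : Type*} [TopologicalSpace S] [TopologicalSpace X] [QuasiSober X]
  (ι : S → X) (hι : IsEmbedding ι) (x : X) (hrange : Set.range ι = {y | y ⤳ x})

include hι hrange

theorem closure_image_mem (W : Set S) (hW : W ∈ irreducibleComponents S) :
    closure (ι '' W) ∈ irreducibleComponents X ∧ x ∈ closure (ι '' W) := by
  have hWc : IsClosed W := isClosed_of_mem_irreducibleComponents W hW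
  have hirr : IsIrreducible (closure (ι '' W)) :=
    (hW.1.image ι hι.continuous.continuousOn).closure
  refine ⟨⟨hirr, ?_⟩, ?_⟩
  · intro Z' hZ' hle
    have hZ'c : IsIrreducible (closure Z') := hZ'.closure
    set ξ' := hZ'c.genericPoint with hξ'
    have hgen : IsGenericPoint ξ' (closure Z') := hZ'c.isGenericPoint_genericPoint isClosed_closure
    obtain ⟨w, hw⟩ := hW.1.1
    have hwx : ι w ⤳ x := by
      have : ι w ∈ Set.range ι := ⟨w, rfl⟩
      rw [hrange] at this
      exact this
    have hxZ' : x ∈ closure Z' := by
      have h1 : ι w ∈ closure Z' := subset_closure (hle (subset_closure ⟨w, hw, rfl⟩))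
      exact hwx.mem_closed isClosed_closure h1
    have hξx : ξ' ⤳ x := by
      rw [specializes_iff_mem_closure, hgen.def]
      exact hxZ'
    obtain ⟨s', hs'⟩ : ξ' ∈ Set.range ι := by rw [hrange]; exact hξx
    have hWsub : W ⊆ closure {s'} := by
      intro w' hw'
      have h1 : ι w' ∈ closure Z' := subset_closure (hle (subset_closure ⟨w', hw', rfl⟩))
      have h2 : ξ' ⤳ ι w' := by
        rw [specializes_iff_mem_closure, hgen.def]
        exact h1
      rw [← hs', hι.isInducing.specializes_iff] at h2
      exact specializes_iff_mem_closure.mp h2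
    have hs'W : closure {s'} ⊆ W := hW.2 isIrreducible_singleton.closure hWsub
    have hs'mem : s' ∈ W := hs'W (subset_closure rfl)
    have h3 : ξ' ∈ closure (ι '' W) := subset_closure ⟨s', hs'mem, hs'⟩
    calc Z' ⊆ closure Z' := subset_closure
      _ = closure {ξ'} := hgen.def.symm
      _ ⊆ closure (ι '' W) := closure_minimal (Set.singleton_subset_iff.mpr h3) isClosed_closure
  · obtain ⟨w, hw⟩ := hW.1.1
    have hwx : ι w ⤳ x := by
      have : ι w ∈ Set.range ι := ⟨w, rfl⟩
      rw [hrange] at this
      exact this
    exact hwx.mem_closed isClosed_closure (subset_closure ⟨w, hw, rfl⟩)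

theorem exists_of_mem (Z : Set X) (hZ : Z ∈ irreducibleComponents X) (hx : x ∈ Z) :
    ∃ W ∈ irreducibleComponents S, closure (ι '' W) = Z := by
  have hZc : IsClosed Z := isClosed_of_mem_irreducibleComponents Z hZ
  set ξ := hZ.1.genericPoint with hξ
  have hgen : IsGenericPoint ξ Z := hZ.1.isGenericPoint_genericPoint hZc
  have hξx : ξ ⤳ x := by
    rw [specializes_iff_mem_closure, hgen.def]
    exact hx
  obtain ⟨s, hs⟩ : ξ ∈ Set.range ι := by rw [hrange]; exact hξx
  have himg : closure (ι '' closure {s}) = Z := by
    apply le_antisymm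
    · refine closure_minimal ?_ hZc
      rintro _ ⟨w, hw, rfl⟩
      have h1 : s ⤳ w := specializes_iff_mem_closure.mpr hw
      have h2 : ι s ⤳ ι w := hι.isInducing.specializes_iff.mpr h1
      rw [hs] at h2
      rw [← hgen.def]
      exact specializes_iff_mem_closure.mp h2
    · rw [← hgen.def]
      refine closure_minimal (Set.singleton_subset_iff.mpr ?_) isClosed_closure
      exact subset_closure ⟨s, subset_closure rfl, hs⟩
  refine ⟨closure {s}, ⟨isIrreducible_singleton.closure, ?_⟩, himg⟩
  intro W' hW' hle
  have h1 : IsIrreducible (closure (ι '' W')) :=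
    (hW'.image ι hι.continuous.continuousOn).closure
  have h2 : Z ⊆ closure (ι '' W') := by
    rw [← himg]
    exact closure_mono (Set.image_mono hle)
  have h3 : closure (ι '' W') ⊆ Z := hZ.2 h1 h2
  intro w' hw'
  have h4 : ι w' ∈ Z := h3 (subset_closure ⟨w', hw', rfl⟩)
  have h5 : ξ ⤳ ι w' := by
    rw [specializes_iff_mem_closure, hgen.def]
    exact h4
  rw [← hs, hι.isInducing.specializes_iff] at h5
  exact specializes_iff_mem_closure.mp h5

theorem encard_irreducibleComponents_of_embedding :
    {Z : Set X | Z ∈ irreducibleComponents X ∧ x ∈ Z}.encard =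
      (irreducibleComponents S).encard := by
  have himg : (fun W : Set S => closure (ι '' W)) '' irreducibleComponents S =
      {Z : Set X | Z ∈ irreducibleComponents X ∧ x ∈ Z} := by
    ext Z
    constructor
    · rintro ⟨W, hW, rfl⟩
      exact closure_image_mem ι hι x hrange W hW
    · rintro ⟨hZ, hx⟩
      obtain ⟨W, hW, hWZ⟩ := exists_of_mem ι hι x hrange Z hZ hx
      exact ⟨W, hW, hWZ⟩
  rw [← himg]
  refine Set.InjOn.encard_image ?_
  intro W₁ hW₁ W₂ hW₂ h
  have h1 : ∀ W : Set S, IsClosed W → ι ⁻¹' closure (ι '' W) = W := by
    intro W hW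
    rw [← hι.isInducing.closure_eq_preimage_closure_image, hW.closure_eq]
  have hc₁ := isClosed_of_mem_irreducibleComponents W₁ hW₁
  have hc₂ := isClosed_of_mem_irreducibleComponents W₂ hW₂
  have h2 : ι ⁻¹' closure (ι '' W₁) = ι ⁻¹' closure (ι '' W₂) := by
    show ι ⁻¹' ((fun W : Set S => closure (ι '' W)) W₁) = _
    rw [h]
  rw [h1 W₁ hc₁, h1 W₂ hc₂] at h2
  exact h2

end Top

section Scheme

theorem encard_irreducibleComponents_mem_eq (X : Scheme.{u}) (x : X) :
    {Z : Set X | Z ∈ irreducibleComponents X ∧ x ∈ Z}.encard =
      (minimalPrimes (X.presheaf.stalk x)).encard := by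
  have h1 := encard_irreducibleComponents_of_embedding (X.fromSpecStalk x)
    (X.fromSpecStalk x).isEmbedding x Scheme.range_fromSpecStalk
  rw [h1]
  have e := minimalPrimes.equivIrreducibleComponents (X.presheaf.stalk x)
  exact (Set.encard_congr (e.toEquiv.trans OrderDual.ofDual)).symm

end Scheme

end Groth.Agent.Lib.Helper87.CompStalk
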