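import Mathlib
import Groth.Agent.Lib.Helper87.IndEtaleConv
import Groth.Agent.Lib.Helper9.HenselLocal

set_option autoImplicit false
universe u

/-!
# Maps from filtered colimits of étale algebras to henselian local rings
-/

namespace Groth.Agent.Lib.Helper87.IndEt

open CategoryTheory Limits IsLocalRing TensorProduct

attribute [local instance] underAlg

section Lift

variable {R : Type u} [CommRing R]
variable {T : Type u} [CommRing T] [HenselianLocalRing T] [Algebra R T]
variable {K : Type u} [Field K] [Algebra R K]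
variable (v : T →ₐ[R] K) (hv : Function.Surjective v)
  (hkv : RingHom.ker v.toRingHom = maximalIdeal T)

include hkv in
lemma residue_eq_iff (x y : T) : residue T x = residue T y ↔ v x = v y := by
  rw [← sub_eq_zero, ← map_sub, residue_eq_zero_iff, ← hkv, RingHom.mem_ker]
  show v (x - y) = 0 ↔ _
  rw [map_sub, sub_eq_zero]

include hkv in
/-- rigidity with respect to a residue map. -/
lemma algHom_ext_of_comp_eq {A : Type u} [CommRing A] [Algebra R A] [Algebra.Etale R A]
    (g₁ g₂ : A →ₐ[R] T) (h : v.comp g₁ = v.comp g₂) : g₁ = g₂ := by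
  apply Groth.Agent.Lib.Helper9.algHom_ext_of_residue_eq
  intro a
  rw [residue_eq_iff v hkv]
  exact DFunLike.congr_fun h a

include hv hkv in
/-- the residue field of `T` receives `K`. -/
lemma exists_residue_hom : ∃ τ : K →ₐ[R] ResidueField T, ∀ t, τ (v t) = residue T t := by
  have hk : RingHom.ker v = maximalIdeal T := hkv
  let e1 : (T ⧸ RingHom.ker v) ≃ₐ[R] K := Ideal.quotientKerAlgEquivOfSurjective hv
  let e2 : (T ⧸ RingHom.ker v) ≃ₐ[R] (T ⧸ maximalIdeal T) := Ideal.quotientEquivAlgOfEq R hk
  refine ⟨(e2.toAlgHom).comp e1.symm.toAlgHom, fun t => ?_⟩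
  have h1 : e1.symm (v t) = Ideal.Quotient.mk _ t := by
    rw [AlgEquiv.symm_apply_eq]
    rfl
  show e2 (e1.symm (v t)) = residue T t
  rw [h1]
  rfl

include hv hkv in
/-- étale algebras over `R` with a `K`-point map to `T`. -/
theorem exists_lift_etale {A : Type u} [CommRing A] [Algebra R A] [Algebra.Etale R A]
    (ψ : A →ₐ[R] K) : ∃ g : A →ₐ[R] T, v.comp g = ψ := by
  obtain ⟨τ, hτ⟩ := exists_residue_hom v hv hkv
  let Ψ : T ⊗[R] A →ₐ[T] ResidueField T :=
    Algebra.TensorProduct.lift (Algebra.ofId T (ResidueField T)) (τ.comp ψ)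
      (fun _ _ => Commute.all _ _)
  obtain ⟨t, ht⟩ := Groth.Agent.Lib.Helper9.exists_lift_of_etale (R := T) (R' := T ⊗[R] A) Ψ
  let g₀ : A →ₐ[R] T := (t.restrictScalars R).comp Algebra.TensorProduct.includeRight
  have hg₀ : ∀ a, residue T (g₀ a) = τ (ψ a) := fun a => by
    simp [g₀, ht, Ψ]
  refine ⟨g₀, ?_⟩
  ext a
  have hinj : Function.Injective τ := τ.toRingHom.injective
  apply hinj
  rw [AlgHom.comp_apply, hτ, hg₀]

end Lift

section LiftColimit

variable {R : Type u} [CommRing R] {S : Type u} [CommRing S] [Algebra R S]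
variable {T : Type u} [CommRing T] [HenselianLocalRing T] [Algebra R T]
variable {K : Type u} [Field K] [Algebra R K]

/-- uniqueness of maps from a filtered colimit of étale algebras to a local ring, compatible
with residue maps. -/
theorem HasPres.algHom_ext (hS : HasPres R S) (u : S →ₐ[R] K) (v : T →ₐ[R] K)
    (hkv : RingHom.ker v.toRingHom = maximalIdeal T) (φ₁ φ₂ : S →ₐ[R] T)
    (h₁ : v.comp φ₁ = u) (h₂ : v.comp φ₂ = u) : φ₁ = φ₂ := by
  have hcov := hS.coveredByEtale
  ext s
  obtain ⟨A, _, _, _, f, y, rfl⟩ := hcov s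
  have : φ₁.comp f = φ₂.comp f := by
    apply algHom_ext_of_comp_eq v hkv
    rw [← AlgHom.comp_assoc, ← AlgHom.comp_assoc, h₁, h₂]
  exact DFunLike.congr_fun this y

/-- existence of maps from a filtered colimit of étale algebras to a henselian local ring,
lifting a map to the residue field. -/
theorem HasPres.exists_lift (hS : HasPres R S) (u : S →ₐ[R] K) (v : T →ₐ[R] K)
    (hv : Function.Surjective v) (hkv : RingHom.ker v.toRingHom = maximalIdeal T) :
    ∃ φ : S →ₐ[R] T, v.comp φ = u := by
  obtain ⟨J, _, _, D, c, hc, hD, ⟨iso⟩⟩ := hS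
  let ι : ∀ j, (D.obj j).right →ₐ[R] S := fun j => algHomOfUnder (c.ι.app j ≫ iso.hom)
  have hι : ∀ j k (a : j ⟶ k), (ι k).comp (algHomOfUnderHom (D.map a)) = ι j := by
    intro j k a
    ext y
    show iso.hom.right.hom ((c.ι.app k).right.hom ((D.map a).right.hom y)) =
      iso.hom.right.hom ((c.ι.app j).right.hom y)
    have hw : (c.ι.app k).right.hom ((D.map a).right.hom y) = (c.ι.app j).right.hom y :=
      congrArg (fun t => t.right.hom y) (c.w a)
    rw [hw]
  have hex : ∀ j, ∃ g : (D.obj j).right →ₐ[R] T, v.comp g = u.comp (ι j) := fun j =>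
    haveI := hD j
    exists_lift_etale v hv hkv _
  choose g hg using hex
  have hnat : ∀ j k (a : j ⟶ k), (g k).comp (algHomOfUnderHom (D.map a)) = g j := by
    intro j k a
    haveI := hD j
    apply algHom_ext_of_comp_eq v hkv
    rw [← AlgHom.comp_assoc, hg, hg, AlgHom.comp_assoc, hι]
  let s : Cocone D :=
    { pt := Under.mk (CommRingCat.ofHom (algebraMap R T))
      ι :=
        { app := fun j => Under.homMk (CommRingCat.ofHom (g j).toRingHom) (by
            ext r
            exact (g j).commutes r)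
          naturality := fun j k a => by
            ext y
            exact DFunLike.congr_fun (hnat j k a) y } }
  let φ : S →ₐ[R] T :=
    { toRingHom := (iso.inv ≫ hc.desc s).right.hom
      commutes' := fun r => congrArg (fun t => t.hom r) (Under.w (iso.inv ≫ hc.desc s)) }
  have hφ : ∀ j y, φ (ι j y) = g j y := by
    intro j y
    show (hc.desc s).right.hom (iso.inv.right.hom (iso.hom.right.hom ((c.ι.app j).right.hom y))) =
      g j y
    rw [iso_inv_hom_apply]
    exact congrArg (fun t => t.right.hom y) (hc.fac s j)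
  refine ⟨φ, ?_⟩
  ext x
  obtain ⟨j, y, hy⟩ := exists_rep D c hc (iso.inv.right.hom x)
  have hx : x = ι j y := by
    show x = iso.hom.right.hom ((c.ι.app j).right.hom y)
    rw [hy, iso_hom_inv_apply]
  rw [hx, AlgHom.comp_apply, hφ]
  exact DFunLike.congr_fun (hg j) y

theorem HasPres.existsUnique_lift (hS : HasPres R S) (u : S →ₐ[R] K) (v : T →ₐ[R] K)
    (hv : Function.Surjective v) (hkv : RingHom.ker v.toRingHom = maximalIdeal T) :
    ∃! φ : S →ₐ[R] T, v.comp φ = u := by
  obtain ⟨φ, hφ⟩ := hS.exists_lift u v hv hkv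
  exact ⟨φ, hφ, fun ψ hψ => hS.algHom_ext u v hkv ψ φ hψ hφ⟩

end LiftColimit

end Groth.Agent.Lib.Helper87.IndEt
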