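import Mathlib
import Groth.Prelude.Def_Hensel
import Groth.Agent.Lib.Helper87.HensIndEtale
import Groth.Agent.Lib.Helper87.HensProps
import Groth.Agent.Lib.Helper87.IndEtaleHens

set_option autoImplicit false
universe u

/-!
# Henselization of the local ring at a prime of an arbitrary ring (helper87)

For a ring `R`, a prime `p` and a henselization `Rh` of `R_p`, we compare `Rh` with the
ind-étale construction `H R k` (`k` the residue field of `Rh`), built from étale `R`-algebras
(not `R_p`-algebras).  Consequences: every element of `Rh` comes from an étale `R`-algebra with a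
prime with trivial residue extension, and relations die in a further such algebra.
-/

namespace Groth.Agent.Lib.Helper87.HensPrime

open IsLocalRing Groth.Agent.Lib.Helper87.Hens Groth.Agent.Lib.Helper87

section Residue

variable {R : Type*} [CommRing R] {A : Type*} [CommRing A] [Algebra R A]
variable (p : Ideal R) [p.IsPrime] (q : Ideal A) [q.IsPrime] (hq : p = q.comap (algebraMap R A))

/-- fraction criterion for surjectivity of the residue field extension. -/
theorem residueField_map_bijective_of_forall
    (h : ∀ s : A, ∃ a t : R, t ∉ p ∧ s * algebraMap R A t - algebraMap R A a ∈ q) :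
    Function.Bijective (Ideal.ResidueField.map p q (algebraMap R A) hq) := by
  refine ⟨RingHom.injective _, ?_⟩
  have key : ∀ s : A, ∃ x : p.ResidueField,
      Ideal.ResidueField.map p q (algebraMap R A) hq x = algebraMap A q.ResidueField s := by
    intro s
    obtain ⟨a, t, ht, hst⟩ := h s
    have ht' : algebraMap R p.ResidueField t ≠ 0 := by
      rwa [Ne, Ideal.algebraMap_residueField_eq_zero]
    refine ⟨algebraMap R p.ResidueField a / algebraMap R p.ResidueField t, ?_⟩
    rw [map_div₀, Ideal.ResidueField.map_algebraMap, Ideal.ResidueField.map_algebraMap]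
    have h0 : algebraMap A q.ResidueField (s * algebraMap R A t - algebraMap R A a) = 0 :=
      Ideal.algebraMap_residueField_eq_zero.mpr hst
    rw [map_sub, map_mul, sub_eq_zero] at h0
    have ht'' : algebraMap A q.ResidueField (algebraMap R A t) ≠ 0 := by
      rw [Ne, Ideal.algebraMap_residueField_eq_zero]
      intro hmem
      apply ht
      rw [hq]
      exact hmem
    rw [div_eq_iff ht'', h0]
  intro y
  obtain ⟨z, rfl⟩ := residue_surjective y
  obtain ⟨s, u, rfl⟩ := IsLocalization.exists_mk'_eq q.primeCompl z
  obtain ⟨xs, hxs⟩ := key s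
  obtain ⟨xu, hxu⟩ := key u
  have hu : algebraMap A q.ResidueField u ≠ 0 := by
    rw [Ne, Ideal.algebraMap_residueField_eq_zero]
    exact u.2
  refine ⟨xs / xu, ?_⟩
  rw [map_div₀, hxs, hxu, div_eq_iff hu]
  show _ = residue _ _ * residue _ (algebraMap A (Localization.AtPrime q) u)
  rw [← map_mul, IsLocalization.mk'_spec]
  rfl

/-- converse of the fraction criterion. -/
theorem forall_of_residueField_map_bijective
    (h : Function.Bijective (Ideal.ResidueField.map p q (algebraMap R A) hq)) (s : A) :
    ∃ a t : R, t ∉ p ∧ s * algebraMap R A t - algebraMap R A a ∈ q := by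
  obtain ⟨x, hx⟩ := h.2 (algebraMap A q.ResidueField s)
  obtain ⟨z, rfl⟩ := residue_surjective x
  obtain ⟨a, t, rfl⟩ := IsLocalization.exists_mk'_eq p.primeCompl z
  refine ⟨a, t, t.2, ?_⟩
  rw [← Ideal.algebraMap_residueField_eq_zero, map_sub, map_mul, ← hx,
    ← Ideal.ResidueField.map_algebraMap p q (algebraMap R A) hq,
    ← Ideal.ResidueField.map_algebraMap p q (algebraMap R A) hq, ← map_mul, ← map_sub]
  have : residue (Localization.AtPrime p) (IsLocalization.mk' (Localization.AtPrime p) a t) *
      algebraMap R p.ResidueField t - algebraMap R p.ResidueField a = 0 := by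
    show residue _ _ * residue _ (algebraMap R (Localization.AtPrime p) t) -
      residue _ (algebraMap R (Localization.AtPrime p) a) = 0
    rw [← map_mul, IsLocalization.mk'_spec, sub_self]
  rw [this, map_zero]

end Residue

section Main

variable {R : Type u} [CommRing R] (p : Ideal R) [p.IsPrime] (Rh : Type u) [CommRing Rh]
  [IsLocalRing Rh] [Algebra (Localization.AtPrime p) Rh]
  [IsLocalHom (algebraMap (Localization.AtPrime p) Rh)]
  [Hensel.IsHenselization (Localization.AtPrime p) Rh] [Algebra R Rh]
  [IsScalarTower R (Localization.AtPrime p) Rh]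

omit [Hensel.IsHenselization (Localization.AtPrime p) Rh] in
theorem mem_maximalIdeal_iff (r : R) : algebraMap R Rh r ∈ maximalIdeal Rh ↔ r ∈ p := by
  rw [IsScalarTower.algebraMap_apply R (Localization.AtPrime p) Rh, mem_maximalIdeal,
    mem_nonunits_iff, isUnit_map_iff, ← mem_nonunits_iff, ← mem_maximalIdeal,
    IsLocalization.AtPrime.to_map_mem_maximal_iff (Localization.AtPrime p) p]

omit [Hensel.IsHenselization (Localization.AtPrime p) Rh] in
theorem comap_maximalIdeal : (maximalIdeal Rh).comap (algebraMap R Rh) = p := by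
  ext r
  rw [Ideal.mem_comap, mem_maximalIdeal_iff p Rh]

theorem exists_sub_mem (x : Rh) :
    ∃ a t : R, t ∉ p ∧ x * algebraMap R Rh t - algebraMap R Rh a ∈ maximalIdeal Rh := by
  obtain ⟨r, hr⟩ := exists_sub_mem_of_isHenselization (Localization.AtPrime p) Rh x
  obtain ⟨a, t, rfl⟩ := IsLocalization.exists_mk'_eq p.primeCompl r
  refine ⟨a, t, t.2, ?_⟩
  have h1 : algebraMap (Localization.AtPrime p) Rh (IsLocalization.mk' _ a t) *
      algebraMap R Rh t = algebraMap R Rh a := by
    rw [IsScalarTower.algebraMap_apply R (Localization.AtPrime p) Rh, ← map_mul,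
      IsLocalization.mk'_spec, ← IsScalarTower.algebraMap_apply]
  have : x * algebraMap R Rh t - algebraMap R Rh a =
      (x - algebraMap (Localization.AtPrime p) Rh (IsLocalization.mk' _ a t)) *
        algebraMap R Rh t := by
    rw [sub_mul, h1]
  rw [this]
  exact Ideal.mul_mem_right _ _ hr

omit [Hensel.IsHenselization (Localization.AtPrime p) Rh] in
/-- for any `R`-algebra map `F : A → Rh`, the pulled back prime lies over `p` with trivial
residue field extension. -/
theorem comap_comap {A : Type*} [CommRing A] [Algebra R A] (F : A →ₐ[R] Rh) :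
    p = ((maximalIdeal Rh).comap F.toRingHom).comap (algebraMap R A) := by
  rw [Ideal.comap_comap, AlgHom.toRingHom_eq_coe, AlgHom.comp_algebraMap,
    comap_maximalIdeal p Rh]

theorem residueField_map_bijective {A : Type*} [CommRing A] [Algebra R A] (F : A →ₐ[R] Rh)
    (hq : p = ((maximalIdeal Rh).comap F.toRingHom).comap (algebraMap R A)) :
    Function.Bijective (Ideal.ResidueField.map p ((maximalIdeal Rh).comap F.toRingHom)
      (algebraMap R A) hq) := by
  apply residueField_map_bijective_of_forall
  intro s
  obtain ⟨a, t, ht, h⟩ := exists_sub_mem p Rh (F s)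
  refine ⟨a, t, ht, ?_⟩
  rw [Ideal.mem_comap]
  simpa using h

/-- the residue field of `Rh`, as the target of the points. -/
abbrev K : Type u := ResidueField Rh

/-- the residue map as an algebra map. -/
noncomputable abbrev v : Rh →ₐ[R] K Rh := IsScalarTower.toAlgHom R Rh (K Rh)

omit [Hensel.IsHenselization (Localization.AtPrime p) Rh] in
theorem algebraMap_K_eq_zero_iff (r : R) : algebraMap R (K Rh) r = 0 ↔ r ∈ p := by
  rw [IsScalarTower.algebraMap_apply R Rh (K Rh)]
  show residue Rh _ = 0 ↔ _
  rw [residue_eq_zero_iff, mem_maximalIdeal_iff p Rh]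

include p in
theorem exists_maps :
    ∃ (g' : H R (K Rh) →ₐ[R] Rh) (g : Rh →ₐ[R] H R (K Rh)),
      g'.comp g = AlgHom.id R Rh ∧ ∀ x, residue Rh (g' x) = H.ε x := by
  have hRh : HenselianLocalRing Rh := Hensel.IsHenselization.henselian (Localization.AtPrime p)
  obtain ⟨g', hg', -⟩ := H.exists_unique_lift (R := R) (Ω := K Rh) Rh (AlgHom.id R (K Rh))
  have hunits : ∀ y : p.primeCompl, IsUnit (algebraMap R (H R (K Rh)) y) := by
    intro y
    rw [H.isUnit_iff, AlgHom.commutes, Ne, algebraMap_K_eq_zero_iff p Rh]
    exact y.2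
  let f₀ : Localization.AtPrime p →+* H R (K Rh) := IsLocalization.lift hunits
  have hf₀ : ∀ r : R, f₀ (algebraMap R _ r) = algebraMap R _ r := fun r =>
    IsLocalization.lift_eq hunits r
  have hloc : IsLocalHom f₀ := by
    constructor
    intro x hx
    obtain ⟨a, s, rfl⟩ := IsLocalization.exists_mk'_eq p.primeCompl x
    rw [H.isUnit_iff] at hx
    have h1 : f₀ (IsLocalization.mk' _ a s) * algebraMap R _ (s : R) = algebraMap R _ a := by
      rw [← hf₀, ← map_mul, IsLocalization.mk'_spec, hf₀]
    have h2 := congrArg (H.ε (R := R) (Ω := K Rh)) h1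
    rw [map_mul, AlgHom.commutes, AlgHom.commutes] at h2
    have ha : a ∉ p := by
      intro ha
      rw [(algebraMap_K_eq_zero_iff p Rh a).mpr ha] at h2
      rcases mul_eq_zero.mp h2 with h3 | h3
      · exact hx h3
      · exact s.2 ((algebraMap_K_eq_zero_iff p Rh _).mp h3)
    have : IsUnit (algebraMap R (Localization.AtPrime p) a) :=
      IsLocalization.map_units _ (⟨a, ha⟩ : p.primeCompl)
    rw [← IsLocalization.mk'_spec (Localization.AtPrime p) a s] at this
    exact isUnit_of_mul_isUnit_left this
  have hT : HenselianLocalRing (H R (K Rh)) := inferInstance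
  obtain ⟨g₀, hg₀, -⟩ := Hensel.IsHenselization.universal (R := Localization.AtPrime p)
    (S := Rh) (H R (K Rh)) f₀ hloc
  have hg₀' : ∀ x, g₀ (algebraMap (Localization.AtPrime p) Rh x) = f₀ x := fun x =>
    congr($hg₀ x)
  let g : Rh →ₐ[R] H R (K Rh) :=
    { g₀ with
      commutes' := fun r => by
        show g₀ (algebraMap R Rh r) = _
        rw [IsScalarTower.algebraMap_apply R (Localization.AtPrime p) Rh, hg₀', hf₀] }
  have hcomp : g'.toRingHom.comp g₀ = RingHom.id Rh := by
    refine (Hensel.IsHenselization.universal (R := Localization.AtPrime p) (S := Rh) Rh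
      (algebraMap (Localization.AtPrime p) Rh) inferInstance).unique ?_ (by simp)
    apply IsLocalization.ringHom_ext p.primeCompl
    ext r
    simp only [RingHom.coe_comp, Function.comp_apply, AlgHom.toRingHom_eq_coe, RingHom.coe_coe]
    rw [hg₀', hf₀, AlgHom.commutes, ← IsScalarTower.algebraMap_apply]
  refine ⟨g', g, ?_, hg'⟩
  ext x
  exact congr($hcomp x)

include p in
theorem exists_etale_of_mem (x : Rh) :
    ∃ (S : Type u) (_ : CommRing S) (_ : Algebra R S) (_ : Algebra.Etale R S)
      (f : S →ₐ[R] Rh) (s : S), f s = x := by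
  obtain ⟨g', g, hgg, -⟩ := exists_maps p Rh
  obtain ⟨A, _, _, _, f, a, ha⟩ := H.coveredByEtale (R := R) (Ω := K Rh) (g x)
  refine ⟨A, inferInstance, inferInstance, inferInstance, g'.comp f, a, ?_⟩
  have ha' : f a = g x := ha
  rw [AlgHom.comp_apply, ha']
  exact congr($hgg x)

include p in
theorem exists_etale_kill {S : Type u} [CommRing S] [Algebra R S] [Algebra.Etale R S]
    (f : S →ₐ[R] Rh) (s : S) (hs : f s = 0) :
    ∃ (S' : Type u) (_ : CommRing S') (_ : Algebra R S') (_ : Algebra.Etale R S')
      (φ : S →ₐ[R] S') (f' : S' →ₐ[R] Rh), f'.comp φ = f ∧ φ s = 0 := by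
  obtain ⟨g', g, hgg, -⟩ := exists_maps p Rh
  obtain ⟨A', _, _, _, φ, f', hf', hφ⟩ := H.killsRelations (R := R) (Ω := K Rh) S (g.comp f) s
    (by rw [AlgHom.comp_apply, hs, map_zero])
  refine ⟨A', inferInstance, inferInstance, inferInstance, φ, g'.comp f', ?_, hφ⟩
  rw [AlgHom.comp_assoc, hf', ← AlgHom.comp_assoc, hgg, AlgHom.id_comp]

theorem existsUnique_algHom {S : Type u} [CommRing S] [Algebra R S] [Algebra.Etale R S]
    (q : Ideal S) [q.IsPrime] (hq : p = q.comap (algebraMap R S))
    (hb : Function.Bijective (Ideal.ResidueField.map p q (algebraMap R S) hq)) :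
    ∃! f : S →ₐ[R] Rh, (maximalIdeal Rh).comap f.toRingHom = q := by
  have hRh : HenselianLocalRing Rh := Hensel.IsHenselization.henselian (Localization.AtPrime p)
  have hv : Function.Surjective (v (R := R) Rh) := residue_surjective
  have hkv : RingHom.ker (v (R := R) Rh).toRingHom = maximalIdeal Rh := by
    ext x
    rw [RingHom.mem_ker]
    exact residue_eq_zero_iff x
  -- the point of `S` with kernel `q`
  let e : p.ResidueField ≃+* q.ResidueField := RingEquiv.ofBijective _ hb
  let τ : p.ResidueField →+* K Rh := ResidueField.map (algebraMap (Localization.AtPrime p) Rh)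
  have hτ : ∀ r : R, τ (algebraMap R p.ResidueField r) = algebraMap R (K Rh) r := by
    intro r
    show τ (residue _ (algebraMap R (Localization.AtPrime p) r)) = _
    rw [ResidueField.map_residue, ← IsScalarTower.algebraMap_apply]
    rfl
  let ψ₀ : S →+* K Rh := (τ.comp (e.symm : q.ResidueField →+* p.ResidueField)).comp
    (algebraMap S q.ResidueField)
  let ψ : S →ₐ[R] K Rh :=
    { ψ₀ with
      commutes' := fun r => by
        show τ (e.symm (algebraMap S q.ResidueField (algebraMap R S r))) = _
        rw [← Ideal.ResidueField.map_algebraMap p q (algebraMap R S) hq]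
        have : e.symm (Ideal.ResidueField.map p q (algebraMap R S) hq
            (algebraMap R p.ResidueField r)) = algebraMap R p.ResidueField r := by
          have he : Ideal.ResidueField.map p q (algebraMap R S) hq
            (algebraMap R p.ResidueField r) = e (algebraMap R p.ResidueField r) := rfl
          rw [he, e.symm_apply_apply]
        rw [this, hτ] }
  have hψ : ∀ s : S, ψ s = 0 ↔ s ∈ q := by
    intro s
    show τ (e.symm (algebraMap S q.ResidueField s)) = 0 ↔ _
    rw [map_eq_zero, map_eq_zero_iff _ e.symm.injective, Ideal.algebraMap_residueField_eq_zero]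
  obtain ⟨f, hf⟩ := IndEt.exists_lift_etale (v (R := R) Rh) hv hkv ψ
  have hcomap : ∀ f' : S →ₐ[R] Rh, (v (R := R) Rh).comp f' = ψ →
      (maximalIdeal Rh).comap f'.toRingHom = q := by
    intro f' hf'
    ext s
    rw [Ideal.mem_comap, ← hψ, ← hf', AlgHom.comp_apply]
    exact (residue_eq_zero_iff _).symm
  refine ⟨f, hcomap f hf, ?_⟩
  intro f' hf'
  apply IndEt.algHom_ext_of_comp_eq (v (R := R) Rh) hkv
  rw [hf]
  ext s
  obtain ⟨a, t, ht, hst⟩ := forall_of_residueField_map_bijective p q hq hb s
  have h1 : ψ (s * algebraMap R S t - algebraMap R S a) = 0 := (hψ _).mpr hst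
  have h2 : (v (R := R) Rh) (f' (s * algebraMap R S t - algebraMap R S a)) = 0 := by
    show residue Rh _ = 0
    rw [residue_eq_zero_iff]
    have : s * algebraMap R S t - algebraMap R S a ∈ (maximalIdeal Rh).comap f'.toRingHom := by
      rw [hf']; exact hst
    exact this
  rw [map_sub, map_mul, AlgHom.commutes, AlgHom.commutes, sub_eq_zero] at h1
  rw [map_sub, map_mul, AlgHom.commutes, AlgHom.commutes, map_sub, map_mul, AlgHom.commutes,
    AlgHom.commutes, sub_eq_zero] at h2
  have ht' : algebraMap R (K Rh) t ≠ 0 := by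
    rwa [Ne, algebraMap_K_eq_zero_iff p Rh]
  rw [AlgHom.comp_apply]
  apply mul_right_cancel₀ ht'
  rw [h2, h1]

end Main

end Groth.Agent.Lib.Helper87.HensPrime
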