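import Mathlib
import Groth.Prelude.Def_Hensel
import Groth.Agent.Lib.Helper87.HensIndEtale
import Groth.Agent.Lib.Helper87.HensPrime
import Groth.Agent.Lib.Helper87.HensStrictProps

set_option autoImplicit false
set_option linter.style.haveILetI false
universe u

/-!
# Strict henselization of the local ring at a prime of an arbitrary ring (helper87)

For a ring `R`, a prime `p` and a strict henselization `Rsh` of `R_p`, we compare `Rsh` with the
ind-étale construction `H R k` (`k` the residue field of `Rsh`), built from étale `R`-algebras.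
Consequence: every element of `Rsh` comes from an étale `R`-algebra.
-/

namespace Groth.Agent.Lib.Helper87.HensPrimeStrict

open IsLocalRing Polynomial Groth.Agent.Lib.Helper87.Hens Groth.Agent.Lib.Helper87

section Residue

variable {R : Type u} [CommRing R] (p : Ideal R) [p.IsPrime]
variable {Ω : Type u} [Field Ω] [Algebra R Ω] [Algebra p.ResidueField Ω]
  [IsScalarTower R p.ResidueField Ω]

theorem algebraMap_ne_zero {s : R} (hs : s ∉ p) : algebraMap R Ω s ≠ 0 := by
  rw [IsScalarTower.algebraMap_apply R p.ResidueField Ω, Ne, map_eq_zero,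
    Ideal.algebraMap_residueField_eq_zero]
  exact hs

/-- every separable element of `Ω`, scaled by a suitable element outside `p`, is the value of a
point of an étale `R`-algebra. -/
theorem exists_pointed_etale_smul (α : Ω) (hα : IsSeparable p.ResidueField α) :
    ∃ (s : R) (_ : s ∉ p) (A : Type u) (_ : CommRing A) (_ : Algebra R A) (_ : Algebra.Etale R A)
      (φ : A →ₐ[R] Ω) (a : A), φ a = algebraMap R Ω s * α := by
  have hint : IsIntegral p.ResidueField α := hα.isIntegral
  set p₀ : p.ResidueField[X] := minpoly p.ResidueField α with hp₀def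
  have hp₀ : p₀.Monic := minpoly.monic hint
  let M := nonZeroDivisors (R ⧸ p)
  let d : M := IsLocalization.commonDenom M p₀.support p₀.coeff
  obtain ⟨s, hs⟩ := Ideal.Quotient.mk_surjective (d : R ⧸ p)
  have hsp : s ∉ p := by
    intro h
    have : (d : R ⧸ p) = 0 := by rw [← hs]; exact Ideal.Quotient.eq_zero_iff_mem.mpr h
    exact nonZeroDivisors.coe_ne_zero d this
  set c : p.ResidueField := algebraMap R p.ResidueField s with hc
  have hc' : c = algebraMap (R ⧸ p) p.ResidueField d := by
    rw [hc, IsScalarTower.algebraMap_apply R (R ⧸ p) p.ResidueField, ← hs]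
    rfl
  have hc0 : c ≠ 0 := by
    rw [hc, Ne, Ideal.algebraMap_residueField_eq_zero]
    exact hsp
  have hlift0 : p₀.scaleRoots c ∈ Polynomial.lifts (algebraMap (R ⧸ p) p.ResidueField) := by
    rw [hc']
    exact IsLocalization.scaleRoots_commonDenom_mem_lifts M p₀
      (by rw [hp₀.leadingCoeff]; exact one_mem _)
  have hlift : p₀.scaleRoots c ∈ Polynomial.lifts (algebraMap R p.ResidueField) := by
    rw [Polynomial.lifts_iff_coeff_lifts] at hlift0 ⊢
    intro n
    obtain ⟨y, hy⟩ := hlift0 n
    obtain ⟨r, rfl⟩ := Ideal.Quotient.mk_surjective y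
    refine ⟨r, ?_⟩
    rw [← hy, IsScalarTower.algebraMap_apply R (R ⧸ p) p.ResidueField]
    rfl
  have hmon : (p₀.scaleRoots c).Monic := by rwa [Polynomial.monic_scaleRoots_iff]
  obtain ⟨g, hg1, -, hgm⟩ := lifts_and_natDegree_eq_and_monic hlift hmon
  set β : Ω := algebraMap R Ω s * α with hβ
  have hβ' : β = c • α := by
    rw [Algebra.smul_def, hc, ← IsScalarTower.algebraMap_apply]
  have hmin : minpoly p.ResidueField β = p₀.scaleRoots c := by
    rw [hβ']
    exact IsIntegrallyClosed.minpoly_smul hc0 hint
  have hβsep : IsSeparable p.ResidueField β := by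
    rw [hβ', Algebra.smul_def]
    exact Field.isSeparable_mul (isSeparable_algebraMap c) hα
  let P : StandardEtalePair R := ⟨g, hgm, derivative g, ⟨1, 0, 1, by simp⟩⟩
  have hev : ∀ q : R[X], aeval β q = aeval β (q.map (algebraMap R p.ResidueField)) := by
    intro q
    rw [aeval_def, aeval_def, eval₂_map]
    congr 1
    exact IsScalarTower.algebraMap_eq R p.ResidueField Ω
  have hmap : P.HasMap β := by
    constructor
    · show aeval β g = 0
      rw [hev, hg1, ← hmin]
      exact minpoly.aeval _ _
    · show IsUnit (aeval β (derivative g))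
      rw [hev, ← derivative_map, hg1, ← hmin, isUnit_iff_ne_zero]
      exact Polynomial.Separable.aeval_derivative_ne_zero hβsep (minpoly.aeval _ _)
  exact ⟨s, hsp, P.Ring, inferInstance, inferInstance, inferInstance, P.lift β hmap, P.X,
    P.lift_X β hmap⟩

theorem ε_surjective [Algebra.IsSeparable p.ResidueField Ω] :
    Function.Surjective (H.ε : H R Ω →ₐ[R] Ω) := by
  intro α
  obtain ⟨s, hs, A, _, _, _, φ, a, ha⟩ :=
    exists_pointed_etale_smul p α (Algebra.IsSeparable.isSeparable _ α)
  obtain ⟨k, g, hg⟩ := exists_idx_map φ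
  have h1 : H.ε (H.of k (g (algebraMap A (Loc φ) a))) = algebraMap R Ω s * α := by
    rw [H.ε_of]
    have : k.ε (g (algebraMap A (Loc φ) a)) = Loc.ε φ (algebraMap A (Loc φ) a) :=
      DFunLike.congr_fun hg _
    rw [this, Loc.ε_algebraMap, ha]
  have hu : IsUnit (algebraMap R (H R Ω) s) := by
    rw [H.isUnit_iff, AlgHom.commutes]
    exact algebraMap_ne_zero p hs
  obtain ⟨u, hu⟩ := hu
  refine ⟨H.of k (g (algebraMap A (Loc φ) a)) * ((u⁻¹ : (H R Ω)ˣ) : H R Ω), ?_⟩
  have h2 : H.ε (((u⁻¹ : (H R Ω)ˣ) : H R Ω)) * algebraMap R Ω s = 1 := by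
    rw [← AlgHom.commutes (H.ε : H R Ω →ₐ[R] Ω) s, ← hu, ← map_mul, Units.inv_mul, map_one]
  rw [map_mul, h1, mul_comm, ← mul_assoc, h2, one_mul]

end Residue

section Main

variable {R : Type u} [CommRing R] (p : Ideal R) [p.IsPrime] (Rsh : Type u) [CommRing Rsh]
  [IsLocalRing Rsh] [Algebra (Localization.AtPrime p) Rsh]
  [IsLocalHom (algebraMap (Localization.AtPrime p) Rsh)]
  [Hensel.IsStrictHenselization (Localization.AtPrime p) Rsh] [Algebra R Rsh]
  [IsScalarTower R (Localization.AtPrime p) Rsh]

open HensPrime in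
include p in
theorem exists_maps :
    ∃ (g' : H R (K Rsh) →ₐ[R] Rsh) (g : Rsh →ₐ[R] H R (K Rsh)),
      g'.comp g = AlgHom.id R Rsh ∧ ∀ x, residue Rsh (g' x) = H.ε x := by
  have hRsh : HenselianLocalRing Rsh :=
    Hensel.IsStrictHenselization.henselian (Localization.AtPrime p)
  haveI hsepc : IsSepClosure p.ResidueField (K Rsh) :=
    Hensel.IsStrictHenselization.isSepClosure (R := Localization.AtPrime p) (S := Rsh)
  haveI : Algebra.IsSeparable p.ResidueField (K Rsh) := hsepc.separable
  obtain ⟨g', hg', -⟩ := H.exists_unique_lift (R := R) (Ω := K Rsh) Rsh (AlgHom.id R (K Rsh))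
  have hunits : ∀ y : p.primeCompl, IsUnit (algebraMap R (H R (K Rsh)) y) := by
    intro y
    rw [H.isUnit_iff, AlgHom.commutes, Ne, algebraMap_K_eq_zero_iff p Rsh]
    exact y.2
  let f₀ : Localization.AtPrime p →+* H R (K Rsh) := IsLocalization.lift hunits
  have hf₀ : ∀ r : R, f₀ (algebraMap R _ r) = algebraMap R _ r := fun r =>
    IsLocalization.lift_eq hunits r
  have hloc : IsLocalHom f₀ := by
    constructor
    intro x hx
    obtain ⟨a, s, rfl⟩ := IsLocalization.exists_mk'_eq p.primeCompl x
    rw [H.isUnit_iff] at hx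
    have h1 : f₀ (IsLocalization.mk' _ a s) * algebraMap R _ (s : R) = algebraMap R _ a := by
      rw [← hf₀, ← map_mul, IsLocalization.mk'_spec, hf₀]
    have h2 := congrArg (H.ε (R := R) (Ω := K Rsh)) h1
    rw [map_mul, AlgHom.commutes, AlgHom.commutes] at h2
    have ha : a ∉ p := by
      intro ha
      rw [(algebraMap_K_eq_zero_iff p Rsh a).mpr ha] at h2
      rcases mul_eq_zero.mp h2 with h3 | h3
      · exact hx h3
      · exact s.2 ((algebraMap_K_eq_zero_iff p Rsh _).mp h3)
    have : IsUnit (algebraMap R (Localization.AtPrime p) a) :=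
      IsLocalization.map_units _ (⟨a, ha⟩ : p.primeCompl)
    rw [← IsLocalization.mk'_spec (Localization.AtPrime p) a s] at this
    exact isUnit_of_mul_isUnit_left this
  have hT : HenselianLocalRing (H R (K Rsh)) := inferInstance
  -- the residue field of the limit is `K Rsh`
  let εbar : ResidueField (H R (K Rsh)) →+* K Rsh :=
    Ideal.Quotient.lift (maximalIdeal (H R (K Rsh))) (H.ε : H R (K Rsh) →ₐ[R] K Rsh).toRingHom
      (fun x hx => (H.ε_eq_zero_iff x).mpr hx)
  have hεbar : ∀ x, εbar (residue _ x) = H.ε x := fun x => rfl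
  have hbij : Function.Bijective εbar := by
    refine ⟨εbar.injective, ?_⟩
    intro α
    obtain ⟨x, hx⟩ := ε_surjective p (Ω := K Rsh) α
    exact ⟨residue _ x, hx⟩
  let e : ResidueField (H R (K Rsh)) ≃+* K Rsh := RingEquiv.ofBijective εbar hbij
  have he : ∀ x, e (residue _ x) = H.ε x := fun x => rfl
  let τ : ResidueField Rsh →+* ResidueField (H R (K Rsh)) := (e.symm : K Rsh →+* _)
  have hτ : τ.comp (ResidueField.map (algebraMap (Localization.AtPrime p) Rsh)) =
      ResidueField.map f₀ := by
    have h1 : ((e : ResidueField (H R (K Rsh)) →+* K Rsh).comp (ResidueField.map f₀)).comp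
        (residue (Localization.AtPrime p)) =
        ((ResidueField.map (algebraMap (Localization.AtPrime p) Rsh))).comp
          (residue (Localization.AtPrime p)) := by
      apply IsLocalization.ringHom_ext p.primeCompl
      ext r
      simp only [RingHom.coe_comp, Function.comp_apply, ResidueField.map_residue, RingHom.coe_coe]
      rw [he, hf₀, AlgHom.commutes, ← IsScalarTower.algebraMap_apply R (Localization.AtPrime p) Rsh]
      rfl
    have h2 : (e : ResidueField (H R (K Rsh)) →+* K Rsh).comp (ResidueField.map f₀) =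
        ResidueField.map (algebraMap (Localization.AtPrime p) Rsh) :=
      Ideal.Quotient.ringHom_ext h1
    refine RingHom.ext fun x => ?_
    have h3 := congr($h2 x)
    simp only [RingHom.coe_comp, Function.comp_apply, RingHom.coe_coe] at h3 ⊢
    rw [← h3]
    exact e.symm_apply_apply _
  obtain ⟨g₀, ⟨hg₀, hg₀res⟩, -⟩ := Hensel.IsStrictHenselization.universal
    (R := Localization.AtPrime p) (S := Rsh) (H R (K Rsh)) f₀ τ hτ
  have hg₀' : ∀ x, g₀ (algebraMap (Localization.AtPrime p) Rsh x) = f₀ x := fun x =>
    congr($hg₀ x)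
  let g : Rsh →ₐ[R] H R (K Rsh) :=
    { g₀ with
      commutes' := fun r => by
        show g₀ (algebraMap R Rsh r) = _
        rw [IsScalarTower.algebraMap_apply R (Localization.AtPrime p) Rsh, hg₀', hf₀] }
  have hcomp : g'.toRingHom.comp g₀ = RingHom.id Rsh := by
    have hid : (RingHom.id (ResidueField Rsh)).comp
        (ResidueField.map (algebraMap (Localization.AtPrime p) Rsh)) =
        ResidueField.map (algebraMap (Localization.AtPrime p) Rsh) := RingHom.id_comp _
    refine (Hensel.IsStrictHenselization.universal (R := Localization.AtPrime p) (S := Rsh) Rsh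
      (algebraMap (Localization.AtPrime p) Rsh) (RingHom.id _) hid).unique ⟨?_, ?_⟩
      ⟨by simp, fun x => rfl⟩
    · apply IsLocalization.ringHom_ext p.primeCompl
      ext r
      simp only [RingHom.coe_comp, Function.comp_apply, AlgHom.toRingHom_eq_coe, RingHom.coe_coe]
      rw [hg₀', hf₀, AlgHom.commutes, ← IsScalarTower.algebraMap_apply]
    · intro x
      simp only [RingHom.coe_comp, Function.comp_apply, AlgHom.toRingHom_eq_coe, RingHom.coe_coe,
        RingHom.id_apply]
      rw [hg', AlgHom.id_apply, ← he, hg₀res]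
      exact e.apply_symm_apply _
  refine ⟨g', g, ?_, hg'⟩
  ext x
  exact congr($hcomp x)

include p in
theorem coveredByEtale : IndEt.CoveredByEtale R Rsh := by
  intro x
  obtain ⟨g', g, hgg, -⟩ := exists_maps p Rsh
  obtain ⟨A, _, _, _, f, a, ha⟩ := H.coveredByEtale (R := R) (Ω := HensPrime.K Rsh) (g x)
  refine ⟨A, inferInstance, inferInstance, inferInstance, g'.comp f, a, ?_⟩
  have ha' : f a = g x := ha
  show (g'.comp f) a = x
  rw [AlgHom.comp_apply, ha']
  exact congr($hgg x)

end Main

section Hens

variable {R : Type u} [CommRing R] (p : Ideal R) [p.IsPrime] (Rh : Type u) [CommRing Rh]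
  [IsLocalRing Rh] [Algebra (Localization.AtPrime p) Rh]
  [IsLocalHom (algebraMap (Localization.AtPrime p) Rh)]
  [Hensel.IsHenselization (Localization.AtPrime p) Rh] [Algebra R Rh]
  [IsScalarTower R (Localization.AtPrime p) Rh]

include p in
theorem coveredByEtale_hens : IndEt.CoveredByEtale R Rh := by
  intro x
  obtain ⟨S, _, _, _, f, s, hs⟩ := HensPrime.exists_etale_of_mem p Rh x
  exact ⟨S, inferInstance, inferInstance, inferInstance, f, s, hs⟩

end Hens

end Groth.Agent.Lib.Helper87.HensPrimeStrict
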