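import Mathlib
import Groth.Prelude.Def_Hensel
import Groth.Prelude.Def_Brnch
import Groth.Agent.Lib.Helper9.HenselSplit
import Groth.Agent.Lib.Helper87.HensIntegral

set_option autoImplicit false
set_option linter.style.haveILetI false
universe u

/-!
# Maximal ideals of `B ⊗ A^sh` and embeddings of residue fields (helper87)
-/

open IsLocalRing TensorProduct

namespace Groth.Agent.Lib.Helper87.GeomBranchCount

attribute [local instance] Algebra.TensorProduct.rightAlgebra

section Setup

variable (A : Type u) [CommRing A] [IsLocalRing A]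
variable (S : Type u) [CommRing S] [IsLocalRing S] [Algebra A S] [IsLocalHom (algebraMap A S)]
  [Hensel.IsStrictHenselization A S]

local notation "κ̄" => AlgebraicClosure (ResidueField A)

/-- an embedding of the residue field of the strict henselization into the algebraic closure. -/
noncomputable def iota0 : ResidueField S →ₐ[ResidueField A] κ̄ := by
  haveI : Algebra.IsSeparable (ResidueField A) (ResidueField S) :=
    (Hensel.IsStrictHenselization.isSepClosure (R := A) (S := S)).separable
  exact IsAlgClosed.lift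

/-- the induced map from the strict henselization to the algebraic closure. -/
noncomputable def iotaS : S →+* κ̄ := (iota0 A S).toRingHom.comp (residue S)

lemma iotaS_comp : (iotaS A S).comp (algebraMap A S) = Brnch.toClosure A := by
  ext a
  show iota0 A S (residue S (algebraMap A S a)) = algebraMap (ResidueField A) κ̄ (residue A a)
  rw [← (iota0 A S).commutes]
  rfl

lemma ker_iotaS : RingHom.ker (iotaS A S) = maximalIdeal S := by
  ext s
  rw [RingHom.mem_ker]
  show iota0 A S (residue S s) = 0 ↔ _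
  rw [map_eq_zero_iff (iota0 A S) (iota0 A S).toRingHom.injective, residue_eq_zero_iff]

end Setup

section Main

variable (A : Type u) [CommRing A] [IsLocalRing A]
variable (S : Type u) [CommRing S] [IsLocalRing S] [Algebra A S] [IsLocalHom (algebraMap A S)]
  [Hensel.IsStrictHenselization A S]
variable (B : Type u) [CommRing B] [Algebra A B] [Algebra.IsIntegral A B]

local notation "κ̄" => AlgebraicClosure (ResidueField A)

/-- embeddings over the residue field of `A` of the residue field at a maximal ideal of `B`. -/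
def EmbB (m' : MaximalSpectrum B) : Type u :=
  {σ : B ⧸ m'.asIdeal →+* κ̄ //
    σ.comp ((Ideal.Quotient.mk m'.asIdeal).comp (algebraMap A B)) = Brnch.toClosure A}

/-- ring maps from `B ⊗ S` to the algebraic closure extending the fixed map on `S`. -/
def HomS : Type u :=
  {Ψ : B ⊗[A] S →+* κ̄ // Ψ.comp (algebraMap S (B ⊗[A] S)) = iotaS A S}

lemma algebraMap_closure : algebraMap A κ̄ = Brnch.toClosure A := rfl

/-- the algebra map `B → κ̄` attached to a maximal ideal and an embedding. -/
noncomputable def embAlgHom (x : Σ m' : MaximalSpectrum B, EmbB A B m') : B →ₐ[A] κ̄ :=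
  { toRingHom := x.2.1.comp (Ideal.Quotient.mk x.1.asIdeal)
    commutes' := fun a => congr($(x.2.2) a) }

/-- the fixed map on `S` as an algebra map. -/
noncomputable def iotaAlgHom : S →ₐ[A] κ̄ :=
  { toRingHom := iotaS A S
    commutes' := fun a => congr($(iotaS_comp A S) a) }

/-- the ring map attached to a maximal ideal and an embedding. -/
noncomputable def ofEmbHom (x : Σ m' : MaximalSpectrum B, EmbB A B m') : B ⊗[A] S →ₐ[A] κ̄ :=
  Algebra.TensorProduct.lift (embAlgHom A B x) (iotaAlgHom A S) (fun _ _ => Commute.all _ _)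

lemma ofEmbHom_tmul (x : Σ m' : MaximalSpectrum B, EmbB A B m') (b : B) (s : S) :
    ofEmbHom A S B x (b ⊗ₜ[A] s) =
      x.2.1 (Ideal.Quotient.mk x.1.asIdeal b) * iotaS A S s := by
  rw [ofEmbHom, Algebra.TensorProduct.lift_tmul]
  rfl

/-- the element of `HomS` attached to a maximal ideal and an embedding. -/
noncomputable def ofEmb (x : Σ m' : MaximalSpectrum B, EmbB A B m') : HomS A S B :=
  ⟨(ofEmbHom A S B x).toRingHom, by
    ext s
    show ofEmbHom A S B x ((1 : B) ⊗ₜ[A] s) = iotaS A S s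
    rw [ofEmbHom_tmul, map_one, map_one, one_mul]⟩

lemma ofEmb_tmul (x : Σ m' : MaximalSpectrum B, EmbB A B m') (b : B) (s : S) :
    (ofEmb A S B x).1 (b ⊗ₜ[A] s) = x.2.1 (Ideal.Quotient.mk x.1.asIdeal b) * iotaS A S s :=
  ofEmbHom_tmul A S B x b s

theorem ofEmb_injective : Function.Injective (ofEmb A S B) := by
  rintro ⟨⟨I₁, hI₁⟩, σ₁, hσ₁⟩ ⟨⟨I₂, hI₂⟩, σ₂, hσ₂⟩ h
  have hθ : ∀ b : B, σ₁ (Ideal.Quotient.mk I₁ b) = σ₂ (Ideal.Quotient.mk I₂ b) := by
    intro b
    have := congrArg (fun Ψ : HomS A S B => Ψ.1 (b ⊗ₜ[A] (1 : S))) h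
    simp only [ofEmb_tmul, map_one, mul_one] at this
    exact this
  have inj₁ : Function.Injective σ₁ := by
    letI := Ideal.Quotient.field I₁
    exact RingHom.injective σ₁
  have inj₂ : Function.Injective σ₂ := by
    letI := Ideal.Quotient.field I₂
    exact RingHom.injective σ₂
  have hI : I₁ = I₂ := by
    ext b
    rw [← Ideal.Quotient.eq_zero_iff_mem, ← Ideal.Quotient.eq_zero_iff_mem,
      ← map_eq_zero_iff σ₁ inj₁, hθ, map_eq_zero_iff σ₂ inj₂]
  subst hI
  have hσ : σ₁ = σ₂ := RingHom.ext (fun y => by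
    obtain ⟨b, rfl⟩ := Ideal.Quotient.mk_surjective y
    exact hθ b)
  subst hσ
  rfl

theorem ofEmb_surjective : Function.Surjective (ofEmb A S B) := by
  rintro ⟨Ψ, hΨ⟩
  let θ : B →+* κ̄ := Ψ.comp (algebraMap B (B ⊗[A] S))
  have hΨs : ∀ s : S, Ψ (algebraMap S (B ⊗[A] S) s) = iotaS A S s := fun s => congr($hΨ s)
  have hθA : θ.comp (algebraMap A B) = Brnch.toClosure A := by
    ext a
    have h1 : algebraMap B (B ⊗[A] S) (algebraMap A B a) =
        algebraMap S (B ⊗[A] S) (algebraMap A S a) := by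
      show (algebraMap A B a) ⊗ₜ[A] (1 : S) = (1 : B) ⊗ₜ[A] (algebraMap A S a)
      rw [Algebra.algebraMap_eq_smul_one, Algebra.algebraMap_eq_smul_one, smul_tmul]
    show Ψ (algebraMap B (B ⊗[A] S) (algebraMap A B a)) = _
    rw [h1, hΨs]
    exact congr($(iotaS_comp A S) a)
  have hprime : (RingHom.ker θ).IsPrime := RingHom.ker_isPrime θ
  have hcomap : (RingHom.ker θ).comap (algebraMap A B) = maximalIdeal A := by
    rw [RingHom.comap_ker, hθA]
    ext a
    rw [RingHom.mem_ker]
    show algebraMap (ResidueField A) κ̄ (residue A a) = 0 ↔ _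
    rw [map_eq_zero_iff _ (algebraMap (ResidueField A) κ̄).injective, residue_eq_zero_iff]
  have hmax : (RingHom.ker θ).IsMaximal :=
    Ideal.isMaximal_of_isIntegral_of_isMaximal_comap _ (by rw [hcomap]; infer_instance)
  refine ⟨⟨⟨RingHom.ker θ, hmax⟩, RingHom.kerLift θ, ?_⟩, ?_⟩
  · ext a
    exact congr($hθA a)
  · apply Subtype.ext
    apply RingHom.ext
    intro t
    induction t with
    | zero => simp
    | tmul b s =>
      rw [ofEmb_tmul]
      show θ b * iotaS A S s = Ψ (b ⊗ₜ s)
      have : b ⊗ₜ[A] s = algebraMap B (B ⊗[A] S) b * algebraMap S (B ⊗[A] S) s := by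
        show _ = (b ⊗ₜ[A] (1 : S)) * ((1 : B) ⊗ₜ[A] s)
        rw [Algebra.TensorProduct.tmul_mul_tmul, mul_one, one_mul]
      rw [this, map_mul, hΨs]
      rfl
    | add x y hx hy => rw [map_add, map_add, hx, hy]

theorem ker_isMaximal (Ψ : HomS A S B) : (RingHom.ker Ψ.1).IsMaximal := by
  haveI : Algebra.IsIntegral S (B ⊗[A] S) := HensIntegral.isIntegral_right A B S
  have hprime : (RingHom.ker Ψ.1).IsPrime := RingHom.ker_isPrime _
  have hcomap : (RingHom.ker Ψ.1).comap (algebraMap S (B ⊗[A] S)) = maximalIdeal S := by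
    rw [RingHom.comap_ker, Ψ.2, ker_iotaS]
  exact Ideal.isMaximal_of_isIntegral_of_isMaximal_comap _ (by rw [hcomap]; infer_instance)

/-- the maximal ideal attached to an element of `HomS`. -/
noncomputable def kerMax (Ψ : HomS A S B) : MaximalSpectrum (B ⊗[A] S) :=
  ⟨RingHom.ker Ψ.1, ker_isMaximal A S B Ψ⟩

/-- modulo a maximal ideal, a power of every element comes from `S`. -/
theorem exists_pow_sub_mem (M : Ideal (B ⊗[A] S)) [hM : M.IsMaximal] (t : B ⊗[A] S) :
    ∃ (n : ℕ) (s : S), t ^ (ringExpChar (ResidueField S)) ^ n -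
      algebraMap S (B ⊗[A] S) s ∈ M := by
  haveI : Algebra.IsIntegral S (B ⊗[A] S) := HensIntegral.isIntegral_right A B S
  haveI : M.LiesOver (maximalIdeal S) :=
    Groth.Agent.Lib.Helper9.liesOver_maximalIdeal_of_isMaximal (R := S) M
  letI : Field (S ⧸ maximalIdeal S) := Ideal.Quotient.field (maximalIdeal S)
  haveI : IsSepClosed (S ⧸ maximalIdeal S) :=
    (Hensel.IsStrictHenselization.isSepClosure (R := A) (S := S)).sep_closed
  haveI : ExpChar (S ⧸ maximalIdeal S) (ringExpChar (ResidueField S)) :=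
    inferInstanceAs (ExpChar (ResidueField S) (ringExpChar (ResidueField S)))
  haveI : IsPurelyInseparable (S ⧸ maximalIdeal S) ((B ⊗[A] S) ⧸ M) := inferInstance
  obtain ⟨n, y, hy⟩ := IsPurelyInseparable.pow_mem (S ⧸ maximalIdeal S)
    (ringExpChar (ResidueField S)) (Ideal.Quotient.mk M t)
  obtain ⟨s, rfl⟩ := Ideal.Quotient.mk_surjective y
  refine ⟨n, s, ?_⟩
  rw [← Ideal.Quotient.eq, map_pow, ← hy]
  rfl

theorem kerMax_injective : Function.Injective (kerMax A S B) := by
  rintro ⟨Ψ₁, h₁⟩ ⟨Ψ₂, h₂⟩ h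
  have hker : RingHom.ker Ψ₁ = RingHom.ker Ψ₂ := congrArg MaximalSpectrum.asIdeal h
  haveI hmax : (RingHom.ker Ψ₁).IsMaximal := ker_isMaximal A S B ⟨Ψ₁, h₁⟩
  haveI : ExpChar κ̄ (ringExpChar (ResidueField S)) :=
    expChar_of_injective_ringHom (iota0 A S).toRingHom.injective _
  apply Subtype.ext
  apply RingHom.ext
  intro t
  obtain ⟨n, s, hs⟩ := exists_pow_sub_mem A S B (RingHom.ker Ψ₁) t
  have e₁ : Ψ₁ t ^ (ringExpChar (ResidueField S)) ^ n = iotaS A S s := by
    rw [RingHom.mem_ker, map_sub, map_pow, sub_eq_zero] at hs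
    rw [hs]
    exact congr($h₁ s)
  have e₂ : Ψ₂ t ^ (ringExpChar (ResidueField S)) ^ n = iotaS A S s := by
    rw [hker, RingHom.mem_ker, map_sub, map_pow, sub_eq_zero] at hs
    rw [hs]
    exact congr($h₂ s)
  apply iterateFrobenius_inj κ̄ (ringExpChar (ResidueField S)) n
  rw [iterateFrobenius_def, iterateFrobenius_def, e₁, e₂]

theorem kerMax_surjective : Function.Surjective (kerMax A S B) := by
  rintro ⟨M, hM⟩
  haveI := hM
  haveI : Algebra.IsIntegral S (B ⊗[A] S) := HensIntegral.isIntegral_right A B S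
  haveI : M.LiesOver (maximalIdeal S) :=
    Groth.Agent.Lib.Helper9.liesOver_maximalIdeal_of_isMaximal (R := S) M
  letI : Field (S ⧸ maximalIdeal S) := Ideal.Quotient.field (maximalIdeal S)
  let ι' : S ⧸ maximalIdeal S →+* κ̄ := (iota0 A S).toRingHom
  letI : Algebra (S ⧸ maximalIdeal S) κ̄ := ι'.toAlgebra
  let L : (B ⊗[A] S) ⧸ M →ₐ[S ⧸ maximalIdeal S] κ̄ := IsAlgClosed.lift
  have hLinj : Function.Injective L := by
    letI := Ideal.Quotient.field M
    exact L.toRingHom.injective
  refine ⟨⟨L.toRingHom.comp (Ideal.Quotient.mk M), ?_⟩, ?_⟩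
  · ext s
    show L (Ideal.Quotient.mk M (algebraMap S _ s)) = iotaS A S s
    have : Ideal.Quotient.mk M (algebraMap S (B ⊗[A] S) s) =
        algebraMap (S ⧸ maximalIdeal S) ((B ⊗[A] S) ⧸ M)
          (Ideal.Quotient.mk (maximalIdeal S) s) := rfl
    rw [this, L.commutes]
    rfl
  · apply MaximalSpectrum.ext
    show RingHom.ker (L.toRingHom.comp (Ideal.Quotient.mk M)) = M
    ext t
    rw [RingHom.mem_ker, RingHom.comp_apply]
    show L (Ideal.Quotient.mk M t) = 0 ↔ _
    rw [map_eq_zero_iff L hLinj, Ideal.Quotient.eq_zero_iff_mem]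

/-- the maximal ideals of `B ⊗ A^sh` are counted by maximal ideals of `B` together with
embeddings of their residue fields. -/
theorem card_maximalSpectrum_tensor_eq :
    ENat.card (MaximalSpectrum (B ⊗[A] S)) =
      ENat.card (Σ m' : MaximalSpectrum B, EmbB A B m') := by
  have e₁ := Equiv.ofBijective (ofEmb A S B) ⟨ofEmb_injective A S B, ofEmb_surjective A S B⟩
  have e₂ := Equiv.ofBijective (kerMax A S B) ⟨kerMax_injective A S B, kerMax_surjective A S B⟩
  exact (ENat.card_congr (e₁.trans e₂)).symm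

end Main

end Groth.Agent.Lib.Helper87.GeomBranchCount
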