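import Mathlib
import Groth.Agent.Lib.Helper87.GeomBranchCount
import Groth.Agent.Lib.Helper87.BranchCount

set_option autoImplicit false
set_option linter.style.haveILetI false
universe u

/-!
# The number of geometric branches and the strict henselization (helper87)
-/

open IsLocalRing TensorProduct

namespace Groth.Agent.Lib.Helper87.GeomBranchCount

open Groth.Agent.Lib.Helper87.Unibranch

variable (A : Type u) [CommRing A] [IsLocalRing A]

theorem toResidue_eq (m' : MaximalSpectrum (CAlg2.normRed A)) :
    Brnch.toResidue A m' =
      (Ideal.Quotient.mk m'.asIdeal).comp (algebraMap A (CAlg2.normRed A)) := by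
  rw [IsScalarTower.algebraMap_eq A (CAlg2.red A) (CAlg2.normRed A)]
  rfl

theorem card_sigma_emb :
    ENat.card (Σ m' : MaximalSpectrum (CAlg2.normRed A), Brnch.Emb A m') =
      ENat.card (Σ m' : MaximalSpectrum (CAlg2.normRed A), EmbB A (CAlg2.normRed A) m') :=
  ENat.card_congr (Equiv.sigmaCongrRight (fun m' =>
    Equiv.subtypeEquivRight (fun σ => by rw [toResidue_eq])))

variable (S : Type u) [CommRing S] [IsLocalRing S] [Algebra A S] [IsLocalHom (algebraMap A S)]
  [Hensel.IsStrictHenselization A S]

theorem card_minimalPrimes_eq_numGeomBranches :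
    ENat.card (minimalPrimes S) = Brnch.numGeomBranches A := by
  haveI : HenselianLocalRing S := Hensel.IsStrictHenselization.henselian (R := A)
  haveI : Module.FaithfullyFlat A S := Hens.faithfullyFlat_of_isStrictHenselization A S
  unfold Brnch.numGeomBranches
  split_ifs with hfin
  · rw [BranchCount.card_minimalPrimes_eq_tensor A S,
      BranchCount.card_minimalPrimes_tensor_eq A S hfin (hasPres_strict A S),
      card_maximalSpectrum_tensor_eq A S (CAlg2.normRed A), ← card_sigma_emb]
  · haveI := BranchCount.infinite_minimalPrimes_of_faithfullyFlat A S hfin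
    exact ENat.card_eq_top_of_infinite

end Groth.Agent.Lib.Helper87.GeomBranchCount
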