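import Mathlib
import Groth.Agent.S2129
import Groth.Agent.S9238
import Groth.Agent.Lib.Helper87.GeomUnibranchEquiv
import Groth.Agent.Lib.Helper87.CompStalk
import Groth.Agent.Lib.Helper87.BranchEtaleRing
import Groth.Agent.Lib.Helper87.HensPrimeStrict
import Groth.Agent.Lib.Helper30.SmoothLocal

set_option autoImplicit false
set_option linter.style.haveILetI false
universe u

/-!
# Geometric branches via étale neighbourhoods (helper87)

* `numGeomBranches_eq_of_ringEquiv`: the number of geometric branches is invariant under ring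
  isomorphisms.
* `numGeomBranchesAt_eq_of_smoothAt`: it is invariant along morphisms smooth at the point.
* `encard_comps_le_numGeomBranchesAt`: for `g : U ⟶ X` étale, the number of irreducible components
  of `U` through `u` is at most the number of geometric branches of `X` at `g u`.
* `exists_etale_nbhd_le`: conversely every `n` at most the number of geometric branches at `x` is
  at most the number of components through a point of some étale neighbourhood.
-/

open IsLocalRing TensorProduct AlgebraicGeometry CategoryTheory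

namespace Groth.Agent.Lib.Helper87.BranchEtale

section Ring

theorem numGeomBranches_eq_of_ringEquiv {A A' : Type u} [CommRing A] [IsLocalRing A]
    [CommRing A'] [IsLocalRing A'] (e : A ≃+* A') :
    Brnch.numGeomBranches A = Brnch.numGeomBranches A' := by
  haveI := Hens.isStrictHenselization_Hsh A
  letI : Algebra A' (Hens.Hsh A) :=
    ((algebraMap A (Hens.Hsh A)).comp (e.symm : A' →+* A)).toAlgebra
  haveI : IsLocalHom (algebraMap A' (Hens.Hsh A)) :=
    RingHom.isLocalHom_comp (algebraMap A (Hens.Hsh A)) (e.symm : A' →+* A)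
  haveI : Hensel.IsStrictHenselization A' (Hens.Hsh A) :=
    GeomUnibranchEquiv.isStrictHenselization_of_ringEquiv e (fun a => by
      show algebraMap A (Hens.Hsh A) (e.symm (e a)) = _
      rw [e.symm_apply_apply])
  rw [← Groth.Agent.S9238.result A (Hens.Hsh A), ← Groth.Agent.S9238.result A' (Hens.Hsh A)]

/-- having `n` geometric branches, as a property of bare rings. -/
def PNG (n : ℕ∞) (A : Type u) [CommRing A] : Prop :=
  ∃ h : IsLocalRing A, @Brnch.numGeomBranches A _ h = n

theorem PNG.of_ringEquiv (n : ℕ∞) (A A' : Type u) [CommRing A] [CommRing A'] (e : A ≃+* A')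
    (h : PNG n A) : PNG n A' := by
  obtain ⟨hl, hg⟩ := h
  haveI := hl
  haveI : IsLocalRing A' := e.isLocalRing
  exact ⟨inferInstance, (numGeomBranches_eq_of_ringEquiv e).symm.trans hg⟩

theorem png_iff_smooth (n : ℕ∞) (R S : Type u) [CommRing R] [CommRing S] [Algebra R S]
    [Algebra.Smooth R S] (q : Ideal S) [q.IsPrime] :
    PNG n (Localization.AtPrime (q.comap (algebraMap R S))) ↔ PNG n (Localization.AtPrime q) := by
  haveI := Hens.isStrictHenselization_Hsh (Localization.AtPrime (q.comap (algebraMap R S)))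
  haveI := Hens.isStrictHenselization_Hsh (Localization.AtPrime q)
  haveI : q.LiesOver (q.comap (algebraMap R S)) := ⟨rfl⟩
  have h := Groth.Agent.S2129.result (Ash := Hens.Hsh (Localization.AtPrime (q.comap (algebraMap R S))))
    (Bsh := Hens.Hsh (Localization.AtPrime q)) q (q.comap (algebraMap R S))
  have h1 := Groth.Agent.S9238.result (Localization.AtPrime (q.comap (algebraMap R S)))
    (Hens.Hsh (Localization.AtPrime (q.comap (algebraMap R S))))
  have h2 := Groth.Agent.S9238.result (Localization.AtPrime q) (Hens.Hsh (Localization.AtPrime q))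
  have h3 : Brnch.numGeomBranches (Localization.AtPrime (q.comap (algebraMap R S))) =
      Brnch.numGeomBranches (Localization.AtPrime q) := by
    rw [← h1, ← h2]
    exact h
  constructor
  · rintro ⟨_, hg⟩
    exact ⟨inferInstance, h3.symm.trans hg⟩
  · rintro ⟨_, hg⟩
    exact ⟨inferInstance, h3.trans hg⟩

end Ring

section Scheme

theorem numGeomBranchesAt_eq_of_smoothAt {X Y : Scheme.{u}} (f : X ⟶ Y)
    [LocallyOfFinitePresentation f] (x : X) (hx : x ∈ f.smoothLocus) :
    Brnch.numGeomBranchesAt X x = Brnch.numGeomBranchesAt Y (f.base x) := by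
  have h := Groth.Agent.Lib.Helper30.SmoothLocal.stalk_iff_of_smoothAt
    (fun A _ => PNG (Brnch.numGeomBranchesAt X x) A)
    (fun A A' _ _ e h => PNG.of_ringEquiv _ A A' e h)
    (fun R S _ _ _ _ q _ => png_iff_smooth _ R S q) f x hx
  obtain ⟨_, hg⟩ := h.mp ⟨inferInstance, rfl⟩
  exact hg.symm

theorem numGeomBranchesAt_eq_of_etale {U X : Scheme.{u}} (g : U ⟶ X) [Etale g] (u : U) :
    Brnch.numGeomBranchesAt U u = Brnch.numGeomBranchesAt X (g.base u) := by
  apply numGeomBranchesAt_eq_of_smoothAt
  rw [Scheme.Hom.smoothLocus_eq_top]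
  trivial

theorem encard_comps_le_numGeomBranchesAt {U X : Scheme.{u}} (g : U ⟶ X) [Etale g] (u : U) :
    {Z : Set U | Z ∈ irreducibleComponents U ∧ u ∈ Z}.encard ≤
      Brnch.numGeomBranchesAt X (g.base u) := by
  rw [CompStalk.encard_irreducibleComponents_mem_eq, ← numGeomBranchesAt_eq_of_etale g u]
  haveI := Hens.isStrictHenselization_Hsh (U.presheaf.stalk u)
  haveI : Module.FaithfullyFlat (U.presheaf.stalk u) (Hens.Hsh (U.presheaf.stalk u)) :=
    Hens.faithfullyFlat_of_isStrictHenselization _ _
  show _ ≤ Brnch.numGeomBranches (U.presheaf.stalk u)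
  rw [← Groth.Agent.S9238.result (U.presheaf.stalk u) (Hens.Hsh (U.presheaf.stalk u))]
  exact BranchEtaleRing.encard_minimalPrimes_le_of_faithfullyFlat _ _

theorem etale_Spec_map_comp_fromSpec {X : Scheme.{u}} {V : X.Opens} (hV : IsAffineOpen V)
    (S : Type u) [CommRing S] [Algebra Γ(X, V) S] [Algebra.Etale Γ(X, V) S] :
    Etale (Spec.map (CommRingCat.ofHom (algebraMap Γ(X, V) S)) ≫ hV.fromSpec) := by
  haveI : Etale (Spec.map (CommRingCat.ofHom (algebraMap Γ(X, V) S))) := by
    rw [HasRingHomProperty.Spec_iff (P := @Etale)]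
    exact RingHom.etale_algebraMap.mpr inferInstance
  infer_instance

theorem Spec_map_comp_fromSpec_apply {X : Scheme.{u}} {V : X.Opens} (hV : IsAffineOpen V)
    (S : Type u) [CommRing S] [Algebra Γ(X, V) S] (x : X) (hxV : x ∈ V)
    (q : Ideal S) [q.IsPrime]
    (hq : q.comap (algebraMap Γ(X, V) S) = (hV.primeIdealOf ⟨x, hxV⟩).asIdeal) :
    (Spec.map (CommRingCat.ofHom (algebraMap Γ(X, V) S)) ≫ hV.fromSpec).base
      (⟨q, inferInstance⟩ : Spec (CommRingCat.of S)) = x := by
  rw [Scheme.Hom.comp_base, TopCat.comp_app]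
  have h1 : (Spec.map (CommRingCat.ofHom (algebraMap Γ(X, V) S))).base
      (⟨q, inferInstance⟩ : Spec (CommRingCat.of S)) = hV.primeIdealOf ⟨x, hxV⟩ := by
    apply PrimeSpectrum.ext
    exact hq
  rw [h1]
  exact hV.fromSpec_primeIdealOf ⟨x, hxV⟩

theorem exists_etale_nbhd_le (X : Scheme.{u}) (x : X) (n : ℕ)
    (hn : (n : ℕ∞) ≤ Brnch.numGeomBranchesAt X x) :
    ∃ (U : Scheme.{u}) (g : U ⟶ X) (u : U), Etale g ∧ g.base u = x ∧
      (n : ℕ∞) ≤ {Z : Set U | Z ∈ irreducibleComponents U ∧ u ∈ Z}.encard := by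
  obtain ⟨V, hV, hxV, -⟩ := exists_isAffineOpen_mem_and_subset (U := ⊤) (x := x) (by simp)
  set p : Ideal Γ(X, V) := (hV.primeIdealOf ⟨x, hxV⟩).asIdeal with hp
  have h1 : Brnch.numGeomBranchesAt X x = Brnch.numGeomBranches (Localization.AtPrime p) := by
    have := (Groth.Agent.Lib.Helper30.SmoothLocal.stalk_iff_localization
      (fun A _ => PNG (Brnch.numGeomBranchesAt X x) A)
      (fun A A' _ _ e h => PNG.of_ringEquiv _ A A' e h) hV x hxV).mp ⟨inferInstance, rfl⟩
    obtain ⟨_, hg⟩ := this
    exact hg.symm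
  haveI := Hens.isStrictHenselization_Hsh (Localization.AtPrime p)
  letI : Algebra Γ(X, V) (Hens.Hsh (Localization.AtPrime p)) :=
    ((algebraMap (Localization.AtPrime p) (Hens.Hsh (Localization.AtPrime p))).comp
      (algebraMap Γ(X, V) (Localization.AtPrime p))).toAlgebra
  haveI : IsScalarTower Γ(X, V) (Localization.AtPrime p) (Hens.Hsh (Localization.AtPrime p)) :=
    IsScalarTower.of_algebraMap_eq' rfl
  have h2 : (n : ℕ∞) ≤ (minimalPrimes (Hens.Hsh (Localization.AtPrime p))).encard := by
    have := Groth.Agent.S9238.result (Localization.AtPrime p) (Hens.Hsh (Localization.AtPrime p))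
    rw [Set.encard, this, ← h1]
    exact hn
  haveI : Module.Flat (Localization.AtPrime p) (Hens.Hsh (Localization.AtPrime p)) :=
    Hens.flat_of_isStrictHenselization _ _
  haveI : Module.Flat Γ(X, V) (Hens.Hsh (Localization.AtPrime p)) :=
    Module.Flat.trans Γ(X, V) (Localization.AtPrime p) _
  obtain ⟨S, _, _, _, f, hf⟩ := BranchEtaleRing.exists_etale_encard_le
    (HensPrimeStrict.coveredByEtale p (Hens.Hsh (Localization.AtPrime p))) n h2
  set q : Ideal S := (maximalIdeal (Hens.Hsh (Localization.AtPrime p))).comap f.toRingHom with hq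
  have hqp : q.comap (algebraMap Γ(X, V) S) = p :=
    (HensPrime.comap_comap p (Hens.Hsh (Localization.AtPrime p)) f).symm
  refine ⟨Spec (CommRingCat.of S),
    Spec.map (CommRingCat.ofHom (algebraMap Γ(X, V) S)) ≫ hV.fromSpec,
    (⟨q, inferInstance⟩ : Spec (CommRingCat.of S)), etale_Spec_map_comp_fromSpec hV S,
    Spec_map_comp_fromSpec_apply hV S x hxV q hqp, ?_⟩
  rw [CompStalk.encard_irreducibleComponents_mem_eq]
  letI : Algebra S ((Spec (CommRingCat.of S)).presheaf.stalk
      (⟨q, inferInstance⟩ : Spec (CommRingCat.of S))) :=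
    StructureSheaf.stalkAlgebra (R := S) ⟨q, inferInstance⟩
  haveI : IsLocalization.AtPrime ((Spec (CommRingCat.of S)).presheaf.stalk
      (⟨q, inferInstance⟩ : Spec (CommRingCat.of S))) q :=
    StructureSheaf.IsLocalization.to_stalk (R := S) ⟨q, inferInstance⟩
  exact hf _

end Scheme

end Groth.Agent.Lib.Helper87.BranchEtale
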