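import Mathlib
import Groth.Agent.Lib.Helper87.PurelyInsepTensor

set_option autoImplicit false
set_option linter.style.haveILetI false
universe u

/-!
# Tensor products with purely inseparable residue extension, second form (helper87)

`isLocalRing_tensor_right`: for local rings `R → A` (integral, local map) and `R → B` local with
purely inseparable residue field extension (elementwise form), the ring `A ⊗[R] B` is local.
-/

namespace Groth.Agent.Lib.Helper87.PurelyInsepTensor

open IsLocalRing TensorProduct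

section

variable (R A B : Type u) [CommRing R] [IsLocalRing R]
    [CommRing A] [IsLocalRing A] [Algebra R A] [IsLocalHom (algebraMap R A)] [Algebra.IsIntegral R A]
    [CommRing B] [IsLocalRing B] [Algebra R B] [IsLocalHom (algebraMap R B)]

attribute [local instance] Algebra.TensorProduct.rightAlgebra

variable (p : ℕ) (hp : p = 1 ∨ (p.Prime ∧ (p : R) ∈ maximalIdeal R))
  (hpi : ∀ b : B, ∃ (n : ℕ) (r : R), b ^ p ^ n - algebraMap R B r ∈ maximalIdeal B)

include hp hpi in
omit [Algebra.IsIntegral R A] [IsLocalHom (algebraMap R B)] in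
theorem exists_pow_eq_left (x : A ⊗[R] B) : ∃ (n : ℕ) (a : A),
    Ideal.Quotient.mk (bigIdeal R A B) x ^ p ^ n =
      Ideal.Quotient.mk (bigIdeal R A B) (a ⊗ₜ[R] (1 : B)) := by
  have hp' := natCast_mk_eq_zero R A B p hp
  induction x with
  | zero => exact ⟨0, 0, by simp⟩
  | tmul a b =>
    obtain ⟨n, r, hr⟩ := hpi b
    refine ⟨n, r • a ^ p ^ n, ?_⟩
    rw [← map_pow, Ideal.Quotient.eq, Algebra.TensorProduct.tmul_pow, smul_tmul,
      Algebra.smul_def, mul_one, ← tmul_sub]
    exact tmul_mem_bigIdeal_right R A B _ hr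
  | add x y hx hy =>
    obtain ⟨n, b, hb⟩ := hx
    obtain ⟨m, c, hc⟩ := hy
    refine ⟨n + m, b ^ p ^ m + c ^ p ^ n, ?_⟩
    rw [map_add, add_pow_of p hp', pow_add, pow_mul, hb, mul_comm, pow_mul, hc, add_tmul,
      map_add, ← map_pow, ← map_pow, Algebra.TensorProduct.tmul_pow, one_pow,
      Algebra.TensorProduct.tmul_pow, one_pow]

include hp hpi in
theorem isLocalRing_tensor_right : IsLocalRing (A ⊗[R] B) := by
  haveI hnt : Nontrivial (A ⊗[R] B) := nontrivial_tensor R A B
  have hjac := bigIdeal_le_jacobson R A B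
  have hp0 : p ≠ 0 := by
    rcases hp with h | ⟨h, -⟩
    · rw [h]; exact one_ne_zero
    · exact h.ne_zero
  have key : ∀ x : A ⊗[R] B, IsUnit x ∨ x ∈ Ideal.jacobson (⊥ : Ideal (A ⊗[R] B)) := by
    intro x
    obtain ⟨n, a, ha⟩ := exists_pow_eq_left R A B p hp hpi x
    rw [← map_pow, Ideal.Quotient.eq] at ha
    by_cases hau : IsUnit a
    · left
      have h1 : IsUnit (a ⊗ₜ[R] (1 : B)) :=
        hau.map (Algebra.TensorProduct.includeLeft : A →ₐ[R] A ⊗[R] B)
      have h2 := hjac ha
      obtain ⟨u, hu⟩ := h1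
      have h3 := (Ideal.mem_jacobson_bot.mp h2) (↑u⁻¹)
      have h4 : IsUnit (x ^ p ^ n) := by
        have e : x ^ p ^ n = ((x ^ p ^ n - a ⊗ₜ[R] (1 : B)) * ↑u⁻¹ + 1) * ↑u := by
          rw [add_mul, mul_assoc, Units.inv_mul, mul_one, one_mul, hu, sub_add_cancel]
        rw [e]
        exact h3.mul u.isUnit
      exact (isUnit_pow_iff (pow_ne_zero n hp0)).mp h4
    · right
      have h1 : a ⊗ₜ[R] (1 : B) ∈ bigIdeal R A B := tmul_mem_bigIdeal_left R A B hau 1
      have h2 : x ^ p ^ n ∈ bigIdeal R A B := by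
        have := Ideal.add_mem _ ha h1
        rwa [sub_add_cancel] at this
      apply Ideal.mem_sInf.mpr
      rintro M ⟨-, hM⟩
      haveI := hM
      exact hM.isPrime.mem_of_pow_mem _ (bigIdeal_le_of_isMaximal R A B M h2)
  apply IsLocalRing.of_isUnit_or_isUnit_one_sub_self
  intro x
  rcases key x with h | h
  · exact Or.inl h
  · right
    have := (Ideal.mem_jacobson_bot.mp h) (-1)
    rwa [mul_neg, mul_one, neg_add_eq_sub] at this

end

end Groth.Agent.Lib.Helper87.PurelyInsepTensor
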