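import Mathlib
import Groth.Agent.Lib.Helper87.SmoothPrime
import Groth.Agent.Lib.Helper87.PurelyInsepTensor3
import Groth.Agent.Lib.Helper87.Unibranch2
import Groth.Agent.Lib.Helper69.HensQFinite

set_option autoImplicit false
set_option linter.style.haveILetI false
universe u

/-!
# Prime ideals of the base in henselizations of smooth algebras (helper87)

Henselization analogue of `SmoothPrime`: `R` local, `I` a prime with `R ⧸ I` unibranch, `R'` smooth
over `R`, `p` a prime of `R'` over the maximal ideal with purely inseparable residue field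
extension (elementwise form), `Bh` a henselization of `R'_p`: the extension of `I` to `Bh` is prime.
-/

open IsLocalRing TensorProduct

namespace Groth.Agent.Lib.Helper87.SmoothPrimeHens

open Groth.Agent.Lib.Helper87.Unibranch Groth.Agent.Lib.Helper87.SmoothUnibranch

attribute [local instance] Algebra.TensorProduct.rightAlgebra

section Normal

variable (R N : Type u) [CommRing R] [CommRing N] [IsDomain N] [IsIntegrallyClosed N] [Algebra R N]
  (R' : Type u) [CommRing R'] [Algebra R R'] [Algebra.Smooth R R'] (p : Ideal R') [p.IsPrime]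

theorem isDomain_and_isIntegrallyClosed_tensor
    [IsLocalRing (N ⊗[R] Localization.AtPrime p)] :
    IsDomain (N ⊗[R] Localization.AtPrime p) ∧
      IsIntegrallyClosed (N ⊗[R] Localization.AtPrime p) := by
  let φ : N ⊗[R] R' →ₐ[N] N ⊗[R] Localization.AtPrime p :=
    Algebra.TensorProduct.map (AlgHom.id N N) (IsScalarTower.toAlgHom R R' (Localization.AtPrime p))
  letI algSD : Algebra (N ⊗[R] R') (N ⊗[R] Localization.AtPrime p) := φ.toRingHom.toAlgebra
  haveI : IsScalarTower N (N ⊗[R] R') (N ⊗[R] Localization.AtPrime p) :=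
    IsScalarTower.of_algebraMap_eq' φ.comp_algebraMap.symm
  have H : (algebraMap (N ⊗[R] R') (N ⊗[R] Localization.AtPrime p)).comp
      (Algebra.TensorProduct.includeRight : R' →ₐ[R] N ⊗[R] R').toRingHom =
      (Algebra.TensorProduct.includeRight : Localization.AtPrime p →ₐ[R]
        N ⊗[R] Localization.AtPrime p).toRingHom.comp (algebraMap R' (Localization.AtPrime p)) := by
    ext x
    show φ ((1 : N) ⊗ₜ[R] x) = (1 : N) ⊗ₜ[R] algebraMap R' (Localization.AtPrime p) x
    simp [φ]
  haveI hlocS : IsLocalization (p.primeCompl.map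
      (Algebra.TensorProduct.includeRight (R := R) (A := N)))
      (N ⊗[R] Localization.AtPrime p) :=
    IsLocalization.tensorProduct_tensorProduct_right R N p.primeCompl (Localization.AtPrime p) H
  haveI hPprime : ((maximalIdeal (N ⊗[R] Localization.AtPrime p)).comap
      (algebraMap (N ⊗[R] R') (N ⊗[R] Localization.AtPrime p))).IsPrime :=
    Ideal.comap_isPrime _ _
  haveI hAt : IsLocalization.AtPrime (N ⊗[R] Localization.AtPrime p)
      ((maximalIdeal (N ⊗[R] Localization.AtPrime p)).comap
        (algebraMap (N ⊗[R] R') (N ⊗[R] Localization.AtPrime p))) := by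
    refine IsLocalization.of_le (p.primeCompl.map
      (Algebra.TensorProduct.includeRight (R := R) (A := N))) _ ?_ ?_
    · intro m hm hmem
      have hu : IsUnit (algebraMap (N ⊗[R] R') (N ⊗[R] Localization.AtPrime p) m) :=
        IsLocalization.map_units (N ⊗[R] Localization.AtPrime p) ⟨m, hm⟩
      exact hmem hu
    · intro r hr
      by_contra hnu
      exact hr hnu
  exact SmoothNormal.isDomain_and_isIntegrallyClosed N (N ⊗[R] R')
    ((maximalIdeal (N ⊗[R] Localization.AtPrime p)).comap
      (algebraMap (N ⊗[R] R') (N ⊗[R] Localization.AtPrime p)))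
    (N ⊗[R] Localization.AtPrime p)

end Normal

section Hens

variable (A Ah : Type u) [CommRing A] [IsLocalRing A] [CommRing Ah] [IsLocalRing Ah]
  [Algebra A Ah] [IsLocalHom (algebraMap A Ah)] [Hensel.IsHenselization A Ah]

theorem hasPres_hens : IndEt.HasPres A Ah := by
  obtain ⟨e⟩ := Hens.nonempty_algEquiv_Hh A Ah
  exact IndEt.exists_filtered_colimit_of_equiv e.symm Hens.H.exists_filtered_colimit

end Hens

section Tensor

variable (R N : Type u) [CommRing R] [IsLocalRing R] [CommRing N] [IsLocalRing N] [IsDomain N]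
  [IsIntegrallyClosed N] [Algebra R N] [IsLocalHom (algebraMap R N)] [Algebra.IsIntegral R N]
  (ℓ : ℕ) (hℓ : ℓ = 1 ∨ (ℓ.Prime ∧ (ℓ : R) ∈ maximalIdeal R))
  (R' : Type u) [CommRing R'] [Algebra R R'] [Algebra.Smooth R R'] (p : Ideal R') [p.IsPrime]
  (hp : (maximalIdeal R).map (algebraMap R R') ≤ p)
  (hpi : ∀ c : Localization.AtPrime p, ∃ (n : ℕ) (r : R),
    c ^ ℓ ^ n - algebraMap R (Localization.AtPrime p) r ∈ maximalIdeal (Localization.AtPrime p))

include hℓ hp hpi in
theorem isDomain_tensor_tensor_hens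
    (Bh : Type u) [CommRing Bh] [IsLocalRing Bh] [Algebra (Localization.AtPrime p) Bh]
    [IsLocalHom (algebraMap (Localization.AtPrime p) Bh)]
    [Hensel.IsHenselization (Localization.AtPrime p) Bh] :
    IsDomain ((N ⊗[R] Localization.AtPrime p) ⊗[Localization.AtPrime p] Bh) := by
  haveI hlh : IsLocalHom (algebraMap R (Localization.AtPrime p)) :=
    isLocalHom_localization R R' p hp
  haveI hlocD : IsLocalRing (N ⊗[R] Localization.AtPrime p) :=
    PurelyInsepTensor.isLocalRing_tensor_right R N (Localization.AtPrime p) ℓ hℓ hpi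
  obtain ⟨hdomD, hicD⟩ := isDomain_and_isIntegrallyClosed_tensor R N R' p
  haveI := hdomD
  haveI := hicD
  haveI : Algebra.IsIntegral (Localization.AtPrime p) (N ⊗[R] Localization.AtPrime p) :=
    HensIntegral.isIntegral_right R N (Localization.AtPrime p)
  haveI : IsLocalHom (algebraMap (Localization.AtPrime p) (N ⊗[R] Localization.AtPrime p)) :=
    Groth.Agent.Lib.Helper9.isLocalHom_of_isIntegral
  obtain ⟨hlocT, -, -⟩ := HensIntegral.isLocalRing_and_henselian (Localization.AtPrime p)
    (N ⊗[R] Localization.AtPrime p) Bh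
  haveI := hlocT
  have hpres : IndEt.HasPres (N ⊗[R] Localization.AtPrime p)
      ((N ⊗[R] Localization.AtPrime p) ⊗[Localization.AtPrime p] Bh) :=
    Groth.Agent.S0733.result (Localization.AtPrime p) Bh (N ⊗[R] Localization.AtPrime p)
      (hasPres_hens (Localization.AtPrime p) Bh)
  exact IndEtDomain.isDomain_of_hasPres hpres

end Tensor

section Main

variable (R : Type u) [CommRing R] [IsLocalRing R] (I : Ideal R) [I.IsPrime]
  (R' : Type u) [CommRing R'] [Algebra R R'] [Algebra.Smooth R R'] (p : Ideal R') [p.IsPrime]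

theorem isPrime_map_map_of_isUnibranch (hI : CAlg2.IsUnibranch (R ⧸ I))
    (hp : (maximalIdeal R).map (algebraMap R R') ≤ p)
    (hpi : ∀ c : Localization.AtPrime p, ∃ (n : ℕ) (r : R),
      c ^ (ringExpChar (ResidueField R)) ^ n - algebraMap R (Localization.AtPrime p) r ∈
        maximalIdeal (Localization.AtPrime p))
    (Bh : Type u) [CommRing Bh] [IsLocalRing Bh] [Algebra (Localization.AtPrime p) Bh]
    [IsLocalHom (algebraMap (Localization.AtPrime p) Bh)]
    [Hensel.IsHenselization (Localization.AtPrime p) Bh] :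
    ((I.map (algebraMap R (Localization.AtPrime p))).map
      (algebraMap (Localization.AtPrime p) Bh)).IsPrime := by
  obtain ⟨hd, hl⟩ := hI
  haveI := hd
  haveI := hl
  haveI : IsIntegrallyClosed (CAlg2.normRed (R ⧸ I)) := isIntegrallyClosed_normRed (R ⧸ I)
  haveI : Algebra.IsIntegral R (CAlg2.normRed (R ⧸ I)) :=
    Algebra.IsIntegral.trans (R ⧸ I)
  haveI : IsLocalHom (algebraMap R (CAlg2.normRed (R ⧸ I))) :=
    Groth.Agent.Lib.Helper9.isLocalHom_of_isIntegral
  set N := CAlg2.normRed (R ⧸ I) with hN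
  have hℓ := PurelyInsepTensor.ringExpChar_residueField_spec R
  have hinj : Function.Injective (algebraMap (R ⧸ I) N) := by
    rw [injective_iff_map_eq_zero]
    intro x hx
    rw [IsScalarTower.algebraMap_apply (R ⧸ I) (CAlg2.red (R ⧸ I)) N] at hx
    have h1 : ((algebraMap (CAlg2.red (R ⧸ I)) N (algebraMap (R ⧸ I) (CAlg2.red (R ⧸ I)) x) :
        N) : FractionRing (CAlg2.red (R ⧸ I))) = 0 := by rw [hx]; rfl
    have h2 : algebraMap (CAlg2.red (R ⧸ I)) (FractionRing (CAlg2.red (R ⧸ I)))
        (algebraMap (R ⧸ I) (CAlg2.red (R ⧸ I)) x) = 0 := h1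
    have h3 : algebraMap (R ⧸ I) (CAlg2.red (R ⧸ I)) x = 0 :=
      (map_eq_zero_iff _ (IsFractionRing.injective (CAlg2.red (R ⧸ I))
        (FractionRing (CAlg2.red (R ⧸ I))))).mp h2
    have hx' : x ∈ nilradical (R ⧸ I) := Ideal.Quotient.eq_zero_iff_mem.mp h3
    exact (mem_nilradical.mp hx').eq_zero
  have hker : RingHom.ker (algebraMap R N) = I := by
    ext r
    rw [RingHom.mem_ker, IsScalarTower.algebraMap_apply R (R ⧸ I) N,
      map_eq_zero_iff _ hinj]
    exact Ideal.Quotient.eq_zero_iff_mem
  haveI hW : IsDomain ((N ⊗[R] Localization.AtPrime p) ⊗[Localization.AtPrime p] Bh) :=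
    isDomain_tensor_tensor_hens R N _ hℓ R' p hp hpi Bh
  haveI : Module.Flat R (Localization.AtPrime p) := Module.Flat.trans R R' _
  haveI : Module.Flat (Localization.AtPrime p) Bh :=
    Hens.flat_of_isHenselization (Localization.AtPrime p) Bh
  have h1 : RingHom.ker (algebraMap (Localization.AtPrime p) (N ⊗[R] Localization.AtPrime p)) =
      I.map (algebraMap R (Localization.AtPrime p)) := by
    have h0 := SmoothPrime.ker_includeRight_of_flat R N (Localization.AtPrime p)
    rw [hker] at h0
    exact h0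
  have h2 := SmoothPrime.ker_includeRight_of_flat (Localization.AtPrime p)
    (N ⊗[R] Localization.AtPrime p) Bh
  rw [h1] at h2
  rw [← h2]
  exact RingHom.ker_isPrime _

end Main

section Quot

variable (R : Type u) [CommRing R] [HenselianLocalRing R] (I : Ideal R) [I.IsPrime]

theorem isUnibranch_quotient : CAlg2.IsUnibranch (R ⧸ I) := by
  haveI : HenselianLocalRing (R ⧸ I) :=
    Groth.Agent.Lib.Helper69.HensFinite.henselianLocalRing_of_isIntegral R (R ⧸ I)
  haveI := Groth.Agent.Lib.Helper69.HensQFinite.isHenselization_self (R ⧸ I)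
  exact (isUnibranch_iff (R ⧸ I) (R ⧸ I)).mpr (hasUniqueMinimalPrime_of_isDomain (R ⧸ I))

end Quot

end Groth.Agent.Lib.Helper87.SmoothPrimeHens
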