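import Mathlib
import Groth.Agent.S9459
import Groth.Agent.Lib.Helper87.SmoothPrimeHens
import Groth.Agent.Lib.Helper87.SmoothMinPrimes

set_option autoImplicit false
set_option linter.style.haveILetI false
universe u

/-!
# Minimal primes of henselizations along smooth maps with purely inseparable residue extension
(helper87)

* `exists_hens_map`: a local homomorphism `A → B` extends to a local homomorphism between
  henselizations.
* `encard_minimalPrimes_eq_hens`: `R → S` smooth, `q` over `p` with purely inseparable residue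
  field extension (elementwise form): henselizations of `R_p` and `S_q` have the same number of
  minimal primes.
-/

open IsLocalRing TensorProduct

namespace Groth.Agent.Lib.Helper87.SmoothMinPrimesHens

section Map

variable (A B T U : Type u) [CommRing A] [IsLocalRing A] [CommRing B] [IsLocalRing B]
  (f : A →+* B) [IsLocalHom f]
  [CommRing T] [IsLocalRing T] [Algebra A T] [IsLocalHom (algebraMap A T)]
  [Hensel.IsHenselization A T]
  [CommRing U] [IsLocalRing U] [Algebra B U] [IsLocalHom (algebraMap B U)]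
  [Hensel.IsHenselization B U]

omit [IsLocalHom f] [Hensel.IsHenselization B U] [IsLocalRing B] [IsLocalHom (algebraMap B U)] in
theorem isLocalHom_of_comp (φ : T →+* U)
    (hφ : φ.comp (algebraMap A T) = (algebraMap B U).comp f)
    (hg : IsLocalHom ((algebraMap B U).comp f)) : IsLocalHom φ := by
  refine ⟨fun x hx => ?_⟩
  by_contra hnu
  have hmem : x ∈ maximalIdeal T := (mem_maximalIdeal x).mpr hnu
  rw [← Hens.map_maximalIdeal_of_isHenselization A T] at hmem
  have hle : (maximalIdeal A).map (algebraMap A T) ≤ (maximalIdeal U).comap φ := by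
    rw [Ideal.map_le_iff_le_comap]
    intro a ha
    rw [Ideal.mem_comap, Ideal.mem_comap]
    have h1 : φ (algebraMap A T a) = ((algebraMap B U).comp f) a := congrArg (fun g => g a) hφ
    rw [h1, mem_maximalIdeal]
    intro hu
    exact ha (hg.map_nonunit a hu)
  exact hle hmem hx

theorem exists_hens_map :
    ∃ φ : T →+* U, IsLocalHom φ ∧ φ.comp (algebraMap A T) = (algebraMap B U).comp f := by
  have hT : Hensel.IsHenselization A T := inferInstance
  have hU : Hensel.IsHenselization B U := inferInstance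
  haveI : HenselianLocalRing U := hU.henselian
  haveI hgl : IsLocalHom ((algebraMap B U).comp f) := RingHom.isLocalHom_comp _ _
  obtain ⟨φ, hφ, -⟩ := hT.universal U ((algebraMap B U).comp f) hgl
  exact ⟨φ, isLocalHom_of_comp A B T U f φ hφ hgl, hφ⟩

end Map

section Main

open Groth.Agent.S9459

variable (R : Type u) [CommRing R] (S : Type u)
    [CommRing S] [Algebra R S] (p : Ideal R) [p.IsPrime] (q : Ideal S) [q.IsPrime] [q.LiesOver p]
    (Rh : Type u) [CommRing Rh] [IsLocalRing Rh] [Algebra (Localization.AtPrime p) Rh]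
    [IsLocalHom (algebraMap (Localization.AtPrime p) Rh)]
    [Hensel.IsHenselization (Localization.AtPrime p) Rh] [Algebra R Rh]
    [IsScalarTower R (Localization.AtPrime p) Rh]
    (Sh : Type u) [CommRing Sh] [IsLocalRing Sh] [Algebra (Localization.AtPrime q) Sh]
    [IsLocalHom (algebraMap (Localization.AtPrime q) Sh)]
    [Hensel.IsHenselization (Localization.AtPrime q) Sh] [Algebra S Sh]
    [IsScalarTower S (Localization.AtPrime q) Sh] [Algebra R Sh] [IsScalarTower R S Sh]
    [Algebra Rh Sh] [IsScalarTower R Rh Sh]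

omit [Hensel.IsHenselization (Localization.AtPrime p) Rh]
  [Hensel.IsHenselization (Localization.AtPrime q) Sh] [IsLocalRing Rh] [IsLocalRing Sh]
  [IsLocalHom (algebraMap (Localization.AtPrime p) Rh)]
  [IsLocalHom (algebraMap (Localization.AtPrime q) Sh)] in
theorem square :
    (algebraMap (Localization.AtPrime q) Sh).comp
      (Localization.localRingHom p q (algebraMap R S) (Ideal.LiesOver.over (P := q) (p := p))) =
    (algebraMap Rh Sh).comp (algebraMap (Localization.AtPrime p) Rh) := by
  refine IsLocalization.ringHom_ext p.primeCompl ?_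
  ext r
  simp only [RingHom.comp_apply, Localization.localRingHom_to_map]
  rw [← IsScalarTower.algebraMap_apply S (Localization.AtPrime q) Sh,
    ← IsScalarTower.algebraMap_apply R S Sh,
    ← IsScalarTower.algebraMap_apply R (Localization.AtPrime p) Rh,
    ← IsScalarTower.algebraMap_apply R Rh Sh]

include p q in
theorem isLocalHom_Rh_Sh : IsLocalHom (algebraMap Rh Sh) := by
  haveI : IsLocalHom (Localization.localRingHom p q (algebraMap R S)
      (Ideal.LiesOver.over (P := q) (p := p))) := Localization.isLocalHom_localRingHom _ _ _ _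
  exact isLocalHom_of_comp (Localization.AtPrime p) (Localization.AtPrime q) Rh Sh
    (Localization.localRingHom p q (algebraMap R S) (Ideal.LiesOver.over (P := q) (p := p)))
    (algebraMap Rh Sh) (square R S p q Rh Sh).symm (RingHom.isLocalHom_comp _ _)

/-- elementwise form of the purely inseparable residue field extension. -/
def PIHyp : Prop :=
  ∀ x : ResidueField (Localization.AtPrime q), ∃ (n : ℕ) (w : ResidueField (Localization.AtPrime p)),
    x ^ (ringExpChar (ResidueField Rh)) ^ n =
      ResidueField.map (Localization.localRingHom p q (algebraMap R S)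
        (Ideal.LiesOver.over (P := q) (p := p))) w

include p q in
theorem exists_pow_sub_mem (hpi : PIHyp R S p q Rh) (s : S) :
    ∃ (n : ℕ) (a : Rh),
      (algebraMap (Rh ⊗[R] S) (Localization.AtPrime (QQ R S Rh Sh)) ((1 : Rh) ⊗ₜ[R] s)) ^
          (ringExpChar (ResidueField Rh)) ^ n -
        algebraMap Rh (Localization.AtPrime (QQ R S Rh Sh)) a ∈
        maximalIdeal (Localization.AtPrime (QQ R S Rh Sh)) := by
  obtain ⟨n, w, hw⟩ := hpi (residue _ (algebraMap S (Localization.AtPrime q) s))
  obtain ⟨a₀, rfl⟩ := residue_surjective w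
  refine ⟨n, algebraMap (Localization.AtPrime p) Rh a₀, ?_⟩
  rw [ResidueField.map_residue, ← map_pow, ← sub_eq_zero, ← map_sub, residue_eq_zero_iff] at hw
  -- push to `Sh`
  have h1 : algebraMap (Localization.AtPrime q) Sh
      ((algebraMap S (Localization.AtPrime q) s) ^ (ringExpChar (ResidueField Rh)) ^ n -
        Localization.localRingHom p q (algebraMap R S) (Ideal.LiesOver.over (P := q) (p := p)) a₀) ∈
      maximalIdeal Sh := by
    rw [mem_maximalIdeal] at hw ⊢
    intro hu
    exact hw (isUnit_of_map_unit _ _ hu)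
  have hsq := congrArg (fun g => g a₀) (square R S p q Rh Sh)
  simp only [RingHom.comp_apply] at hsq
  rw [map_sub, map_pow, hsq, ← IsScalarTower.algebraMap_apply S (Localization.AtPrime q) Sh] at h1
  have hφl : ∀ a : Rh, phi R S Rh Sh (a ⊗ₜ 1) = algebraMap Rh Sh a := by intro a; simp [phi]
  have hφr : ∀ s : S, phi R S Rh Sh (1 ⊗ₜ s) = algebraMap S Sh s := by intro s; simp [phi]
  have h2 : psi R S Rh Sh
      ((algebraMap (Rh ⊗[R] S) (Localization.AtPrime (QQ R S Rh Sh)) ((1 : Rh) ⊗ₜ[R] s)) ^
          (ringExpChar (ResidueField Rh)) ^ n -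
        algebraMap Rh (Localization.AtPrime (QQ R S Rh Sh))
          (algebraMap (Localization.AtPrime p) Rh a₀)) =
      (algebraMap S Sh s) ^ (ringExpChar (ResidueField Rh)) ^ n -
        algebraMap Rh Sh (algebraMap (Localization.AtPrime p) Rh a₀) := by
    rw [map_sub, map_pow, psi_algebraMap, hφr,
      IsScalarTower.algebraMap_apply Rh (Rh ⊗[R] S) (Localization.AtPrime (QQ R S Rh Sh)),
      psi_algebraMap, Algebra.TensorProduct.algebraMap_apply, Algebra.algebraMap_self,
      RingHom.id_apply, hφl]
  rw [← h2] at h1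
  rw [mem_maximalIdeal] at h1 ⊢
  intro hu
  exact h1 (hu.map (psi R S Rh Sh))

include p q in
theorem isLocalHom_Rh_C :
    IsLocalHom (algebraMap Rh (Localization.AtPrime (QQ R S Rh Sh))) := by
  haveI := isLocalHom_Rh_Sh R S p q Rh Sh
  have hφl : ∀ a : Rh, phi R S Rh Sh (a ⊗ₜ 1) = algebraMap Rh Sh a := by intro a; simp [phi]
  refine ⟨fun a ha => ?_⟩
  have h1 := ha.map (psi R S Rh Sh)
  rw [IsScalarTower.algebraMap_apply Rh (Rh ⊗[R] S) (Localization.AtPrime (QQ R S Rh Sh)),
    psi_algebraMap, Algebra.TensorProduct.algebraMap_apply, Algebra.algebraMap_self,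
    RingHom.id_apply, hφl] at h1
  exact isUnit_of_map_unit _ _ h1

include p q in
theorem exists_pow_sub_mem_all (hpi : PIHyp R S p q Rh) :
    ∀ c : Localization.AtPrime (QQ R S Rh Sh),
    ∃ (n : ℕ) (a : Rh), c ^ (ringExpChar (ResidueField Rh)) ^ n -
        algebraMap Rh (Localization.AtPrime (QQ R S Rh Sh)) a ∈
        maximalIdeal (Localization.AtPrime (QQ R S Rh Sh)) := by
  haveI := isLocalHom_Rh_C R S p q Rh Sh
  set C := Localization.AtPrime (QQ R S Rh Sh) with hC
  set F := perfectClosure (ResidueField Rh) (ResidueField C) with hF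
  intro c
  have hS : ∀ s : S, residue C (algebraMap (Rh ⊗[R] S) C ((1 : Rh) ⊗ₜ[R] s)) ∈ F := by
    intro s
    obtain ⟨n, a, h⟩ := exists_pow_sub_mem R S p q Rh Sh hpi s
    rw [mem_perfectClosure_iff]
    refine ⟨n, residue Rh a, ?_⟩
    rw [ResidueField.algebraMap_residue, ← map_pow]
    symm
    rw [← sub_eq_zero, ← map_sub, residue_eq_zero_iff]
    exact h
  have hRh : ∀ a : Rh, residue C (algebraMap (Rh ⊗[R] S) C (a ⊗ₜ[R] (1 : S))) ∈ F := by
    intro a
    have h1 : residue C (algebraMap (Rh ⊗[R] S) C (a ⊗ₜ[R] (1 : S))) =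
        algebraMap (ResidueField Rh) (ResidueField C) (residue Rh a) := by
      rw [ResidueField.algebraMap_residue, IsScalarTower.algebraMap_apply Rh (Rh ⊗[R] S) C,
        Algebra.TensorProduct.algebraMap_apply, Algebra.algebraMap_self, RingHom.id_apply]
    rw [h1]
    exact F.algebraMap_mem _
  have hall : ∀ x : Rh ⊗[R] S, residue C (algebraMap (Rh ⊗[R] S) C x) ∈ F := by
    intro x
    induction x with
    | zero => simp only [map_zero]; exact F.zero_mem
    | tmul a s =>
      have e : a ⊗ₜ[R] s = (a ⊗ₜ[R] (1 : S)) * ((1 : Rh) ⊗ₜ[R] s) := by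
        rw [Algebra.TensorProduct.tmul_mul_tmul, mul_one, one_mul]
      rw [e, map_mul, map_mul]
      exact F.mul_mem (hRh a) (hS s)
    | add x y hx hy =>
      rw [map_add, map_add]
      exact F.add_mem hx hy
  have hc : residue C c ∈ F := by
    obtain ⟨x, y, rfl⟩ := IsLocalization.exists_mk'_eq (QQ R S Rh Sh).primeCompl c
    have h5 : IsLocalization.mk' C x y * algebraMap _ _ (y : Rh ⊗[R] S) = algebraMap _ _ x :=
      IsLocalization.mk'_spec _ _ _
    have hyu : IsUnit (algebraMap (Rh ⊗[R] S) C (y : Rh ⊗[R] S)) := IsLocalization.map_units _ y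
    have hy0 : residue C (algebraMap (Rh ⊗[R] S) C (y : Rh ⊗[R] S)) ≠ 0 := by
      intro h0
      exact ((residue_eq_zero_iff _).mp h0) hyu
    have h6 : residue C (IsLocalization.mk' C x y) =
        residue C (algebraMap _ _ x) * (residue C (algebraMap (Rh ⊗[R] S) C (y : Rh ⊗[R] S)))⁻¹ := by
      rw [eq_mul_inv_iff_mul_eq₀ hy0, ← map_mul, h5]
    rw [h6]
    exact F.mul_mem (hall x) (F.inv_mem (hall _))
  rw [hF, mem_perfectClosure_iff] at hc
  obtain ⟨n, w, hw⟩ := hc
  obtain ⟨a, rfl⟩ := residue_surjective w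
  refine ⟨n, a, ?_⟩
  rw [ResidueField.algebraMap_residue, ← map_pow] at hw
  rw [← residue_eq_zero_iff, map_sub, sub_eq_zero]
  exact hw.symm

include p q in
theorem isPrime_map [Algebra.Smooth R S] (hpi : PIHyp R S p q Rh) (P : Ideal Rh) [P.IsPrime] :
    (P.map (algebraMap Rh Sh)).IsPrime ∧ Module.FaithfullyFlat Rh Sh := by
  letI algC : Algebra (Localization.AtPrime (QQ R S Rh Sh)) Sh := (psi R S Rh Sh).toAlgebra
  haveI : IsLocalHom (algebraMap (Localization.AtPrime (QQ R S Rh Sh)) Sh) :=
    isLocalHom_psi R S Rh Sh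
  have hSh : Hensel.IsHenselization (Localization.AtPrime q) Sh := inferInstance
  haveI hSH : Hensel.IsHenselization (Localization.AtPrime (QQ R S Rh Sh)) Sh :=
    { henselian := hSh.henselian
      universal := fun T _ _ f hf => UP R S p q Rh Sh T f hf }
  haveI hloc : IsLocalHom (algebraMap Rh Sh) := isLocalHom_Rh_Sh R S p q Rh Sh
  have hRh : Hensel.IsHenselization (Localization.AtPrime p) Rh := inferInstance
  haveI : HenselianLocalRing Rh := hRh.henselian
  have hφl : ∀ a : Rh, phi R S Rh Sh (a ⊗ₜ 1) = algebraMap Rh Sh a := by intro a; simp [phi]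
  have hcomp : (algebraMap (Localization.AtPrime (QQ R S Rh Sh)) Sh).comp
      (algebraMap Rh (Localization.AtPrime (QQ R S Rh Sh))) = algebraMap Rh Sh := by
    ext a
    rw [RingHom.comp_apply,
      IsScalarTower.algebraMap_apply Rh (Rh ⊗[R] S) (Localization.AtPrime (QQ R S Rh Sh))]
    show psi R S Rh Sh _ = _
    rw [psi_algebraMap, Algebra.TensorProduct.algebraMap_apply, Algebra.algebraMap_self,
      RingHom.id_apply, hφl]
  haveI : IsScalarTower Rh (Localization.AtPrime (QQ R S Rh Sh)) Sh :=
    IsScalarTower.of_algebraMap_eq' hcomp.symm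
  have hp : (maximalIdeal Rh).map (algebraMap Rh (Rh ⊗[R] S)) ≤ QQ R S Rh Sh := by
    rw [Ideal.map_le_iff_le_comap]
    intro a ha
    rw [Ideal.mem_comap, Ideal.mem_comap, Algebra.TensorProduct.algebraMap_apply,
      Algebra.algebraMap_self, RingHom.id_apply, hφl]
    rw [mem_maximalIdeal] at ha ⊢
    intro hu
    exact ha (isUnit_of_map_unit _ _ hu)
  have hprime := SmoothPrimeHens.isPrime_map_map_of_isUnibranch Rh P (Rh ⊗[R] S) (QQ R S Rh Sh)
    (SmoothPrimeHens.isUnibranch_quotient Rh P) hp
    (exists_pow_sub_mem_all R S p q Rh Sh hpi) Sh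
  rw [Ideal.map_map, hcomp] at hprime
  refine ⟨hprime, ?_⟩
  haveI : Module.Flat Rh (Localization.AtPrime (QQ R S Rh Sh)) := Module.Flat.trans Rh (Rh ⊗[R] S) _
  haveI : Module.Flat (Localization.AtPrime (QQ R S Rh Sh)) Sh :=
    Hens.flat_of_isHenselization _ Sh
  haveI : Module.Flat Rh Sh := Module.Flat.trans Rh (Localization.AtPrime (QQ R S Rh Sh)) Sh
  exact Module.FaithfullyFlat.of_flat_of_isLocalHom

include p q in
theorem encard_minimalPrimes_eq_hens [Algebra.Smooth R S] (hpi : PIHyp R S p q Rh) :
    (minimalPrimes Rh).encard = (minimalPrimes Sh).encard := by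
  haveI : Module.FaithfullyFlat Rh Sh := (isPrime_map R S p q Rh Sh hpi (maximalIdeal Rh)).2
  refine SmoothMinPrimes.encard_minimalPrimes_eq_of_map_isPrime Rh Sh (fun P hP => ?_)
  haveI := hP.1.1
  exact (isPrime_map R S p q Rh Sh hpi P).1

end Main

end Groth.Agent.Lib.Helper87.SmoothMinPrimesHens
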