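import Mathlib
import Groth.Prelude.Def_Hens2
import Groth.Agent.S2130
import Groth.Agent.S9237
import Groth.Agent.Lib.Helper87.BranchEtale

set_option autoImplicit false
set_option linter.style.haveILetI false
universe u

/-!
# Branches via elementary étale neighbourhoods (helper87)

* `isHenselization_of_ringEquiv`, `numBranches_eq_of_ringEquiv`.
* `residueField_map_bijective_iff`, `residueField_map_bijective_iff_of_equiv`: elementwise
  criterion for bijectivity of the residue field map of a local homomorphism and its invariance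
  under isomorphisms of arrows.
* `residueFieldMap_bijective_iff`: the residue field map of a morphism of schemes at a point in
  terms of affine charts.
* `numBranchesAt_eq_of_etaleNbhd`, `encard_comps_le_numBranchesAt`, `exists_etaleNbhd_le`.
-/

open IsLocalRing TensorProduct AlgebraicGeometry CategoryTheory

namespace Groth.Agent.Lib.Helper87.BranchEtaleHens

section Equiv

variable {A A' S : Type u} [CommRing A] [IsLocalRing A] [CommRing A'] [IsLocalRing A']
  [CommRing S] [IsLocalRing S]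
  [Algebra A S] [IsLocalHom (algebraMap A S)] [Hensel.IsHenselization A S]
  [Algebra A' S] [IsLocalHom (algebraMap A' S)]

theorem isHenselization_of_ringEquiv (e : A ≃+* A')
    (he : ∀ a, algebraMap A' S (e a) = algebraMap A S a) : Hensel.IsHenselization A' S := by
  have hS : Hensel.IsHenselization A S := inferInstance
  refine ⟨hS.henselian, ?_⟩
  intro T _ _ f hf
  haveI := hf
  have hloc : IsLocalHom (f.comp (e : A →+* A')) := RingHom.isLocalHom_comp _ _
  obtain ⟨g, hg1, hguniq⟩ := hS.universal T (f.comp (e : A →+* A')) hloc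
  refine ⟨g, ?_, ?_⟩
  · ext a'
    obtain ⟨a, rfl⟩ := e.surjective a'
    have h1 := congrArg (fun φ => φ a) hg1
    simp only [RingHom.comp_apply] at h1
    rw [RingHom.comp_apply, he]
    exact h1
  · intro g' hg'1
    refine hguniq g' ?_
    ext a
    have h1 := congrArg (fun φ => φ (e a)) hg'1
    simp only [RingHom.comp_apply] at h1
    rw [RingHom.comp_apply, ← he]
    exact h1

end Equiv

section Ring

theorem numBranches_eq_of_ringEquiv {A A' : Type u} [CommRing A] [IsLocalRing A]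
    [CommRing A'] [IsLocalRing A'] (e : A ≃+* A') :
    Brnch.numBranches A = Brnch.numBranches A' := by
  haveI := Hens.isHenselization_Hh A
  letI : Algebra A' (Hens.Hh A) :=
    ((algebraMap A (Hens.Hh A)).comp (e.symm : A' →+* A)).toAlgebra
  haveI : IsLocalHom (algebraMap A' (Hens.Hh A)) :=
    RingHom.isLocalHom_comp (algebraMap A (Hens.Hh A)) (e.symm : A' →+* A)
  haveI : Hensel.IsHenselization A' (Hens.Hh A) :=
    isHenselization_of_ringEquiv e (fun a => by
      show algebraMap A (Hens.Hh A) (e.symm (e a)) = _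
      rw [e.symm_apply_apply])
  rw [← Groth.Agent.S9237.result A (Hens.Hh A), ← Groth.Agent.S9237.result A' (Hens.Hh A)]

/-- having `n` branches, as a property of bare rings. -/
def PNB (n : ℕ∞) (A : Type u) [CommRing A] : Prop :=
  ∃ h : IsLocalRing A, @Brnch.numBranches A _ h = n

theorem PNB.of_ringEquiv (n : ℕ∞) (A A' : Type u) [CommRing A] [CommRing A'] (e : A ≃+* A')
    (h : PNB n A) : PNB n A' := by
  obtain ⟨hl, hg⟩ := h
  haveI := hl
  haveI : IsLocalRing A' := e.isLocalRing
  exact ⟨inferInstance, (numBranches_eq_of_ringEquiv e).symm.trans hg⟩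

section Residue

variable {A B A' B' : Type*} [CommRing A] [IsLocalRing A] [CommRing B] [IsLocalRing B]
  [CommRing A'] [IsLocalRing A'] [CommRing B'] [IsLocalRing B']

theorem residueField_map_bijective_iff (ψ : A →+* B) [IsLocalHom ψ] :
    Function.Bijective (ResidueField.map ψ) ↔ ∀ b : B, ∃ a : A, ψ a - b ∈ maximalIdeal B := by
  constructor
  · intro h b
    obtain ⟨y, hy⟩ := h.2 (residue B b)
    obtain ⟨a, rfl⟩ := residue_surjective y
    refine ⟨a, ?_⟩
    rw [ResidueField.map_residue] at hy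
    rw [← residue_eq_zero_iff, map_sub, hy, sub_self]
  · intro h
    refine ⟨(ResidueField.map ψ).injective, ?_⟩
    intro y
    obtain ⟨b, rfl⟩ := residue_surjective y
    obtain ⟨a, ha⟩ := h b
    refine ⟨residue A a, ?_⟩
    rw [ResidueField.map_residue]
    rw [← residue_eq_zero_iff, map_sub, sub_eq_zero] at ha
    exact ha

theorem forall_exists_sub_mem_of_equiv (ψ : A →+* B) (ψ' : A' →+* B') (eA : A ≃+* A')
    (eB : B ≃+* B') (h : ∀ a, eB (ψ a) = ψ' (eA a))
    (H : ∀ b : B, ∃ a : A, ψ a - b ∈ maximalIdeal B) :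
    ∀ b' : B', ∃ a' : A', ψ' a' - b' ∈ maximalIdeal B' := by
  intro b'
  obtain ⟨a, ha⟩ := H (eB.symm b')
  refine ⟨eA a, ?_⟩
  have h1 : ψ' (eA a) - b' = eB (ψ a - eB.symm b') := by
    rw [map_sub, h, eB.apply_symm_apply]
  rw [h1, mem_maximalIdeal, mem_nonunits_iff, isUnit_map_iff]
  exact ha

theorem residueField_map_bijective_iff_of_equiv (ψ : A →+* B) (ψ' : A' →+* B') [IsLocalHom ψ]
    [IsLocalHom ψ'] (eA : A ≃+* A') (eB : B ≃+* B') (h : ∀ a, eB (ψ a) = ψ' (eA a)) :
    Function.Bijective (ResidueField.map ψ) ↔ Function.Bijective (ResidueField.map ψ') := by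
  rw [residueField_map_bijective_iff, residueField_map_bijective_iff]
  constructor
  · exact forall_exists_sub_mem_of_equiv ψ ψ' eA eB h
  · refine forall_exists_sub_mem_of_equiv ψ' ψ eA.symm eB.symm ?_
    intro a'
    apply eB.injective
    rw [eB.apply_symm_apply, h, eA.apply_symm_apply]

end Residue

end Ring

section Scheme

theorem residueFieldMap_bijective_iff {U X : Scheme.{u}} (g : U ⟶ X) {W : X.Opens}
    (hW : IsAffineOpen W) {V : U.Opens} (hV : IsAffineOpen V) (e : V ≤ g ⁻¹ᵁ W) (u : U)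
    (hu : u ∈ V) :
    Function.Bijective (g.residueFieldMap u) ↔
      Function.Bijective (Ideal.ResidueField.map (hW.primeIdealOf ⟨g.base u, e hu⟩).asIdeal
        (hV.primeIdealOf ⟨u, hu⟩).asIdeal (g.appLE W V e).hom
        congr($(IsAffineOpen.comap_primeIdealOf_appLE W hW V hV e hu).1).symm) := by
  let E := IsAffineOpen.arrowStalkMapIso g W hW V hV e hu
  let eA := (Arrow.leftFunc.mapIso E).commRingCatIsoToRingEquiv
  let eB := (Arrow.rightFunc.mapIso E).commRingCatIsoToRingEquiv
  haveI : IsLocalHom (Localization.localRingHom (hW.primeIdealOf ⟨g.base u, e hu⟩).asIdeal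
      (hV.primeIdealOf ⟨u, hu⟩).asIdeal (g.appLE W V e).hom
      congr($(IsAffineOpen.comap_primeIdealOf_appLE W hW V hV e hu).1).symm) :=
    Localization.isLocalHom_localRingHom _ _ _ _
  have h : ∀ a, eB ((g.stalkMap u).hom a) =
      Localization.localRingHom (hW.primeIdealOf ⟨g.base u, e hu⟩).asIdeal
        (hV.primeIdealOf ⟨u, hu⟩).asIdeal (g.appLE W V e).hom
        congr($(IsAffineOpen.comap_primeIdealOf_appLE W hW V hV e hu).1).symm (eA a) := by
    intro a
    exact (congr($(E.hom.w) a)).symm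
  exact residueField_map_bijective_iff_of_equiv (g.stalkMap u).hom _ eA eB h

theorem isPurelyInseparable_of_bijective {K L : Type*} [Field K] [Field L] (φ : K →+* L)
    (h : Function.Bijective φ) : @IsPurelyInseparable K L _ _ φ.toAlgebra := by
  letI := φ.toAlgebra
  rw [isPurelyInseparable_iff]
  intro x
  obtain ⟨y, rfl⟩ := h.2 x
  exact ⟨isIntegral_algebraMap, fun _ => ⟨y, rfl⟩⟩

theorem numBranchesAt_eq_localization {X : Scheme.{u}} {V : X.Opens} (hV : IsAffineOpen V)
    (x : X) (hxV : x ∈ V) :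
    Brnch.numBranchesAt X x =
      Brnch.numBranches (Localization.AtPrime (hV.primeIdealOf ⟨x, hxV⟩).asIdeal) := by
  have := (Groth.Agent.Lib.Helper30.SmoothLocal.stalk_iff_localization
    (fun A _ => PNB (Brnch.numBranchesAt X x) A)
    (fun A A' _ _ e h => PNB.of_ringEquiv _ A A' e h) hV x hxV).mp ⟨inferInstance, rfl⟩
  obtain ⟨_, hg⟩ := this
  exact hg.symm

theorem numBranchesAt_eq_of_etaleNbhd {U X : Scheme.{u}} (g : U ⟶ X) [Etale g] (u : U)
    (hb : Function.Bijective (g.residueFieldMap u)) :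
    Brnch.numBranchesAt U u = Brnch.numBranchesAt X (g.base u) := by
  obtain ⟨W, hW, hguW, -⟩ :=
    exists_isAffineOpen_mem_and_subset (x := g.base u) (U := ⊤) (by simp)
  obtain ⟨V, hV, huV, hVW⟩ :=
    exists_isAffineOpen_mem_and_subset (x := u) (U := g ⁻¹ᵁ W) hguW
  have het : (g.appLE W V hVW).hom.Etale := g.etale_appLE hW hV hVW
  have hbij := (residueFieldMap_bijective_iff g hW hV hVW u huV).mp hb
  rw [numBranchesAt_eq_localization hV u huV, numBranchesAt_eq_localization hW (g.base u) (hVW huV)]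
  algebraize [(g.appLE W V hVW).hom]
  haveI : Algebra.Etale Γ(X, W) Γ(U, V) := het
  set q : Ideal Γ(U, V) := (hV.primeIdealOf ⟨u, huV⟩).asIdeal with hq
  set p : Ideal Γ(X, W) := (hW.primeIdealOf ⟨g.base u, hVW huV⟩).asIdeal with hp
  have hcomap : p = q.comap (algebraMap Γ(X, W) Γ(U, V)) :=
    congr($(IsAffineOpen.comap_primeIdealOf_appLE W hW V hV hVW huV).1).symm
  haveI : q.LiesOver p := ⟨hcomap⟩
  haveI := Hens.isHenselization_Hh (Localization.AtPrime p)
  haveI := Hens.isHenselization_Hh (Localization.AtPrime q)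
  have hpi : @IsPurelyInseparable p.ResidueField q.ResidueField _ _
      (Ideal.ResidueField.mapₐ p q (Algebra.ofId Γ(X, W) Γ(U, V)) (q.over_def p)).toRingHom.toAlgebra :=
    isPurelyInseparable_of_bijective _ hbij
  have h := Groth.Agent.S2130.result (Ah := Hens.Hh (Localization.AtPrime p))
    (Bh := Hens.Hh (Localization.AtPrime q)) q p hpi
  rw [← Groth.Agent.S9237.result (Localization.AtPrime p) (Hens.Hh (Localization.AtPrime p)),
    ← Groth.Agent.S9237.result (Localization.AtPrime q) (Hens.Hh (Localization.AtPrime q))]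
  exact h.symm

theorem encard_comps_le_numBranchesAt {U X : Scheme.{u}} (g : U ⟶ X) [Etale g] (u : U)
    (hb : Function.Bijective (g.residueFieldMap u)) :
    {Z : Set U | Z ∈ irreducibleComponents U ∧ u ∈ Z}.encard ≤
      Brnch.numBranchesAt X (g.base u) := by
  rw [CompStalk.encard_irreducibleComponents_mem_eq, ← numBranchesAt_eq_of_etaleNbhd g u hb]
  haveI := Hens.isHenselization_Hh (U.presheaf.stalk u)
  haveI : Module.FaithfullyFlat (U.presheaf.stalk u) (Hens.Hh (U.presheaf.stalk u)) :=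
    Hens.faithfullyFlat_of_isHenselization _ _
  show _ ≤ Brnch.numBranches (U.presheaf.stalk u)
  rw [← Groth.Agent.S9237.result (U.presheaf.stalk u) (Hens.Hh (U.presheaf.stalk u))]
  exact BranchEtaleRing.encard_minimalPrimes_le_of_faithfullyFlat _ _

theorem mem_basicOpen_iff {X : Scheme.{u}} {U : X.Opens} (hU : IsAffineOpen U)
    (x : X) (hx : x ∈ U) (t : Γ(X, U)) :
    x ∈ X.basicOpen t ↔ t ∉ (hU.primeIdealOf ⟨x, hx⟩).asIdeal := by
  have h2 : hU.fromSpec (hU.primeIdealOf ⟨x, hx⟩) = x := hU.fromSpec_primeIdealOf ⟨x, hx⟩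
  conv_lhs => rw [← h2]
  change hU.primeIdealOf ⟨x, hx⟩ ∈ hU.fromSpec ⁻¹ᵁ X.basicOpen t ↔ _
  rw [hU.fromSpec_preimage_basicOpen]
  rfl

theorem mem_primeIdealOf_top_Spec_iff (S : CommRingCat.{u}) (u : Spec S) (z : Γ(Spec S, ⊤)) :
    z ∈ ((isAffineOpen_top (Spec S)).primeIdealOf ⟨u, trivial⟩).asIdeal ↔
      (Scheme.ΓSpecIso S).hom z ∈ u.asIdeal := by
  have h := mem_basicOpen_iff (isAffineOpen_top (Spec S)) u trivial z
  rw [basicOpen_eq_of_affine'] at h
  rw [← not_iff_not, ← h]
  rfl

theorem appLE_comp_ΓSpecIso {X : Scheme.{u}} {V : X.Opens} (hV : IsAffineOpen V)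
    (S : CommRingCat.{u}) (φ : Γ(X, V) ⟶ S)
    (hle : (⊤ : (Spec S).Opens) ≤ (Spec.map φ ≫ hV.fromSpec) ⁻¹ᵁ V) :
    (Spec.map φ ≫ hV.fromSpec).appLE V ⊤ hle ≫ (Scheme.ΓSpecIso S).hom = φ := by
  rw [Scheme.Hom.comp_appLE, IsAffineOpen.fromSpec_app_self]
  simp only [Category.assoc, Scheme.Hom.map_appLE]
  rw [Iso.inv_comp_eq, ← Scheme.ΓSpecIso_naturality]
  congr 1

theorem residueField_map_bijective_of_forall' {R A : Type*} [CommRing R] [CommRing A]
    (φ : R →+* A) (p : Ideal R) [p.IsPrime] (q : Ideal A) [q.IsPrime] (hq : p = q.comap φ)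
    (h : ∀ s : A, ∃ a t : R, t ∉ p ∧ s * φ t - φ a ∈ q) :
    Function.Bijective (Ideal.ResidueField.map p q φ hq) := by
  letI := φ.toAlgebra
  exact HensPrime.residueField_map_bijective_of_forall p q hq h

theorem le_preimage_Spec_map_comp_fromSpec {X : Scheme.{u}} {V : X.Opens} (hV : IsAffineOpen V)
    (S : CommRingCat.{u}) (φ : Γ(X, V) ⟶ S) :
    (⊤ : (Spec S).Opens) ≤ (Spec.map φ ≫ hV.fromSpec) ⁻¹ᵁ V := by
  intro y _
  show (Spec.map φ ≫ hV.fromSpec).base y ∈ V
  rw [Scheme.Hom.comp_base, TopCat.comp_app]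
  have : hV.fromSpec.base ((Spec.map φ).base y) ∈ Set.range hV.fromSpec.base := ⟨_, rfl⟩
  rw [hV.range_fromSpec] at this
  exact this

theorem residue_bijective_Spec {X : Scheme.{u}} {V : X.Opens} (hV : IsAffineOpen V) (x : X)
    (hxV : x ∈ V) (S : CommRingCat.{u}) (φ : Γ(X, V) ⟶ S) (u : Spec S)
    (hgu : (Spec.map φ ≫ hV.fromSpec).base u = x)
    (h : ∀ s : S, ∃ a t : Γ(X, V), t ∉ (hV.primeIdealOf ⟨x, hxV⟩).asIdeal ∧
      s * φ.hom t - φ.hom a ∈ u.asIdeal) :
    Function.Bijective ((Spec.map φ ≫ hV.fromSpec).residueFieldMap u) := by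
  have hle := le_preimage_Spec_map_comp_fromSpec hV S φ
  rw [residueFieldMap_bijective_iff (Spec.map φ ≫ hV.fromSpec) hV (isAffineOpen_top (Spec S)) hle u
    trivial]
  have hx' : (⟨(Spec.map φ ≫ hV.fromSpec).base u, hle trivial⟩ : V) = ⟨x, hxV⟩ :=
    Subtype.ext hgu
  have h1' := appLE_comp_ΓSpecIso hV S φ hle
  have h1'' : ∀ r : Γ(X, V), (Scheme.ΓSpecIso S).hom
      (((Spec.map φ ≫ hV.fromSpec).appLE V ⊤ hle).hom r) = φ.hom r := fun r => congr($h1' r)
  refine residueField_map_bijective_of_forall' _ _ _ _ ?_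
  intro s'
  obtain ⟨a, t, ht, hmem⟩ := h ((Scheme.ΓSpecIso S).hom s')
  refine ⟨a, t, ?_, ?_⟩
  · rw [hx']
    exact ht
  · rw [mem_primeIdealOf_top_Spec_iff, map_sub, map_mul, h1'', h1'']
    exact hmem

theorem exists_etaleNbhd_le (X : Scheme.{u}) (x : X) (n : ℕ)
    (hn : (n : ℕ∞) ≤ Brnch.numBranchesAt X x) :
    ∃ (U : Scheme.{u}) (g : U ⟶ X) (u : U), Hens2.IsEtaleNbhd g u x ∧
      (n : ℕ∞) ≤ {Z : Set U | Z ∈ irreducibleComponents U ∧ u ∈ Z}.encard := by
  obtain ⟨V, hV, hxV, -⟩ := exists_isAffineOpen_mem_and_subset (U := ⊤) (x := x) (by simp)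
  set p : Ideal Γ(X, V) := (hV.primeIdealOf ⟨x, hxV⟩).asIdeal with hp
  have h1 := numBranchesAt_eq_localization hV x hxV
  haveI := Hens.isHenselization_Hh (Localization.AtPrime p)
  letI : Algebra Γ(X, V) (Hens.Hh (Localization.AtPrime p)) :=
    ((algebraMap (Localization.AtPrime p) (Hens.Hh (Localization.AtPrime p))).comp
      (algebraMap Γ(X, V) (Localization.AtPrime p))).toAlgebra
  haveI : IsScalarTower Γ(X, V) (Localization.AtPrime p) (Hens.Hh (Localization.AtPrime p)) :=
    IsScalarTower.of_algebraMap_eq' rfl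
  have h2 : (n : ℕ∞) ≤ (minimalPrimes (Hens.Hh (Localization.AtPrime p))).encard := by
    have := Groth.Agent.S9237.result (Localization.AtPrime p) (Hens.Hh (Localization.AtPrime p))
    rw [Set.encard, this, ← h1]
    exact hn
  haveI : Module.Flat (Localization.AtPrime p) (Hens.Hh (Localization.AtPrime p)) :=
    Hens.flat_of_isHenselization _ _
  haveI : Module.Flat Γ(X, V) (Hens.Hh (Localization.AtPrime p)) :=
    Module.Flat.trans Γ(X, V) (Localization.AtPrime p) _
  obtain ⟨S, _, _, _, f, hf⟩ := BranchEtaleRing.exists_etale_encard_le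
    (HensPrimeStrict.coveredByEtale_hens p (Hens.Hh (Localization.AtPrime p))) n h2
  set q : Ideal S := (maximalIdeal (Hens.Hh (Localization.AtPrime p))).comap f.toRingHom with hq
  have hqp : q.comap (algebraMap Γ(X, V) S) = p :=
    (HensPrime.comap_comap p (Hens.Hh (Localization.AtPrime p)) f).symm
  have hgu := BranchEtale.Spec_map_comp_fromSpec_apply hV S x hxV q hqp
  have het := BranchEtale.etale_Spec_map_comp_fromSpec hV S
  refine ⟨Spec (CommRingCat.of S),
    Spec.map (CommRingCat.ofHom (algebraMap Γ(X, V) S)) ≫ hV.fromSpec,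
    (⟨q, inferInstance⟩ : Spec (CommRingCat.of S)), ⟨het, hgu, ?_⟩, ?_⟩
  · refine residue_bijective_Spec hV x hxV (CommRingCat.of S)
      (CommRingCat.ofHom (algebraMap Γ(X, V) S)) ⟨q, inferInstance⟩ hgu ?_
    intro s
    obtain ⟨a, t, ht, hmem⟩ := HensPrime.exists_sub_mem p (Hens.Hh (Localization.AtPrime p)) (f s)
    refine ⟨a, t, ht, ?_⟩
    show s * algebraMap Γ(X, V) S t - algebraMap Γ(X, V) S a ∈ q
    rw [hq, Ideal.mem_comap]
    show f _ ∈ _
    rw [map_sub, map_mul, AlgHom.commutes, AlgHom.commutes]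
    exact hmem
  · rw [CompStalk.encard_irreducibleComponents_mem_eq]
    letI : Algebra S ((Spec (CommRingCat.of S)).presheaf.stalk
        (⟨q, inferInstance⟩ : Spec (CommRingCat.of S))) :=
      StructureSheaf.stalkAlgebra (R := S) ⟨q, inferInstance⟩
    haveI : IsLocalization.AtPrime ((Spec (CommRingCat.of S)).presheaf.stalk
        (⟨q, inferInstance⟩ : Spec (CommRingCat.of S))) q :=
      StructureSheaf.IsLocalization.to_stalk (R := S) ⟨q, inferInstance⟩
    exact hf _

end Scheme

end Groth.Agent.Lib.Helper87.BranchEtaleHens
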