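import Mathlib
import Groth.Agent.Lib.Helper87.PunctConn

/-!
# Scheme form: geometric unibranchness versus connectedness of punctured strict henselizations
-/

set_option autoImplicit false
set_option linter.style.haveILetI false
universe u

open IsLocalRing CategoryTheory AlgebraicGeometry TopologicalSpace

namespace Groth.Agent.Lib.Helper87.PunctConn

open Groth.Agent.Lib.Helper87 Groth.Agent.Lib.Helper87.GeomUnibranchSmooth

section Top

variable {T : Type*} [TopologicalSpace T] [QuasiSober T] [T0Space T]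

theorem closure_mem_irreducibleComponents_iff (x : T) :
    closure {x} ∈ irreducibleComponents T ↔ ∀ z : T, z ⤳ x → z = x := by
  rw [irreducibleComponents_eq_maximals_closed]
  constructor
  · intro h z hz
    have hzx : closure {x} ⊆ closure {z} := by
      rw [← specializes_iff_closure_subset]; exact hz
    have hxz : closure {z} ⊆ closure {x} :=
      h.2 ⟨isClosed_closure, isIrreducible_singleton.closure⟩ hzx
    have h2 : x ⤳ z := specializes_iff_closure_subset.mpr hxz
    exact (hz.antisymm h2).eq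
  · intro h
    refine ⟨⟨isClosed_closure, isIrreducible_singleton.closure⟩, ?_⟩
    rintro Z' ⟨hcl, hirr⟩ hle
    obtain ⟨z, hz⟩ := QuasiSober.sober hirr hcl
    have hxZ' : x ∈ Z' := hle (subset_closure rfl)
    have hzx : z ⤳ x := by
      rw [specializes_iff_mem_closure, hz.def]
      exact hxZ'
    rw [← hz.def, h z hzx]

end Top

section Scheme

variable (X : Scheme.{u})

theorem closure_mem_irreducibleComponents_of_mem (x : X)
    (hm : maximalIdeal (X.presheaf.stalk x) ∈ minimalPrimes (X.presheaf.stalk x)) :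
    closure ({x} : Set X) ∈ irreducibleComponents X := by
  rw [closure_mem_irreducibleComponents_iff]
  intro z hz
  have hz' : z ∈ Set.range (X.fromSpecStalk x) := by
    rw [Scheme.range_fromSpecStalk]; exact hz
  obtain ⟨P, rfl⟩ := hz'
  have hP : P = closedPoint (X.presheaf.stalk x) := by
    apply PrimeSpectrum.ext
    have hle : P.asIdeal ≤ maximalIdeal (X.presheaf.stalk x) :=
      IsLocalRing.le_maximalIdeal (Ideal.IsPrime.ne_top inferInstance)
    exact le_antisymm hle (hm.2 ⟨inferInstance, bot_le⟩ hle)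
  rw [hP, Scheme.fromSpecStalk_closedPoint]

theorem mem_minimalPrimes_of_closure_mem {U : X.Opens} (hU : IsAffineOpen U)
    (p : PrimeSpectrum Γ(X, U))
    (h : closure ({hU.fromSpec p} : Set X) ∈ irreducibleComponents X) :
    p.asIdeal ∈ minimalPrimes Γ(X, U) := by
  rw [closure_mem_irreducibleComponents_iff] at h
  refine ⟨⟨inferInstance, bot_le⟩, ?_⟩
  rintro p' ⟨hp', -⟩ hle
  have hsp : (⟨p', hp'⟩ : PrimeSpectrum Γ(X, U)) ⤳ p :=
    (PrimeSpectrum.le_iff_specializes _ _).mp hle
  have h2 := h _ (hsp.map hU.fromSpec.continuous)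
  have h3 := hU.fromSpec.isOpenEmbedding.injective h2
  rw [← h3]

theorem forward (x : X) (hx : CAlg2.IsGeomUnibranch (X.presheaf.stalk x))
    (hgen : closure ({x} : Set X) ∉ irreducibleComponents X)
    (Ash : Type u) [CommRing Ash] [IsLocalRing Ash] [Algebra (X.presheaf.stalk x) Ash]
    [IsLocalHom (algebraMap (X.presheaf.stalk x) Ash)]
    [Hensel.IsStrictHenselization (X.presheaf.stalk x) Ash] :
    ConnectedSpace ↥({IsLocalRing.closedPoint Ash}ᶜ : Set (PrimeSpectrum Ash)) :=
  connectedSpace_punctured (X.presheaf.stalk x) Ash hx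
    (fun hm => hgen (closure_mem_irreducibleComponents_of_mem X x hm))

theorem backward [IsLocallyNoetherian X]
    (H : ∀ (x : X), closure ({x} : Set X) ∉ irreducibleComponents X →
        ∀ (Ash : Type u) [CommRing Ash] [IsLocalRing Ash] [Algebra (X.presheaf.stalk x) Ash]
          [IsLocalHom (algebraMap (X.presheaf.stalk x) Ash)]
          [Hensel.IsStrictHenselization (X.presheaf.stalk x) Ash],
          ConnectedSpace ↥({IsLocalRing.closedPoint Ash}ᶜ : Set (PrimeSpectrum Ash)))
    (x : X) : CAlg2.IsGeomUnibranch (X.presheaf.stalk x) := by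
  obtain ⟨_, ⟨U : X.Opens, hU : IsAffineOpen U, rfl⟩, hxU, -⟩ :=
    X.isBasis_affineOpens.exists_subset_of_mem_open (Set.mem_univ x) isOpen_univ
  haveI : IsNoetherianRing Γ(X, U) := IsLocallyNoetherian.component_noetherian ⟨U, hU⟩
  have key : ∀ (p : Ideal Γ(X, U)) [p.IsPrime], p ∉ minimalPrimes Γ(X, U) →
      HasConnModel Γ(X, U) p := by
    intro p _ hp
    have hy : hU.fromSpec ⟨p, inferInstance⟩ ∈ U := by
      have h1 : hU.fromSpec ⟨p, inferInstance⟩ ∈ Set.range hU.fromSpec := ⟨_, rfl⟩
      rw [hU.range_fromSpec] at h1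
      exact h1
    letI := TopCat.Presheaf.algebra_section_stalk X.presheaf ⟨hU.fromSpec ⟨p, inferInstance⟩, hy⟩
    haveI : IsLocalization.AtPrime (X.presheaf.stalk (hU.fromSpec ⟨p, inferInstance⟩)) p :=
      hU.isLocalization_stalk' ⟨p, inferInstance⟩ hy
    have hgen : closure ({hU.fromSpec ⟨p, inferInstance⟩} : Set X) ∉ irreducibleComponents X :=
      fun h => hp (mem_minimalPrimes_of_closure_mem X hU ⟨p, inferInstance⟩ h)
    haveI := Hens.isStrictHenselization_Hsh (X.presheaf.stalk (hU.fromSpec ⟨p, inferInstance⟩))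
    have hc := H _ hgen (Hens.Hsh (X.presheaf.stalk (hU.fromSpec ⟨p, inferInstance⟩)))
    exact ⟨X.presheaf.stalk (hU.fromSpec ⟨p, inferInstance⟩), inferInstance, inferInstance,
      inferInstance, inferInstance,
      Hens.Hsh (X.presheaf.stalk (hU.fromSpec ⟨p, inferInstance⟩)), inferInstance, inferInstance,
      inferInstance, inferInstance, inferInstance, hc.toPreconnectedSpace⟩
  have hpgu := pgu_localization_of_connModel Γ(X, U) key (hU.primeIdealOf ⟨x, hxU⟩).asIdeal
  letI := TopCat.Presheaf.algebra_section_stalk X.presheaf ⟨x, hxU⟩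
  haveI := hU.isLocalization_stalk ⟨x, hxU⟩
  obtain ⟨_, hg⟩ := pgu_of_isLocalization' Γ(X, U) (B := X.presheaf.stalk x)
    (hU.primeIdealOf ⟨x, hxU⟩).asIdeal hpgu
  exact hg

end Scheme

end Groth.Agent.Lib.Helper87.PunctConn
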