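import Mathlib
import Groth.Prelude.Def_EGA4Misc
import Groth.Agent.Lib.Helper87.GULocalize
import Groth.Agent.Lib.Helper87.PunctConnScheme
import Groth.Agent.Lib.Helper87.BranchEtaleHens

/-!
# Geometric unibranchness along an integral birational morphism of schemes
-/

set_option autoImplicit false
set_option linter.style.haveILetI false
universe u

open IsLocalRing CategoryTheory AlgebraicGeometry TopologicalSpace

namespace Groth.Agent.Lib.Helper87.GUScheme

open Groth.Agent.Lib.Helper87 Groth.Agent.Lib.Helper87.GUIntegral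
  Groth.Agent.Lib.Helper87.GeomUnibranchSmooth Groth.Agent.Lib.Helper87.GUModel

section Residue

variable {A B A' B' : Type*} [CommRing A] [IsLocalRing A] [CommRing B] [IsLocalRing B]
  [CommRing A'] [IsLocalRing A'] [CommRing B'] [IsLocalRing B']

theorem isPurelyInseparable_iff_pielem (ψ : A →+* B) [IsLocalHom ψ] :
    (ResidueField.map ψ).IsPurelyInseparable ↔ PIelem ψ := by
  letI := (ResidueField.map ψ).toAlgebra
  show IsPurelyInseparable (ResidueField A) (ResidueField B) ↔ _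
  rw [isPurelyInseparable_iff_pow_mem (ResidueField A) (ringExpChar (ResidueField A))]
  constructor
  · intro h b
    obtain ⟨n, y, hy⟩ := h (residue B b)
    obtain ⟨a, rfl⟩ := residue_surjective y
    refine ⟨n, a, ?_⟩
    rw [← residue_eq_zero_iff, map_sub, map_pow, ← hy, sub_eq_zero]
    exact (ResidueField.map_residue ψ a).symm
  · intro h x
    obtain ⟨b, rfl⟩ := residue_surjective x
    obtain ⟨n, a, ha⟩ := h b
    refine ⟨n, residue A a, ?_⟩
    rw [← residue_eq_zero_iff, map_sub, map_pow, sub_eq_zero] at ha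
    rw [ha]
    exact ResidueField.map_residue ψ a

theorem PIelem.of_equiv' (ψ : A →+* B) (ψ' : A' →+* B') (eA : A ≃+* A') (eB : B ≃+* B')
    (h : ∀ a, eB (ψ a) = ψ' (eA a)) (H : PIelem ψ) : PIelem ψ' := by
  have hexp : ringExpChar (ResidueField A') = ringExpChar (ResidueField A) :=
    ringExpChar_eq_of_injective (ResidueField.mapEquiv eA).toRingHom
      (ResidueField.mapEquiv eA).injective
  intro b'
  obtain ⟨n, a, ha⟩ := H (eB.symm b')
  refine ⟨n, eA a, ?_⟩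
  have h1 : b' ^ (ringExpChar (ResidueField A')) ^ n - ψ' (eA a) =
      eB ((eB.symm b') ^ (ringExpChar (ResidueField A)) ^ n - ψ a) := by
    rw [map_sub, map_pow, h, eB.apply_symm_apply, hexp]
  rw [h1, mem_maximalIdeal, mem_nonunits_iff, isUnit_map_iff]
  exact ha

end Residue

section SchemeResidue

theorem residueFieldMap_isPurelyInseparable_iff {X Y : Scheme.{u}} (f : X ⟶ Y) {V : Y.Opens}
    (hV : IsAffineOpen V) {W : X.Opens} (hW : IsAffineOpen W) (e : W ≤ f ⁻¹ᵁ V) (x : X)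
    (hx : x ∈ W) :
    (f.residueFieldMap x).hom.IsPurelyInseparable ↔
      PIelem (Localization.localRingHom (hV.primeIdealOf ⟨f x, e hx⟩).asIdeal
        (hW.primeIdealOf ⟨x, hx⟩).asIdeal (f.appLE V W e).hom
        congr($(IsAffineOpen.comap_primeIdealOf_appLE V hV W hW e hx).1).symm) := by
  let E := IsAffineOpen.arrowStalkMapIso f V hV W hW e hx
  let eA := (Arrow.leftFunc.mapIso E).commRingCatIsoToRingEquiv
  let eB := (Arrow.rightFunc.mapIso E).commRingCatIsoToRingEquiv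
  have h : ∀ a, eB ((f.stalkMap x).hom a) =
      Localization.localRingHom (hV.primeIdealOf ⟨f x, e hx⟩).asIdeal
        (hW.primeIdealOf ⟨x, hx⟩).asIdeal (f.appLE V W e).hom
        congr($(IsAffineOpen.comap_primeIdealOf_appLE V hV W hW e hx).1).symm (eA a) := by
    intro a
    exact (congr($(E.hom.w) a)).symm
  have h1 : (f.residueFieldMap x).hom.IsPurelyInseparable ↔ PIelem (f.stalkMap x).hom :=
    isPurelyInseparable_iff_pielem (f.stalkMap x).hom
  rw [h1]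
  constructor
  · exact PIelem.of_equiv' _ _ eA eB h
  · refine PIelem.of_equiv' _ _ eA.symm eB.symm ?_
    intro a'
    apply eB.injective
    have h2 := h (eA.symm a')
    have h3 : eA (eA.symm a') = a' := eA.apply_symm_apply a'
    rw [h3] at h2
    exact (eB.apply_symm_apply _).trans h2.symm

end SchemeResidue

section Points

variable {X : Scheme.{u}} {U : X.Opens} (hU : IsAffineOpen U)

include hU in
theorem fromSpec_mem (q : Spec Γ(X, U)) : hU.fromSpec q ∈ U := by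
  have h1 : hU.fromSpec q ∈ Set.range hU.fromSpec := ⟨_, rfl⟩
  rw [hU.range_fromSpec] at h1
  exact h1

theorem primeIdealOf_fromSpec (q : Spec Γ(X, U)) :
    hU.primeIdealOf ⟨hU.fromSpec q, fromSpec_mem hU q⟩ = q := by
  apply hU.fromSpec.isOpenEmbedding.injective
  exact hU.fromSpec_primeIdealOf ⟨_, fromSpec_mem hU q⟩

theorem exists_eq_primeIdealOf (Q : Ideal Γ(X, U)) [hQ : Q.IsPrime] :
    ∃ x, ∃ hx : x ∈ U, Q = (hU.primeIdealOf ⟨x, hx⟩).asIdeal :=
  ⟨hU.fromSpec ⟨Q, hQ⟩, fromSpec_mem hU _,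
    (congrArg PrimeSpectrum.asIdeal (primeIdealOf_fromSpec hU ⟨Q, hQ⟩)).symm⟩

theorem eq_of_primeIdealOf_eq {x x' : X} (hx : x ∈ U) (hx' : x' ∈ U)
    (h : (hU.primeIdealOf ⟨x, hx⟩).asIdeal = (hU.primeIdealOf ⟨x', hx'⟩).asIdeal) : x = x' := by
  have h1 : hU.primeIdealOf ⟨x, hx⟩ = hU.primeIdealOf ⟨x', hx'⟩ := PrimeSpectrum.ext h
  have h2 := hU.fromSpec_primeIdealOf ⟨x, hx⟩
  rw [h1, hU.fromSpec_primeIdealOf] at h2
  exact h2.symm

theorem mem_genericPoints_iff (x : X) (hx : x ∈ U) :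
    x ∈ genericPoints X ↔ (hU.primeIdealOf ⟨x, hx⟩).asIdeal ∈ minimalPrimes Γ(X, U) := by
  constructor
  · intro h
    apply PunctConn.mem_minimalPrimes_of_closure_mem X hU
    rw [hU.fromSpec_primeIdealOf]
    exact h
  · intro hmin
    show closure {x} ∈ irreducibleComponents X
    rw [PunctConn.closure_mem_irreducibleComponents_iff]
    intro z hz
    have hzU : z ∈ U := hz.mem_open U.isOpen hx
    have e1 := hU.fromSpec_primeIdealOf ⟨z, hzU⟩
    have e2 := hU.fromSpec_primeIdealOf ⟨x, hx⟩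
    simp only at e1 e2
    rw [← e1, ← e2] at hz
    have hz' : hU.primeIdealOf ⟨z, hzU⟩ ⤳ hU.primeIdealOf ⟨x, hx⟩ :=
      hU.fromSpec.isOpenEmbedding.isInducing.specializes_iff.mp hz
    have hle : (hU.primeIdealOf ⟨z, hzU⟩).asIdeal ≤ (hU.primeIdealOf ⟨x, hx⟩).asIdeal :=
      (PrimeSpectrum.le_iff_specializes _ _).mpr hz'
    have hge := hmin.2 ⟨(hU.primeIdealOf ⟨z, hzU⟩).isPrime, bot_le⟩ hle
    exact eq_of_primeIdealOf_eq hU hzU hx (le_antisymm hle hge)

end Points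

section Bir

variable {X Y : Scheme.{u}} (f : X ⟶ Y) {V : Y.Opens} (hV : IsAffineOpen V)
  (hW : IsAffineOpen (f ⁻¹ᵁ V))

theorem comap_primeIdealOf_eq (x : X) (hx : x ∈ f ⁻¹ᵁ V) (y : Y) (hy : y ∈ V) (hxy : f x = y) :
    (hW.primeIdealOf ⟨x, hx⟩).asIdeal.comap (f.appLE V (f ⁻¹ᵁ V) le_rfl).hom =
      (hV.primeIdealOf ⟨y, hy⟩).asIdeal := by
  subst hxy
  exact congr($(IsAffineOpen.comap_primeIdealOf_appLE V hV (f ⁻¹ᵁ V) hW le_rfl hx).1)

theorem eq_of_comap_primeIdealOf_eq (x : X) (hx : x ∈ f ⁻¹ᵁ V) (y : Y) (hy : y ∈ V)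
    (h : (hW.primeIdealOf ⟨x, hx⟩).asIdeal.comap (f.appLE V (f ⁻¹ᵁ V) le_rfl).hom =
      (hV.primeIdealOf ⟨y, hy⟩).asIdeal) : f x = y := by
  rw [comap_primeIdealOf_eq f hV hW x hx (f x) hx rfl] at h
  exact eq_of_primeIdealOf_eq hV hx hy h

include hV hW in
theorem birRing_of_isBirational (hf : RadPt.IsBirational f) :
    letI : Algebra Γ(Y, V) Γ(X, f ⁻¹ᵁ V) := (f.appLE V (f ⁻¹ᵁ V) le_rfl).hom.toAlgebra
    BirRing Γ(Y, V) Γ(X, f ⁻¹ᵁ V) := by
  letI : Algebra Γ(Y, V) Γ(X, f ⁻¹ᵁ V) := (f.appLE V (f ⁻¹ᵁ V) le_rfl).hom.toAlgebra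
  refine ⟨?_, ?_, ?_, ?_⟩
  · intro P hP
    haveI := hP.1.1
    obtain ⟨y', hy', rfl⟩ := exists_eq_primeIdealOf hV P
    have hgen : y' ∈ genericPoints Y := (mem_genericPoints_iff hV y' hy').mpr hP
    obtain ⟨x', hx'gen, rfl⟩ := hf.1.surjOn hgen
    exact ⟨(hW.primeIdealOf ⟨x', hy'⟩).asIdeal, inferInstance,
      comap_primeIdealOf_eq f hV hW x' hy' _ hy' rfl⟩
  · intro Q Q' hQ hQ' hmin heq
    haveI := hQ
    haveI := hQ'
    obtain ⟨x, hx, rfl⟩ := exists_eq_primeIdealOf hW Q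
    obtain ⟨x', hx', rfl⟩ := exists_eq_primeIdealOf hW Q'
    have e1 := comap_primeIdealOf_eq f hV hW x hx (f x) hx rfl
    change (hW.primeIdealOf ⟨x, hx⟩).asIdeal.comap (f.appLE V (f ⁻¹ᵁ V) le_rfl).hom ∈ _ at hmin
    change (hW.primeIdealOf ⟨x', hx'⟩).asIdeal.comap (f.appLE V (f ⁻¹ᵁ V) le_rfl).hom =
      (hW.primeIdealOf ⟨x, hx⟩).asIdeal.comap (f.appLE V (f ⁻¹ᵁ V) le_rfl).hom at heq
    rw [e1] at hmin heq
    have hgen : f x ∈ genericPoints Y := (mem_genericPoints_iff hV (f x) hx).mpr hmin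
    have hfx' : f x' = f x := eq_of_comap_primeIdealOf_eq f hV hW x' hx' (f x) hx heq
    have hxx' : x' = x := (hf.2 (f x) hgen).1 x' x hfx' rfl
    subst hxx'
    rfl
  · intro Q hQ
    haveI := hQ.1.1
    obtain ⟨x, hx, rfl⟩ := exists_eq_primeIdealOf hW Q
    have hgen : x ∈ genericPoints X := (mem_genericPoints_iff hW x hx).mpr hQ
    have hgen' : f x ∈ genericPoints Y := hf.1.mapsTo hgen
    change (hW.primeIdealOf ⟨x, hx⟩).asIdeal.comap (f.appLE V (f ⁻¹ᵁ V) le_rfl).hom ∈ _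
    rw [comap_primeIdealOf_eq f hV hW x hx (f x) hx rfl]
    exact (mem_genericPoints_iff hV (f x) hx).mp hgen'
  · intro Q hQ hmin b
    haveI := hQ
    obtain ⟨x, hx, rfl⟩ := exists_eq_primeIdealOf hW Q
    have e1 := comap_primeIdealOf_eq f hV hW x hx (f x) hx rfl
    change (hW.primeIdealOf ⟨x, hx⟩).asIdeal.comap (f.appLE V (f ⁻¹ᵁ V) le_rfl).hom ∈ _ at hmin
    rw [e1] at hmin
    have hgen : f x ∈ genericPoints Y := (mem_genericPoints_iff hV (f x) hx).mpr hmin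
    have hbij : Function.Bijective (f.residueFieldMap x) := (hf.2 (f x) hgen).2 x rfl
    have hbij' := (BranchEtaleHens.residueFieldMap_bijective_iff f hV hW le_rfl x hx).mp hbij
    obtain ⟨a, t, ht, hmem⟩ := HensPrime.forall_of_residueField_map_bijective
      (hV.primeIdealOf ⟨f x, hx⟩).asIdeal (hW.primeIdealOf ⟨x, hx⟩).asIdeal e1.symm hbij' b
    refine ⟨a, t, ?_, ?_⟩
    · change t ∉ (hW.primeIdealOf ⟨x, hx⟩).asIdeal.comap (f.appLE V (f ⁻¹ᵁ V) le_rfl).hom
      rw [e1]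
      exact ht
    · rw [mul_comm]
      exact hmem

end Bir

section Main

variable {X Y : Scheme.{u}}

theorem pgu_stalk_iff {Z : Scheme.{u}} {U : Z.Opens} (hU : IsAffineOpen U) (z : Z) (hz : z ∈ U) :
    CAlg2.IsGeomUnibranch (Z.presheaf.stalk z) ↔
      PGU (Localization.AtPrime (hU.primeIdealOf ⟨z, hz⟩).asIdeal) := by
  have h := Groth.Agent.Lib.Helper30.SmoothLocal.stalk_iff_localization
    (fun A _ => PGU A) (fun A A' _ _ e h => PGU.of_ringEquiv A A' e h) hU z hz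
  rw [← h]
  exact ⟨fun h => ⟨inferInstance, h⟩, fun ⟨_, h⟩ => h⟩

theorem isGeomUnibranch_stalk_iff (f : X ⟶ Y) [IsIntegralHom f] (hf : RadPt.IsBirational f)
    (y : Y) :
    CAlg2.IsGeomUnibranch (Y.presheaf.stalk y) ↔
      (RadPt.IsRadicialAt f y ∧
        ∀ x : X, f x = y → CAlg2.IsGeomUnibranch (X.presheaf.stalk x)) := by
  obtain ⟨V, hV, hyV, -⟩ := exists_isAffineOpen_mem_and_subset (x := y) (U := ⊤) (by simp)
  have hW : IsAffineOpen (f ⁻¹ᵁ V) := hV.preimage f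
  letI : Algebra Γ(Y, V) Γ(X, f ⁻¹ᵁ V) := (f.appLE V (f ⁻¹ᵁ V) le_rfl).hom.toAlgebra
  haveI : Algebra.IsIntegral Γ(Y, V) Γ(X, f ⁻¹ᵁ V) := ⟨by
    have h := IsIntegralHom.isIntegral_app f V hV
    rw [f.app_eq_appLE] at h
    exact h⟩
  have hbir : BirRing Γ(Y, V) Γ(X, f ⁻¹ᵁ V) := birRing_of_isBirational f hV hW hf
  rw [pgu_stalk_iff hV y hyV, pgu_atPrime_iff (hV.primeIdealOf ⟨y, hyV⟩).asIdeal hbir]
  constructor
  · rintro ⟨huniq, hall⟩
    have hcomap : ∀ x (hx : f x = y),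
        (hW.primeIdealOf ⟨x, (hx ▸ hyV : f x ∈ V)⟩).asIdeal.comap
          (algebraMap Γ(Y, V) Γ(X, f ⁻¹ᵁ V)) = (hV.primeIdealOf ⟨y, hyV⟩).asIdeal :=
      fun x hx => comap_primeIdealOf_eq f hV hW x _ y hyV hx
    refine ⟨⟨?_, ?_⟩, ?_⟩
    · intro x x' hx hx'
      exact eq_of_primeIdealOf_eq hW _ _
        (huniq _ _ inferInstance inferInstance (hcomap x hx) (hcomap x' hx'))
    · intro x hx
      subst hx
      rw [residueFieldMap_isPurelyInseparable_iff f hV hW le_rfl x hyV]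
      exact (hall (hW.primeIdealOf ⟨x, hyV⟩).asIdeal (hcomap x rfl).symm).1
    · intro x hx
      subst hx
      rw [pgu_stalk_iff hW x hyV]
      exact (hall (hW.primeIdealOf ⟨x, hyV⟩).asIdeal (hcomap x rfl).symm).2
  · rintro ⟨⟨hfib, hpi⟩, hgu⟩
    refine ⟨?_, ?_⟩
    · intro q q' hq hq' h1 h2
      haveI := hq
      haveI := hq'
      obtain ⟨x, hx, rfl⟩ := exists_eq_primeIdealOf hW q
      obtain ⟨x', hx', rfl⟩ := exists_eq_primeIdealOf hW q'
      have e1 : f x = y := eq_of_comap_primeIdealOf_eq f hV hW x hx y hyV h1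
      have e2 : f x' = y := eq_of_comap_primeIdealOf_eq f hV hW x' hx' y hyV h2
      obtain rfl : x = x' := hfib x x' e1 e2
      rfl
    · intro q _ hq
      obtain ⟨x, hx, rfl⟩ := exists_eq_primeIdealOf hW q
      have e1 : f x = y := eq_of_comap_primeIdealOf_eq f hV hW x hx y hyV hq.symm
      subst e1
      refine ⟨?_, ?_⟩
      · exact (residueFieldMap_isPurelyInseparable_iff f hV hW le_rfl x hx).mp (hpi x rfl)
      · exact (pgu_stalk_iff hW x hx).mp (hgu x rfl)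

end Main

end Groth.Agent.Lib.Helper87.GUScheme
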