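import Mathlib
import Groth.Agent.Lib.Helper87.PunctConn
import Groth.Agent.Lib.Helper87.PurelyInsepTensor
import Groth.Agent.Lib.Helper35.TensorPrime
import Groth.Agent.Lib.Helper69.HensQFinite
import Groth.Agent.Lib.Helper87.GUScheme

/-!
# Lifting generizations along base changes of integral local algebras
-/

set_option autoImplicit false
set_option linter.style.haveILetI false
universe u

open IsLocalRing TensorProduct

namespace Groth.Agent.Lib.Helper87.UnivOpen

section GenLift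

/-- generizations of the image of `Q` lift to generizations of `Q` -/
def GenLift (R S : Type*) [CommRing R] [CommRing S] [Algebra R S] (Q : Ideal S) : Prop :=
  ∀ p : Ideal R, p.IsPrime → p ≤ Q.comap (algebraMap R S) →
    ∃ P : Ideal S, P.IsPrime ∧ P ≤ Q ∧ P.comap (algebraMap R S) = p

theorem hasGoingDown_of_genLift {R S : Type*} [CommRing R] [CommRing S] [Algebra R S]
    (h : ∀ Q : Ideal S, Q.IsPrime → GenLift R S Q) : Algebra.HasGoingDown R S :=
  ⟨fun {p} _ Q _ hlt => by
    obtain ⟨P, hP, hle, hc⟩ := h Q inferInstance p inferInstance hlt.le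
    exact ⟨P, hle, hP, ⟨hc.symm⟩⟩⟩

theorem GenLift.comap {R S₁ S₂ : Type*} [CommRing R] [CommRing S₁] [CommRing S₂] [Algebra R S₁]
    [Algebra R S₂] (e : S₁ →ₐ[R] S₂) (Q : Ideal S₂) (h : GenLift R S₂ Q) :
    GenLift R S₁ (Q.comap e.toRingHom) := by
  have hc : ∀ I : Ideal S₂, (I.comap e.toRingHom).comap (algebraMap R S₁) =
      I.comap (algebraMap R S₂) := by
    intro I
    rw [Ideal.comap_comap]
    congr 1
    ext r
    exact e.commutes r
  intro p hp hle
  rw [hc] at hle
  obtain ⟨P, hP, hPQ, hPp⟩ := h p hp hle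
  exact ⟨P.comap e.toRingHom, Ideal.comap_isPrime _ _, Ideal.comap_mono hPQ, (hc P).trans hPp⟩

theorem includeRight_algebraMap (R W S : Type*) [CommRing R] [CommRing W] [CommRing S]
    [Algebra R W] [Algebra R S] (r : R) :
    (Algebra.TensorProduct.includeRight : S →ₐ[R] W ⊗[R] S) (algebraMap R S r) =
      algebraMap W (W ⊗[R] S) (algebraMap R W r) := by
  rw [AlgHom.commutes, Algebra.TensorProduct.algebraMap_apply, Algebra.TensorProduct.algebraMap_apply]
  rfl

/-- descent of generization lifting along a flat base change -/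
theorem GenLift.of_flat (R W S : Type*) [CommRing R] [CommRing W] [CommRing S] [Algebra R W]
    [Module.Flat R W] [Algebra R S] (X : Ideal (W ⊗[R] S)) [X.IsPrime]
    (h : GenLift W (W ⊗[R] S) X) :
    GenLift R S (X.comap (Algebra.TensorProduct.includeRight : S →ₐ[R] W ⊗[R] S).toRingHom) := by
  intro p hp hle
  haveI := hp
  set n : Ideal W := X.comap (algebraMap W (W ⊗[R] S)) with hn
  have hmem : ∀ (I : Ideal (W ⊗[R] S)) (x : R),
      x ∈ (I.comap (Algebra.TensorProduct.includeRight : S →ₐ[R] W ⊗[R] S).toRingHom).comap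
        (algebraMap R S) ↔ x ∈ (I.comap (algebraMap W (W ⊗[R] S))).comap (algebraMap R W) := by
    intro I x
    simp only [Ideal.mem_comap]
    rw [← includeRight_algebraMap R W S x]
    rfl
  have hpn : p ≤ n.under R := by
    intro x hx
    exact (hmem X x).mp (hle hx)
  obtain ⟨n₁, hn₁le, hn₁p, hn₁o⟩ := Ideal.exists_ideal_le_liesOver_of_le (S := W) (p := p)
    (q := n.under R) n hpn
  obtain ⟨X₁, hX₁p, hX₁le, hX₁n⟩ := h n₁ hn₁p hn₁le
  refine ⟨X₁.comap (Algebra.TensorProduct.includeRight : S →ₐ[R] W ⊗[R] S).toRingHom,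
    Ideal.comap_isPrime _ _, Ideal.comap_mono hX₁le, ?_⟩
  ext x
  rw [hmem X₁ x, hX₁n, hn₁o.over]

end GenLift

section PITensor

variable (D C W : Type u) [CommRing D] [IsLocalRing D] [CommRing C] [IsLocalRing C] [Algebra D C]
  [IsLocalHom (algebraMap D C)] [CommRing W] [Algebra D W]
  (p : ℕ) (hp : p = 1 ∨ (p.Prime ∧ (p : D) ∈ maximalIdeal D))
  (hpi : ∀ c : C, ∃ (n : ℕ) (d : D), c ^ p ^ n - algebraMap D C d ∈ maximalIdeal C)

/-- the extension of the maximal ideal of `C` -/
def bigJ : Ideal (W ⊗[D] C) :=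
  (maximalIdeal C).map (Algebra.TensorProduct.includeRight : C →ₐ[D] W ⊗[D] C).toRingHom

variable {C} in
omit [IsLocalRing D] [IsLocalHom (algebraMap D C)] in
theorem tmul_mem_bigJ (w : W) {c : C} (hc : c ∈ maximalIdeal C) : w ⊗ₜ[D] c ∈ bigJ D C W := by
  have : w ⊗ₜ[D] c = (w ⊗ₜ[D] (1 : C)) * ((1 : W) ⊗ₜ[D] c) := by
    rw [Algebra.TensorProduct.tmul_mul_tmul, mul_one, one_mul]
  rw [this]
  exact Ideal.mul_mem_left _ _ (Ideal.mem_map_of_mem _ hc)

include hp in
theorem natCast_mk_bigJ :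
    p = 1 ∨ (p.Prime ∧ (p : (W ⊗[D] C) ⧸ bigJ D C W) = 0) := by
  rcases hp with h | ⟨h1, h2⟩
  · exact Or.inl h
  · refine Or.inr ⟨h1, ?_⟩
    have e : (p : (W ⊗[D] C) ⧸ bigJ D C W) =
        Ideal.Quotient.mk (bigJ D C W) ((1 : W) ⊗ₜ[D] (algebraMap D C (p : D))) := by
      rw [map_natCast, ← Algebra.TensorProduct.natCast_def', map_natCast]
    rw [e, Ideal.Quotient.eq_zero_iff_mem]
    apply tmul_mem_bigJ
    by_contra hu
    have hu' : IsUnit (algebraMap D C (p : D)) := by
      by_contra hu'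
      exact hu hu'
    exact h2 (isUnit_of_map_unit (algebraMap D C) _ hu')

include hp hpi in
theorem exists_pow_sub_mem (x : W ⊗[D] C) : ∃ (n : ℕ) (w : W),
    x ^ p ^ n - w ⊗ₜ[D] (1 : C) ∈ bigJ D C W := by
  have hp' := natCast_mk_bigJ D C W p hp
  suffices H : ∃ (n : ℕ) (w : W), Ideal.Quotient.mk (bigJ D C W) x ^ p ^ n =
      Ideal.Quotient.mk (bigJ D C W) (w ⊗ₜ[D] (1 : C)) by
    obtain ⟨n, w, h⟩ := H
    refine ⟨n, w, ?_⟩
    rwa [← map_pow, Ideal.Quotient.eq] at h
  induction x with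
  | zero => exact ⟨0, 0, by simp⟩
  | tmul w c =>
    obtain ⟨n, d, hd⟩ := hpi c
    refine ⟨n, d • w ^ p ^ n, ?_⟩
    rw [← map_pow, Ideal.Quotient.eq, Algebra.TensorProduct.tmul_pow, smul_tmul,
      Algebra.smul_def, mul_one, ← tmul_sub]
    exact tmul_mem_bigJ D W _ hd
  | add x y hx hy =>
    obtain ⟨n, b, hb⟩ := hx
    obtain ⟨m, c, hc⟩ := hy
    refine ⟨n + m, b ^ p ^ m + c ^ p ^ n, ?_⟩
    rw [map_add, PurelyInsepTensor.add_pow_of p hp', pow_add, pow_mul, hb, mul_comm, pow_mul, hc,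
      add_tmul, map_add, ← map_pow, ← map_pow, Algebra.TensorProduct.tmul_pow, one_pow,
      Algebra.TensorProduct.tmul_pow, one_pow]

include hp hpi in
/-- two primes containing the extension of the maximal ideal of `C` with the same contraction to
`W` are equal -/
theorem eq_of_comap_includeLeft_eq (X X' : Ideal (W ⊗[D] C)) [X.IsPrime] [X'.IsPrime]
    (hX : bigJ D C W ≤ X) (hX' : bigJ D C W ≤ X')
    (h : X.comap (algebraMap W (W ⊗[D] C)) = X'.comap (algebraMap W (W ⊗[D] C))) : X = X' := by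
  have hp0 : p ≠ 0 := by
    rcases hp with h | ⟨h, -⟩
    · rw [h]; exact one_ne_zero
    · exact h.ne_zero
  have key : ∀ (Y : Ideal (W ⊗[D] C)) [Y.IsPrime], bigJ D C W ≤ Y → ∀ x : W ⊗[D] C,
      ∀ (n : ℕ) (w : W), x ^ p ^ n - w ⊗ₜ[D] (1 : C) ∈ bigJ D C W →
      (x ∈ Y ↔ w ⊗ₜ[D] (1 : C) ∈ Y) := by
    intro Y _ hY x n w hmem
    have h1 := hY hmem
    constructor
    · intro hx
      have h2 : x ^ p ^ n ∈ Y := Ideal.pow_mem_of_mem _ hx _ (pow_pos (Nat.pos_of_ne_zero hp0) n)
      have := Ideal.sub_mem _ h2 h1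
      rwa [sub_sub_cancel] at this
    · intro hw
      have h2 : x ^ p ^ n ∈ Y := by
        have := Ideal.add_mem _ h1 hw
        rwa [sub_add_cancel] at this
      exact Ideal.IsPrime.mem_of_pow_mem inferInstance _ h2
  have e : ∀ (Y : Ideal (W ⊗[D] C)) (w : W),
      w ⊗ₜ[D] (1 : C) ∈ Y ↔ w ∈ Y.comap (algebraMap W (W ⊗[D] C)) := by
    intro Y w
    rw [Ideal.mem_comap, Algebra.TensorProduct.algebraMap_apply]
    rfl
  ext x
  obtain ⟨n, w, hmem⟩ := exists_pow_sub_mem D C W p hp hpi x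
  rw [key X hX x n w hmem, key X' hX' x n w hmem, e, e, h]

end PITensor

section Claim2

variable (D C W : Type u) [CommRing D] [IsLocalRing D] [CommRing C] [IsLocalRing C] [Algebra D C]
  [IsLocalHom (algebraMap D C)] [Algebra.IsIntegral D C] [CommRing W] [Algebra D W]
  (p : ℕ) (hp : p = 1 ∨ (p.Prime ∧ (p : D) ∈ maximalIdeal D))
  (hpi : ∀ c : C, ∃ (n : ℕ) (d : D), c ^ p ^ n - algebraMap D C d ∈ maximalIdeal C)
  (hsurj : ∀ P : Ideal D, P.IsPrime → ∃ Pc : Ideal C, Pc.IsPrime ∧ Pc.comap (algebraMap D C) = P)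

omit [IsLocalHom (algebraMap D C)] in
theorem bigJ_le_of_comap_eq (X : Ideal (W ⊗[D] C)) [X.IsPrime]
    (hX : X.comap (algebraMap D (W ⊗[D] C)) = maximalIdeal D) : bigJ D C W ≤ X := by
  set Xc := X.comap (Algebra.TensorProduct.includeRight : C →ₐ[D] W ⊗[D] C).toRingHom with hXc
  have h1 : Xc.comap (algebraMap D C) = maximalIdeal D := by
    rw [← hX, hXc, Ideal.comap_comap]
    congr 1
    ext d
    exact (Algebra.TensorProduct.includeRight : C →ₐ[D] W ⊗[D] C).commutes d
  haveI : Xc.IsPrime := Ideal.comap_isPrime _ _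
  have hmax : Xc.IsMaximal := Ideal.isMaximal_of_isIntegral_of_isMaximal_comap (R := D) Xc
    (h1 ▸ inferInstance)
  have h2 : Xc = maximalIdeal C := IsLocalRing.eq_maximalIdeal hmax
  rw [bigJ, Ideal.map_le_iff_le_comap, ← h2]

include hp hpi hsurj in
theorem genLift_tensor (X : Ideal (W ⊗[D] C)) [X.IsPrime]
    (hX : X.comap (algebraMap D (W ⊗[D] C)) = maximalIdeal D) : GenLift W (W ⊗[D] C) X := by
  intro n₁ hn₁ hle
  haveI := hn₁
  obtain ⟨Pc, hPc, hPcP⟩ := hsurj (n₁.comap (algebraMap D W)) (Ideal.comap_isPrime _ _)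
  haveI := hPc
  obtain ⟨Y, hY, hYl, -⟩ := Groth.Agent.Lib.Helper35.exists_prime_tensor (R := D) n₁ Pc hPcP.symm
  haveI := hY
  have hYn : Y.comap (algebraMap W (W ⊗[D] C)) = n₁ := hYl
  obtain ⟨X'', hle'', hX''p, hX''n⟩ := Ideal.exists_ideal_over_prime_of_isIntegral_of_isPrime
    (X.comap (algebraMap W (W ⊗[D] C))) Y (hYn ▸ hle)
  haveI := hX''p
  have hX''D : X''.comap (algebraMap D (W ⊗[D] C)) = maximalIdeal D := by
    rw [← hX, IsScalarTower.algebraMap_eq D W (W ⊗[D] C), ← Ideal.comap_comap,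
      ← Ideal.comap_comap, hX''n]
  have hXX : X'' = X := eq_of_comap_includeLeft_eq D C W p hp hpi X'' X
    (bigJ_le_of_comap_eq D C W X'' hX''D) (bigJ_le_of_comap_eq D C W X hX) hX''n
  exact ⟨Y, hY, hXX ▸ hle'', hYn⟩

end Claim2

section LocalHom

theorem isLocalHom_algebraMap_atPrime (D Bt : Type*) [CommRing D] [IsLocalRing D] [CommRing Bt]
    [Algebra D Bt] (xt : Ideal Bt) [xt.IsPrime] [xt.LiesOver (maximalIdeal D)] :
    IsLocalHom (algebraMap D (Localization.AtPrime xt)) := by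
  constructor
  intro d hd
  by_contra hnu
  have hm : d ∈ maximalIdeal D := hnu
  rw [xt.over_def (maximalIdeal D)] at hm
  have h1 : algebraMap D Bt d ∈ xt := hm
  have h2 : algebraMap Bt (Localization.AtPrime xt) (algebraMap D Bt d) ∈
      maximalIdeal (Localization.AtPrime xt) := by
    rw [← Localization.AtPrime.comap_maximalIdeal (I := xt)] at h1
    exact h1
  rw [← IsScalarTower.algebraMap_apply] at h2
  exact h2 hd

end LocalHom

section ThmL

variable (D : Type u) [CommRing D] [HenselianLocalRing D] (Bt : Type u) [CommRing Bt] [Algebra D Bt]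
  [Algebra.FiniteType D Bt] (xt : Ideal Bt) [xt.IsPrime] [xt.LiesOver (maximalIdeal D)]
  [Algebra.QuasiFiniteAt D xt] (W : Type u) [CommRing W] [Algebra D W]
  (p : ℕ) (hp : p = 1 ∨ (p.Prime ∧ (p : D) ∈ maximalIdeal D))
  (hpi : ∀ c : Localization.AtPrime xt, ∃ (n : ℕ) (d : D),
    c ^ p ^ n - algebraMap D (Localization.AtPrime xt) d ∈ maximalIdeal (Localization.AtPrime xt))
  (hsurj : ∀ P : Ideal D, P.IsPrime → ∃ Pc : Ideal (Localization.AtPrime xt),
    Pc.IsPrime ∧ Pc.comap (algebraMap D (Localization.AtPrime xt)) = P)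

include hp hpi hsurj in
theorem genLift_of_quasiFiniteAt (X : Ideal (W ⊗[D] Bt)) [hXp : X.IsPrime]
    (hX : X.comap (Algebra.TensorProduct.includeRight : Bt →ₐ[D] W ⊗[D] Bt).toRingHom = xt) :
    GenLift W (W ⊗[D] Bt) X := by
  haveI : Module.Finite D (Localization.AtPrime xt) :=
    Groth.Agent.Lib.Helper69.HensQFinite.finite_atPrime_of_quasiFiniteAt D Bt xt
  haveI : Algebra.IsIntegral D (Localization.AtPrime xt) := Algebra.IsIntegral.of_finite D _
  haveI : IsLocalHom (algebraMap D (Localization.AtPrime xt)) := isLocalHom_algebraMap_atPrime D Bt xt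
  let Ψ : W ⊗[D] Bt →ₐ[W] W ⊗[D] Localization.AtPrime xt :=
    Algebra.TensorProduct.map (AlgHom.id W W) (IsScalarTower.toAlgHom D Bt (Localization.AtPrime xt))
  letI : Algebra (W ⊗[D] Bt) (W ⊗[D] Localization.AtPrime xt) := Ψ.toRingHom.toAlgebra
  haveI : IsScalarTower W (W ⊗[D] Bt) (W ⊗[D] Localization.AtPrime xt) :=
    IsScalarTower.of_algebraMap_eq' Ψ.comp_algebraMap.symm
  haveI hloc : IsLocalization
      (xt.primeCompl.map (Algebra.TensorProduct.includeRight : Bt →ₐ[D] W ⊗[D] Bt))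
      (W ⊗[D] Localization.AtPrime xt) :=
    IsLocalization.tensorProduct_tensorProduct_right D W xt.primeCompl (Localization.AtPrime xt)
      (by
        ext b
        show Ψ ((1 : W) ⊗ₜ[D] b) = (1 : W) ⊗ₜ[D] algebraMap Bt (Localization.AtPrime xt) b
        simp [Ψ])
  have hdisj : Disjoint
      (↑(xt.primeCompl.map (Algebra.TensorProduct.includeRight : Bt →ₐ[D] W ⊗[D] Bt)) :
        Set (W ⊗[D] Bt)) (X : Set (W ⊗[D] Bt)) := by
    rw [Set.disjoint_left]
    rintro _ ⟨t, ht, rfl⟩ htX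
    apply ht
    rw [← hX]
    exact htX
  have hXEp : (X.map (algebraMap (W ⊗[D] Bt) (W ⊗[D] Localization.AtPrime xt))).IsPrime :=
    IsLocalization.isPrime_of_isPrime_disjoint _ _ X hXp hdisj
  have hXEc : (X.map (algebraMap (W ⊗[D] Bt) (W ⊗[D] Localization.AtPrime xt))).comap
      (algebraMap (W ⊗[D] Bt) (W ⊗[D] Localization.AtPrime xt)) = X :=
    IsLocalization.comap_map_of_isPrime_disjoint _ _ hXp hdisj
  haveI := hXEp
  have hXD : X.comap (algebraMap D (W ⊗[D] Bt)) = maximalIdeal D := by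
    have h1 : X.comap (algebraMap D (W ⊗[D] Bt)) =
        (X.comap (Algebra.TensorProduct.includeRight : Bt →ₐ[D] W ⊗[D] Bt).toRingHom).comap
          (algebraMap D Bt) := by
      rw [Ideal.comap_comap]
      congr 1
      ext d
      exact ((Algebra.TensorProduct.includeRight : Bt →ₐ[D] W ⊗[D] Bt).commutes d).symm
    rw [h1, hX]
    exact (xt.over_def (maximalIdeal D)).symm
  have hXED : (X.map (algebraMap (W ⊗[D] Bt) (W ⊗[D] Localization.AtPrime xt))).comap
      (algebraMap D (W ⊗[D] Localization.AtPrime xt)) = maximalIdeal D := by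
    have h1 : algebraMap D (W ⊗[D] Localization.AtPrime xt) =
        (algebraMap (W ⊗[D] Bt) (W ⊗[D] Localization.AtPrime xt)).comp
          (algebraMap D (W ⊗[D] Bt)) := by
      ext d
      show _ = Ψ (algebraMap D (W ⊗[D] Bt) d)
      rw [IsScalarTower.algebraMap_apply D W (W ⊗[D] Bt), AlgHom.commutes,
        ← IsScalarTower.algebraMap_apply]
    rw [h1, ← Ideal.comap_comap, hXEc, hXD]
  have h2 := genLift_tensor D (Localization.AtPrime xt) W p hp hpi hsurj
    (X.map (algebraMap (W ⊗[D] Bt) (W ⊗[D] Localization.AtPrime xt))) hXED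
  have h3 := GenLift.comap Ψ _ h2
  have h4 : (X.map (algebraMap (W ⊗[D] Bt) (W ⊗[D] Localization.AtPrime xt))).comap
      Ψ.toRingHom = X := hXEc
  rwa [h4] at h3

end ThmL

section GoodCover

/-- a flat algebra with incomparable fibres and a unique minimal prime -/
structure GoodCover (A D : Type u) [CommRing A] [CommRing D] [Algebra A D] : Prop where
  flat : Module.Flat A D
  incomp : ∀ P₁ P₂ : Ideal D, P₁.IsPrime → P₂.IsPrime → P₁ ≤ P₂ →
    P₁.comap (algebraMap A D) = P₂.comap (algebraMap A D) → P₁ = P₂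
  uniq : CAlgX.HasUniqueMinimalPrime D

variable {A D : Type u} [CommRing A] [CommRing D] [Algebra A D] (B : Type u) [CommRing B]
  [Algebra A B]

/-- minimal primes of `D ⊗ B` contract to minimal primes of `B` when `D` is flat -/
theorem comap_includeRight_mem_minimalPrimes [Module.Flat A D] (c : Ideal (D ⊗[A] B))
    (hc : c ∈ minimalPrimes (D ⊗[A] B)) :
    c.comap (Algebra.TensorProduct.includeRight : B →ₐ[A] D ⊗[A] B).toRingHom ∈
      minimalPrimes B := by
  let e : B ⊗[A] D ≃ₐ[A] D ⊗[A] B := Algebra.TensorProduct.comm A B D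
  have h1 : c.comap e.toRingEquiv.toRingHom ∈ minimalPrimes (B ⊗[A] D) := by
    have := Ideal.minimalPrimes_comap_of_surjective (f := e.toRingEquiv.toRingHom)
      e.toRingEquiv.surjective (I := ⊥) hc
    have hbot : (⊥ : Ideal (D ⊗[A] B)).comap e.toRingEquiv.toRingHom = ⊥ := by
      rw [← RingHom.ker_eq_comap_bot]
      exact (RingHom.injective_iff_ker_eq_bot _).mp e.toRingEquiv.injective
    rwa [hbot] at this
  have h2 := PunctConn.comap_mem_minimalPrimes_of_flat (E := B) (S := B ⊗[A] D) _ h1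
  have h3 : (c.comap e.toRingEquiv.toRingHom).comap (algebraMap B (B ⊗[A] D)) =
      c.comap (Algebra.TensorProduct.includeRight : B →ₐ[A] D ⊗[A] B).toRingHom := by
    rw [Ideal.comap_comap]
    congr 1
  rwa [h3] at h2

variable {B}

/-- surjectivity on spectra for localizations of `D ⊗ B` integral over `D` -/
theorem exists_prime_over (h : GoodCover A D)
    (hD : ∀ b ∈ minimalPrimes B, b.comap (algebraMap A B) ∈ minimalPrimes A)
    (xt : Ideal (D ⊗[A] B)) [xt.IsPrime] [Algebra.IsIntegral D (Localization.AtPrime xt)]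
    (P : Ideal D) (hP : P.IsPrime) :
    ∃ Pc : Ideal (Localization.AtPrime xt), Pc.IsPrime ∧
      Pc.comap (algebraMap D (Localization.AtPrime xt)) = P := by
  haveI := hP
  haveI := h.flat
  obtain ⟨p0, hp0, hu⟩ := h.uniq
  obtain ⟨c, hc, -⟩ := Ideal.exists_minimalPrimes_le (I := (⊥ : Ideal (Localization.AtPrime xt)))
    (J := IsLocalRing.maximalIdeal _) bot_le
  haveI hcp : c.IsPrime := hc.1.1
  have hc' : c.comap (algebraMap (D ⊗[A] B) (Localization.AtPrime xt)) ∈
      minimalPrimes (D ⊗[A] B) :=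
    (Groth.Agent.Lib.Helper87.GUIntegral.mem_minimalPrimes_localization_iff xt.primeCompl
      (Localization.AtPrime xt) c).mp hc
  have hb := comap_includeRight_mem_minimalPrimes B _ hc'
  have ha := hD _ hb
  set P' : Ideal D := c.comap (algebraMap D (Localization.AtPrime xt)) with hP'
  haveI : P'.IsPrime := Ideal.comap_isPrime _ _
  have hP'A : P'.comap (algebraMap A D) =
      ((c.comap (algebraMap (D ⊗[A] B) (Localization.AtPrime xt))).comap
        (Algebra.TensorProduct.includeRight : B →ₐ[A] D ⊗[A] B).toRingHom).comap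
          (algebraMap A B) := by
    rw [hP', Ideal.comap_comap, Ideal.comap_comap, Ideal.comap_comap]
    congr 1
    ext a
    simp only [RingHom.comp_apply]
    rw [← IsScalarTower.algebraMap_apply A D (Localization.AtPrime xt),
      IsScalarTower.algebraMap_apply A (D ⊗[A] B) (Localization.AtPrime xt)]
    congr 1
    exact ((Algebra.TensorProduct.includeRight : B →ₐ[A] D ⊗[A] B).commutes a).symm
  obtain ⟨p1, hp1, hp1le⟩ := Ideal.exists_minimalPrimes_le (I := (⊥ : Ideal D)) (J := P') bot_le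
  have hp10 : p1 = p0 := hu p1 hp1
  rw [hp10] at hp1le
  haveI : p0.IsPrime := hp0.1.1
  have hle : p0.comap (algebraMap A D) ≤ P'.comap (algebraMap A D) := Ideal.comap_mono hp1le
  have heq : p0.comap (algebraMap A D) = P'.comap (algebraMap A D) := by
    refine le_antisymm hle ?_
    rw [hP'A] at hle ⊢
    exact ha.2 ⟨Ideal.comap_isPrime _ _, bot_le⟩ hle
  have hpP : p0 = P' := h.incomp p0 P' inferInstance inferInstance hp1le heq
  have hp0P : p0 ≤ P := by
    obtain ⟨p2, hp2, hp2le⟩ := Ideal.exists_minimalPrimes_le (I := (⊥ : Ideal D)) (J := P) bot_le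
    rw [hu p2 hp2] at hp2le
    exact hp2le
  obtain ⟨Pc, -, hPc, hPcP⟩ := Ideal.exists_ideal_over_prime_of_isIntegral_of_isPrime P c
    (by rw [← hP', ← hpP]; exact hp0P)
  exact ⟨Pc, hPc, hPcP⟩

end GoodCover

section Strict

theorem exists_pow_sub_mem_of_isSepClosed (D C : Type u) [CommRing D] [IsLocalRing D] [CommRing C]
    [IsLocalRing C] [Algebra D C] [IsLocalHom (algebraMap D C)] [Algebra.IsIntegral D C]
    [IsSepClosed (ResidueField D)] :
    ∀ c : C, ∃ (n : ℕ) (d : D),
      c ^ (ringExpChar (ResidueField D)) ^ n - algebraMap D C d ∈ maximalIdeal C := by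
  have hint : Algebra.IsIntegral (ResidueField D) (ResidueField C) := ⟨fun x => by
    obtain ⟨c, rfl⟩ := residue_surjective x
    have h1 : IsIntegral D c := Algebra.IsIntegral.isIntegral c
    have h2 : IsIntegral D (residue C c) :=
      h1.map (IsScalarTower.toAlgHom D C (ResidueField C))
    exact h2.tower_top⟩
  haveI : Algebra.IsAlgebraic (ResidueField D) (ResidueField C) := Algebra.IsIntegral.isAlgebraic
  have hpi : IsPurelyInseparable (ResidueField D) (ResidueField C) := inferInstance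
  have h2 : (algebraMap (ResidueField D) (ResidueField C)).IsPurelyInseparable :=
    RingHom.isPurelyInseparable_algebraMap_iff.mpr hpi
  exact (Groth.Agent.Lib.Helper87.GUScheme.isPurelyInseparable_iff_pielem (algebraMap D C)).mp h2

theorem incomp_of_coveredByEtale {R S : Type u} [CommRing R] [CommRing S] [Algebra R S]
    (hcov : IndEt.CoveredByEtale R S) (P₁ P₂ : Ideal S) [P₁.IsPrime] [P₂.IsPrime] (hle : P₁ ≤ P₂)
    (h : P₁.comap (algebraMap R S) = P₂.comap (algebraMap R S)) : P₁ = P₂ := by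
  refine le_antisymm hle ?_
  intro d hd
  obtain ⟨E, _, _, _, f, b, hb⟩ := hcov d
  have h1 : P₁.comap f.toRingHom ≤ P₂.comap f.toRingHom := Ideal.comap_mono hle
  have hc : ∀ I : Ideal S, (I.comap f.toRingHom).under R = I.comap (algebraMap R S) := by
    intro I
    show (I.comap f.toRingHom).comap (algebraMap R E) = _
    rw [Ideal.comap_comap]
    congr 1
    ext r
    exact f.commutes r
  have h2 : (P₁.comap f.toRingHom).under R = (P₂.comap f.toRingHom).under R := by
    rw [hc, hc, h]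
  have h3 := Algebra.QuasiFinite.eq_of_le_of_under_eq (R := R) _ _ h1 h2
  have h4 : b ∈ P₂.comap f.toRingHom := by
    rw [Ideal.mem_comap, hb]
    exact hd
  rw [← h3, Ideal.mem_comap, hb] at h4
  exact h4

theorem goodCover_Hsh (A : Type u) [CommRing A] (p : Ideal A) [p.IsPrime]
    (hG : GeomUnibranchSmooth.PGU (Localization.AtPrime p)) :
    letI : Algebra A (Hens.Hsh (Localization.AtPrime p)) :=
      ((algebraMap (Localization.AtPrime p) (Hens.Hsh (Localization.AtPrime p))).comp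
        (algebraMap A (Localization.AtPrime p))).toAlgebra
    GoodCover A (Hens.Hsh (Localization.AtPrime p)) := by
  letI : Algebra A (Hens.Hsh (Localization.AtPrime p)) :=
    ((algebraMap (Localization.AtPrime p) (Hens.Hsh (Localization.AtPrime p))).comp
      (algebraMap A (Localization.AtPrime p))).toAlgebra
  haveI : IsScalarTower A (Localization.AtPrime p) (Hens.Hsh (Localization.AtPrime p)) :=
    IsScalarTower.of_algebraMap_eq' rfl
  haveI := Hens.isStrictHenselization_Hsh (Localization.AtPrime p)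
  haveI : Module.Flat (Localization.AtPrime p) (Hens.Hsh (Localization.AtPrime p)) :=
    Hens.flat_of_isStrictHenselization _ _
  refine ⟨Module.Flat.trans A (Localization.AtPrime p) _, ?_, ?_⟩
  · intro P₁ P₂ h1 h2 hle heq
    haveI := h1
    haveI := h2
    have hcov : IndEt.CoveredByEtale (Localization.AtPrime p) (Hens.Hsh (Localization.AtPrime p)) :=
      (Unibranch.hasPres_strict _ _).coveredByEtale
    apply incomp_of_coveredByEtale hcov P₁ P₂ hle
    apply Groth.Agent.Lib.Helper87.GUIntegral.eq_of_comap_eq p.primeCompl (Localization.AtPrime p)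
    rw [Ideal.comap_comap, Ideal.comap_comap, ← IsScalarTower.algebraMap_eq]
    exact heq
  · obtain ⟨_, hg⟩ := hG
    exact Unibranch.hasUniqueMinimalPrime_of_isGeomUnibranch _ _ hg

end Strict

section ThmG

attribute [local instance] Algebra.TensorProduct.rightAlgebra

variable (A B : Type u) [CommRing A] [CommRing B] [Algebra A B] [Algebra.FiniteType A B]
  [Algebra.QuasiFinite A B]
  (hD : ∀ b ∈ minimalPrimes B, b.comap (algebraMap A B) ∈ minimalPrimes A)

include hD in
/-- version over a general good cover -/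
theorem genLift_of_goodCover (D : Type u) [CommRing D] [HenselianLocalRing D]
    [IsSepClosed (ResidueField D)] [Algebra A D] (hgood : GoodCover A D)
    (R : Type u) [CommRing R] [Algebra A R] (Q : Ideal (R ⊗[A] B)) [Q.IsPrime]
    (hQ : Q.comap (algebraMap A (R ⊗[A] B)) = (maximalIdeal D).comap (algebraMap A D)) :
    GenLift R (R ⊗[A] B) Q := by
  haveI := hgood.flat
  set P' : Ideal R := Q.comap (algebraMap R (R ⊗[A] B)) with hP'
  haveI : P'.IsPrime := Ideal.comap_isPrime _ _
  have h0 : P'.comap (algebraMap A R) = (maximalIdeal D).comap (algebraMap A D) := by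
    rw [← hQ, hP', Ideal.comap_comap, ← IsScalarTower.algebraMap_eq]
  obtain ⟨n, hn, hnR, hnD⟩ :=
    Groth.Agent.Lib.Helper35.exists_prime_tensor (R := A) P' (maximalIdeal D) h0
  haveI := hn
  have h1 : n.comap (algebraMap R (R ⊗[A] D)) = Q.comap (algebraMap R (R ⊗[A] B)) := hnR
  obtain ⟨X₀, hX₀, hX₀W, hX₀Q⟩ :=
    Groth.Agent.Lib.Helper35.exists_prime_tensor (R := R) n Q h1
  haveI := hX₀
  suffices key : GenLift (R ⊗[A] D) ((R ⊗[A] D) ⊗[R] (R ⊗[A] B)) X₀ by
    have := GenLift.of_flat R (R ⊗[A] D) (R ⊗[A] B) X₀ key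
    rwa [hX₀Q] at this
  let e₁ : (R ⊗[A] D) ⊗[R] (R ⊗[A] B) ≃ₐ[R ⊗[A] D] (R ⊗[A] D) ⊗[A] B :=
    Algebra.TensorProduct.cancelBaseChange A R (R ⊗[A] D) (R ⊗[A] D) B
  let e₂ : (R ⊗[A] D) ⊗[D] (D ⊗[A] B) ≃ₐ[R ⊗[A] D] (R ⊗[A] D) ⊗[A] B :=
    Algebra.TensorProduct.cancelBaseChange A D (R ⊗[A] D) (R ⊗[A] D) B
  let e : (R ⊗[A] D) ⊗[R] (R ⊗[A] B) ≃ₐ[R ⊗[A] D] (R ⊗[A] D) ⊗[D] (D ⊗[A] B) := e₁.trans e₂.symm
  set X₁ : Ideal ((R ⊗[A] D) ⊗[D] (D ⊗[A] B)) := X₀.comap e.symm.toAlgHom.toRingHom with hX₁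
  haveI : X₁.IsPrime := Ideal.comap_isPrime _ _
  have hX₀e : X₁.comap e.toAlgHom.toRingHom = X₀ := by
    rw [hX₁, Ideal.comap_comap]
    have : (e.symm.toAlgHom.toRingHom.comp e.toAlgHom.toRingHom) = RingHom.id _ :=
      RingHom.ext fun x => e.symm_apply_apply x
    rw [this, Ideal.comap_id]
  suffices h : GenLift (R ⊗[A] D) ((R ⊗[A] D) ⊗[D] (D ⊗[A] B)) X₁ by
    have := GenLift.comap e.toAlgHom X₁ h
    rwa [hX₀e] at this
  set xt : Ideal (D ⊗[A] B) := X₁.comap
    (Algebra.TensorProduct.includeRight : (D ⊗[A] B) →ₐ[D] (R ⊗[A] D) ⊗[D] (D ⊗[A] B)).toRingHom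
    with hxt
  haveI : xt.IsPrime := Ideal.comap_isPrime _ _
  have hXW : X₁.comap (algebraMap (R ⊗[A] D) ((R ⊗[A] D) ⊗[D] (D ⊗[A] B))) = n := by
    rw [hX₁, Ideal.comap_comap]
    have : (e.symm.toAlgHom.toRingHom.comp
        (algebraMap (R ⊗[A] D) ((R ⊗[A] D) ⊗[D] (D ⊗[A] B)))) =
        algebraMap (R ⊗[A] D) ((R ⊗[A] D) ⊗[R] (R ⊗[A] B)) :=
      RingHom.ext fun w => e.symm.commutes w
    rw [this]
    exact hX₀W
  have hxtD : xt.comap (algebraMap D (D ⊗[A] B)) = maximalIdeal D := by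
    have h2 : xt.comap (algebraMap D (D ⊗[A] B)) =
        (X₁.comap (algebraMap (R ⊗[A] D) ((R ⊗[A] D) ⊗[D] (D ⊗[A] B)))).comap
          (algebraMap D (R ⊗[A] D)) := by
      have hh : ((Algebra.TensorProduct.includeRight :
          (D ⊗[A] B) →ₐ[D] (R ⊗[A] D) ⊗[D] (D ⊗[A] B)).toRingHom.comp
            (algebraMap D (D ⊗[A] B))) =
          (algebraMap (R ⊗[A] D) ((R ⊗[A] D) ⊗[D] (D ⊗[A] B))).comp
            (algebraMap D (R ⊗[A] D)) := by
        refine RingHom.ext fun d => ?_
        simp only [RingHom.comp_apply]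
        rw [← IsScalarTower.algebraMap_apply D (R ⊗[A] D) ((R ⊗[A] D) ⊗[D] (D ⊗[A] B))]
        exact (Algebra.TensorProduct.includeRight :
          (D ⊗[A] B) →ₐ[D] (R ⊗[A] D) ⊗[D] (D ⊗[A] B)).commutes d
      have e1 : xt.comap (algebraMap D (D ⊗[A] B)) = X₁.comap
          ((Algebra.TensorProduct.includeRight :
          (D ⊗[A] B) →ₐ[D] (R ⊗[A] D) ⊗[D] (D ⊗[A] B)).toRingHom.comp
            (algebraMap D (D ⊗[A] B))) := rfl
      rw [e1, hh]
      rfl
    rw [h2, hXW]
    exact hnD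
  haveI : xt.LiesOver (maximalIdeal D) := ⟨hxtD.symm⟩
  haveI : Module.Finite D (Localization.AtPrime xt) :=
    Groth.Agent.Lib.Helper69.HensQFinite.finite_atPrime_of_quasiFiniteAt D (D ⊗[A] B) xt
  haveI : Algebra.IsIntegral D (Localization.AtPrime xt) := Algebra.IsIntegral.of_finite D _
  haveI : IsLocalHom (algebraMap D (Localization.AtPrime xt)) :=
    isLocalHom_algebraMap_atPrime D (D ⊗[A] B) xt
  exact genLift_of_quasiFiniteAt D (D ⊗[A] B) xt (R ⊗[A] D) (ringExpChar (ResidueField D))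
    (PurelyInsepTensor.ringExpChar_residueField_spec D)
    (exists_pow_sub_mem_of_isSepClosed D (Localization.AtPrime xt))
    (fun P hP => exists_prime_over hgood hD xt P hP) X₁ rfl

include hD in
/-- going down after an arbitrary base change -/
theorem hasGoingDown_tensor
    (hG : ∀ (p : Ideal A) [p.IsPrime], GeomUnibranchSmooth.PGU (Localization.AtPrime p))
    (R : Type u) [CommRing R] [Algebra A R] : Algebra.HasGoingDown R (R ⊗[A] B) := by
  apply hasGoingDown_of_genLift
  intro Q hQ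
  haveI := hQ
  set p : Ideal A := Q.comap (algebraMap A (R ⊗[A] B)) with hp
  haveI : p.IsPrime := Ideal.comap_isPrime _ _
  letI : Algebra A (Hens.Hsh (Localization.AtPrime p)) :=
    ((algebraMap (Localization.AtPrime p) (Hens.Hsh (Localization.AtPrime p))).comp
      (algebraMap A (Localization.AtPrime p))).toAlgebra
  haveI : IsScalarTower A (Localization.AtPrime p) (Hens.Hsh (Localization.AtPrime p)) :=
    IsScalarTower.of_algebraMap_eq' rfl
  have hgood := goodCover_Hsh A p (hG p)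
  haveI hstr := Hens.isStrictHenselization_Hsh (Localization.AtPrime p)
  haveI : HenselianLocalRing (Hens.Hsh (Localization.AtPrime p)) := hstr.henselian
  haveI : IsSepClosed (ResidueField (Hens.Hsh (Localization.AtPrime p))) :=
    hstr.isSepClosure.sep_closed
  refine genLift_of_goodCover A B hD (Hens.Hsh (Localization.AtPrime p)) hgood R Q ?_
  rw [IsScalarTower.algebraMap_eq A (Localization.AtPrime p) (Hens.Hsh (Localization.AtPrime p)),
    ← Ideal.comap_comap, PunctConn.comap_maximalIdeal_eq]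
  exact (IsLocalization.AtPrime.comap_maximalIdeal (Localization.AtPrime p) p).symm

end ThmG

end Groth.Agent.Lib.Helper87.UnivOpen
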