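import Mathlib
import Groth.Agent.Lib.Helper87.UnivOpenRing
import Groth.Agent.Lib.Helper87.Unibranch2
import Groth.Agent.Lib.Helper87.HensIndEtale
import Groth.Agent.Lib.Helper87.HensUP

/-!
# Lifting generizations over a unibranch point (ring level)
-/

set_option autoImplicit false
set_option linter.style.haveILetI false
universe u

open IsLocalRing TensorProduct

namespace Groth.Agent.Lib.Helper87.UnivOpen

section Hh

theorem goodCover_Hh (A : Type u) [CommRing A] (p : Ideal A) [p.IsPrime]
    (hU : CAlg2.IsUnibranch (Localization.AtPrime p)) :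
    letI : Algebra A (Hens.Hh (Localization.AtPrime p)) :=
      ((algebraMap (Localization.AtPrime p) (Hens.Hh (Localization.AtPrime p))).comp
        (algebraMap A (Localization.AtPrime p))).toAlgebra
    GoodCover A (Hens.Hh (Localization.AtPrime p)) := by
  letI : Algebra A (Hens.Hh (Localization.AtPrime p)) :=
    ((algebraMap (Localization.AtPrime p) (Hens.Hh (Localization.AtPrime p))).comp
      (algebraMap A (Localization.AtPrime p))).toAlgebra
  haveI : IsScalarTower A (Localization.AtPrime p) (Hens.Hh (Localization.AtPrime p)) :=
    IsScalarTower.of_algebraMap_eq' rfl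
  haveI := Hens.isHenselization_Hh (Localization.AtPrime p)
  haveI : Module.Flat (Localization.AtPrime p) (Hens.Hh (Localization.AtPrime p)) :=
    Hens.flat_of_isHenselization _ _
  refine ⟨Module.Flat.trans A (Localization.AtPrime p) _, ?_, ?_⟩
  · intro P₁ P₂ h1 h2 hle heq
    haveI := h1
    haveI := h2
    have hcov : IndEt.CoveredByEtale (Localization.AtPrime p)
        (Hens.Hh (Localization.AtPrime p)) := Hens.H.coveredByEtale
    apply incomp_of_coveredByEtale hcov P₁ P₂ hle
    apply Groth.Agent.Lib.Helper87.GUIntegral.eq_of_comap_eq p.primeCompl (Localization.AtPrime p)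
    rw [Ideal.comap_comap, Ideal.comap_comap, ← IsScalarTower.algebraMap_eq]
    exact heq
  · exact Unibranch.hasUniqueMinimalPrime_of_isUnibranch _ _ hU

end Hh

section Main

attribute [local instance] Algebra.TensorProduct.rightAlgebra

variable (A B : Type u) [CommRing A] [CommRing B] [Algebra A B] [Algebra.FiniteType A B]
  [Algebra.QuasiFinite A B]
  (hD : ∀ b ∈ minimalPrimes B, b.comap (algebraMap A B) ∈ minimalPrimes A)

include hD in
/-- generizations lift at a prime of `B` below the closed point of a henselian good cover -/
theorem genLift_of_goodCover_hens (D : Type u) [CommRing D] [HenselianLocalRing D] [Algebra A D]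
    (hgood : GoodCover A D) (n : Ideal B) [n.IsPrime]
    (hn : (maximalIdeal D).comap (algebraMap A D) = n.comap (algebraMap A B)) :
    GenLift A B n := by
  haveI := hgood.flat
  obtain ⟨xt, hxt, hxtD, hxtB⟩ :=
    Groth.Agent.Lib.Helper35.exists_prime_tensor (R := A) (maximalIdeal D) n hn
  haveI := hxt
  have hxtD' : xt.comap (algebraMap D (D ⊗[A] B)) = maximalIdeal D := hxtD
  haveI : xt.LiesOver (maximalIdeal D) := ⟨hxtD'.symm⟩
  haveI : Module.Finite D (Localization.AtPrime xt) :=
    Groth.Agent.Lib.Helper69.HensQFinite.finite_atPrime_of_quasiFiniteAt D (D ⊗[A] B) xt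
  haveI : Algebra.IsIntegral D (Localization.AtPrime xt) := Algebra.IsIntegral.of_finite D _
  have key : GenLift D (D ⊗[A] B) xt := by
    intro P hP _
    obtain ⟨Pc, hPc, hPcP⟩ := exists_prime_over hgood hD xt P hP
    haveI := hPc
    refine ⟨Pc.comap (algebraMap (D ⊗[A] B) (Localization.AtPrime xt)),
      Ideal.comap_isPrime _ _, ?_, ?_⟩
    · have h1 : Pc ≤ maximalIdeal (Localization.AtPrime xt) :=
        IsLocalRing.le_maximalIdeal (Ideal.IsPrime.ne_top inferInstance)
      have h2 := Ideal.comap_mono (f := algebraMap (D ⊗[A] B) (Localization.AtPrime xt)) h1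
      have h3 : (maximalIdeal (Localization.AtPrime xt)).comap
          (algebraMap (D ⊗[A] B) (Localization.AtPrime xt)) = xt :=
        Localization.AtPrime.comap_maximalIdeal (I := xt)
      rwa [h3] at h2
    · rw [Ideal.comap_comap, ← IsScalarTower.algebraMap_eq]
      exact hPcP
  have := GenLift.of_flat A D B xt key
  rwa [hxtB] at this

include hD in
/-- generizations lift at a prime of `B` lying over a unibranch point -/
theorem genLift_of_isUnibranch (n : Ideal B) [n.IsPrime]
    (hU : CAlg2.IsUnibranch (Localization.AtPrime (n.comap (algebraMap A B)))) :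
    GenLift A B n := by
  set p : Ideal A := n.comap (algebraMap A B) with hp
  haveI : p.IsPrime := Ideal.comap_isPrime _ _
  letI : Algebra A (Hens.Hh (Localization.AtPrime p)) :=
    ((algebraMap (Localization.AtPrime p) (Hens.Hh (Localization.AtPrime p))).comp
      (algebraMap A (Localization.AtPrime p))).toAlgebra
  haveI : IsScalarTower A (Localization.AtPrime p) (Hens.Hh (Localization.AtPrime p)) :=
    IsScalarTower.of_algebraMap_eq' rfl
  have hgood := goodCover_Hh A p hU
  haveI hstr := Hens.isHenselization_Hh (Localization.AtPrime p)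
  haveI : HenselianLocalRing (Hens.Hh (Localization.AtPrime p)) :=
    Hensel.IsHenselization.henselian (Localization.AtPrime p)
  refine genLift_of_goodCover_hens A B hD (Hens.Hh (Localization.AtPrime p)) hgood n ?_
  rw [IsScalarTower.algebraMap_eq A (Localization.AtPrime p) (Hens.Hh (Localization.AtPrime p)),
    ← Ideal.comap_comap]
  have : (maximalIdeal (Hens.Hh (Localization.AtPrime p))).comap
      (algebraMap (Localization.AtPrime p) (Hens.Hh (Localization.AtPrime p))) =
      maximalIdeal (Localization.AtPrime p) :=
    IsLocalRing.maximalIdeal_comap (algebraMap (Localization.AtPrime p) _)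
  rw [this]
  exact IsLocalization.AtPrime.comap_maximalIdeal (Localization.AtPrime p) p

include hD in
/-- variant with the contracted prime named -/
theorem genLift_of_isUnibranch' (n : Ideal B) [n.IsPrime] (p : Ideal A) [p.IsPrime]
    (hp : n.comap (algebraMap A B) = p) (hU : CAlg2.IsUnibranch (Localization.AtPrime p)) :
    GenLift A B n := by
  subst hp
  exact genLift_of_isUnibranch A B hD n hU

end Main

end Groth.Agent.Lib.Helper87.UnivOpen
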