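import Mathlib
import Groth.Prelude.Def_EGA43
import Groth.Agent.Lib.Helper87.OpenAtRing

/-!
# Openness at a point over a unibranch point
-/

set_option autoImplicit false
set_option linter.style.haveILetI false
universe u

open IsLocalRing CategoryTheory AlgebraicGeometry TopologicalSpace

namespace Groth.Agent.Lib.Helper87.UnivOpen

section Transport

variable {A A' S : Type u} [CommRing A] [IsLocalRing A] [CommRing A'] [IsLocalRing A']
  [CommRing S] [IsLocalRing S]
  [Algebra A S] [IsLocalHom (algebraMap A S)] [Hensel.IsHenselization A S]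
  [Algebra A' S] [IsLocalHom (algebraMap A' S)]

theorem isHenselization_of_ringEquiv (e : A ≃+* A')
    (he : ∀ a, algebraMap A' S (e a) = algebraMap A S a) : Hensel.IsHenselization A' S := by
  have hS : Hensel.IsHenselization A S := inferInstance
  refine ⟨hS.henselian, ?_⟩
  intro T _ _ f hf
  haveI := hf
  haveI : IsLocalHom (f.comp (e : A →+* A')) := RingHom.isLocalHom_comp _ _
  obtain ⟨g, hg1, hguniq⟩ := hS.universal T (f.comp (e : A →+* A')) inferInstance
  refine ⟨g, ?_, ?_⟩
  · ext a'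
    obtain ⟨a, rfl⟩ := e.surjective a'
    have h1 := congrArg (fun φ => φ a) hg1
    simp only [RingHom.comp_apply] at h1
    rw [RingHom.comp_apply, he]
    exact h1
  · intro g' hg'1
    refine hguniq g' ?_
    ext a
    have h1 := congrArg (fun φ => φ (e a)) hg'1
    simp only [RingHom.comp_apply] at h1
    rw [RingHom.comp_apply, ← he]
    exact h1

end Transport

theorem isUnibranch_of_ringEquiv {A A' : Type u} [CommRing A] [IsLocalRing A] [CommRing A']
    [IsLocalRing A'] (e : A ≃+* A') (h : CAlg2.IsUnibranch A) : CAlg2.IsUnibranch A' := by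
  haveI := Hens.isHenselization_Hh A
  letI : Algebra A' (Hens.Hh A) :=
    ((algebraMap A (Hens.Hh A)).comp (e.symm : A' →+* A)).toAlgebra
  haveI : IsLocalHom (algebraMap A' (Hens.Hh A)) :=
    RingHom.isLocalHom_comp (algebraMap A (Hens.Hh A)) (e.symm : A' →+* A)
  haveI : Hensel.IsHenselization A' (Hens.Hh A) :=
    isHenselization_of_ringEquiv e (fun a => by
      show algebraMap A (Hens.Hh A) (e.symm (e a)) = _
      rw [e.symm_apply_apply])
  exact (Unibranch.isUnibranch_iff A' (Hens.Hh A)).mpr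
    ((Unibranch.isUnibranch_iff A (Hens.Hh A)).mp h)

/-- local predicate used to transport along ring isomorphisms -/
def PU (A : Type u) [CommRing A] : Prop := ∃ _ : IsLocalRing A, CAlg2.IsUnibranch A

theorem PU.of_ringEquiv (A A' : Type u) [CommRing A] [CommRing A'] (e : A ≃+* A')
    (h : PU A) : PU A' := by
  obtain ⟨hl, hu⟩ := h
  haveI := hl
  haveI : IsLocalRing A' := e.isLocalRing
  exact ⟨inferInstance, isUnibranch_of_ringEquiv e hu⟩

theorem pu_stalk_iff {Z : Scheme.{u}} {U : Z.Opens} (hU : IsAffineOpen U) (z : Z) (hz : z ∈ U) :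
    CAlg2.IsUnibranch (Z.presheaf.stalk z) ↔
      PU (Localization.AtPrime (hU.primeIdealOf ⟨z, hz⟩).asIdeal) := by
  have h := Groth.Agent.Lib.Helper30.SmoothLocal.stalk_iff_localization
    (fun A _ => PU A) (fun A A' _ _ e h => PU.of_ringEquiv A A' e h) hU z hz
  rw [← h]
  exact ⟨fun h => ⟨inferInstance, h⟩, fun ⟨_, h⟩ => h⟩

/-- a constructible set containing all generizations of a point is a neighbourhood of it -/
theorem mem_nhds_of_isConstructible {A : Type u} [CommRing A] {E : Set (PrimeSpectrum A)}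
    (hE : Topology.IsConstructible E) (m : PrimeSpectrum A)
    (h : ∀ p : PrimeSpectrum A, p.asIdeal ≤ m.asIdeal → p ∈ E) : E ∈ nhds m := by
  obtain ⟨S, _, g, hg⟩ := PrimeSpectrum.exists_range_eq_of_isConstructible hE.compl
  have hm : m ∉ closure Eᶜ := by
    rw [← hg, PrimeSpectrum.closure_range_comap, PrimeSpectrum.mem_zeroLocus]
    intro hker
    obtain ⟨Q, -, hQ, hQm⟩ := Ideal.exists_ideal_comap_le_prime (f := g) m.asIdeal (⊥ : Ideal S)
      (by rw [← RingHom.ker_eq_comap_bot]; exact hker)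
    have hmem : PrimeSpectrum.comap g ⟨Q, hQ⟩ ∈ Eᶜ := hg ▸ ⟨_, rfl⟩
    exact hmem (h _ hQm)
  have h1 : (closure Eᶜ)ᶜ ∈ nhds m := isClosed_closure.isOpen_compl.mem_nhds hm
  refine Filter.mem_of_superset h1 ?_
  intro x hx
  by_contra hxE
  exact hx (subset_closure hxE)

theorem isOpenAt_of_isUnibranch {X Y : Scheme.{u}} [IrreducibleSpace X] [IrreducibleSpace Y]
    (f : X ⟶ Y) [LocallyOfFinitePresentation f] [LocallyQuasiFinite f] [IsDominant f] (x : X)
    (hy : CAlg2.IsUnibranch (Y.presheaf.stalk (f.base x))) : EGA43.IsOpenAt f.base x := by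
  -- generic points go to generic points
  have hdom : ∀ z ∈ genericPoints X, f z ∈ genericPoints Y := by
    intro z hz
    have hz' : closure {z} = Set.univ := by
      have h1 : closure {z} ∈ irreducibleComponents X := hz
      rw [irreducibleComponents_eq_singleton] at h1
      exact h1
    show closure {f z} ∈ irreducibleComponents Y
    rw [irreducibleComponents_eq_singleton]
    have h2 : Dense (Set.range f) := f.denseRange
    have h3 : Set.range f ⊆ closure {f z} := by
      rintro _ ⟨w, rfl⟩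
      have hw : w ∈ closure {z} := hz' ▸ Set.mem_univ w
      have := image_closure_subset_closure_image f.continuous (Set.mem_image_of_mem f hw)
      rwa [Set.image_singleton] at this
    exact Set.eq_univ_of_univ_subset (h2.closure_eq ▸ closure_minimal h3 isClosed_closure)
  obtain ⟨V, hV, hyV⟩ : ∃ V : Y.Opens, IsAffineOpen V ∧ f x ∈ V := by
    obtain ⟨V, hV, hyV, -⟩ := exists_isAffineOpen_mem_and_subset (x := f x) (U := ⊤) trivial
    exact ⟨V, hV, hyV⟩
  have hxV : x ∈ f ⁻¹ᵁ V := hyV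
  obtain ⟨U, hU, hxU, e⟩ := exists_isAffineOpen_mem_and_subset (x := x) (U := f ⁻¹ᵁ V) hxV
  have hfp : (f.appLE V U e).hom.FinitePresentation :=
    HasRingHomProperty.appLE @LocallyOfFinitePresentation f ‹_› ⟨V, hV⟩ ⟨U, hU⟩ e
  have hqf : (f.appLE V U e).hom.QuasiFinite :=
    HasRingHomProperty.appLE @LocallyQuasiFinite f ‹_› ⟨V, hV⟩ ⟨U, hU⟩ e
  letI := (f.appLE V U e).hom.toAlgebra
  haveI : Algebra.FinitePresentation Γ(Y, V) Γ(X, U) := hfp
  haveI : Algebra.FiniteType Γ(Y, V) Γ(X, U) := inferInstance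
  haveI : Algebra.QuasiFinite Γ(Y, V) Γ(X, U) := hqf
  have hD : ∀ b ∈ minimalPrimes Γ(X, U),
      b.comap (algebraMap Γ(Y, V) Γ(X, U)) ∈ minimalPrimes Γ(Y, V) := by
    intro b hb
    haveI := hb.1.1
    obtain ⟨z, hz, h⟩ := GUScheme.exists_eq_primeIdealOf hU b
    subst h
    have h1 : z ∈ genericPoints X := (GUScheme.mem_genericPoints_iff hU z hz).mpr hb
    have h2 := (GUScheme.mem_genericPoints_iff hV (f z) (e hz)).mp (hdom z h1)
    have h3 := congr($(IsAffineOpen.comap_primeIdealOf_appLE V hV U hU e hz).1)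
    rw [← h3] at h2
    exact h2
  have hnm : (hU.primeIdealOf ⟨x, hxU⟩).asIdeal.comap (algebraMap Γ(Y, V) Γ(X, U)) =
      (hV.primeIdealOf ⟨f x, hyV⟩).asIdeal :=
    congr($(IsAffineOpen.comap_primeIdealOf_appLE V hV U hU e hxU).1)
  obtain ⟨_, hUni⟩ := (pu_stalk_iff hV (f x) hyV).mp hy
  have hgl : GenLift Γ(Y, V) Γ(X, U) (hU.primeIdealOf ⟨x, hxU⟩).asIdeal :=
    genLift_of_isUnibranch' Γ(Y, V) Γ(X, U) hD _ _ hnm hUni
  intro W hW
  have hfx : hU.fromSpec (hU.primeIdealOf ⟨x, hxU⟩) = x := hU.fromSpec_primeIdealOf ⟨x, hxU⟩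
  have hfy : hV.fromSpec (hV.primeIdealOf ⟨f x, hyV⟩) = f x := hV.fromSpec_primeIdealOf ⟨f x, hyV⟩
  have hW' : hU.fromSpec ⁻¹' W ∈ nhds (hU.primeIdealOf ⟨x, hxU⟩) := by
    apply hU.fromSpec.continuous.continuousAt
    rw [hfx]
    exact hW
  obtain ⟨_, ⟨b, rfl⟩, hnb, hsub⟩ :=
    PrimeSpectrum.isTopologicalBasis_basic_opens.mem_nhds_iff.mp hW'
  set E : Set (PrimeSpectrum Γ(Y, V)) :=
    PrimeSpectrum.comap (f.appLE V U e).hom '' (PrimeSpectrum.basicOpen b : Set _) with hEdef
  have hE : Topology.IsConstructible E :=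
    PrimeSpectrum.isConstructible_comap_image hfp PrimeSpectrum.isConstructible_basicOpen
  have hEm : E ∈ nhds (hV.primeIdealOf ⟨f x, hyV⟩) := by
    apply mem_nhds_of_isConstructible hE
    intro p hp
    obtain ⟨P, hP, hPn, hPp⟩ := hgl p.asIdeal p.isPrime (by rw [hnm]; exact hp)
    refine ⟨⟨P, hP⟩, ?_, PrimeSpectrum.ext hPp⟩
    intro hbP
    exact hnb (hPn hbP)
  have h1 : hV.fromSpec '' E ∈ nhds (f x) := by
    rw [← hfy]
    exact hV.fromSpec.isOpenEmbedding.isOpenMap.image_mem_nhds hEm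
  refine Filter.mem_of_superset h1 ?_
  rintro _ ⟨_, ⟨q, hq, rfl⟩, rfl⟩
  refine ⟨hU.fromSpec q, hsub hq, ?_⟩
  have := congr($(IsAffineOpen.SpecMap_appLE_fromSpec f hV hU e) q)
  exact this.symm

end Groth.Agent.Lib.Helper87.UnivOpen
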