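import Mathlib
import Groth.Prelude.Def_EGA43
import Groth.Agent.Lib.Helper87.UnibranchOpenGeneral
import Groth.Agent.Lib.Helper87.OpenAtScheme

set_option autoImplicit false
set_option linter.style.haveILetI false
universe u
open CategoryTheory AlgebraicGeometry IsLocalRing

namespace Groth.Agent.Lib.Helper87.UnibranchOpenScheme

open Groth.Agent.Lib.Helper87 Groth.Agent.Lib.Helper87.UnivOpen

theorem mem_minimalPrimes_iff_eq_nilradical {R : Type*} [CommRing R] (h : (nilradical R).IsPrime)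
    (P : Ideal R) : P ∈ minimalPrimes R ↔ P = nilradical R := by
  constructor
  · intro hP
    haveI := hP.1.1
    exact le_antisymm (hP.2 ⟨h, bot_le⟩ (nilradical_le_prime P)) (nilradical_le_prime P)
  · rintro rfl
    exact ⟨⟨h, bot_le⟩, fun Q hQ _ => by haveI := hQ.1; exact nilradical_le_prime Q⟩

theorem irreducibleSpace_of_isAffineOpen {X : Scheme.{u}} [IrreducibleSpace X] {U : X.Opens}
    (hU : IsAffineOpen U) (x : X) (hxU : x ∈ U) : IrreducibleSpace (PrimeSpectrum Γ(X, U)) := by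
  have h1 : IsPreirreducible (Set.univ : Set X) :=
    (IrreducibleSpace.isIrreducible_univ X).isPreirreducible
  have h2 := h1.preimage hU.fromSpec.isOpenEmbedding
  rw [Set.preimage_univ] at h2
  exact { isPreirreducible_univ := h2, toNonempty := ⟨hU.primeIdealOf ⟨x, hxU⟩⟩ }


/-- Part (ii): a dominant morphism locally of finite type between irreducible schemes is open at
an isolated point of a fibre over a unibranch point. -/
theorem isOpenAt_of_isolated {X Y : Scheme.{u}} (f : X ⟶ Y) [IrreducibleSpace X]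
    [IrreducibleSpace Y] [LocallyOfFiniteType f] (hd : DenseRange f.base) (x : X)
    (hx : nhdsWithin x (f.base ⁻¹' {f.base x}) = pure x)
    (hy : CAlg2.IsUnibranch (Y.presheaf.stalk (f.base x))) : EGA43.IsOpenAt f.base x := by
  haveI : IsDominant f := ⟨hd⟩
  have hdom : ∀ z ∈ genericPoints X, f z ∈ genericPoints Y := by
    intro z hz
    have hz' : closure {z} = Set.univ := by
      have h1 : closure {z} ∈ irreducibleComponents X := hz
      rw [irreducibleComponents_eq_singleton] at h1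
      exact h1
    show closure {f z} ∈ irreducibleComponents Y
    rw [irreducibleComponents_eq_singleton]
    have h2 : Dense (Set.range f) := f.denseRange
    have h3 : Set.range f ⊆ closure {f z} := by
      rintro _ ⟨w, rfl⟩
      have hw : w ∈ closure {z} := hz' ▸ Set.mem_univ w
      have := image_closure_subset_closure_image f.continuous (Set.mem_image_of_mem f hw)
      rwa [Set.image_singleton] at this
    exact Set.eq_univ_of_univ_subset (h2.closure_eq ▸ closure_minimal h3 isClosed_closure)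
  obtain ⟨V, hV, hyV⟩ : ∃ V : Y.Opens, IsAffineOpen V ∧ f x ∈ V := by
    obtain ⟨V, hV, hyV, -⟩ := exists_isAffineOpen_mem_and_subset (x := f x) (U := ⊤) trivial
    exact ⟨V, hV, hyV⟩
  have hxV : x ∈ f ⁻¹ᵁ V := hyV
  obtain ⟨U, hU, hxU, e⟩ := exists_isAffineOpen_mem_and_subset (x := x) (U := f ⁻¹ᵁ V) hxV
  have hft : (f.appLE V U e).hom.FiniteType :=
    HasRingHomProperty.appLE @LocallyOfFiniteType f ‹_› ⟨V, hV⟩ ⟨U, hU⟩ e
  letI := (f.appLE V U e).hom.toAlgebra
  haveI : Algebra.FiniteType Γ(Y, V) Γ(X, U) := hft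
  have hD : ∀ b ∈ minimalPrimes Γ(X, U),
      b.comap (algebraMap Γ(Y, V) Γ(X, U)) ∈ minimalPrimes Γ(Y, V) := by
    intro b hb
    haveI := hb.1.1
    obtain ⟨z, hz, h⟩ := GUScheme.exists_eq_primeIdealOf hU b
    subst h
    have h1 : z ∈ genericPoints X := (GUScheme.mem_genericPoints_iff hU z hz).mpr hb
    have h2 := (GUScheme.mem_genericPoints_iff hV (f z) (e hz)).mp (hdom z h1)
    have h3 := congr($(IsAffineOpen.comap_primeIdealOf_appLE V hV U hU e hz).1)
    rw [← h3] at h2
    exact h2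
  have hnm : (hU.primeIdealOf ⟨x, hxU⟩).asIdeal.comap (algebraMap Γ(Y, V) Γ(X, U)) =
      (hV.primeIdealOf ⟨f x, hyV⟩).asIdeal :=
    congr($(IsAffineOpen.comap_primeIdealOf_appLE V hV U hU e hxU).1)
  -- irreducibility
  have hB : (nilradical Γ(X, U)).IsPrime :=
    PrimeSpectrum.irreducibleSpace_iff_isPrime_nilradical.mp
      (irreducibleSpace_of_isAffineOpen hU x hxU)
  have hA : (nilradical Γ(Y, V)).IsPrime :=
    PrimeSpectrum.irreducibleSpace_iff_isPrime_nilradical.mp
      (irreducibleSpace_of_isAffineOpen hV (f x) hyV)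
  have hAB : (nilradical Γ(X, U)).comap (algebraMap Γ(Y, V) Γ(X, U)) = nilradical Γ(Y, V) :=
    (mem_minimalPrimes_iff_eq_nilradical hA _).mp
      (hD _ ((mem_minimalPrimes_iff_eq_nilradical hB _).mpr rfl))
  -- key compatibility of the charts
  have hcompat : ∀ P : PrimeSpectrum Γ(X, U),
      f (hU.fromSpec P) = hV.fromSpec (PrimeSpectrum.comap (algebraMap Γ(Y, V) Γ(X, U)) P) := by
    intro P
    have := congr($(IsAffineOpen.SpecMap_appLE_fromSpec f hV hU e) P)
    exact this.symm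
  have hfx : hU.fromSpec (hU.primeIdealOf ⟨x, hxU⟩) = x := hU.fromSpec_primeIdealOf ⟨x, hxU⟩
  have hfy : hV.fromSpec (hV.primeIdealOf ⟨f x, hyV⟩) = f x := hV.fromSpec_primeIdealOf ⟨f x, hyV⟩
  -- quasi-finiteness at the point
  haveI hqf : Algebra.QuasiFiniteAt Γ(Y, V) (hU.primeIdealOf ⟨x, hxU⟩).asIdeal := by
    apply Algebra.QuasiFiniteAt.of_isOpen_singleton_fiber (hU.primeIdealOf ⟨x, hxU⟩)
    have h1 : ({x} : Set X) ∈ nhdsWithin x (f.base ⁻¹' {f.base x}) := by
      rw [hx]; exact Filter.mem_pure.mpr rfl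
    obtain ⟨O₀, hO₀, hO₀sub⟩ := mem_nhdsWithin_iff_exists_mem_nhds_inter.mp h1
    obtain ⟨O, hOO₀, hOopen, hxO⟩ := mem_nhds_iff.mp hO₀
    have hpre : ({⟨hU.primeIdealOf ⟨x, hxU⟩, rfl⟩} : Set (PrimeSpectrum.comap
        (algebraMap Γ(Y, V) Γ(X, U)) ⁻¹' {PrimeSpectrum.comap (algebraMap Γ(Y, V) Γ(X, U))
          (hU.primeIdealOf ⟨x, hxU⟩)})) = Subtype.val ⁻¹' (hU.fromSpec ⁻¹' O) := by
      ext t
      constructor
      · intro ht
        rw [Set.mem_singleton_iff] at ht
        subst ht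
        change hU.fromSpec (hU.primeIdealOf ⟨x, hxU⟩) ∈ O
        rw [hfx]; exact hxO
      · intro ht
        have ht1 : hU.fromSpec t.1 ∈ O := ht
        have ht2 : f (hU.fromSpec t.1) = f x := by
          rw [hcompat, t.2, ← hcompat, hfx]
        have ht3 : hU.fromSpec t.1 = x :=
          hO₀sub ⟨hOO₀ ht1, ht2⟩
        rw [Set.mem_singleton_iff]
        apply Subtype.ext
        apply hU.fromSpec.isOpenEmbedding.injective
        rw [ht3, hfx]
    rw [hpre]
    exact (hOopen.preimage hU.fromSpec.continuous).preimage continuous_subtype_val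
  -- unibranch at the point of the chart
  obtain ⟨_, hUni⟩ := (pu_stalk_iff hV (f x) hyV).mp hy
  have hUni' : CAlg2.IsUnibranch (Localization.AtPrime
      ((hU.primeIdealOf ⟨x, hxU⟩).asIdeal.comap (algebraMap Γ(Y, V) Γ(X, U)))) := by
    have key : ∀ (I J : Ideal Γ(Y, V)) [I.IsPrime] [J.IsPrime], I = J →
        CAlg2.IsUnibranch (Localization.AtPrime J) → CAlg2.IsUnibranch (Localization.AtPrime I) := by
      intro I J _ _ h hJ
      subst h
      exact hJ
    exact key _ _ hnm hUni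
  have hring := UnibranchOpenGeneral.isOpenAt_comap_of_quasiFiniteAt Γ(Y, V) Γ(X, U) hB hAB
    (hU.primeIdealOf ⟨x, hxU⟩) hUni'
  -- conclusion
  intro W hW
  have hW' : hU.fromSpec ⁻¹' W ∈ nhds (hU.primeIdealOf ⟨x, hxU⟩) := by
    apply hU.fromSpec.continuous.continuousAt
    rw [hfx]
    exact hW
  have hE := hring _ hW'
  have hnm' : PrimeSpectrum.comap (algebraMap Γ(Y, V) Γ(X, U)) (hU.primeIdealOf ⟨x, hxU⟩) =
      hV.primeIdealOf ⟨f x, hyV⟩ := PrimeSpectrum.ext hnm
  rw [hnm'] at hE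
  have h1 : hV.fromSpec '' (PrimeSpectrum.comap (algebraMap Γ(Y, V) Γ(X, U)) ''
      (hU.fromSpec ⁻¹' W)) ∈ nhds (f x) := by
    rw [← hfy]
    exact hV.fromSpec.isOpenEmbedding.isOpenMap.image_mem_nhds hE
  refine Filter.mem_of_superset h1 ?_
  rintro _ ⟨_, ⟨P, hP, rfl⟩, rfl⟩
  exact ⟨hU.fromSpec P, hP, hcompat P⟩

end Groth.Agent.Lib.Helper87.UnibranchOpenScheme
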