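import Mathlib.AlgebraicGeometry.AffineSpace
import Mathlib.AlgebraicGeometry.Morphisms.Smooth
import Groth.Agent.Lib.Helper87.GeomUnibranchSmooth

/-!
# Affine space over a scheme is smooth; geometric unibranchness ascends to affine space
-/

set_option autoImplicit false
universe u

open CategoryTheory CategoryTheory.Limits AlgebraicGeometry

namespace Groth.Agent.Lib.Helper87.AffineSpaceSmooth

open AlgebraicGeometry.AffineSpace

set_option backward.isDefEq.respectTransparency.types false in
instance smooth_over (n : Type u) [Finite n] (S : Scheme.{u}) : Smooth (𝔸(n; S) ↘ S) :=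
  MorphismProperty.pullback_fst _ _ <| by
  have := isIso_of_isTerminal specULiftZIsTerminal.{u} terminalIsTerminal (terminal.from _)
  rw [← terminal.comp_from (Spec.map (CommRingCat.ofHom MvPolynomial.C)),
    MorphismProperty.cancel_right_of_respectsIso (P := @Smooth),
    HasRingHomProperty.Spec_iff (P := @Smooth), RingHom.Smooth]
  have hs : Algebra.Smooth (ULift.{u} ℤ) (MvPolynomial n (ULift.{u} ℤ)) :=
    ⟨inferInstance, inferInstance⟩
  convert! hs
  exact Algebra.algebra_ext _ _ fun _ ↦ rfl

open Groth.Agent.Lib.Helper87.GeomUnibranchSmooth in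
theorem isGeomUnibranch_stalk_affineSpace (n : Type u) [Finite n] {Y : Scheme.{u}} (y' : ↥𝔸(n; Y))
    (hy : CAlg2.IsGeomUnibranch (Y.presheaf.stalk ((𝔸(n; Y) ↘ Y).base y'))) :
    CAlg2.IsGeomUnibranch ((𝔸(n; Y)).presheaf.stalk y') := by
  have hmem : y' ∈ (𝔸(n; Y) ↘ Y).smoothLocus := by
    rw [Scheme.Hom.smoothLocus_eq_top]; trivial
  have h := (stalk_pgu_iff_of_smoothAt (𝔸(n; Y) ↘ Y) y' hmem).mpr ⟨inferInstance, hy⟩
  obtain ⟨_, hg⟩ := h
  exact hg

end Groth.Agent.Lib.Helper87.AffineSpaceSmooth
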