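import Groth.Agent.Lib.Helper87.UnivOpenAtQF
import Groth.Agent.Lib.Helper87.AffineSpaceSmooth
import Groth.Agent.S4925
import Groth.Agent.S4926
import Groth.Agent.Lib.Helper73.DimFormula.GenericFibre

set_option autoImplicit false
universe u

open CategoryTheory CategoryTheory.Limits AlgebraicGeometry

namespace Groth.Agent.Lib.Helper87.UnivOpenAtChart

theorem isUnivOpenAt_of_universallyOpen {X Y : Scheme.{u}} (f : X ⟶ Y) [UniversallyOpen f]
    (x : X) : EGA43.IsUnivOpenAt f x := by
  intro Y' g x' _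
  exact Groth.Agent.Lib.Helper80.UnivOpenAt.isOpenAt_of_isOpenMap
    (pullback.snd f g).isOpenMap x'

theorem eq_of_mem_genericPoints {T : Type*} [TopologicalSpace T] [T0Space T] {t s : T}
    (ht : t ∈ genericPoints T) (hs : s ⤳ t) : s = t := by
  have h1 : closure ({t} : Set T) ⊆ closure {s} := hs.closure_subset
  have h2 : closure ({s} : Set T) ⊆ closure {t} :=
    ht.2 isIrreducible_singleton.closure h1
  have h3 : t ⤳ s := specializes_iff_mem_closure.mpr (h2 (subset_closure rfl))
  exact (hs.antisymm h3).eq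

open AlgebraicGeometry.AffineSpace in
/-- Key lemma: a chart to affine space which is quasi-finite and maps some maximal point
generizing `x` to a maximal point of the affine space is universally open at `x`, when the base
is geometrically unibranch at the image of `x`. -/
theorem isUnivOpenAt_chart {U Y : Scheme.{u}} [IsLocallyNoetherian Y] (n : Type u) [Finite n]
    (g : U ⟶ 𝔸(n; Y)) [LocallyOfFiniteType g] [LocallyQuasiFinite g] (x ξ : U) (hξx : ξ ⤳ x)
    (hgξ : ∀ t : 𝔸(n; Y), t ⤳ g ξ → t = g ξ)
    (hy : CAlg2.IsGeomUnibranch (Y.presheaf.stalk ((𝔸(n; Y) ↘ Y).base (g x)))) :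
    EGA43.IsUnivOpenAt g x := by
  have hLN : IsLocallyNoetherian 𝔸(n; Y) :=
    LocallyOfFiniteType.isLocallyNoetherian (𝔸(n; Y) ↘ Y)
  let Z : TopologicalSpace.Closeds U := ⟨closure {ξ}, isClosed_closure⟩
  let I := Scheme.IdealSheafData.vanishingIdeal Z
  have hrange : Set.range I.subschemeι = closure {ξ} := by
    rw [Scheme.IdealSheafData.range_subschemeι, Scheme.IdealSheafData.coe_support_vanishingIdeal]
    rfl
  obtain ⟨xT, hxT⟩ : x ∈ Set.range I.subschemeι := by
    rw [hrange]; exact specializes_iff_mem_closure.mp hξx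
  obtain ⟨ξT, hξT⟩ : ξ ∈ Set.range I.subschemeι := by
    rw [hrange]; exact subset_closure rfl
  have hdom : ∀ t ∈ genericPoints I.subscheme,
      (I.subschemeι ≫ g) t ∈ genericPoints 𝔸(n; Y) := by
    intro t ht
    have h1 : I.subschemeι t ∈ closure {ξ} := hrange ▸ ⟨t, rfl⟩
    have h2 : ξT ⤳ t := by
      rw [← I.subschemeι.isEmbedding.isInducing.specializes_iff, hξT]
      exact specializes_iff_mem_closure.mpr h1
    have h3 : ξT = t := eq_of_mem_genericPoints ht h2
    subst h3
    show closure {(I.subschemeι ≫ g) ξT} ∈ irreducibleComponents _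
    rw [Scheme.Hom.comp_apply, hξT]
    exact Groth.Agent.Lib.Helper73.closure_singleton_mem_irreducibleComponents_of_maximal _ hgξ
  have hgu : CAlg2.IsGeomUnibranch ((𝔸(n; Y)).presheaf.stalk ((I.subschemeι ≫ g) xT)) := by
    rw [Scheme.Hom.comp_apply, hxT]
    exact Groth.Agent.Lib.Helper87.AffineSpaceSmooth.isGeomUnibranch_stalk_affineSpace n (g x) hy
  have h4 := Groth.Agent.Lib.Helper87.UnivOpenAtQF.isUnivOpenAt_of_locallyQuasiFinite
    (I.subschemeι ≫ g) hdom xT hgu
  have h5 := Groth.Agent.S4926.result I.subschemeι g xT h4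
  rwa [hxT] at h5

end Groth.Agent.Lib.Helper87.UnivOpenAtChart
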