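import Groth.Agent.Lib.Helper80.UnivOpenAt
import Groth.Agent.Lib.Helper73.DimFormula.EquidimBaseChange
import Groth.Agent.S4934

set_option autoImplicit false
universe u

open CategoryTheory CategoryTheory.Limits AlgebraicGeometry

namespace Groth.Agent.Lib.Helper87.UnivOpenAtSpecialize

open Groth.Agent.Lib.Helper73 EGA43

/-- Universal openness at a point passes to specializations inside the fibre. -/
theorem isUnivOpenAt_of_specializes {X Y : Scheme.{u}} {f : X ⟶ Y} {x z : X} (hz : z ⤳ x)
    (hfz : f z = f x) (h : IsUnivOpenAt f z) : IsUnivOpenAt f x := by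
  intro Y' g x' hx'
  obtain ⟨z', hz'x', hz'z, hz'y⟩ := exists_specializes_of_isPullback_of_fiber
    (IsPullback.of_hasPullback f g).flip x' z (by rw [hx']; exact hz) (by rw [hx']; exact hfz)
  have h1 := h Y' g z' hz'z
  intro N hN
  have h2 := h1 N (hz'x' hN)
  rw [hz'y] at h2
  exact h2

/-- Pointwise universal openness everywhere gives universal openness. -/
theorem universallyOpen_of_forall_isUnivOpenAt {X Y : Scheme.{u}} (f : X ⟶ Y)
    (h : ∀ x : X, IsUnivOpenAt f x) : UniversallyOpen f := by
  refine ⟨fun X' Y' i₁ i₂ f' sq => ?_⟩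
  change IsOpenMap f'.base
  rw [isOpenMap_iff_nhds_le]
  intro x' N hN
  rw [Filter.mem_map] at hN
  have h1 := Groth.Agent.Lib.Helper80.UnivOpenAt.isOpenAt_of_isPullback (h (i₁ x')) sq.flip x' rfl
  have h2 := h1 _ hN
  exact Filter.mem_of_superset h2 (Set.image_preimage_subset _ _)

/-- A universally open morphism is universally open at each point. -/
theorem isUnivOpenAt_of_universallyOpen' {X Y : Scheme.{u}} (f : X ⟶ Y) [UniversallyOpen f]
    (x : X) : IsUnivOpenAt f x := by
  intro Y' g x' _
  exact Groth.Agent.Lib.Helper80.UnivOpenAt.isOpenAt_of_isOpenMap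
    (pullback.snd f g).isOpenMap x'

/-- Over a locally Noetherian scheme all of whose points are geometrically unibranch, a morphism
locally of finite type that is open at every point is universally open at every point. -/
theorem isUnivOpenAt_of_isOpenMap {X Y : Scheme.{u}} [IsLocallyNoetherian Y]
    (hY : ∀ y : Y, CAlg2.IsGeomUnibranch (Y.presheaf.stalk y)) (f : X ⟶ Y)
    [LocallyOfFiniteType f] (hopen : IsOpenMap f.base) (x : X) : IsUnivOpenAt f x := by
  obtain ⟨z, hzx, hfz, hzmax⟩ :=
    Groth.Agent.Lib.Helper87.ChevalleyPointwise.exists_fiber_maximal_generization f x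
  refine isUnivOpenAt_of_specializes hzx hfz ?_
  have hmax : ∀ x' : X, f.base x' = f.base z → z ∈ closure {x'} → x' = z :=
    fun t hft ht => hzmax t (specializes_iff_mem_closure.mpr ht) hft
  exact ((Groth.Agent.S4934.result f z hmax (hY _)).out 3 0).mp
    (Groth.Agent.Lib.Helper80.UnivOpenAt.isOpenAt_of_isOpenMap hopen z)

end Groth.Agent.Lib.Helper87.UnivOpenAtSpecialize
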