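import Mathlib

set_option autoImplicit false

namespace Groth.Agent.Lib.Helper87

open Function

section SixTerm

variable {R : Type*} [Ring R]

theorem length_eq_range_add_range {X Y Z : Type*} [AddCommGroup X] [Module R X]
    [AddCommGroup Y] [Module R Y] [AddCommGroup Z] [Module R Z]
    (f : X →ₗ[R] Y) (g : Y →ₗ[R] Z) (h : Exact f g) :
    Module.length R Y = Module.length R (LinearMap.range f) + Module.length R (LinearMap.range g) := by
  refine Module.length_eq_add_of_exact (LinearMap.range f).subtype g.rangeRestrict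
    (Submodule.subtype_injective _) g.surjective_rangeRestrict ?_
  intro y
  constructor
  · intro hy
    have : g y = 0 := congrArg Subtype.val hy
    obtain ⟨x, rfl⟩ := (h y).mp this
    exact ⟨⟨f x, ⟨x, rfl⟩⟩, rfl⟩
  · rintro ⟨⟨_, ⟨x, rfl⟩⟩, rfl⟩
    apply Subtype.ext
    exact (h (f x)).mpr ⟨x, rfl⟩

theorem length_range_of_injective {X Y : Type*} [AddCommGroup X] [Module R X]
    [AddCommGroup Y] [Module R Y] (f : X →ₗ[R] Y) (hf : Injective f) :
    Module.length R (LinearMap.range f) = Module.length R X :=
  (LinearEquiv.ofInjective f hf).length_eq.symm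

theorem length_range_of_surjective {X Y : Type*} [AddCommGroup X] [Module R X]
    [AddCommGroup Y] [Module R Y] (f : X →ₗ[R] Y) (hf : Surjective f) :
    Module.length R (LinearMap.range f) = Module.length R Y := by
  rw [LinearMap.range_eq_top.mpr hf, Module.length_top]

theorem length_six_term {X₁ X₂ X₃ X₄ X₅ X₆ : Type*}
    [AddCommGroup X₁] [Module R X₁] [AddCommGroup X₂] [Module R X₂]
    [AddCommGroup X₃] [Module R X₃] [AddCommGroup X₄] [Module R X₄]
    [AddCommGroup X₅] [Module R X₅] [AddCommGroup X₆] [Module R X₆]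
    (f₁ : X₁ →ₗ[R] X₂) (f₂ : X₂ →ₗ[R] X₃) (f₃ : X₃ →ₗ[R] X₄) (f₄ : X₄ →ₗ[R] X₅)
    (f₅ : X₅ →ₗ[R] X₆) (h₁ : Injective f₁) (h₁₂ : Exact f₁ f₂) (h₂₃ : Exact f₂ f₃)
    (h₃₄ : Exact f₃ f₄) (h₄₅ : Exact f₄ f₅) (h₅ : Surjective f₅) :
    Module.length R X₁ + Module.length R X₃ + Module.length R X₅ =
      Module.length R X₂ + Module.length R X₄ + Module.length R X₆ := by
  rw [length_eq_range_add_range f₁ f₂ h₁₂, length_eq_range_add_range f₂ f₃ h₂₃,
    length_eq_range_add_range f₃ f₄ h₃₄, length_eq_range_add_range f₄ f₅ h₄₅,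
    length_range_of_injective f₁ h₁, length_range_of_surjective f₅ h₅]
  abel

end SixTerm

section Snake

open scoped Pointwise

variable {A : Type*} [CommRing A] (t : A)

/-- multiplication by `t` as an endomorphism, in the shape used by the statements -/
abbrev tmul (M : Type*) [AddCommGroup M] [Module A M] : M →ₗ[A] M :=
  t • (LinearMap.id : M →ₗ[A] M)

theorem tmul_apply {M : Type*} [AddCommGroup M] [Module A M] (x : M) : tmul t M x = t • x := rfl

theorem mem_ker_tmul {M : Type*} [AddCommGroup M] [Module A M] (x : M) :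
    x ∈ LinearMap.ker (tmul t M) ↔ t • x = 0 := Iff.rfl

theorem range_tmul (M : Type*) [AddCommGroup M] [Module A M] :
    LinearMap.range (tmul t M) = t • (⊤ : Submodule A M) := by
  ext x
  rw [Submodule.mem_smul_pointwise_iff_exists]
  constructor
  · rintro ⟨y, rfl⟩; exact ⟨y, trivial, rfl⟩
  · rintro ⟨y, -, rfl⟩; exact ⟨y, rfl⟩

theorem exact_tmul_mkQ (M : Type*) [AddCommGroup M] [Module A M] :
    Exact (tmul t M) (Submodule.mkQ (t • (⊤ : Submodule A M))) := by
  rw [LinearMap.exact_iff, Submodule.ker_mkQ, range_tmul]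

variable {M' M M'' : Type*} [AddCommGroup M'] [Module A M'] [AddCommGroup M] [Module A M]
  [AddCommGroup M''] [Module A M'']

/-- the map induced on `t`-torsion -/
def kerMap (f : M' →ₗ[A] M) : LinearMap.ker (tmul t M') →ₗ[A] LinearMap.ker (tmul t M) :=
  f.restrict (fun x hx => by
    rw [mem_ker_tmul] at hx ⊢
    rw [← map_smul, hx, map_zero])

theorem kerMap_apply (f : M' →ₗ[A] M) (x : LinearMap.ker (tmul t M')) :
    (kerMap t f x : M) = f x := rfl

theorem tmul_comm (f : M' →ₗ[A] M) : f.comp (tmul t M') = (tmul t M).comp f := by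
  ext x
  simp

variable (i : M' →ₗ[A] M) (p : M →ₗ[A] M'')

theorem kerMap_injective (hi : Injective i) : Injective (kerMap t i) := by
  intro x y h
  apply Subtype.ext
  apply hi
  exact congrArg Subtype.val h

theorem kerMap_exact (hi : Injective i) (hex : Exact i p) : Exact (kerMap t i) (kerMap t p) := by
  intro x
  constructor
  · intro hx
    have h1 : p x = 0 := congrArg Subtype.val hx
    obtain ⟨y, hy⟩ := (hex x).mp h1
    have hy' : t • y = 0 := by
      apply hi
      rw [map_smul, hy, map_zero]
      exact x.2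
    exact ⟨⟨y, hy'⟩, Subtype.ext hy⟩
  · rintro ⟨y, rfl⟩
    apply Subtype.ext
    exact (hex (i y)).mpr ⟨y, rfl⟩

/-- the connecting map of the snake lemma for multiplication by `t` -/
noncomputable def delta (hi : Injective i) (hp : Surjective p) (hex : Exact i p) :
    LinearMap.ker (tmul t M'') →ₗ[A] QuotSMulTop t M' :=
  SnakeLemma.δ' (tmul t M') (tmul t M) (tmul t M'') i p hex i p hex
    (tmul_comm t i) (tmul_comm t p) (LinearMap.ker (tmul t M'')).subtype
    (LinearMap.exact_subtype_ker_map _) (Submodule.mkQ _) (exact_tmul_mkQ t M') hp hi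

theorem exact_kerMap_delta (hi : Injective i) (hp : Surjective p) (hex : Exact i p) :
    Exact (kerMap t p) (delta t i p hi hp hex) :=
  SnakeLemma.exact_δ'_right (tmul t M') (tmul t M) (tmul t M'') i p hex i p hex
    (tmul_comm t i) (tmul_comm t p) (LinearMap.ker (tmul t M)).subtype
    (LinearMap.exact_subtype_ker_map _) (LinearMap.ker (tmul t M'')).subtype
    (LinearMap.exact_subtype_ker_map _) (Submodule.mkQ _) (exact_tmul_mkQ t M') hp hi
    (kerMap t p) rfl (Submodule.subtype_injective _)

theorem exact_delta_map (hi : Injective i) (hp : Surjective p) (hex : Exact i p) :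
    Exact (delta t i p hi hp hex) (QuotSMulTop.map t i) :=
  SnakeLemma.exact_δ'_left (tmul t M') (tmul t M) (tmul t M'') i p hex i p hex
    (tmul_comm t i) (tmul_comm t p) (LinearMap.ker (tmul t M'')).subtype
    (LinearMap.exact_subtype_ker_map _) (Submodule.mkQ _) (exact_tmul_mkQ t M')
    (Submodule.mkQ _) (exact_tmul_mkQ t M) hp hi
    (QuotSMulTop.map t i) (QuotSMulTop.map_comp_mkQ t i) (Submodule.mkQ_surjective _)

/-- additivity of the "length defect" in `ℕ∞`-form, valid without any finiteness hypotheses -/
theorem length_snake (hi : Injective i) (hp : Surjective p) (hex : Exact i p) :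
    Module.length A (LinearMap.ker (tmul t M')) + Module.length A (LinearMap.ker (tmul t M'')) +
        Module.length A (QuotSMulTop t M) =
      Module.length A (LinearMap.ker (tmul t M)) + Module.length A (QuotSMulTop t M') +
        Module.length A (QuotSMulTop t M'') :=
  length_six_term (kerMap t i) (kerMap t p) (delta t i p hi hp hex) (QuotSMulTop.map t i)
    (QuotSMulTop.map t p) (kerMap_injective t i hi) (kerMap_exact t i p hi hex)
    (exact_kerMap_delta t i p hi hp hex) (exact_delta_map t i p hi hp hex)
    (QuotSMulTop.map_exact t hex hp) (QuotSMulTop.map_surjective t hp)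

end Snake

section Finiteness

open scoped Pointwise

variable {A : Type*} [CommRing A]

theorem artinian_quot [IsNoetherianRing A] (hdim : ringKrullDim A = 1) (t : A)
    (ht : t ∈ nonZeroDivisors A) : IsArtinianRing (A ⧸ Ideal.span {t}) := by
  rw [isArtinianRing_iff_krullDimLE_zero, Ring.krullDimLE_iff]
  have h := ringKrullDim_quotient_succ_le_of_nonZeroDivisor ht
  rw [hdim] at h
  generalize ringKrullDim (A ⧸ Ideal.span {t}) = x at h ⊢
  induction x using WithBot.recBotCoe with
  | bot => exact bot_le
  | coe n =>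
    induction n using ENat.recTopCoe with
    | top => exact absurd h (by simp [← WithBot.coe_top, ← WithBot.coe_one, ← WithBot.coe_add])
    | coe n =>
      have h' : ((n + 1 : ℕ) : WithBot ℕ∞) ≤ ((1 : ℕ) : WithBot ℕ∞) := by exact_mod_cast h
      have h'' : n + 1 ≤ 1 := by exact_mod_cast h'
      have : n = 0 := by omega
      subst this
      exact le_rfl

theorem length_lt_top_of_smul_eq_zero (t : A) [IsArtinianRing (A ⧸ Ideal.span {t})]
    (N : Type*) [AddCommGroup N] [Module A N] [Module.Finite A N] (h : ∀ x : N, t • x = 0) :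
    Module.length A N < ⊤ := by
  have hT : Module.IsTorsionBy A N t := fun x => h x
  let _ : Module (A ⧸ Ideal.span {t}) N := hT.module
  have : IsScalarTower A (A ⧸ Ideal.span {t}) N := inferInstance
  have : Module.Finite (A ⧸ Ideal.span {t}) N := Module.Finite.of_restrictScalars_finite A _ N
  rw [Module.length_eq_of_surjective (S := A) (R := A ⧸ Ideal.span {t}) (M := N)
    Ideal.Quotient.mk_surjective]
  exact Module.length_ne_top.lt_top

theorem length_quot_lt_top (t : A) [IsArtinianRing (A ⧸ Ideal.span {t})]
    (M : Type*) [AddCommGroup M] [Module A M] [Module.Finite A M] :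
    Module.length A (QuotSMulTop t M) < ⊤ := by
  apply length_lt_top_of_smul_eq_zero t
  intro x
  obtain ⟨x, rfl⟩ := Submodule.Quotient.mk_surjective _ x
  rw [← Submodule.Quotient.mk_smul, Submodule.Quotient.mk_eq_zero]
  exact Submodule.smul_mem_pointwise_smul x t ⊤ trivial

theorem length_ker_lt_top [IsNoetherianRing A] (t : A) [IsArtinianRing (A ⧸ Ideal.span {t})]
    (M : Type*) [AddCommGroup M] [Module A M] [Module.Finite A M] :
    Module.length A (LinearMap.ker (tmul t M)) < ⊤ := by
  apply length_lt_top_of_smul_eq_zero t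
  rintro ⟨x, hx⟩
  apply Subtype.ext
  exact hx

theorem length_ker_eq_length_quot_of_finite (t : A)
    (T : Type*) [AddCommGroup T] [Module A T] (hT : Module.length A T < ⊤) :
    Module.length A (LinearMap.ker (tmul t T)) = Module.length A (QuotSMulTop t T) := by
  have h1 := Module.length_eq_add_of_exact (LinearMap.ker (tmul t T)).subtype
    (tmul t T).rangeRestrict (Submodule.subtype_injective _) (tmul t T).surjective_rangeRestrict
    (by
      intro x
      constructor
      · intro hx
        exact ⟨⟨x, congrArg Subtype.val hx⟩, rfl⟩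
      · rintro ⟨y, rfl⟩
        exact Subtype.ext y.2)
  have h2 := Module.length_eq_add_of_exact (LinearMap.range (tmul t T)).subtype
    (LinearMap.range (tmul t T)).mkQ (Submodule.subtype_injective _)
    (Submodule.mkQ_surjective _) (LinearMap.exact_subtype_mkQ _)
  have h3 : Module.length A (T ⧸ LinearMap.range (tmul t T)) = Module.length A (QuotSMulTop t T) :=
    (Submodule.quotEquivOfEq _ _ (range_tmul t T)).length_eq
  rw [← h3]
  have hr : Module.length A (LinearMap.range (tmul t T)) ≠ ⊤ := by
    intro h
    rw [h2, h, top_add] at hT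
    exact lt_irrefl _ hT
  rw [h1, add_comm] at h2
  exact ENat.add_right_injective_of_ne_top hr h2

end Finiteness

end Groth.Agent.Lib.Helper87
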