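import Mathlib
import Groth.Agent.Lib.Helper58.UnramSpread
import Groth.Agent.Lib.Helper19.EtalePointwise
import Groth.Agent.Lib.Helper23.StalkChart
import Groth.Agent.Lib.Helper30.SmoothLocal

/-!
Unramified morphisms of finite type to an integral scheme with geometrically unibranch local
rings: the locus where the map of local rings is injective is open and closed, and the morphism
is etale there.
-/

set_option autoImplicit false
set_option linter.style.haveILetI false
universe u

open CategoryTheory CategoryTheory.Limits AlgebraicGeometry Opposite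

namespace Groth.Agent.Lib.Helper87.UnramGlobal

open Groth.Agent.Lib.Helper87.GeomUnibranchSmooth

variable {X Y : Scheme.{u}} (f : X ⟶ Y)

/-- etale near a point where the map of local rings is injective -/
theorem exists_nhd_etale_of_injective [IsIntegral Y] [LocallyOfFiniteType f] (x : X)
    (hu : ∃ U : X.Opens, x ∈ U ∧ FormallyUnramified (U.ι ≫ f))
    (hY' : CAlg2.IsGeomUnibranch (Y.presheaf.stalk (f.base x)))
    (hinj : Function.Injective (f.stalkMap x)) :
    ∃ U : X.Opens, x ∈ U ∧ Etale (U.ι ≫ f) := by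
  have hresp := Groth.Agent.Lib.Helper19.formallyUnramified_respectsRight_isOpenImmersion.{u}
  have hresp' : MorphismProperty.RespectsRight @Etale.{u} @IsOpenImmersion :=
    ⟨fun i _ f hf => MorphismProperty.comp_mem _ f i hf inferInstance⟩
  obtain ⟨U₁, hxU₁, hU₁⟩ := hu
  obtain ⟨_, ⟨V : Y.Opens, hV : IsAffineOpen V, rfl⟩, hxV, -⟩ :=
    Y.isBasis_affineOpens.exists_subset_of_mem_open (Set.mem_univ (f x)) isOpen_univ
  obtain ⟨_, ⟨W : X.Opens, hW : IsAffineOpen W, rfl⟩, hxW, hWle⟩ :=
    X.isBasis_affineOpens.exists_subset_of_mem_open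
      (show x ∈ f ⁻¹ᵁ V ⊓ U₁ from ⟨hxV, hxU₁⟩) (f ⁻¹ᵁ V ⊓ U₁).2
  have hWV : W ≤ f ⁻¹ᵁ V := fun a ha => (hWle ha).1
  have hWU₁ : W ≤ U₁ := fun a ha => (hWle ha).2
  have hunrW : FormallyUnramified (W.ι ≫ f) := by
    rw [← X.homOfLE_ι hWU₁, Category.assoc]
    exact IsZariskiLocalAtSource.comp hU₁ _
  rw [Groth.Agent.Lib.Helper19.ι_comp_iff_appLE @FormallyUnramified f hV hW hWV] at hunrW
  have hft := f.finiteType_appLE hV hW hWV
  haveI : Nonempty V := ⟨⟨f x, hxV⟩⟩
  algebraize [(f.appLE V W hWV).hom]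
  let p := (hV.primeIdealOf ⟨f x, hWV hxW⟩).asIdeal
  let q := (hW.primeIdealOf ⟨x, hxW⟩).asIdeal
  have hpq : p = q.comap (algebraMap Γ(Y, V) Γ(X, W)) :=
    congr($(IsAffineOpen.comap_primeIdealOf_appLE V hV W hW hWV hxW).1).symm
  haveI : q.LiesOver p := ⟨hpq⟩
  have hunrA : Algebra.FormallyUnramified Γ(Y, V) Γ(X, W) := hunrW
  haveI : Algebra.IsUnramifiedAt Γ(Y, V) q := by
    have : Algebra.FormallyUnramified Γ(X, W) (Localization.AtPrime q) :=
      Algebra.FormallyUnramified.of_isLocalization q.primeCompl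
    exact Algebra.FormallyUnramified.comp Γ(Y, V) Γ(X, W) (Localization.AtPrime q)
  have hPD : PDGU (Localization.AtPrime p) :=
    (Groth.Agent.Lib.Helper30.SmoothLocal.stalk_iff_localization
      (fun A _ => PDGU A) (fun A A' _ _ e h => PDGU.of_ringEquiv A A' e h)
      hV (f x) (hWV hxW)).mp ⟨inferInstance, inferInstance, hY'⟩
  have hinj' : Function.Injective (Localization.localRingHom p q
      (algebraMap Γ(Y, V) Γ(X, W)) (q.over_def p)) :=
    (RingHom.injective_respectsIso.arrow_mk_iso_iff
      (IsAffineOpen.arrowStalkMapIso f V hV W hW hWV hxW)).mp hinj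
  obtain ⟨t, htq, hEt⟩ := Groth.Agent.Lib.Helper58.UnramSpread.exists_etale_away q p hPD.2.2 hinj'
  refine ⟨X.basicOpen t,
    (Groth.Agent.Lib.Helper19.mem_basicOpen_iff_notMem_primeIdealOf hW x hxW t).mpr htq, ?_⟩
  rw [Groth.Agent.Lib.Helper19.ι_comp_iff_appLE @Etale f hV (hW.basicOpen t)
    ((X.basicOpen_le t).trans hWV), ← f.appLE_map hWV (homOfLE (X.basicOpen_le t)).op]
  exact (Groth.Agent.Lib.Helper19.basicOpen_iff_of_respectsIso RingHom.Etale.respectsIso hW t).mpr
    (RingHom.etale_algebraMap.mpr hEt)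

/-- on an open where the morphism is flat, the maps of local rings are injective -/
theorem injective_stalkMap_of_flat (U : X.Opens) [Flat (U.ι ≫ f)] (x : X) (hxU : x ∈ U) :
    Function.Injective (f.stalkMap x) := by
  have hfl : ((U.ι ≫ f).stalkMap ⟨x, hxU⟩).hom.Flat := Flat.stalkMap (U.ι ≫ f) ⟨x, hxU⟩
  have hfl' : (f.stalkMap x).hom.Flat :=
    (Groth.Agent.Lib.Helper23.stalkMap_ι_comp_iff RingHom.Flat.respectsIso f U ⟨x, hxU⟩).mp hfl
  algebraize [(f.stalkMap x).hom]
  haveI : IsLocalHom (algebraMap (Y.presheaf.stalk (f.base x)) (X.presheaf.stalk x)) :=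
    inferInstanceAs (IsLocalHom (f.stalkMap x).hom)
  haveI : Module.FaithfullyFlat (Y.presheaf.stalk (f.base x)) (X.presheaf.stalk x) :=
    Module.FaithfullyFlat.of_flat_of_isLocalHom
  exact FaithfulSMul.algebraMap_injective _ _

/-- non-injectivity of the map of local rings spreads to a neighbourhood -/
theorem exists_nhd_not_injective [IsIntegral Y] (x : X)
    (h : ¬ Function.Injective (f.stalkMap x)) :
    ∃ U : X.Opens, x ∈ U ∧ ∀ x' ∈ U, ¬ Function.Injective (f.stalkMap x') := by
  rw [injective_iff_map_eq_zero] at h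
  push Not at h
  obtain ⟨a, ha0, hane⟩ := h
  obtain ⟨V, hxV, r, rfl⟩ := Y.presheaf.exists_germ_eq a
  rw [Scheme.Hom.germ_stalkMap_apply] at ha0
  have h0 : X.presheaf.germ (f ⁻¹ᵁ V) x hxV (f.app V r) =
      X.presheaf.germ (f ⁻¹ᵁ V) x hxV 0 := by
    rw [ha0, map_zero]
  obtain ⟨W, hxW, iU, iV, hres⟩ := X.presheaf.germ_eq x hxV hxV _ _ h0
  rw [map_zero] at hres
  refine ⟨W, hxW, fun x' hx' hinj => ?_⟩
  have hx'V : f x' ∈ V := iU.le hx'
  have h1 : f.stalkMap x' (Y.presheaf.germ V (f x') hx'V r) = 0 := by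
    rw [Scheme.Hom.germ_stalkMap_apply, ← X.presheaf.germ_res_apply iU x' hx', hres, map_zero]
  have h2 : Y.presheaf.germ V (f x') hx'V r = 0 := hinj (by rw [h1, map_zero])
  have h3 : r = 0 := germ_injective_of_isIntegral Y (f x') hx'V (by rw [h2, map_zero])
  exact hane (by rw [h3, map_zero])

/-- the map of local rings is injective at points over the generic point -/
theorem injective_stalkMap_of_generic [IsIntegral Y] (x : X) (hx : f.base x = genericPoint Y) :
    Function.Injective (f.stalkMap x) := by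
  have key : ∀ y : Y, y = genericPoint Y → IsField (Y.presheaf.stalk y) := by
    intro y hy
    subst hy
    exact (inferInstance : Field Y.functionField).toIsField
  letI : Field (Y.presheaf.stalk (f.base x)) := (key _ hx).toField
  exact RingHom.injective (f.stalkMap x).hom

variable [IsIntegral Y] [ConnectedSpace X] [LocallyOfFiniteType f] [FormallyUnramified f]

theorem injective_stalkMap_of_connected
    (hY : ∀ y : Y, CAlg2.IsGeomUnibranch (Y.presheaf.stalk y))
    (hη : ∃ x : X, f.base x = genericPoint Y) (x : X) : Function.Injective (f.stalkMap x) := by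
  have hclopen : IsClopen {x : X | Function.Injective (f.stalkMap x)} := by
    constructor
    · rw [← isOpen_compl_iff, isOpen_iff_forall_mem_open]
      intro x hx
      obtain ⟨U, hxU, hU⟩ := exists_nhd_not_injective f x hx
      exact ⟨U, fun x' hx' => hU x' hx', U.2, hxU⟩
    · rw [isOpen_iff_forall_mem_open]
      intro x hx
      obtain ⟨U, hxU, hU⟩ := exists_nhd_etale_of_injective f x
        ⟨⊤, trivial, IsZariskiLocalAtSource.comp (inferInstance : FormallyUnramified f) _⟩ (hY _) hx
      haveI := hU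
      exact ⟨U, fun x' hx' => injective_stalkMap_of_flat f U x' hx', U.2, hxU⟩
  obtain ⟨x0, hx0⟩ := hη
  have huniv := hclopen.eq_univ ⟨x0, injective_stalkMap_of_generic f x0 hx0⟩
  exact (Set.eq_univ_iff_forall.mp huniv) x

theorem etale_of_connected (hY : ∀ y : Y, CAlg2.IsGeomUnibranch (Y.presheaf.stalk y))
    (hη : ∃ x : X, f.base x = genericPoint Y) : Etale f := by
  have h : ∀ x : X, ∃ U : X.Opens, x ∈ U ∧ Etale (U.ι ≫ f) := fun x =>
    exists_nhd_etale_of_injective f x ⟨⊤, trivial, IsZariskiLocalAtSource.comp (inferInstance : FormallyUnramified f) _⟩ (hY _)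
      (injective_stalkMap_of_connected f hY hη x)
  choose U hxU hU using h
  refine (IsZariskiLocalAtSource.iff_of_iSup_eq_top (P := @Etale) U ?_).mpr hU
  rw [eq_top_iff]
  intro x _
  exact TopologicalSpace.Opens.mem_iSup.mpr ⟨x, hxU x⟩

section Generization

variable {X Y : Scheme.{u}} (f : X ⟶ Y)

/-- the map of local rings is injective at a point having a generization over the generic point -/
theorem injective_stalkMap_of_generization [IsIntegral Y] (x x' : X) (h : x' ⤳ x)
    (hx' : f.base x' = genericPoint Y) : Function.Injective (f.stalkMap x) := by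
  rw [injective_iff_map_eq_zero]
  intro y hy
  have h1 := Scheme.Hom.stalkSpecializes_stalkMap_apply f x' x h y
  rw [hy, map_zero] at h1
  have h2 : Y.presheaf.stalkSpecializes (f.base.hom.map_specializes h) y = 0 :=
    injective_stalkMap_of_generic f x' hx' (by rw [h1, map_zero])
  obtain ⟨V, hxV, r, rfl⟩ := Y.presheaf.exists_germ_eq y
  rw [TopCat.Presheaf.germ_stalkSpecializes_apply] at h2
  have h3 : r = 0 := germ_injective_of_isIntegral Y _ _ (by rw [h2, map_zero])
  rw [h3, map_zero]

theorem exists_nhd_etale_of_generization [IsIntegral Y] [LocallyOfFiniteType f] (x : X)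
    (hY : CAlg2.IsGeomUnibranch (Y.presheaf.stalk (f.base x)))
    (hsp : ∃ x' : X, x' ⤳ x ∧ f.base x' = genericPoint Y)
    (hunr : ∃ U : X.Opens, x ∈ U ∧ FormallyUnramified (U.ι ≫ f)) :
    ∃ U : X.Opens, x ∈ U ∧ Etale (U.ι ≫ f) := by
  obtain ⟨x', h, hx'⟩ := hsp
  exact exists_nhd_etale_of_injective f x hunr hY (injective_stalkMap_of_generization f x x' h hx')

end Generization

end Groth.Agent.Lib.Helper87.UnramGlobal
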