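import Mathlib
import Groth.Prelude.Def_Hensel
import Groth.Agent.S13598
import Groth.Agent.Lib.Helper87.SmoothPrime

set_option autoImplicit false
set_option linter.style.haveILetI false
universe u

/-!
# Strict henselization commutes with quotients (helper87)

`isStrictHenselization_quotient`: for a local ring `A` with strict henselization `S` and an ideal
`I` of `A`, the quotient `S ⧸ I S` is a strict henselization of `A ⧸ I`.
-/

open IsLocalRing

namespace Groth.Agent.Lib.Helper87.HensQuotient

variable {A S : Type u} [CommRing A] [IsLocalRing A] [CommRing S] [IsLocalRing S] [Algebra A S]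
  [IsLocalHom (algebraMap A S)]

theorem residueField_map_bijective_of_surjective {R R' : Type*} [CommRing R] [IsLocalRing R]
    [CommRing R'] [IsLocalRing R'] (f : R →+* R') [IsLocalHom f] (hf : Function.Surjective f) :
    Function.Bijective (ResidueField.map f) := by
  refine ⟨(ResidueField.map f).injective, ?_⟩
  intro y
  obtain ⟨b, rfl⟩ := residue_surjective y
  obtain ⟨a, rfl⟩ := hf b
  exact ⟨residue R a, rfl⟩

theorem isStrictHenselization_quotient [hS : Hensel.IsStrictHenselization A S] (I : Ideal A)
    [IsLocalRing (A ⧸ I)] [IsLocalRing (S ⧸ I.map (algebraMap A S))]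
    [IsLocalHom (algebraMap (A ⧸ I) (S ⧸ I.map (algebraMap A S)))] :
    Hensel.IsStrictHenselization (A ⧸ I) (S ⧸ I.map (algebraMap A S)) := by
  haveI hSh : HenselianLocalRing S := hS.henselian
  haveI hmkA : IsLocalHom (Ideal.Quotient.mk I) :=
    IsLocalHom.of_surjective _ Ideal.Quotient.mk_surjective
  haveI hmkS : IsLocalHom (Ideal.Quotient.mk (I.map (algebraMap A S))) :=
    IsLocalHom.of_surjective _ Ideal.Quotient.mk_surjective
  let eA : ResidueField A ≃+* ResidueField (A ⧸ I) :=
    RingEquiv.ofBijective (ResidueField.map (Ideal.Quotient.mk I))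
      (residueField_map_bijective_of_surjective _ Ideal.Quotient.mk_surjective)
  let eS : ResidueField S ≃+* ResidueField (S ⧸ I.map (algebraMap A S)) :=
    RingEquiv.ofBijective (ResidueField.map (Ideal.Quotient.mk (I.map (algebraMap A S))))
      (residueField_map_bijective_of_surjective _ Ideal.Quotient.mk_surjective)
  have heA : ∀ a : A, eA (residue A a) = residue (A ⧸ I) (Ideal.Quotient.mk I a) := fun a => rfl
  have heS : ∀ s : S, eS (residue S s) =
      residue (S ⧸ I.map (algebraMap A S)) (Ideal.Quotient.mk _ s) := fun s => rfl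
  refine ⟨Groth.Agent.S13598.henselian_quotient _, ?_, ?_⟩
  · haveI := hS.isSepClosure
    haveI : IsSepClosed (ResidueField S) := IsSepClosure.sep_closed (ResidueField A)
    haveI : Algebra.IsSeparable (ResidueField A) (ResidueField S) := IsSepClosure.separable
    refine ⟨SmoothPrime.isSepClosed_of_surjective (eS : ResidueField S →+* _) eS.surjective, ?_⟩
    refine Algebra.IsSeparable.of_equiv_equiv eA eS ?_
    refine Ideal.Quotient.ringHom_ext ?_
    ext a
    show algebraMap (ResidueField (A ⧸ I)) (ResidueField (S ⧸ I.map (algebraMap A S)))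
        (eA (residue A a)) = eS (algebraMap (ResidueField A) (ResidueField S) (residue A a))
    rw [heA, ResidueField.algebraMap_residue, ResidueField.algebraMap_residue, heS]
    rfl
  · intro T _ _ f _ τ hτ
    let f₀ : A →+* T := f.comp (Ideal.Quotient.mk I)
    haveI hf₀ : IsLocalHom f₀ := RingHom.isLocalHom_comp f (Ideal.Quotient.mk I)
    let τ₀ : ResidueField S →+* ResidueField T := τ.comp (eS : ResidueField S →+* _)
    have hτ₀ : τ₀.comp (ResidueField.map (algebraMap A S)) = ResidueField.map f₀ := by
      refine Ideal.Quotient.ringHom_ext ?_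
      ext a
      have h1 := congrArg (fun g => g (residue (A ⧸ I) (Ideal.Quotient.mk I a))) hτ
      simp only [RingHom.comp_apply, ResidueField.map_residue] at h1
      show τ (eS (ResidueField.map (algebraMap A S) (residue A a))) =
        ResidueField.map f₀ (residue A a)
      rw [ResidueField.map_residue, ResidueField.map_residue, heS]
      exact h1
    obtain ⟨g₀, ⟨hg₀, hg₀res⟩, hg₀u⟩ := hS.universal T f₀ τ₀ hτ₀
    have hg₀' : ∀ a : A, g₀ (algebraMap A S a) = f (Ideal.Quotient.mk I a) := fun a =>
      congr($hg₀ a)
    have hker : ∀ s ∈ I.map (algebraMap A S), g₀ s = 0 := by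
      intro s hs
      have hle : I.map (algebraMap A S) ≤ RingHom.ker g₀ := by
        rw [Ideal.map_le_iff_le_comap]
        intro a ha
        rw [Ideal.mem_comap, RingHom.mem_ker, hg₀', Ideal.Quotient.eq_zero_iff_mem.2 ha, map_zero]
      exact hle hs
    refine ⟨Ideal.Quotient.lift _ g₀ hker, ⟨?_, ?_⟩, ?_⟩
    · apply Ideal.Quotient.ringHom_ext
      ext a
      simp only [RingHom.comp_apply, Ideal.Quotient.algebraMap_quotient_map_quotient,
        Ideal.Quotient.lift_mk]
      exact hg₀' a
    · intro x
      obtain ⟨s, rfl⟩ := Ideal.Quotient.mk_surjective x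
      rw [Ideal.Quotient.lift_mk, hg₀res, ← heS]
      rfl
    · rintro g' ⟨hg'1, hg'2⟩
      apply Ideal.Quotient.ringHom_ext
      have h1 : g'.comp (Ideal.Quotient.mk (I.map (algebraMap A S))) = g₀ := by
        apply hg₀u
        refine ⟨?_, ?_⟩
        · ext a
          simp only [RingHom.comp_apply, f₀]
          rw [← hg'1, RingHom.comp_apply, Ideal.Quotient.algebraMap_quotient_map_quotient]
        · intro s
          simp only [RingHom.comp_apply, τ₀]
          rw [hg'2]
          rfl
      rw [h1]
      ext s
      simp

end Groth.Agent.Lib.Helper87.HensQuotient
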