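import Groth.Agent.Lib.Helper87.UnivOpenAtSpecialize

set_option autoImplicit false
universe u

open CategoryTheory CategoryTheory.Limits AlgebraicGeometry TopologicalSpace

namespace Groth.Agent.Lib.Helper87.ChevalleyFibre

open Groth.Agent.Lib.Helper73 EGA43 Groth.Agent.Lib.Helper87.ChevalleyPointwise
  Groth.Agent.Lib.Helper87.UnivOpenAtSpecialize

/-- In a pullback square over a morphism locally of finite type, every neighbourhood of a point
contains a point of the same fibre whose image is closed in its fibre. -/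
theorem exists_closed_in_fiber_of_isPullback {X S S' X' : Scheme.{u}} (f : X ⟶ S)
    [LocallyOfFiniteType f] (g : S' ⟶ S) (g' : X' ⟶ X) (f' : X' ⟶ S')
    (hsq : IsPullback g' f' f g) (p : X') (V : Set X') (hV : IsOpen V) (hp : p ∈ V) :
    ∃ q ∈ V, f' q = f' p ∧ ∀ x' : X, f x' = f (g' q) → g' q ⤳ x' → x' = g' q := by
  have hP := isPullback_fiberToSpecResidueField_of_isPullback hsq (f' p)
  let m := fiberMapOfIsPullback f g g' f' hsq (f' p)
  have hm : m ≫ f.fiberι (g (f' p)) = f'.fiberι (f' p) ≫ g' :=
    fiberMapOfIsPullback_fiberι f g g' f' hsq (f' p)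
  have hopen : UniversallyOpen m := universallyOpen_of_isPullback_field
    (k := S.residueField (g (f' p))) (K := S'.residueField (f' p))
    (g.residueFieldMap (f' p)).hom (f.fiberToSpecResidueField (g (f' p)))
    (f'.fiberToSpecResidueField (f' p)) m hP
  let V' : Set (f'.fiber (f' p)) := (f'.fiberι (f' p)) ⁻¹' V
  have hV' : IsOpen V' := hV.preimage (f'.fiberι (f' p)).continuous
  have hpV' : f'.asFiber p ∈ V' := by
    change f'.fiberι (f' p) (f'.asFiber p) ∈ V
    rw [f'.fiberι_asFiber p]; exact hp
  have himg : IsOpen (m '' V') := m.isOpenMap _ hV'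
  obtain ⟨c, ⟨v', hv'V', rfl⟩, hc⟩ := nonempty_inter_closedPoints
    (Z := m '' V') ⟨_, ⟨_, hpV', rfl⟩⟩ himg.isLocallyClosed
  have hfst : g' (f'.fiberι (f' p) v') = f.fiberι (g (f' p)) (m v') := by
    have := congrArg (fun φ => φ v') hm
    simp only [Scheme.Hom.comp_apply] at this
    exact this.symm
  refine ⟨f'.fiberι (f' p) v', hv'V', ?_, ?_⟩
  · have : f'.fiberι (f' p) v' ∈ Set.range (f'.fiberι (f' p)) := ⟨_, rfl⟩
    rw [f'.range_fiberι (f' p)] at this
    exact this
  · intro x' hfx' hsp
    rw [hfst] at hfx' hsp ⊢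
    have hfc : f (f.fiberι (g (f' p)) (m v')) = g (f' p) := by
      have : f.fiberι (g (f' p)) (m v') ∈ Set.range (f.fiberι (g (f' p))) := ⟨_, rfl⟩
      rw [f.range_fiberι (g (f' p))] at this
      exact this
    let c' : f.fiber (g (f' p)) := (f.fiberHomeo (g (f' p))).symm ⟨x', hfx'.trans hfc⟩
    have hc' : f.fiberι (g (f' p)) c' = x' := f.fiberι_fiberHomeo_symm _ ⟨x', hfx'.trans hfc⟩
    have h1 : m v' ⤳ c' := by
      rw [← (f.fiberι (g (f' p))).isEmbedding.isInducing.specializes_iff, hc']
      exact hsp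
    have h2 : c' ∈ closure {m v'} := h1.mem_closed isClosed_closure (subset_closure rfl)
    have h3 : IsClosed ({m v'} : Set (f.fiber (g (f' p)))) := hc
    rw [h3.closure_eq] at h2
    rw [← hc', h2]

/-- Universal openness at all points of a fibre follows from universal openness at the points
closed in this fibre. -/
theorem isUnivOpenAt_of_forall_closed {X Y : Scheme.{u}} (f : X ⟶ Y) [LocallyOfFiniteType f]
    (y : Y)
    (H : ∀ x : X, f x = y → (∀ x' : X, f x' = y → x ⤳ x' → x' = x) → IsUnivOpenAt f x)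
    (z : X) (hz : f z = y) : IsUnivOpenAt f z := by
  intro Y' g x' hx' N hN
  obtain ⟨V, hVN, hV, hx'V⟩ := mem_nhds_iff.mp hN
  obtain ⟨q, hqV, hq1, hq2⟩ := exists_closed_in_fiber_of_isPullback f g (pullback.fst f g)
    (pullback.snd f g) (IsPullback.of_hasPullback f g) x' V hV hx'V
  have hw := fun t => congrArg (fun φ => φ t) (pullback.condition (f := f) (g := g))
  simp only [Scheme.Hom.comp_apply] at hw
  have hfq : f ((pullback.fst f g) q) = y := by
    rw [hw q, hq1, ← hw x', hx', hz]
  have h1 := H _ hfq (fun x'' h h' => hq2 x'' (h.trans hfq.symm) h') Y' g q rfl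
  have h2 := h1 N (mem_nhds_iff.mpr ⟨V, hVN, hV, hqV⟩)
  rw [hq1] at h2
  exact h2

/-- A morphism admitting a quasi-section through a point over a geometrically unibranch point
is universally open there. -/
theorem isUnivOpenAt_of_quasiSection {X Y T : Scheme.{u}} [IsLocallyNoetherian Y]
    [IrreducibleSpace Y] (f : X ⟶ Y) (i : T ⟶ X) [IrreducibleSpace T]
    [LocallyOfFiniteType (i ≫ f)] [LocallyQuasiFinite (i ≫ f)] [IsDominant (i ≫ f)] (t : T)
    (hy : CAlg2.IsGeomUnibranch (Y.presheaf.stalk (f (i t)))) : IsUnivOpenAt f (i t) := by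
  have hdom : ∀ s ∈ genericPoints T, (i ≫ f) s ∈ genericPoints Y := by
    intro s hs
    have hs' : closure ({s} : Set T) = Set.univ := by
      have : closure ({s} : Set T) ∈ irreducibleComponents T := hs
      rw [irreducibleComponents_eq_singleton] at this
      exact this
    change closure {(i ≫ f) s} ∈ irreducibleComponents Y
    rw [irreducibleComponents_eq_singleton]
    change closure {(i ≫ f) s} = Set.univ
    rw [Set.eq_univ_iff_forall]
    intro b
    have h1 : DenseRange (i ≫ f) := (i ≫ f).denseRange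
    have h2 : Set.range (i ≫ f) ⊆ closure {(i ≫ f) s} := by
      rintro _ ⟨a, rfl⟩
      have : a ∈ closure ({s} : Set T) := by rw [hs']; trivial
      have h3 := image_closure_subset_closure_image (i ≫ f).continuous ⟨a, this, rfl⟩
      rwa [Set.image_singleton] at h3
    exact (closure_minimal h2 isClosed_closure) (h1 b)
  have h1 := Groth.Agent.Lib.Helper87.UnivOpenAtQF.isUnivOpenAt_of_locallyQuasiFinite (i ≫ f)
    hdom t hy
  exact Groth.Agent.S4926.result i f t h1

/-- There is a maximal point of the fibre generizing `x` that computes the fibre dimension. -/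
theorem exists_maximal_fiber_fibreDimAt_le {X Y : Scheme.{u}} (f : X ⟶ Y)
    [LocallyOfFiniteType f] (x : X) :
    ∃ z : X, z ⤳ x ∧ f z = f x ∧ (∀ t : X, t ⤳ z → f t = f z → t = z) ∧
      FlatMor.fibreDimAt f x ≤ ((resTrdegNat f z : ℕ) : WithBot ℕ∞) := by
  by_contra hcon
  push Not at hcon
  obtain ⟨n, hn⟩ := exists_fibreDimAt_eq_natCast f x
  obtain ⟨z₀, hz₀x, hfz₀, hz₀max⟩ := exists_maximal_fiber_specializes f x
  have h0 := hcon z₀ hz₀x hfz₀ hz₀max
  rw [hn] at h0
  have h0' : resTrdegNat f z₀ < n := by exact_mod_cast h0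
  have hle : FlatMor.fibreDimAt f x ≤ ((n - 1 : ℕ) : WithBot ℕ∞) := by
    apply fibreDimAt_le_of_forall_generization
    intro η hηx hfη
    obtain ⟨ζ, hζη, hfζ, hζmax⟩ := exists_maximal_fiber_specializes f η
    have h1 := resTrdegNat_le_of_specializes_fiber f η ζ hζη hfζ
    have h2 := hcon ζ (hζη.trans hηx) (hfζ.trans hfη) hζmax
    rw [hn] at h2
    have h2' : resTrdegNat f ζ < n := by exact_mod_cast h2
    omega
  rw [hn] at hle
  have : n ≤ n - 1 := by exact_mod_cast hle
  omega

/-- A quasi-section through a point closed in its fibre, given good generizations of the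
maximal points of the fibre above it. -/
theorem hasQuasiSection_of_hasGoodGenerization {X Y : Scheme.{u}} [IrreducibleSpace Y]
    [IsLocallyNoetherian Y] (f : X ⟶ Y) [LocallyOfFiniteType f] (x : X)
    (hcl : ∀ x' : X, f x' = f x → x ⤳ x' → x' = x)
    (H : ∀ z : X, z ⤳ x → f z = f x → (∀ t : X, t ⤳ z → f t = f z → t = z) →
      HasGoodGenerization f z) : HasQuasiSection f x := by
  obtain ⟨z, hzx, hfz, hzmax, hdim⟩ := exists_maximal_fiber_fibreDimAt_le f x
  obtain ⟨ξ, hξz, hξmax, hfξmax, hr⟩ := H z hzx hfz hzmax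
  let Z : Closeds X := ⟨closure {ξ}, isClosed_closure⟩
  let I := Scheme.IdealSheafData.vanishingIdeal Z
  have hrange : Set.range I.subschemeι = closure {ξ} := by
    rw [Scheme.IdealSheafData.range_subschemeι]
    exact Scheme.IdealSheafData.coe_support_vanishingIdeal _
  have hxr : x ∈ Set.range I.subschemeι := by
    rw [hrange]
    exact specializes_iff_mem_closure.mp (hξz.trans hzx)
  obtain ⟨w, hw⟩ := hxr
  have hξr : ξ ∈ Set.range I.subschemeι := by
    rw [hrange]; exact subset_closure rfl
  obtain ⟨ξ', hξ'⟩ := hξr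
  have hmaxeq : ∀ t : ↥I.subscheme, (∀ s : ↥I.subscheme, s ⤳ t → s = t) → t = ξ' := by
    intro t ht
    have h1 : I.subschemeι t ∈ closure {ξ} := by rw [← hrange]; exact ⟨t, rfl⟩
    have h2 : ξ' ⤳ t := by
      rw [← I.subschemeι.isEmbedding.isInducing.specializes_iff, hξ']
      exact specializes_iff_mem_closure.mpr h1
    exact (ht ξ' h2).symm
  have hEq : IsEquidimAt (I.subschemeι ≫ f) w := by
    apply isEquidimAt_of_forall_maximal (I.subschemeι ≫ f) w (resTrdegNat f z)
    · apply fibreDimAt_le_of_forall_generization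
      intro η hηw hfη
      rw [resTrdegNat_comp_of_isPreimmersion]
      have h1 : I.subschemeι η ⤳ x := by rw [← hw]; exact hηw.map I.subschemeι.continuous
      have h2 : f (I.subschemeι η) = f x := by
        have : f (I.subschemeι η) = f (I.subschemeι w) := hfη
        rw [this, hw]
      have h3 := (resTrdegNat_le_fibreDimAt_of_specializes f x _ h1 h2).trans hdim
      exact_mod_cast h3
    · intro t _ htmax
      have ht := hmaxeq t htmax
      subst ht
      refine ⟨?_, ?_⟩
      · change ∀ s : Y, s ⤳ f (I.subschemeι t) → s = f (I.subschemeι t)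
        rw [hξ']; exact hfξmax
      · rw [resTrdegNat_comp_of_isPreimmersion, hξ', hr]
  have hclw : ∀ w' : ↥I.subscheme, (I.subschemeι ≫ f) w' = (I.subschemeι ≫ f) w →
      w ⤳ w' → w' = w := by
    intro w' hfw' hww'
    apply I.subschemeι.isEmbedding.injective
    rw [hw]
    apply hcl
    · have : f (I.subschemeι w') = f (I.subschemeι w) := hfw'
      rw [this, hw]
    · have := hww'.map I.subschemeι.continuous
      rwa [hw] at this
  obtain ⟨d, hd⟩ := exists_fibreDimAt_eq_natCast (I.subschemeι ≫ f) w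
  have h1 := hasQuasiSection_of_fibreDimAt_le d _ (I.subschemeι ≫ f) w hEq hclw hd.le
  have h2 := HasQuasiSection.of_immersion I.subschemeι f w h1
  rwa [hw] at h2

end Groth.Agent.Lib.Helper87.ChevalleyFibre
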