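import Groth.Agent.Lib.Helper6.AffStrat

/-!
# Affine stratifications of Noetherian schemes of bounded dimension (helper87)

A Noetherian scheme has an affine dense subscheme with affine inclusion containing all generic
points; the complement has smaller dimension; induction gives an affine stratification whose
number of strata is bounded by the dimension plus one.
-/

set_option autoImplicit false
set_option linter.style.haveILetI false
set_option linter.unusedSectionVars false
universe u
open CategoryTheory CategoryTheory.Limits AlgebraicGeometry TopologicalSpace Opposite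
open Topology
namespace Groth.Agent.Lib.Helper87.AffStratDim

section Top

variable {X : Type*} [TopologicalSpace X]

/-- The generic point of an irreducible component lies in no other component. -/
theorem genericPoint_notMem [QuasiSober X] {Z Z' : irreducibleComponents X} (h : Z ≠ Z') :
    (genericPoints.ofComponent Z).1 ∉ Z'.1 := by
  intro hmem
  have hgen : IsGenericPoint (genericPoints.ofComponent Z).1 Z.1 :=
    genericPoints.isGenericPoint_ofComponent Z
  have hcl : IsClosed Z'.1 := isClosed_of_mem_irreducibleComponents Z'.1 Z'.2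
  have hsub : Z.1 ⊆ Z'.1 := (hgen.mem_closed_set_iff hcl).mp hmem
  have hZ : Maximal IsIrreducible Z.1 := Z.2
  have hZ' : Maximal IsIrreducible Z'.1 := Z'.2
  have : Z'.1 ⊆ Z.1 := hZ.2 hZ'.1 hsub
  exact h (Subtype.ext (Set.Subset.antisymm hsub this))

/-- Every irreducible closed subset is contained in an irreducible component. -/
theorem exists_component_of_isIrreducible {T : Set X} (hT : IsIrreducible T) :
    ∃ C ∈ irreducibleComponents X, T ⊆ C := by
  obtain ⟨t, ht, hTt, hmax⟩ := exists_preirreducible T hT.isPreirreducible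
  have hti : IsIrreducible t := ⟨hT.nonempty.mono hTt, ht⟩
  refine ⟨t, ⟨hti, fun u hu htu => ?_⟩, hTt⟩
  exact (hmax u hu.isPreirreducible htu).le

/-- If a set contains all generic points, any chain of irreducible closed subsets of a closed
subspace of its complement can be extended by one step in the whole space. -/
theorem exists_ltSeries_succ [QuasiSober X] {Y : Type*} [TopologicalSpace Y] {i : Y → X}
    (hi : IsClosedEmbedding i) {U : Set X} (hU : ∀ x ∈ genericPoints X, x ∈ U)
    (hrange : Set.range i ⊆ Uᶜ) (p : LTSeries (IrreducibleCloseds Y)) :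
    ∃ q : LTSeries (IrreducibleCloseds X), q.length = p.length + 1 := by
  let p' : LTSeries (IrreducibleCloseds X) := p.map (IrreducibleCloseds.map i hi.continuous)
    (IrreducibleCloseds.map_strictMono_of_isInducing hi.isInducing)
  have hlast : (p'.last : Set X) ⊆ Uᶜ := by
    have h1 : p'.last = IrreducibleCloseds.map i hi.continuous p.last := LTSeries.last_map _ _ _
    rw [h1, IrreducibleCloseds.coe_map]
    have h2 : closure (i '' (p.last : Set Y)) ⊆ Set.range i := by
      rw [← hi.isClosed_range.closure_eq]
      exact closure_mono (Set.image_subset_range _ _)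
    exact h2.trans hrange
  obtain ⟨C, hC, hTC⟩ := exists_component_of_isIrreducible p'.last.isIrreducible
  let Cc : IrreducibleCloseds X := ⟨C, hC.1, isClosed_of_mem_irreducibleComponents C hC⟩
  have hlt : p'.last < Cc := by
    refine lt_of_le_of_ne hTC ?_
    intro heq
    let η := genericPoints.ofComponent (⟨C, hC⟩ : irreducibleComponents X)
    have hη : η.1 ∈ C := (genericPoints.isGenericPoint_ofComponent ⟨C, hC⟩).mem
    have hηU : η.1 ∈ U := hU η.1 η.2
    have hmem : η.1 ∈ (p'.last : Set X) := by
      rw [heq]
      exact hη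
    exact hlast hmem hηU
  exact ⟨p'.snoc Cc hlt, by simp [p']⟩

/-- The dimension drops on the complement of a set containing all generic points. -/
theorem dim_lt_of_complement [QuasiSober X] {Y : Type*} [TopologicalSpace Y] {i : Y → X}
    (hi : IsClosedEmbedding i) {U : Set X} (hU : ∀ x ∈ genericPoints X, x ∈ U)
    (hrange : Set.range i ⊆ Uᶜ) (n : ℕ)
    (h : topologicalKrullDim X < ((n + 1 : ℕ) : WithBot ℕ∞)) :
    topologicalKrullDim Y < ((n : ℕ) : WithBot ℕ∞) := by
  unfold topologicalKrullDim at *
  rw [Order.krullDim_lt_coe_iff] at h ⊢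
  intro p
  obtain ⟨q, hq⟩ := exists_ltSeries_succ hi hU hrange p
  have := h q
  omega

/-- A space of negative dimension is empty. -/
theorem isEmpty_of_dim_lt_zero (h : topologicalKrullDim X < ((0 : ℕ) : WithBot ℕ∞)) :
    IsEmpty X := by
  unfold topologicalKrullDim at h
  rw [Order.krullDim_lt_coe_iff] at h
  refine ⟨fun x => ?_⟩
  let T : IrreducibleCloseds X := ⟨closure {x}, isIrreducible_singleton.closure, isClosed_closure⟩
  have := h (RelSeries.singleton _ T)
  omega

end Top

/-- A Noetherian scheme has an affine open subscheme with affine inclusion containing all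
generic points. -/
theorem exists_affine_dense (X : Scheme.{u}) [IsNoetherian X] :
    ∃ U : X.Opens, IsAffineOpen U ∧ IsAffineHom U.ι ∧ ∀ x ∈ genericPoints X, x ∈ U := by
  classical
  have hfinC : (irreducibleComponents X).Finite :=
    TopologicalSpace.NoetherianSpace.finite_irreducibleComponents
  haveI : Finite (irreducibleComponents X) := hfinC.to_subtype
  obtain ⟨s, hs, hcov⟩ := (isCompact_iff_finite_and_eq_biUnion_affineOpens
    (U := (⊤ : X.Opens))).mp (by simpa using isCompact_univ)
  have hcov' : ∀ x : X, ∃ W ∈ s, x ∈ (W : X.affineOpens).1 := by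
    intro x
    have hx : x ∈ (⊤ : X.Opens) := trivial
    rw [hcov] at hx
    simp only [Opens.mem_iSup] at hx
    obtain ⟨W, hW, hxW⟩ := hx
    exact ⟨W, hW, hxW⟩
  let η : irreducibleComponents X → X := fun Z => (genericPoints.ofComponent Z).1
  have hη : ∀ Z, IsGenericPoint (η Z) Z.1 := fun Z => genericPoints.isGenericPoint_ofComponent Z
  let O : irreducibleComponents X → Set X := fun Z =>
    (⋃ Z' ∈ {Z' : irreducibleComponents X | Z' ≠ Z}, Z'.1)ᶜ ∩
      ⋂ W ∈ {W ∈ s | η Z ∈ W.1}, (W.1 : Set X)
  have hO : ∀ Z, IsOpen (O Z) := by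
    intro Z
    refine IsOpen.inter ?_ ?_
    · rw [isOpen_compl_iff]
      exact Set.Finite.isClosed_biUnion (Set.toFinite _)
        (fun Z' _ => isClosed_of_mem_irreducibleComponents Z'.1 Z'.2)
    · exact Set.Finite.isOpen_biInter (hs.subset (Set.sep_subset _ _)) (fun W _ => W.1.isOpen)
  have hηO : ∀ Z, η Z ∈ O Z := by
    intro Z
    refine ⟨?_, ?_⟩
    · intro hmem
      obtain ⟨Z', hZ', hmem'⟩ := Set.mem_iUnion₂.mp hmem
      exact genericPoint_notMem (Ne.symm hZ') hmem'
    · exact Set.mem_iInter₂.mpr fun W hW => hW.2
  have hex : ∀ Z, ∃ V : X.Opens, IsAffineOpen V ∧ η Z ∈ V ∧ (V : Set X) ⊆ O Z := by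
    intro Z
    obtain ⟨V, hV, hmem, hsub⟩ := Opens.isBasis_iff_nbhd.mp X.isBasis_affineOpens
      (U := ⟨O Z, hO Z⟩) (hηO Z)
    exact ⟨V, hV, hmem, hsub⟩
  choose V hVaff hηV hVO using hex
  have hVZ : ∀ Z, (V Z : Set X) ⊆ Z.1 := by
    intro Z x hx
    have hxO := (hVO Z hx).1
    have hxc : irreducibleComponent x ∈ irreducibleComponents X :=
      irreducibleComponent_mem_irreducibleComponents x
    by_contra hxZ
    apply hxO
    refine Set.mem_iUnion₂.mpr ⟨⟨irreducibleComponent x, hxc⟩, ?_, mem_irreducibleComponent⟩
    intro heq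
    apply hxZ
    rw [← heq]
    exact mem_irreducibleComponent
  have hdisj : Pairwise (Function.onFun Disjoint V) := by
    intro Z Z' hne
    show Disjoint (V Z) (V Z')
    rw [← Opens.coe_disjoint, Set.disjoint_left]
    intro x hx hx'
    have h1 := (hVO Z hx).1
    apply h1
    exact Set.mem_iUnion₂.mpr ⟨Z', hne.symm, hVZ Z' hx'⟩
  have hdich : ∀ Z, ∀ W ∈ s, (V Z : Set X) ⊆ (W.1 : Set X) ∨
      Disjoint (V Z : Set X) (W.1 : Set X) := by
    intro Z W hW
    by_cases hηW : η Z ∈ W.1
    · left
      intro x hx
      exact Set.mem_iInter₂.mp (hVO Z hx).2 W ⟨hW, hηW⟩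
    · right
      rw [Set.disjoint_left]
      intro x hx hxW
      apply hηW
      have hxZ : x ∈ Z.1 := hVZ Z hx
      have hsp : η Z ⤳ x := (hη Z).specializes hxZ
      exact hsp.mem_open W.1.isOpen hxW
  refine ⟨iSup V, IsAffineOpen.iSup_of_disjoint hVaff hdisj, ?_, ?_⟩
  · refine isAffineHom_of_forall_exists_isAffineOpen _ fun x => ?_
    obtain ⟨W, hW, hxW⟩ := hcov' x
    refine ⟨W.1, hxW, W.2, ?_⟩
    rw [← Scheme.Hom.isAffineOpen_iff_of_isOpenImmersion (iSup V).ι]
    have himg : (iSup V).ι ''ᵁ ((iSup V).ι ⁻¹ᵁ W.1) = ⨆ Z, (V Z ⊓ W.1) := by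
      rw [Scheme.Hom.image_preimage_eq_opensRange_inf, Scheme.Opens.opensRange_ι, iSup_inf_eq]
    rw [himg]
    refine IsAffineOpen.iSup_of_disjoint (fun Z => ?_) ?_
    · rcases hdich Z W hW with h | h
      · have : V Z ⊓ W.1 = V Z := inf_eq_left.mpr h
        rw [this]
        exact hVaff Z
      · have : V Z ⊓ W.1 = ⊥ := by
          rw [← disjoint_iff, ← Opens.coe_disjoint]
          exact h
        rw [this]
        exact isAffineOpen_bot X
    · intro Z Z' hne
      exact (hdisj hne).mono inf_le_left inf_le_left
  · intro x hx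
    let Z : irreducibleComponents X := ⟨closure {x}, hx⟩
    have hZx : η Z = x := (hη Z).eq isGenericPoint_closure
    rw [← hZx]
    exact Opens.mem_iSup.mpr ⟨Z, hηV Z⟩

open Groth.Agent.Lib.Helper6.AffStrat in
/-- A Noetherian scheme of dimension less than `n` has an affine stratification with `n`
strata. -/
theorem hasStrat_aux : ∀ (n : ℕ) (X : Scheme.{u}) [IsNoetherian X],
    topologicalKrullDim X < ((n : ℕ) : WithBot ℕ∞) →
    ∃ s : X → Fin n, (∀ i : Fin n, IsClosed {x : X | s x ≤ i}) ∧
      ∀ i : Fin n, IsStratum X {x : X | s x = i} := by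
  intro n
  induction n with
  | zero =>
    intro X _ h
    haveI := isEmpty_of_dim_lt_zero h
    exact ⟨fun x => isEmptyElim x, fun i => i.elim0, fun i => i.elim0⟩
  | succ n ih =>
    intro X _ h
    classical
    obtain ⟨U, hUaff, hUhom, hUgen⟩ := exists_affine_dense X
    let Cl : Closeds X := ⟨(U : Set X)ᶜ, U.isOpen.isClosed_compl⟩
    let I : X.IdealSheafData := Scheme.IdealSheafData.vanishingIdeal Cl
    let Y : Scheme.{u} := I.subscheme
    let i : Y ⟶ X := I.subschemeι
    have hrange : Set.range i = (U : Set X)ᶜ := by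
      rw [Scheme.IdealSheafData.range_subschemeι,
        Scheme.IdealSheafData.coe_support_vanishingIdeal]
      rfl
    haveI : IsNoetherian Y :=
      { toIsLocallyNoetherian := LocallyOfFiniteType.isLocallyNoetherian i
        toCompactSpace := i.isClosedEmbedding.compactSpace }
    have hdimY : topologicalKrullDim Y < ((n : ℕ) : WithBot ℕ∞) :=
      dim_lt_of_complement i.isClosedEmbedding hUgen hrange.le n h
    obtain ⟨s', hs'1, hs'2⟩ := ih Y hdimY
    have hex : ∀ x : X, x ∉ U → ∃ y : Y, i y = x := by
      intro x hx
      have : x ∈ Set.range i := by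
        rw [hrange]
        exact hx
      exact this
    let s : X → Fin (n + 1) := fun x =>
      if hx : x ∈ U then Fin.last n else Fin.castSucc (s' (hex x hx).choose)
    have hsU : ∀ x, x ∈ U → s x = Fin.last n := fun x hx => dif_pos hx
    have hiU : ∀ y : Y, i y ∉ U := by
      intro y
      have : i y ∈ Set.range i := ⟨y, rfl⟩
      rw [hrange] at this
      exact this
    have hsY : ∀ y : Y, s (i y) = Fin.castSucc (s' y) := by
      intro y
      show dite _ _ _ = _
      rw [dif_neg (hiU y)]
      congr 2
      exact i.isClosedEmbedding.injective (hex _ (hiU y)).choose_spec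
    refine ⟨s, fun j => ?_, fun j => ?_⟩
    · induction j using Fin.lastCases with
      | last =>
        convert isClosed_univ
        ext x
        simp [Fin.le_last]
      | cast j' =>
        have : {x : X | s x ≤ Fin.castSucc j'} = i '' {y : Y | s' y ≤ j'} := by
          ext x
          constructor
          · intro hx
            by_cases hxU : x ∈ U
            · exfalso
              rw [Set.mem_ofPred_eq, hsU x hxU] at hx
              exact absurd hx (not_le.mpr (Fin.castSucc_lt_last j'))
            · obtain ⟨y, rfl⟩ := hex x hxU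
              refine ⟨y, ?_, rfl⟩
              rw [Set.mem_ofPred_eq, hsY y] at hx
              exact Fin.castSucc_le_castSucc_iff.mp hx
          · rintro ⟨y, hy, rfl⟩
            rw [Set.mem_ofPred_eq, hsY y]
            exact Fin.castSucc_le_castSucc_iff.mpr hy
        rw [this]
        exact i.isClosedEmbedding.isClosedMap _ (hs'1 j')
    · induction j using Fin.lastCases with
      | last =>
        refine ⟨U.toScheme, U.ι, inferInstance, hUaff, hUhom, ?_⟩
        rw [Scheme.Opens.range_ι]
        ext x
        constructor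
        · intro hx
          exact hsU x hx
        · intro hx
          by_contra hxU
          obtain ⟨y, rfl⟩ := hex x hxU
          rw [Set.mem_ofPred_eq, hsY y] at hx
          exact (Fin.castSucc_lt_last _).ne hx
      | cast j' =>
        obtain ⟨Z, ι, h1, h2, h3, h4⟩ := hs'2 j'
        refine ⟨Z, ι ≫ i, inferInstance, h2, inferInstance, ?_⟩
        have hr : Set.range (ι ≫ i) = i '' Set.range ι := by
          rw [← Set.range_comp]
          rfl
        rw [hr, h4]
        ext x
        constructor
        · rintro ⟨y, hy, rfl⟩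
          rw [Set.mem_ofPred_eq, hsY y]
          rw [Set.mem_ofPred_eq] at hy
          rw [hy]
        · intro hx
          by_cases hxU : x ∈ U
          · exfalso
            rw [Set.mem_ofPred_eq, hsU x hxU] at hx
            exact (Fin.castSucc_lt_last _).ne hx.symm
          · obtain ⟨y, rfl⟩ := hex x hxU
            refine ⟨y, ?_, rfl⟩
            rw [Set.mem_ofPred_eq, hsY y] at hx
            exact Fin.castSucc_injective _ hx

end Groth.Agent.Lib.Helper87.AffStratDim
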