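import Mathlib.AlgebraicGeometry.AffineScheme
import Mathlib.AlgebraicGeometry.GammaSpecAdjunction
import Mathlib.CategoryTheory.Monoidal.Cartesian.Over
import Mathlib.CategoryTheory.Monoidal.Cartesian.Grp
import Mathlib.AlgebraicGeometry.Pullbacks

set_option autoImplicit false
universe u
open CategoryTheory MonoidalCategory CartesianMonoidalCategory MonObj AlgebraicGeometry
  CategoryTheory.Limits

namespace Groth.Agent.Lib.Helper87

/-- If the structure map `k → Γ(M)` is bijective and `M` has a rational point `e`, every morphism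
from `M` to an affine scheme is constant (factors through `e`). -/
theorem antiAffine_const {k : Type u} [CommRing k] (M : Over (Spec (CommRingCat.of k)))
    (hM : Function.Bijective ((Scheme.ΓSpecIso (CommRingCat.of k)).inv ≫ M.hom.appTop).hom)
    (e : 𝟙_ (Over (Spec (CommRingCat.of k))) ⟶ M) {Z : Scheme.{u}} [IsAffine Z] (a : M.left ⟶ Z) :
    a = M.hom ≫ e.left ≫ a := by
  apply ext_of_isAffine
  rw [Scheme.Hom.comp_appTop, Scheme.Hom.comp_appTop]
  have hw : e.left ≫ M.hom = 𝟙 _ := Over.w e
  have h1 : M.hom.appTop ≫ e.left.appTop = 𝟙 _ := by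
    rw [← Scheme.Hom.comp_appTop, hw]
    rfl
  have hbij : Function.Bijective M.hom.appTop.hom := by
    have : M.hom.appTop = (Scheme.ΓSpecIso (CommRingCat.of k)).hom ≫
        ((Scheme.ΓSpecIso (CommRingCat.of k)).inv ≫ M.hom.appTop) := by simp
    rw [this, CommRingCat.hom_comp, RingHom.coe_comp]
    exact hM.comp (ConcreteCategory.bijective_of_isIso (Scheme.ΓSpecIso (CommRingCat.of k)).hom)
  have h2 : e.left.appTop ≫ M.hom.appTop = 𝟙 _ := by
    ext y
    obtain ⟨x, rfl⟩ := hbij.2 y
    have := congrArg (fun φ => φ.hom x) h1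
    simp only [CommRingCat.hom_comp, RingHom.coe_comp, Function.comp_apply, CommRingCat.hom_id,
      RingHom.id_apply] at this ⊢
    rw [this]
  rw [Category.assoc, h2, Category.comp_id]

end Groth.Agent.Lib.Helper87
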