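import Mathlib
import Groth.Prelude.Def_Found
import Groth.Prelude.Def_Smoothing
import Groth.Agent.Lib.Helper20.FPApprox

set_option autoImplicit false
set_option linter.style.haveILetI false
set_option linter.unusedSectionVars false

universe u

open CategoryTheory CategoryTheory.Limits

namespace Groth.Agent.Lib.Helper87.ArtinPairFun

open Groth.Agent.Lib.Helper20.FPApprox

/-- Every element of `F(Λ)` for a filtered-colimit-preserving functor `F` on `A`-algebras comes from
a finitely presented `A`-algebra mapping to `Λ`. -/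
theorem exists_fp_preimage (A : Type u) [CommRing A] (Λ : Type u) [CommRing Λ] [Algebra A Λ]
    (F : Under (CommRingCat.of A) ⥤ Type u)
    (hF : ∀ (J : Type u) [SmallCategory J] [IsFiltered J], PreservesColimitsOfShape J F)
    (ξ : F.obj (Under.mk (CommRingCat.ofHom (algebraMap A Λ)))) :
    ∃ (P : Type u) (_ : CommRing P) (_ : Algebra A P) (_ : Algebra.FinitePresentation A P)
      (φ : P →ₐ[A] Λ) (ξP : F.obj (Under.mk (CommRingCat.ofHom (algebraMap A P)))),
      F.map (Under.homMk (CommRingCat.ofHom φ.toRingHom) (by ext a; exact φ.commutes a) :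
        Under.mk (CommRingCat.ofHom (algebraMap A P)) ⟶
          Under.mk (CommRingCat.ofHom (algebraMap A Λ))) ξP = ξ := by
  classical
  have hcof : ∀ S₀ : Finset Λ, ∃ j : Pres A Λ, (fun _ => True) j ∧ S₀ ⊆ j.S := by
    intro S₀
    exact ⟨⟨S₀, ⊥, Submodule.fg_bot, fun x hx => by rw [(Submodule.mem_bot _).mp hx, map_zero]⟩,
      trivial, Finset.Subset.refl _⟩
  have hup : ∀ (j : Pres A Λ) (I' : Ideal (MvPolynomial j.S A)) (fg' : I'.FG)
      (le_ker' : ∀ x ∈ I', ev A Λ j.S x = 0), j.I ≤ I' → (fun _ => True) j →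
        (fun _ => True) (⟨j.S, I', fg', le_ker'⟩ : Pres A Λ) := fun _ _ _ _ _ _ => trivial
  obtain ⟨hd, hn, ⟨hc⟩⟩ := exists_isColimit (A := A) (B := Λ) (fun _ => True) hcof hup
  haveI : IsFiltered (GoodPres (A := A) (B := Λ) (fun _ => True)) :=
    isFiltered_of_directed_le_nonempty _
  haveI := hF (GoodPres (A := A) (B := Λ) (fun _ => True))
  have hc' := isColimitOfPreserves F hc
  obtain ⟨j, ξj, hξj⟩ := Types.jointly_surjective_of_isColimit hc' ξ
  refine ⟨j.1.Alg, inferInstance, inferInstance, Pres.finitePresentation j.1, j.1.leg, ξj, ?_⟩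
  exact hξj

/-- The Artin approximation statement in functor form for a pair `(A, I)`, from ind-smoothness of
the completion and the smooth lifting property modulo `I ^ (n + 1)`. -/
theorem artin_pair_functor (A : Type u) [CommRing A] (I : Ideal A) (n : ℕ)
    (hind : Smoothing.IndSmooth A (AdicCompletion I A))
    (hlift : ∀ (B : Type u) [CommRing B] [Algebra A B], Algebra.Smooth A B →
      ∀ σ : B →ₐ[A] A ⧸ I ^ (n + 1),
        ∃ τ : B →ₐ[A] A, (Ideal.Quotient.mkₐ A (I ^ (n + 1))).comp τ = σ)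
    (F : Under (CommRingCat.of A) ⥤ Type u)
    (hF : ∀ (J : Type u) [SmallCategory J] [IsFiltered J], PreservesColimitsOfShape J F)
    (π : Under.mk (CommRingCat.ofHom (algebraMap A (AdicCompletion I A))) ⟶
      Under.mk (CommRingCat.ofHom (algebraMap A (A ⧸ I ^ (n + 1)))))
    (hπ : π.right = CommRingCat.ofHom
      (AdicCompletion.evalₐ I (n + 1) : AdicCompletion I A →ₐ[A] A ⧸ I ^ (n + 1)).toRingHom)
    (ρ : Under.mk (𝟙 (CommRingCat.of A)) ⟶
      Under.mk (CommRingCat.ofHom (algebraMap A (A ⧸ I ^ (n + 1)))))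
    (ξ : F.obj (Under.mk (CommRingCat.ofHom (algebraMap A (AdicCompletion I A))))) :
    ∃ η : F.obj (Under.mk (𝟙 (CommRingCat.of A))), F.map ρ η = F.map π ξ := by
  obtain ⟨P, _, _, hfp, φ, ξP, hξP⟩ := exists_fp_preimage A (AdicCompletion I A) F hF ξ
  obtain ⟨B, _, _, hsm, g, h, hgh⟩ := hind P hfp φ
  obtain ⟨τ, hτ⟩ := hlift B hsm ((AdicCompletion.evalₐ I (n + 1)).comp h)
  let gU : Under.mk (CommRingCat.ofHom (algebraMap A P)) ⟶
      Under.mk (CommRingCat.ofHom (algebraMap A B)) :=
    Under.homMk (CommRingCat.ofHom g.toRingHom) (by ext a; exact g.commutes a)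
  let hU : Under.mk (CommRingCat.ofHom (algebraMap A B)) ⟶
      Under.mk (CommRingCat.ofHom (algebraMap A (AdicCompletion I A))) :=
    Under.homMk (CommRingCat.ofHom h.toRingHom) (by ext a; exact h.commutes a)
  let τU : Under.mk (CommRingCat.ofHom (algebraMap A B)) ⟶ Under.mk (𝟙 (CommRingCat.of A)) :=
    Under.homMk (CommRingCat.ofHom τ.toRingHom) (by ext a; exact τ.commutes a)
  refine ⟨F.map τU (F.map gU ξP), ?_⟩
  have hρ : ρ.right = CommRingCat.ofHom (algebraMap A (A ⧸ I ^ (n + 1))) := by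
    have := Under.w ρ
    simpa using this
  have h1 : τU ≫ ρ = hU ≫ π := by
    ext x
    change ρ.right.hom (τ x) = π.right.hom (h x)
    rw [hρ, hπ]
    have := congrArg (fun f => f x) hτ
    exact this
  have h2 : gU ≫ hU = (Under.homMk (CommRingCat.ofHom φ.toRingHom)
      (by ext a; exact φ.commutes a) :
        Under.mk (CommRingCat.ofHom (algebraMap A P)) ⟶
          Under.mk (CommRingCat.ofHom (algebraMap A (AdicCompletion I A)))) := by
    ext x
    change h (g x) = φ x
    rw [← hgh]
    rfl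
  rw [← hξP, ← h2]
  simp only [← Functor.map_comp_apply]
  rw [Category.assoc, h1, Category.assoc]

end Groth.Agent.Lib.Helper87.ArtinPairFun
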