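import Groth.Agent.Lib.Lead.QCohAff8

set_option autoImplicit false
universe u

open AlgebraicGeometry CategoryTheory Opposite TopologicalSpace

namespace Groth.Agent.Lib.Helper87.BasisBasicOpen

open Groth.Agent.Lib.Lead.QCohAff

theorem exists_basis_basicOpen {X : Scheme.{u}} (n : ℕ) (E : X.Modules) [E.IsQuasicoherent]
    (U : X.affineOpens) (b : Module.Basis (Fin n) Γ(X, U.1) Γ(E, U.1)) (g : Γ(X, U.1)) :
    ∃ b' : Module.Basis (Fin n) Γ(X, X.basicOpen g) Γ(E, X.basicOpen g),
      ∀ k, b' k = E.val.map (homOfLE (X.basicOpen_le g)).op (b k) := by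
  haveI := isLocalizedModule_resL E U.2 g
  haveI : IsLocalization (Submonoid.powers g) Γ(X, X.basicOpen g) :=
    U.2.isLocalization_basicOpen g
  let b' : Module.Basis (Fin n) Γ(X, X.basicOpen g) (SecOver E U.1 g) :=
    b.ofIsLocalizedModule Γ(X, X.basicOpen g) (Submonoid.powers g) (resL E U.1 g)
  refine ⟨b', fun k => ?_⟩
  have := Module.Basis.ofIsLocalizedModule_apply Γ(X, X.basicOpen g) (Submonoid.powers g)
    (resL E U.1 g) b k
  exact this

end Groth.Agent.Lib.Helper87.BasisBasicOpen
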