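import Mathlib
import Groth.Prelude.Def_EGA4Misc
import Groth.Agent.Lib.Helper87.PunctConnScheme

/-!
# Flat base change of birational morphisms (points and residue fields form)
-/

set_option autoImplicit false
set_option linter.style.haveILetI false
universe u

open CategoryTheory CategoryTheory.Limits AlgebraicGeometry

namespace Groth.Agent.Lib.Helper87.BirBC

theorem isIso_residueFieldMap_of_isPreimmersion {A B : Scheme.{u}} (i : A ⟶ B) [IsPreimmersion i]
    (a : A) : IsIso (i.residueFieldMap a) := by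
  rw [ConcreteCategory.isIso_iff_bijective]
  refine ⟨(i.residueFieldMap a).hom.injective, ?_⟩
  have h1 : Function.Surjective (B.residue (i a) ≫ i.residueFieldMap a) := by
    rw [Scheme.residue_residueFieldMap]
    exact (A.residue_surjective a).comp (i.stalkMap_surjective a)
  exact Function.Surjective.of_comp (g := (B.residue (i a))) h1

variable {X Y X' Y' : Scheme.{u}} {f : X ⟶ Y} {g : Y' ⟶ Y} {f' : X' ⟶ Y'} {g' : X' ⟶ X}

/-- the fibre of `g'` over `x` is the fibre of `g` over `f x` when the residue field extension at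
`x` is trivial -/
theorem isPullback_fiber (sq : IsPullback g' f' f g) (x : X)
    (hx : Function.Bijective (f.residueFieldMap x).hom) :
    IsPullback (g'.fiberι x ≫ f')
      (g'.fiberToSpecResidueField x ≫ Spec.map (f.residueFieldMap x)) g
      (Y.fromSpecResidueField (f x)) := by
  have h1 : IsPullback (g'.fiberι x) (g'.fiberToSpecResidueField x) g'
      (X.fromSpecResidueField x) := IsPullback.of_hasPullback _ _
  have h2 := h1.paste_horiz sq.flip
  haveI : IsIso (f.residueFieldMap x) := by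
    rw [ConcreteCategory.isIso_iff_bijective]
    exact hx
  refine h2.of_iso (Iso.refl _) (Iso.refl _) (asIso (Spec.map (f.residueFieldMap x))) (Iso.refl _)
    (by simp) (by simp) (by simp) ?_
  simp only [Iso.refl_hom, Category.comp_id, asIso_hom]
  exact (Scheme.Hom.SpecMap_residueFieldMap_fromSpecResidueField f x).symm

/-- the comparison isomorphism of fibres -/
noncomputable def fiberIso (sq : IsPullback g' f' f g) (x : X)
    (hx : Function.Bijective (f.residueFieldMap x).hom) : g'.fiber x ≅ g.fiber (f x) :=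
  (isPullback_fiber sq x hx).isoPullback

theorem fiberIso_hom_fiberι (sq : IsPullback g' f' f g) (x : X)
    (hx : Function.Bijective (f.residueFieldMap x).hom) :
    (fiberIso sq x hx).hom ≫ g.fiberι (f x) = g'.fiberι x ≫ f' :=
  (isPullback_fiber sq x hx).isoPullback_hom_fst

section Pointwise

variable (sq : IsPullback g' f' f g) (x : X) (hx : Function.Bijective (f.residueFieldMap x).hom)

include sq hx

theorem fiberι_fiberIso_apply (a : g'.fiber x) :
    g.fiberι (f x) ((fiberIso sq x hx).hom a) = f' (g'.fiberι x a) :=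
  congr($(fiberIso_hom_fiberι sq x hx) a)

theorem eq_of_map_eq {x₁ x₂ : X'} (h₁ : g' x₁ = x) (h₂ : g' x₂ = x) (h : f' x₁ = f' x₂) :
    x₁ = x₂ := by
  have hr := g'.range_fiberι x
  obtain ⟨a₁, rfl⟩ : x₁ ∈ Set.range (g'.fiberι x) := hr ▸ h₁
  obtain ⟨a₂, rfl⟩ : x₂ ∈ Set.range (g'.fiberι x) := hr ▸ h₂
  rw [← fiberι_fiberIso_apply sq x hx, ← fiberι_fiberIso_apply sq x hx] at h
  have h3 := (g.fiberι (f x)).isEmbedding.injective h
  have h4 := congrArg (fiberIso sq x hx).inv h3
  have e : ∀ a, (fiberIso sq x hx).inv ((fiberIso sq x hx).hom a) = a := fun a =>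
    congr($((fiberIso sq x hx).hom_inv_id) a)
  rw [e, e] at h4
  rw [h4]

theorem specializes_of_map_specializes {x₁ x₂ : X'} (h₁ : g' x₁ = x) (h₂ : g' x₂ = x)
    (h : f' x₁ ⤳ f' x₂) : x₁ ⤳ x₂ := by
  have hr := g'.range_fiberι x
  obtain ⟨a₁, rfl⟩ : x₁ ∈ Set.range (g'.fiberι x) := hr ▸ h₁
  obtain ⟨a₂, rfl⟩ : x₂ ∈ Set.range (g'.fiberι x) := hr ▸ h₂
  rw [← fiberι_fiberIso_apply sq x hx, ← fiberι_fiberIso_apply sq x hx] at h
  have h3 := (g.fiberι (f x)).isEmbedding.isInducing.specializes_iff.mp h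
  have h4 := h3.map (fiberIso sq x hx).inv.continuous
  have e : ∀ a, (fiberIso sq x hx).inv ((fiberIso sq x hx).hom a) = a := fun a =>
    congr($((fiberIso sq x hx).hom_inv_id) a)
  rw [e, e] at h4
  exact h4.map (g'.fiberι x).continuous

theorem exists_of_map_eq (y' : Y') (hy : g y' = f x) : ∃ x' : X', g' x' = x ∧ f' x' = y' := by
  have hr := g.range_fiberι (f x)
  obtain ⟨b, rfl⟩ : y' ∈ Set.range (g.fiberι (f x)) := hr ▸ hy
  refine ⟨g'.fiberι x ((fiberIso sq x hx).inv b), ?_, ?_⟩
  · have : g'.fiberι x ((fiberIso sq x hx).inv b) ∈ Set.range (g'.fiberι x) := ⟨_, rfl⟩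
    rw [g'.range_fiberι x] at this
    exact this
  · rw [← fiberι_fiberIso_apply sq x hx]
    have e : (fiberIso sq x hx).hom ((fiberIso sq x hx).inv b) = b :=
      congr($((fiberIso sq x hx).inv_hom_id) b)
    rw [e]

theorem residueFieldMap_bijective {x' : X'} (h : g' x' = x) :
    Function.Bijective (f'.residueFieldMap x').hom := by
  have hr := g'.range_fiberι x
  obtain ⟨a, rfl⟩ : x' ∈ Set.range (g'.fiberι x) := hr ▸ h
  have h1 := Scheme.Hom.residueFieldMap_congr (fiberIso_hom_fiberι sq x hx) a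
  rw [Scheme.residueFieldMap_comp, Scheme.residueFieldMap_comp] at h1
  haveI := isIso_residueFieldMap_of_isPreimmersion (g.fiberι (f x)) ((fiberIso sq x hx).hom a)
  haveI := isIso_residueFieldMap_of_isPreimmersion (g'.fiberι x) a
  have hL : IsIso ((g.fiberι (f x)).residueFieldMap ((fiberIso sq x hx).hom a) ≫
      (fiberIso sq x hx).hom.residueFieldMap a) := inferInstance
  rw [h1] at hL
  haveI := hL
  haveI : IsIso (f'.residueFieldMap (g'.fiberι x a) ≫ (g'.fiberι x).residueFieldMap a) :=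
    @IsIso.of_isIso_comp_left _ _ _ _ _ _ _ inferInstance hL
  haveI : IsIso (f'.residueFieldMap (g'.fiberι x a)) :=
    IsIso.of_isIso_comp_right _ ((g'.fiberι x).residueFieldMap a)
  exact (ConcreteCategory.isIso_iff_bijective _).mp inferInstance

end Pointwise


theorem mem_genericPoints_iff' {A : Scheme.{u}} (a : A) :
    a ∈ genericPoints A ↔ ∀ z : A, z ⤳ a → z = a :=
  PunctConn.closure_mem_irreducibleComponents_iff a

theorem map_mem_genericPoints_of_flat {A B : Scheme.{u}} (h : A ⟶ B) [Flat h] (a : A)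
    (ha : a ∈ genericPoints A) : h a ∈ genericPoints B := by
  rw [mem_genericPoints_iff'] at ha ⊢
  intro w hw
  obtain ⟨z, hz, rfl⟩ := Flat.generalizingMap h hw
  rw [ha z hz]

theorem isBirational_of_isPullback [Flat g] (sq : IsPullback g' f' f g)
    (hf : RadPt.IsBirational f) : RadPt.IsBirational f' := by
  obtain ⟨hf1, hf2⟩ := hf
  haveI : Flat g' := MorphismProperty.of_isPullback sq.flip ‹Flat g›
  have hcomm : ∀ x' : X', f (g' x') = g (f' x') := fun x' => congr($(sq.w) x')
  -- data over a generic point of Y'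
  have hdata : ∀ y' ∈ genericPoints Y', ∃ x ∈ genericPoints X, f x = g y' ∧
      Function.Bijective (f.residueFieldMap x).hom ∧ ∀ x' : X', f' x' = y' → g' x' = x := by
    intro y' hy'
    have hgy : g y' ∈ genericPoints Y := map_mem_genericPoints_of_flat g y' hy'
    obtain ⟨x, hxg, hfx⟩ := hf1.surjOn hgy
    refine ⟨x, hxg, hfx, (hf2 _ hgy).2 x hfx, ?_⟩
    intro x' hx'
    refine (hf2 _ hgy).1 _ _ ?_ hfx
    rw [hcomm, hx']
  have hmaps : ∀ x' ∈ genericPoints X', f' x' ∈ genericPoints Y' := by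
    intro x' hx'
    have hxg : g' x' ∈ genericPoints X := map_mem_genericPoints_of_flat g' x' hx'
    have hyg : f (g' x') ∈ genericPoints Y := hf1.mapsTo hxg
    have hbij := (hf2 _ hyg).2 (g' x') rfl
    rw [mem_genericPoints_iff'] at hx' hyg ⊢
    intro w hw
    have hgw : g w = f (g' x') := by
      apply hyg
      rw [hcomm]
      exact hw.map g.continuous
    obtain ⟨x'', hx''1, hx''2⟩ := exists_of_map_eq sq (g' x') hbij w hgw
    have hsp : x'' ⤳ x' :=
      specializes_of_map_specializes sq (g' x') hbij hx''1 rfl (hx''2 ▸ hw)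
    rw [← hx''2, hx' x'' hsp]
  have huniq : ∀ y' ∈ genericPoints Y', ∀ x₁ x₂ : X', f' x₁ = y' → f' x₂ = y' → x₁ = x₂ := by
    intro y' hy' x₁ x₂ h₁ h₂
    obtain ⟨x, -, -, hbij, hx⟩ := hdata y' hy'
    exact eq_of_map_eq sq x hbij (hx x₁ h₁) (hx x₂ h₂) (h₁.trans h₂.symm)
  refine ⟨⟨hmaps, ?_, ?_⟩, ?_⟩
  · intro x₁ hx₁ x₂ hx₂ h
    exact huniq _ (hmaps x₁ hx₁) x₁ x₂ rfl h.symm
  · intro y' hy'
    obtain ⟨x, hxg, hfx, hbij, hx⟩ := hdata y' hy'
    obtain ⟨x', hx'1, hx'2⟩ := exists_of_map_eq sq x hbij y' hfx.symm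
    refine ⟨x', ?_, hx'2⟩
    rw [mem_genericPoints_iff'] at hxg hy' ⊢
    intro z hz
    have h1 : g' z = x := hxg _ (hx'1 ▸ hz.map g'.continuous)
    have h2 : f' z = y' := hy' _ (hx'2 ▸ hz.map f'.continuous)
    exact eq_of_map_eq sq x hbij h1 hx'1 (h2.trans hx'2.symm)
  · intro y' hy'
    refine ⟨huniq y' hy', ?_⟩
    intro x' hx'
    obtain ⟨x, -, -, hbij, hx⟩ := hdata y' hy'
    exact residueFieldMap_bijective sq x hbij (hx x' hx')

end Groth.Agent.Lib.Helper87.BirBC

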