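import Mathlib
import Groth.Agent.S9237
import Groth.Agent.S9238
import Groth.Agent.S13598
import Groth.Agent.Lib.Helper87.HensQuotient
import Groth.Agent.Lib.Helper87.BranchEtaleRing

set_option autoImplicit false
set_option linter.style.haveILetI false
universe u

/-!
# Branches of a quotient via minimal primes over the extended ideal (helper87)

* `comap_mem_minimalPrimes_of_flat`: contraction along a flat map sends primes minimal over `J B`
  to primes minimal over `J`.
* `exists_etale_encard_le_ideal`: relative version of `exists_etale_encard_le`.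
* `numGeomBranches_quotient`, `numBranches_quotient`: the number of (geometric) branches of
  `A ⧸ I` is the number of primes of the (strict) henselization minimal over the extension of `I`.
-/

open IsLocalRing TensorProduct

namespace Groth.Agent.Lib.Helper87.BranchFibreRing

theorem comap_mem_minimalPrimes_of_flat (T B : Type*) [CommRing T] [CommRing B] [Algebra T B]
    [Module.Flat T B] (J : Ideal T) {P : Ideal B}
    (hP : P ∈ (J.map (algebraMap T B)).minimalPrimes) :
    P.comap (algebraMap T B) ∈ J.minimalPrimes := by
  haveI : P.IsPrime := hP.1.1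
  refine ⟨⟨Ideal.comap_isPrime _ _, Ideal.map_le_iff_le_comap.mp hP.1.2⟩, ?_⟩
  rintro p' ⟨hp', hJp'⟩ hle
  haveI := hp'
  obtain ⟨P', hP'P, hP'prime, hP'over⟩ :=
    Ideal.exists_ideal_le_liesOver_of_le (p := p') (q := P.under T) P hle
  have h1 : J.map (algebraMap T B) ≤ P' := by
    rw [Ideal.map_le_iff_le_comap]
    refine hJp'.trans ?_
    rw [hP'over.over]
  have hPP' : P ≤ P' := hP.2 ⟨hP'prime, h1⟩ hP'P
  have : P' = P := le_antisymm hP'P hPP'
  subst this
  rw [hP'over.over]

theorem encard_minimalPrimes_quotient (A : Type*) [CommRing A] (I : Ideal A) :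
    (minimalPrimes (A ⧸ I)).encard = I.minimalPrimes.encard := by
  rw [Ideal.minimalPrimes_eq_comap (I := I)]
  refine (Set.InjOn.encard_image ?_).symm
  intro P _ P' _ h
  exact Ideal.comap_injective_of_surjective _ Ideal.Quotient.mk_surjective h

theorem encard_minimalPrimes_of_ringEquiv {A A' : Type*} [CommRing A] [CommRing A']
    (e : A ≃+* A') : (minimalPrimes A).encard = (minimalPrimes A').encard := by
  have h := Ideal.comap_minimalPrimes_eq_of_surjective (f := (e : A →+* A')) e.surjective
    (⊥ : Ideal A')
  have hbot : Ideal.comap (e : A →+* A') ⊥ = ⊥ := by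
    rw [← RingHom.ker_eq_comap_bot]
    exact (RingHom.injective_iff_ker_eq_bot _).mp e.injective
  rw [hbot] at h
  show (⊥ : Ideal A).minimalPrimes.encard = (⊥ : Ideal A').minimalPrimes.encard
  rw [h]
  refine Set.InjOn.encard_image ?_
  intro P _ P' _ hh
  exact Ideal.comap_injective_of_surjective _ e.surjective hh

section Main

variable {R : Type u} [CommRing R] {B : Type u} [CommRing B] [Algebra R B] [IsLocalRing B]
  [Module.Flat R B]

theorem exists_etale_encard_le_ideal (h1 : IndEt.CoveredByEtale R B) (J : Ideal R) (n : ℕ)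
    (hn : (n : ℕ∞) ≤ (J.map (algebraMap R B)).minimalPrimes.encard) :
    ∃ (S : Type u) (_ : CommRing S) (_ : Algebra R S) (_ : Algebra.Etale R S) (f : S →ₐ[R] B),
      ∀ (T : Type u) [CommRing T] [Algebra S T] [Algebra R T] [IsScalarTower R S T]
        [IsLocalization.AtPrime T ((maximalIdeal B).comap f.toRingHom)],
        (n : ℕ∞) ≤ (J.map (algebraMap R T)).minimalPrimes.encard := by
  classical
  obtain ⟨t, htsub, htcard⟩ := Set.exists_subset_encard_eq hn
  have htfin : t.Finite := Set.finite_of_encard_eq_coe htcard
  have hsep : ∀ P ∈ t, ∀ P' ∈ t, P ≠ P' → ∃ a : B, a ∈ P ∧ a ∉ P' := by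
    intro P hP P' hP' hne
    by_contra hcon
    push Not at hcon
    have hle : P ≤ P' := fun a ha => hcon a ha
    have hP'min := htsub hP'
    have hPmin := htsub hP
    exact hne (le_antisymm hle (hP'min.2 hPmin.1 hle))
  choose! a ha using hsep
  let F : Finset B := (htfin.toFinset ×ˢ htfin.toFinset).image (fun PP => a PP.1 PP.2)
  obtain ⟨S, _, _, _, f, hf⟩ := BranchEtaleRing.exists_etale_of_finset h1 F
  refine ⟨S, inferInstance, inferInstance, inferInstance, f, ?_⟩
  intro T _ _ _ _ _
  set q : Ideal S := (maximalIdeal B).comap f.toRingHom with hq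
  have hunits : ∀ y : q.primeCompl, IsUnit (f.toRingHom y) := by
    intro y
    have : f.toRingHom y ∉ maximalIdeal B := y.2
    rwa [mem_maximalIdeal, mem_nonunits_iff, not_not] at this
  let f' : T →+* B := IsLocalization.lift hunits
  have hf' : ∀ s : S, f' (algebraMap S T s) = f s := fun s => IsLocalization.lift_eq hunits s
  letI : Algebra T B := f'.toAlgebra
  haveI : IsScalarTower R T B := by
    refine IsScalarTower.of_algebraMap_eq fun r => ?_
    show algebraMap R B r = f' (algebraMap R T r)
    rw [IsScalarTower.algebraMap_apply R S T, hf', AlgHom.commutes]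
  haveI : Algebra.EssFiniteType S T := Algebra.EssFiniteType.of_isLocalization T q.primeCompl
  haveI : Algebra.EssFiniteType R T := Algebra.EssFiniteType.comp R S T
  haveI : Algebra.FormallyUnramified S T := Algebra.FormallyUnramified.of_isLocalization q.primeCompl
  haveI : Algebra.FormallyUnramified R T := Algebra.FormallyUnramified.comp R S T
  haveI : Module.Flat T B := FlatModule.flat_of_unramified (R := R) (A := T) (M := B)
  have hmapmap : (J.map (algebraMap R T)).map (algebraMap T B) = J.map (algebraMap R B) := by
    rw [Ideal.map_map, ← IsScalarTower.algebraMap_eq]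
  have hmaps : Set.MapsTo (fun P : Ideal B => P.comap (algebraMap T B)) t
      (J.map (algebraMap R T)).minimalPrimes := by
    intro P hP
    apply comap_mem_minimalPrimes_of_flat T B
    rw [hmapmap]
    exact htsub hP
  have hinj : Set.InjOn (fun P : Ideal B => P.comap (algebraMap T B)) t := by
    intro P hP P' hP' heq
    by_contra hne
    obtain ⟨ha1, ha2⟩ := ha P hP P' hP' hne
    have hmemF : a P P' ∈ F := by
      refine Finset.mem_image.mpr ⟨(P, P'), ?_, rfl⟩
      rw [Finset.mem_product]
      exact ⟨htfin.mem_toFinset.mpr hP, htfin.mem_toFinset.mpr hP'⟩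
    obtain ⟨s, hs⟩ := hf _ hmemF
    have hs' : f s = a P P' := hs
    have h1 : algebraMap S T s ∈ P.comap (algebraMap T B) := by
      rw [Ideal.mem_comap]
      show f' (algebraMap S T s) ∈ P
      rw [hf', hs']
      exact ha1
    have h2 : algebraMap S T s ∉ P'.comap (algebraMap T B) := by
      rw [Ideal.mem_comap]
      show f' (algebraMap S T s) ∉ P'
      rw [hf', hs']
      exact ha2
    apply h2
    have heq' : P.comap (algebraMap T B) = P'.comap (algebraMap T B) := heq
    rw [← heq']
    exact h1
  rw [← htcard]
  exact Set.encard_le_encard_of_injOn hmaps hinj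

end Main

section Quotient

variable (A S : Type u) [CommRing A] [IsLocalRing A] [CommRing S] [IsLocalRing S] [Algebra A S]
  [IsLocalHom (algebraMap A S)] (I : Ideal A) [IsLocalRing (A ⧸ I)]

theorem isLocalRing_quotient_map (hI : I ≤ maximalIdeal A) :
    IsLocalRing (S ⧸ I.map (algebraMap A S)) := by
  haveI : Nontrivial (S ⧸ I.map (algebraMap A S)) := by
    apply Ideal.Quotient.nontrivial_iff.mpr
    intro htop
    have h1 : I.map (algebraMap A S) ≤ maximalIdeal S :=
      (Ideal.map_mono hI).trans (IsLocalRing.map_maximalIdeal_le (algebraMap A S))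
    rw [htop] at h1
    exact (IsLocalRing.maximalIdeal.isMaximal S).ne_top (top_le_iff.mp h1)
  exact IsLocalRing.of_surjective' (Ideal.Quotient.mk _) Ideal.Quotient.mk_surjective

theorem isLocalHom_quotient_map [IsLocalRing (S ⧸ I.map (algebraMap A S))] :
    IsLocalHom (algebraMap (A ⧸ I) (S ⧸ I.map (algebraMap A S))) := by
  constructor
  intro x hx
  obtain ⟨a, rfl⟩ := Ideal.Quotient.mk_surjective x
  rw [Ideal.Quotient.algebraMap_quotient_map_quotient] at hx
  haveI : IsLocalHom (Ideal.Quotient.mk (I.map (algebraMap A S))) :=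
    IsLocalHom.of_surjective _ Ideal.Quotient.mk_surjective
  have h1 : IsUnit (algebraMap A S a) := IsUnit.of_map (Ideal.Quotient.mk _) _ hx
  have h2 : IsUnit a := IsUnit.of_map (algebraMap A S) _ h1
  exact h2.map _

theorem numGeomBranches_quotient [Hensel.IsStrictHenselization A S]
    (hI : I ≤ maximalIdeal A) :
    Brnch.numGeomBranches (A ⧸ I) = (I.map (algebraMap A S)).minimalPrimes.encard := by
  haveI := isLocalRing_quotient_map A S I hI
  haveI := isLocalHom_quotient_map A S I
  haveI := HensQuotient.isStrictHenselization_quotient (A := A) (S := S) I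
  rw [← Groth.Agent.S9238.result (A ⧸ I) (S ⧸ I.map (algebraMap A S)),
    ← encard_minimalPrimes_quotient]
  rfl

theorem numBranches_quotient [Hensel.IsHenselization A S]
    (hI : I ≤ maximalIdeal A) :
    Brnch.numBranches (A ⧸ I) = (I.map (algebraMap A S)).minimalPrimes.encard := by
  haveI := isLocalRing_quotient_map A S I hI
  haveI := isLocalHom_quotient_map A S I
  haveI := Groth.Agent.S13598.result (A := A) (S := S) I hI
  rw [← Groth.Agent.S9237.result (A ⧸ I) (S ⧸ I.map (algebraMap A S)),
    ← encard_minimalPrimes_quotient]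
  rfl

end Quotient

end Groth.Agent.Lib.Helper87.BranchFibreRing
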