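import Mathlib
import Groth.Agent.Lib.Helper67.FiberStalk
import Groth.Agent.Lib.Helper87.BranchFibreRing
import Groth.Agent.Lib.Helper87.BranchEtaleHens

set_option autoImplicit false
set_option linter.style.haveILetI false
universe u

/-!
# Branches of fibres via étale neighbourhoods (helper87)
-/

open IsLocalRing TensorProduct AlgebraicGeometry CategoryTheory Limits
open Groth.Agent.Lib.Helper67.FiberStalk

namespace Groth.Agent.Lib.Helper87.BranchFibre

section Nat

variable {X : Scheme.{u}} {V : X.Opens} (hV : IsAffineOpen V) (E : CommRingCat.{u})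
  (φ : Γ(X, V) ⟶ E)

theorem germ_stalkMap_Spec (u : Spec E) (h : (Spec.map φ ≫ hV.fromSpec).base u ∈ V) :
    X.presheaf.germ V ((Spec.map φ ≫ hV.fromSpec).base u) h ≫
      (Spec.map φ ≫ hV.fromSpec).stalkMap u =
      φ ≫ (Scheme.ΓSpecIso E).inv ≫ (Spec E).presheaf.germ ⊤ u trivial := by
  have hle := BranchEtaleHens.le_preimage_Spec_map_comp_fromSpec hV E φ
  rw [Scheme.Hom.germ_stalkMap]
  have h1 := BranchEtaleHens.appLE_comp_ΓSpecIso hV E φ hle
  rw [← Iso.eq_comp_inv] at h1
  rw [← Category.assoc, ← h1, Scheme.Hom.appLE, Category.assoc, TopCat.Presheaf.germ_res]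

theorem fibIdeal_comp {X S U : Scheme.{u}} (f : X ⟶ S) (g : U ⟶ X) (u : U) :
    fibIdeal (g ≫ f) u = Ideal.map (g.stalkMap u).hom (fibIdeal f (g.base u)) := by
  unfold fibIdeal
  rw [Ideal.map_map, ← CommRingCat.hom_comp, ← Scheme.Hom.stalkMap_comp]
  rfl

theorem fibIdeal_Spec_eq {S : Scheme.{u}} (f : X ⟶ S) (u : Spec E) (x : X) (hxV : x ∈ V)
    (hgu : (Spec.map φ ≫ hV.fromSpec).base u = x) :
    fibIdeal ((Spec.map φ ≫ hV.fromSpec) ≫ f) u =
      Ideal.map (((Scheme.ΓSpecIso E).inv ≫ (Spec E).presheaf.germ ⊤ u trivial).hom.comp φ.hom)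
        (Ideal.comap (X.presheaf.germ V x hxV).hom (fibIdeal f x)) := by
  subst hgu
  rw [fibIdeal_comp]
  have hnat := germ_stalkMap_Spec hV E φ u hxV
  have hnat' : ((Scheme.ΓSpecIso E).inv ≫ (Spec E).presheaf.germ ⊤ u trivial).hom.comp φ.hom =
      ((Spec.map φ ≫ hV.fromSpec).stalkMap u).hom.comp
        (X.presheaf.germ V ((Spec.map φ ≫ hV.fromSpec).base u) hxV).hom := by
    rw [← CommRingCat.hom_comp, ← CommRingCat.hom_comp, hnat]
  rw [hnat', ← Ideal.map_map]
  congr 1
  let _ : Algebra Γ(X, V) (X.presheaf.stalk ((Spec.map φ ≫ hV.fromSpec).base u)) :=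
    TopCat.Presheaf.algebra_section_stalk X.presheaf
      (⟨(Spec.map φ ≫ hV.fromSpec).base u, hxV⟩ : V)
  have hloc : IsLocalization.AtPrime (X.presheaf.stalk ((Spec.map φ ≫ hV.fromSpec).base u))
      (hV.primeIdealOf ⟨(Spec.map φ ≫ hV.fromSpec).base u, hxV⟩).asIdeal :=
    hV.isLocalization_stalk ⟨_, hxV⟩
  exact (IsLocalization.map_comap
    (hV.primeIdealOf ⟨(Spec.map φ ≫ hV.fromSpec).base u, hxV⟩).asIdeal.primeCompl _ _).symm

end Nat

section Fibre

variable {X S : Scheme.{u}} (f : X ⟶ S)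

theorem numGeomBranchesAt_fiber (x : X) :
    Brnch.numGeomBranchesAt (f.fiber (f.base x)) (f.asFiber x) =
      ((fibIdeal f x).map (algebraMap (X.presheaf.stalk x)
        (Hens.Hsh (X.presheaf.stalk x)))).minimalPrimes.encard := by
  haveI := Hens.isStrictHenselization_Hsh (X.presheaf.stalk x)
  show Brnch.numGeomBranches _ = _
  rw [BranchEtale.numGeomBranches_eq_of_ringEquiv (fiberStalkEquiv f x)]
  exact BranchFibreRing.numGeomBranches_quotient _ _ _ (fibIdeal_le f x)

theorem numBranchesAt_fiber (x : X) :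
    Brnch.numBranchesAt (f.fiber (f.base x)) (f.asFiber x) =
      ((fibIdeal f x).map (algebraMap (X.presheaf.stalk x)
        (Hens.Hh (X.presheaf.stalk x)))).minimalPrimes.encard := by
  haveI := Hens.isHenselization_Hh (X.presheaf.stalk x)
  show Brnch.numBranches _ = _
  rw [BranchEtaleHens.numBranches_eq_of_ringEquiv (fiberStalkEquiv f x)]
  exact BranchFibreRing.numBranches_quotient _ _ _ (fibIdeal_le f x)

theorem setOf_fibre_comps_eq (x : X) :
    {Z : Set (f.fiber (f.base x)) | Z ∈ irreducibleComponents (f.fiber (f.base x)) ∧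
      ∃ u' ∈ Z, (f.fiberι (f.base x)).base u' = x} =
    {Z : Set (f.fiber (f.base x)) | Z ∈ irreducibleComponents (f.fiber (f.base x)) ∧
      f.asFiber x ∈ Z} := by
  ext Z
  constructor
  · rintro ⟨hZ, u', hu', hu'u⟩
    have : u' = f.asFiber x := by
      apply (f.fiberι (f.base x)).isEmbedding.injective
      rw [f.fiberι_asFiber]
      exact hu'u
    exact ⟨hZ, this ▸ hu'⟩
  · rintro ⟨hZ, h⟩
    exact ⟨hZ, _, h, f.fiberι_asFiber x⟩

theorem encard_fibre_comps_eq (x : X) (y : S) (hy : f.base x = y) :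
    {Z : Set (f.fiber y) | Z ∈ irreducibleComponents (f.fiber y) ∧
      ∃ u' ∈ Z, (f.fiberι y).base u' = x}.encard = (fibIdeal f x).minimalPrimes.encard := by
  subst hy
  rw [setOf_fibre_comps_eq, CompStalk.encard_irreducibleComponents_mem_eq,
    BranchFibreRing.encard_minimalPrimes_of_ringEquiv (fiberStalkEquiv f x),
    BranchFibreRing.encard_minimalPrimes_quotient]

end Fibre

section Map

variable {X S U : Scheme.{u}} (f : X ⟶ S) (g : U ⟶ X)

/-- the map on fibres induced by a morphism over the base. -/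
noncomputable def fiberMap (y : S) : (g ≫ f).fiber y ⟶ f.fiber y :=
  (pullbackRightPullbackFstIso f (S.fromSpecResidueField y) g).inv ≫
    pullback.snd g (pullback.fst f (S.fromSpecResidueField y))

theorem fiberMap_fiberι (y : S) :
    fiberMap f g y ≫ f.fiberι y = (g ≫ f).fiberι y ≫ g := by
  show ((pullbackRightPullbackFstIso f (S.fromSpecResidueField y) g).inv ≫
      pullback.snd g (pullback.fst f (S.fromSpecResidueField y))) ≫
      pullback.fst f (S.fromSpecResidueField y) =
    pullback.fst (g ≫ f) (S.fromSpecResidueField y) ≫ g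
  rw [Category.assoc, ← pullback.condition, pullbackRightPullbackFstIso_inv_fst_assoc]

theorem etale_fiberMap [Etale g] (y : S) : Etale (fiberMap f g y) := by
  haveI h1 : Etale (pullback.snd g (pullback.fst f (S.fromSpecResidueField y))) :=
    MorphismProperty.pullback_snd (P := @Etale) _ _ inferInstance
  haveI h2 : Etale (pullbackRightPullbackFstIso f (S.fromSpecResidueField y) g).inv :=
    inferInstance
  exact MorphismProperty.comp_mem (W := @Etale) _ _ h2 h1

theorem fiberMap_asFiber (u : U) :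
    (fiberMap f g ((g ≫ f).base u)).base ((g ≫ f).asFiber u) = f.asFiber (g.base u) := by
  apply (f.fiberι (f.base (g.base u))).isEmbedding.injective
  have h0 : (f.fiberι (f.base (g.base u))).base (f.asFiber (g.base u)) = g.base u :=
    f.fiberι_asFiber (g.base u)
  rw [h0]
  have h1 : (fiberMap f g ((g ≫ f).base u) ≫ f.fiberι ((g ≫ f).base u)).base
      ((g ≫ f).asFiber u) =
      ((g ≫ f).fiberι ((g ≫ f).base u) ≫ g).base ((g ≫ f).asFiber u) := by
    rw [fiberMap_fiberι]
  have h2 : ((g ≫ f).fiberι ((g ≫ f).base u)).base ((g ≫ f).asFiber u) = u :=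
    (g ≫ f).fiberι_asFiber u
  have h3 : ((g ≫ f).fiberι ((g ≫ f).base u) ≫ g).base ((g ≫ f).asFiber u) = g.base u := by
    show g.base (((g ≫ f).fiberι ((g ≫ f).base u)).base ((g ≫ f).asFiber u)) = g.base u
    rw [h2]
  rw [h3] at h1
  exact h1

theorem encard_fibIdeal_le [Etale g] (u : U) :
    (fibIdeal (g ≫ f) u).minimalPrimes.encard ≤
      Brnch.numGeomBranchesAt (f.fiber (f.base (g.base u))) (f.asFiber (g.base u)) := by
  rw [← encard_fibre_comps_eq (g ≫ f) u _ rfl, setOf_fibre_comps_eq, ← fiberMap_asFiber f g u]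
  haveI := etale_fiberMap f g ((g ≫ f).base u)
  exact BranchEtale.encard_comps_le_numGeomBranchesAt (fiberMap f g ((g ≫ f).base u)) _

end Map

section Exists

variable {X S : Scheme.{u}} (f : X ⟶ S)

theorem exists_etale_nbhd_fibre_le (x : X) (n : ℕ)
    (hn : (n : ℕ∞) ≤ Brnch.numGeomBranchesAt (f.fiber (f.base x)) (f.asFiber x)) :
    ∃ (U : Scheme.{u}) (g : U ⟶ X) (u : U), Etale g ∧ g.base u = x ∧
      (n : ℕ∞) ≤ (fibIdeal (g ≫ f) u).minimalPrimes.encard := by
  rw [numGeomBranchesAt_fiber] at hn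
  obtain ⟨V, hV, hxV, -⟩ := exists_isAffineOpen_mem_and_subset (U := ⊤) (x := x) (by simp)
  set p : Ideal Γ(X, V) := (hV.primeIdealOf ⟨x, hxV⟩).asIdeal with hp
  letI : Algebra Γ(X, V) (X.presheaf.stalk x) :=
    TopCat.Presheaf.algebra_section_stalk X.presheaf (⟨x, hxV⟩ : V)
  haveI hloc : IsLocalization.AtPrime (X.presheaf.stalk x) p := hV.isLocalization_stalk ⟨x, hxV⟩
  let e : Localization.AtPrime p ≃ₐ[Γ(X, V)] X.presheaf.stalk x :=
    IsLocalization.algEquiv p.primeCompl _ _
  haveI := Hens.isStrictHenselization_Hsh (X.presheaf.stalk x)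
  letI : Algebra (Localization.AtPrime p) (Hens.Hsh (X.presheaf.stalk x)) :=
    ((algebraMap (X.presheaf.stalk x) (Hens.Hsh (X.presheaf.stalk x))).comp
      (e : Localization.AtPrime p →+* X.presheaf.stalk x)).toAlgebra
  haveI : IsLocalHom (algebraMap (Localization.AtPrime p) (Hens.Hsh (X.presheaf.stalk x))) :=
    RingHom.isLocalHom_comp (algebraMap (X.presheaf.stalk x) (Hens.Hsh (X.presheaf.stalk x)))
      (e : Localization.AtPrime p →+* X.presheaf.stalk x)
  haveI : Hensel.IsStrictHenselization (Localization.AtPrime p)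
      (Hens.Hsh (X.presheaf.stalk x)) :=
    GeomUnibranchEquiv.isStrictHenselization_of_ringEquiv e.symm.toRingEquiv (fun a => by
      show algebraMap (X.presheaf.stalk x) (Hens.Hsh (X.presheaf.stalk x)) (e (e.symm a)) = _
      rw [e.apply_symm_apply])
  letI : Algebra Γ(X, V) (Hens.Hsh (X.presheaf.stalk x)) :=
    ((algebraMap (X.presheaf.stalk x) (Hens.Hsh (X.presheaf.stalk x))).comp
      (algebraMap Γ(X, V) (X.presheaf.stalk x))).toAlgebra
  haveI : IsScalarTower Γ(X, V) (X.presheaf.stalk x) (Hens.Hsh (X.presheaf.stalk x)) :=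
    IsScalarTower.of_algebraMap_eq' rfl
  haveI : IsScalarTower Γ(X, V) (Localization.AtPrime p) (Hens.Hsh (X.presheaf.stalk x)) := by
    refine IsScalarTower.of_algebraMap_eq fun r => ?_
    show algebraMap (X.presheaf.stalk x) (Hens.Hsh (X.presheaf.stalk x))
        (algebraMap Γ(X, V) (X.presheaf.stalk x) r) =
      algebraMap (X.presheaf.stalk x) (Hens.Hsh (X.presheaf.stalk x))
        (e (algebraMap Γ(X, V) (Localization.AtPrime p) r))
    rw [e.commutes]
  haveI : Module.Flat (X.presheaf.stalk x) (Hens.Hsh (X.presheaf.stalk x)) :=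
    Hens.flat_of_isStrictHenselization _ _
  haveI : Module.Flat Γ(X, V) (X.presheaf.stalk x) := IsLocalization.flat _ p.primeCompl
  haveI : Module.Flat Γ(X, V) (Hens.Hsh (X.presheaf.stalk x)) :=
    Module.Flat.trans Γ(X, V) (X.presheaf.stalk x) _
  set J : Ideal Γ(X, V) := (fibIdeal f x).comap (algebraMap Γ(X, V) (X.presheaf.stalk x)) with hJ
  have hJmap : J.map (algebraMap Γ(X, V) (Hens.Hsh (X.presheaf.stalk x))) =
      (fibIdeal f x).map (algebraMap (X.presheaf.stalk x) (Hens.Hsh (X.presheaf.stalk x))) := by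
    rw [IsScalarTower.algebraMap_eq Γ(X, V) (X.presheaf.stalk x), ← Ideal.map_map, hJ,
      IsLocalization.map_under p.primeCompl]
  rw [← hJmap] at hn
  obtain ⟨E, _, _, _, φ, hT⟩ := BranchFibreRing.exists_etale_encard_le_ideal
    (HensPrimeStrict.coveredByEtale p (Hens.Hsh (X.presheaf.stalk x))) J n hn
  set q : Ideal E := (maximalIdeal (Hens.Hsh (X.presheaf.stalk x))).comap φ.toRingHom with hq
  have hqp : q.comap (algebraMap Γ(X, V) E) = p :=
    (HensPrime.comap_comap p (Hens.Hsh (X.presheaf.stalk x)) φ).symm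
  have hgu := BranchEtale.Spec_map_comp_fromSpec_apply hV E x hxV q hqp
  refine ⟨Spec (CommRingCat.of E),
    Spec.map (CommRingCat.ofHom (algebraMap Γ(X, V) E)) ≫ hV.fromSpec,
    (⟨q, inferInstance⟩ : Spec (CommRingCat.of E)), BranchEtale.etale_Spec_map_comp_fromSpec hV E,
    hgu, ?_⟩
  rw [fibIdeal_Spec_eq hV (CommRingCat.of E) (CommRingCat.ofHom (algebraMap Γ(X, V) E)) f
    ⟨q, inferInstance⟩ x hxV hgu]
  letI : Algebra E ((Spec (CommRingCat.of E)).presheaf.stalk
      (⟨q, inferInstance⟩ : Spec (CommRingCat.of E))) :=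
    StructureSheaf.stalkAlgebra (R := E) ⟨q, inferInstance⟩
  haveI : IsLocalization.AtPrime ((Spec (CommRingCat.of E)).presheaf.stalk
      (⟨q, inferInstance⟩ : Spec (CommRingCat.of E))) q :=
    StructureSheaf.IsLocalization.to_stalk (R := E) ⟨q, inferInstance⟩
  letI : Algebra Γ(X, V) ((Spec (CommRingCat.of E)).presheaf.stalk
      (⟨q, inferInstance⟩ : Spec (CommRingCat.of E))) :=
    ((algebraMap E ((Spec (CommRingCat.of E)).presheaf.stalk
      (⟨q, inferInstance⟩ : Spec (CommRingCat.of E)))).comp (algebraMap Γ(X, V) E)).toAlgebra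
  haveI : IsScalarTower Γ(X, V) E ((Spec (CommRingCat.of E)).presheaf.stalk
      (⟨q, inferInstance⟩ : Spec (CommRingCat.of E))) := IsScalarTower.of_algebraMap_eq' rfl
  exact hT _

end Exists

section Elementary

variable {X S U : Scheme.{u}} (f : X ⟶ S) (g : U ⟶ X)

theorem residueFieldMap_bijective_of_isPreimmersion {Y Z : Scheme.{u}} (i : Y ⟶ Z)
    [IsPreimmersion i] (y : Y) : Function.Bijective (i.residueFieldMap y) :=
  HensQuotient.residueField_map_bijective_of_surjective (i.stalkMap y).hom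
    (i.stalkMap_surjective y)

theorem residueFieldMap_bijective_of_eq {Y Z : Scheme.{u}} (i : Y ⟶ Z) (y y' : Y) (h : y' = y)
    (hb : Function.Bijective (i.residueFieldMap y)) : Function.Bijective (i.residueFieldMap y') := by
  subst h
  exact hb

theorem residueFieldMap_bijective_of_hom_eq {Y Z : Scheme.{u}} (i j : Y ⟶ Z) (h : i = j) (y : Y)
    (hb : Function.Bijective (j.residueFieldMap y)) : Function.Bijective (i.residueFieldMap y) := by
  subst h
  exact hb

theorem residueFieldMap_fiberMap_bijective (u : U)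
    (hb : Function.Bijective (g.residueFieldMap u)) :
    Function.Bijective
      ((fiberMap f g ((g ≫ f).base u)).residueFieldMap ((g ≫ f).asFiber u)) := by
  set z := (g ≫ f).asFiber u with hz
  have h2 : ((g ≫ f).fiberι ((g ≫ f).base u)).base z = u := (g ≫ f).fiberι_asFiber u
  have hR : Function.Bijective
      (((g ≫ f).fiberι ((g ≫ f).base u) ≫ g).residueFieldMap z) := by
    rw [Scheme.residueFieldMap_comp]
    have hb1 := residueFieldMap_bijective_of_isPreimmersion
      ((g ≫ f).fiberι ((g ≫ f).base u)) z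
    have hb2 := residueFieldMap_bijective_of_eq g u _ h2 hb
    exact hb1.comp hb2
  have hL := residueFieldMap_bijective_of_hom_eq _ _ (fiberMap_fiberι f g ((g ≫ f).base u)) z hR
  rw [Scheme.residueFieldMap_comp] at hL
  have hb3 := residueFieldMap_bijective_of_isPreimmersion (f.fiberι ((g ≫ f).base u))
    ((fiberMap f g ((g ≫ f).base u)).base z)
  exact (Function.Bijective.of_comp_iff _ hb3).mp hL

theorem encard_fibIdeal_le_numBranchesAt [Etale g] (u : U)
    (hb : Function.Bijective (g.residueFieldMap u)) :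
    (fibIdeal (g ≫ f) u).minimalPrimes.encard ≤
      Brnch.numBranchesAt (f.fiber (f.base (g.base u))) (f.asFiber (g.base u)) := by
  rw [← encard_fibre_comps_eq (g ≫ f) u _ rfl, setOf_fibre_comps_eq, ← fiberMap_asFiber f g u]
  haveI := etale_fiberMap f g ((g ≫ f).base u)
  exact BranchEtaleHens.encard_comps_le_numBranchesAt (fiberMap f g ((g ≫ f).base u)) _
    (residueFieldMap_fiberMap_bijective f g u hb)

end Elementary

section ExistsHens

variable {X S : Scheme.{u}} (f : X ⟶ S)

theorem exists_etaleNbhd_fibre_le (x : X) (n : ℕ)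
    (hn : (n : ℕ∞) ≤ Brnch.numBranchesAt (f.fiber (f.base x)) (f.asFiber x)) :
    ∃ (U : Scheme.{u}) (g : U ⟶ X) (u : U), Hens2.IsEtaleNbhd g u x ∧
      (n : ℕ∞) ≤ (fibIdeal (g ≫ f) u).minimalPrimes.encard := by
  rw [numBranchesAt_fiber] at hn
  obtain ⟨V, hV, hxV, -⟩ := exists_isAffineOpen_mem_and_subset (U := ⊤) (x := x) (by simp)
  set p : Ideal Γ(X, V) := (hV.primeIdealOf ⟨x, hxV⟩).asIdeal with hp
  letI : Algebra Γ(X, V) (X.presheaf.stalk x) :=
    TopCat.Presheaf.algebra_section_stalk X.presheaf (⟨x, hxV⟩ : V)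
  haveI hloc : IsLocalization.AtPrime (X.presheaf.stalk x) p := hV.isLocalization_stalk ⟨x, hxV⟩
  let e : Localization.AtPrime p ≃ₐ[Γ(X, V)] X.presheaf.stalk x :=
    IsLocalization.algEquiv p.primeCompl _ _
  haveI := Hens.isHenselization_Hh (X.presheaf.stalk x)
  letI : Algebra (Localization.AtPrime p) (Hens.Hh (X.presheaf.stalk x)) :=
    ((algebraMap (X.presheaf.stalk x) (Hens.Hh (X.presheaf.stalk x))).comp
      (e : Localization.AtPrime p →+* X.presheaf.stalk x)).toAlgebra
  haveI : IsLocalHom (algebraMap (Localization.AtPrime p) (Hens.Hh (X.presheaf.stalk x))) :=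
    RingHom.isLocalHom_comp (algebraMap (X.presheaf.stalk x) (Hens.Hh (X.presheaf.stalk x)))
      (e : Localization.AtPrime p →+* X.presheaf.stalk x)
  haveI : Hensel.IsHenselization (Localization.AtPrime p)
      (Hens.Hh (X.presheaf.stalk x)) :=
    BranchEtaleHens.isHenselization_of_ringEquiv e.symm.toRingEquiv (fun a => by
      show algebraMap (X.presheaf.stalk x) (Hens.Hh (X.presheaf.stalk x)) (e (e.symm a)) = _
      rw [e.apply_symm_apply])
  letI : Algebra Γ(X, V) (Hens.Hh (X.presheaf.stalk x)) :=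
    ((algebraMap (X.presheaf.stalk x) (Hens.Hh (X.presheaf.stalk x))).comp
      (algebraMap Γ(X, V) (X.presheaf.stalk x))).toAlgebra
  haveI : IsScalarTower Γ(X, V) (X.presheaf.stalk x) (Hens.Hh (X.presheaf.stalk x)) :=
    IsScalarTower.of_algebraMap_eq' rfl
  haveI : IsScalarTower Γ(X, V) (Localization.AtPrime p) (Hens.Hh (X.presheaf.stalk x)) := by
    refine IsScalarTower.of_algebraMap_eq fun r => ?_
    show algebraMap (X.presheaf.stalk x) (Hens.Hh (X.presheaf.stalk x))
        (algebraMap Γ(X, V) (X.presheaf.stalk x) r) =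
      algebraMap (X.presheaf.stalk x) (Hens.Hh (X.presheaf.stalk x))
        (e (algebraMap Γ(X, V) (Localization.AtPrime p) r))
    rw [e.commutes]
  haveI : Module.Flat (X.presheaf.stalk x) (Hens.Hh (X.presheaf.stalk x)) :=
    Hens.flat_of_isHenselization _ _
  haveI : Module.Flat Γ(X, V) (X.presheaf.stalk x) := IsLocalization.flat _ p.primeCompl
  haveI : Module.Flat Γ(X, V) (Hens.Hh (X.presheaf.stalk x)) :=
    Module.Flat.trans Γ(X, V) (X.presheaf.stalk x) _
  set J : Ideal Γ(X, V) := (fibIdeal f x).comap (algebraMap Γ(X, V) (X.presheaf.stalk x)) with hJ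
  have hJmap : J.map (algebraMap Γ(X, V) (Hens.Hh (X.presheaf.stalk x))) =
      (fibIdeal f x).map (algebraMap (X.presheaf.stalk x) (Hens.Hh (X.presheaf.stalk x))) := by
    rw [IsScalarTower.algebraMap_eq Γ(X, V) (X.presheaf.stalk x), ← Ideal.map_map, hJ,
      IsLocalization.map_under p.primeCompl]
  rw [← hJmap] at hn
  obtain ⟨E, _, _, _, φ, hT⟩ := BranchFibreRing.exists_etale_encard_le_ideal
    (HensPrimeStrict.coveredByEtale_hens p (Hens.Hh (X.presheaf.stalk x))) J n hn
  set q : Ideal E := (maximalIdeal (Hens.Hh (X.presheaf.stalk x))).comap φ.toRingHom with hq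
  have hqp : q.comap (algebraMap Γ(X, V) E) = p :=
    (HensPrime.comap_comap p (Hens.Hh (X.presheaf.stalk x)) φ).symm
  have hgu := BranchEtale.Spec_map_comp_fromSpec_apply hV E x hxV q hqp
  have hres : Function.Bijective
      ((Spec.map (CommRingCat.ofHom (algebraMap Γ(X, V) E)) ≫ hV.fromSpec).residueFieldMap
        (⟨q, inferInstance⟩ : Spec (CommRingCat.of E))) := by
    refine BranchEtaleHens.residue_bijective_Spec hV x hxV (CommRingCat.of E)
      (CommRingCat.ofHom (algebraMap Γ(X, V) E)) ⟨q, inferInstance⟩ hgu ?_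
    intro s
    obtain ⟨a, t, ht, hmem⟩ := HensPrime.exists_sub_mem p (Hens.Hh (X.presheaf.stalk x)) (φ s)
    refine ⟨a, t, ht, ?_⟩
    show s * algebraMap Γ(X, V) E t - algebraMap Γ(X, V) E a ∈ q
    rw [hq, Ideal.mem_comap]
    show φ _ ∈ _
    rw [map_sub, map_mul, AlgHom.commutes, AlgHom.commutes]
    exact hmem
  refine ⟨Spec (CommRingCat.of E),
    Spec.map (CommRingCat.ofHom (algebraMap Γ(X, V) E)) ≫ hV.fromSpec,
    (⟨q, inferInstance⟩ : Spec (CommRingCat.of E)),
    ⟨BranchEtale.etale_Spec_map_comp_fromSpec hV E, hgu, hres⟩, ?_⟩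
  rw [fibIdeal_Spec_eq hV (CommRingCat.of E) (CommRingCat.ofHom (algebraMap Γ(X, V) E)) f
    ⟨q, inferInstance⟩ x hxV hgu]
  letI : Algebra E ((Spec (CommRingCat.of E)).presheaf.stalk
      (⟨q, inferInstance⟩ : Spec (CommRingCat.of E))) :=
    StructureSheaf.stalkAlgebra (R := E) ⟨q, inferInstance⟩
  haveI : IsLocalization.AtPrime ((Spec (CommRingCat.of E)).presheaf.stalk
      (⟨q, inferInstance⟩ : Spec (CommRingCat.of E))) q :=
    StructureSheaf.IsLocalization.to_stalk (R := E) ⟨q, inferInstance⟩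
  letI : Algebra Γ(X, V) ((Spec (CommRingCat.of E)).presheaf.stalk
      (⟨q, inferInstance⟩ : Spec (CommRingCat.of E))) :=
    ((algebraMap E ((Spec (CommRingCat.of E)).presheaf.stalk
      (⟨q, inferInstance⟩ : Spec (CommRingCat.of E)))).comp (algebraMap Γ(X, V) E)).toAlgebra
  haveI : IsScalarTower Γ(X, V) E ((Spec (CommRingCat.of E)).presheaf.stalk
      (⟨q, inferInstance⟩ : Spec (CommRingCat.of E))) := IsScalarTower.of_algebraMap_eq' rfl
  exact hT _

end ExistsHens

end Groth.Agent.Lib.Helper87.BranchFibre
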