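import Mathlib.Order.RelSeries
import Mathlib.Order.Cover

set_option autoImplicit false

namespace Groth.Agent.Lib.Helper87

/-- The order-theoretic catenary condition (bounded chains between comparable elements, and any two
saturated chains with the same endpoints have the same length). -/
def CatOrder (P : Type*) [PartialOrder P] : Prop :=
  (∀ p q : P, p ≤ q → ∃ n : ℕ, ∀ s : LTSeries P, s.head = p → s.last = q → s.length ≤ n) ∧
  ∀ s t : LTSeries P, s.head = t.head → s.last = t.last →
    (∀ i : Fin s.length, s (Fin.castSucc i) ⋖ s (Fin.succ i)) →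
    (∀ i : Fin t.length, t (Fin.castSucc i) ⋖ t (Fin.succ i)) →
    s.length = t.length

section

variable {P Q : Type*} [PartialOrder P] [PartialOrder Q] (f : Q → P)

/-- `f` is an order embedding onto a lower set -/
structure LowerEmb : Prop where
  le_iff : ∀ a b : Q, f a ≤ f b ↔ a ≤ b
  lower : ∀ (a : Q) (y : P), y ≤ f a → ∃ b : Q, f b = y

variable {f}

theorem LowerEmb.injective (hf : LowerEmb f) : Function.Injective f := by
  intro a b h
  exact le_antisymm ((hf.le_iff a b).mp h.le) ((hf.le_iff b a).mp h.ge)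

theorem LowerEmb.lt_iff (hf : LowerEmb f) (a b : Q) : f a < f b ↔ a < b := by
  rw [lt_iff_le_not_ge, lt_iff_le_not_ge, hf.le_iff, hf.le_iff]

theorem LowerEmb.strictMono (hf : LowerEmb f) : StrictMono f :=
  fun a b h => (hf.lt_iff a b).mpr h

theorem LowerEmb.covBy_iff (hf : LowerEmb f) (a b : Q) : f a ⋖ f b ↔ a ⋖ b := by
  constructor
  · intro h
    refine ⟨(hf.lt_iff a b).mp h.1, fun c hac hcb => ?_⟩
    exact h.2 ((hf.lt_iff a c).mpr hac) ((hf.lt_iff c b).mpr hcb)
  · intro h
    refine ⟨(hf.lt_iff a b).mpr h.1, fun c hac hcb => ?_⟩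
    obtain ⟨c', rfl⟩ := hf.lower b c hcb.le
    exact h.2 ((hf.lt_iff a c').mp hac) ((hf.lt_iff c' b).mp hcb)

/-- lift a chain lying below `f q` -/
theorem LowerEmb.exists_lift (hf : LowerEmb f) (s : LTSeries P) (q : Q) (hq : s.last = f q) :
    ∃ s' : LTSeries Q, s'.length = s.length ∧ s'.map f hf.strictMono = s := by
  have hle : ∀ i, s i ≤ f q := by
    intro i
    rw [← hq]
    exact s.monotone (Fin.le_last i)
  choose g hg using fun i => hf.lower q (s i) (hle i)
  refine ⟨{ length := s.length, toFun := g, step := ?_ }, rfl, ?_⟩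
  · intro i
    show g i.castSucc < g i.succ
    rw [← hf.lt_iff, hg, hg]
    exact s.step i
  · ext i
    · rfl
    · exact hg i

theorem CatOrder.of_lowerEmb (hf : LowerEmb f) (h : CatOrder P) : CatOrder Q := by
  refine ⟨?_, ?_⟩
  · intro p q hpq
    obtain ⟨n, hn⟩ := h.1 (f p) (f q) ((hf.le_iff p q).mpr hpq)
    refine ⟨n, fun s hs hs' => ?_⟩
    have := hn (s.map f hf.strictMono) (by rw [LTSeries.head_map, hs])
      (by rw [LTSeries.last_map, hs'])
    simpa using this
  · intro s t hst hst' hs ht
    have := h.2 (s.map f hf.strictMono) (t.map f hf.strictMono)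
      (by rw [LTSeries.head_map, LTSeries.head_map, hst])
      (by rw [LTSeries.last_map, LTSeries.last_map, hst'])
      (fun i => (hf.covBy_iff _ _).mpr (hs i)) (fun i => (hf.covBy_iff _ _).mpr (ht i))
    simpa using this

end

/-- descent of the catenary condition along a covering family of lower-set embeddings -/
theorem CatOrder.of_cover {P : Type*} [PartialOrder P] {ι : Type*} (Q : ι → Type*)
    [∀ i, PartialOrder (Q i)] (f : ∀ i, Q i → P) (hf : ∀ i, LowerEmb (f i))
    (hcov : ∀ q : P, ∃ i, q ∈ Set.range (f i)) (h : ∀ i, CatOrder (Q i)) : CatOrder P := by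
  refine ⟨?_, ?_⟩
  · intro p q hpq
    obtain ⟨i, q', rfl⟩ := hcov q
    obtain ⟨p', rfl⟩ := (hf i).lower q' p hpq
    obtain ⟨n, hn⟩ := (h i).1 p' q' (((hf i).le_iff p' q').mp hpq)
    refine ⟨n, fun s hs hs' => ?_⟩
    obtain ⟨s', hlen, hmap⟩ := (hf i).exists_lift s q' hs'
    rw [← hlen]
    apply hn s'
    · apply (hf i).injective
      rw [← hs, ← hmap, LTSeries.head_map]
    · apply (hf i).injective
      rw [← hs', ← hmap, LTSeries.last_map]
  · intro s t hst hst' hs ht
    obtain ⟨i, q', hq'⟩ := hcov s.last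
    obtain ⟨s', hlen, hmap⟩ := (hf i).exists_lift s q' hq'.symm
    obtain ⟨t', hlen', hmap'⟩ := (hf i).exists_lift t q' (hst' ▸ hq'.symm)
    rw [← hlen, ← hlen']
    subst hmap
    subst hmap'
    apply (h i).2 s' t'
    · apply (hf i).injective
      simpa using hst
    · apply (hf i).injective
      simpa using hst'
    · intro j
      rw [← (hf i).covBy_iff]
      exact hs j
    · intro j
      rw [← (hf i).covBy_iff]
      exact ht j

end Groth.Agent.Lib.Helper87
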