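import Groth.Agent.Lib.Helper87.ChevalleyFibre

set_option autoImplicit false
universe u

open CategoryTheory CategoryTheory.Limits AlgebraicGeometry TopologicalSpace

namespace Groth.Agent.Lib.Helper87.ChevalleyFibre2

open Groth.Agent.Lib.Helper73 EGA43 Groth.Agent.Lib.Helper87.ChevalleyPointwise
  Groth.Agent.Lib.Helper87.UnivOpenAtSpecialize Groth.Agent.Lib.Helper87.ChevalleyFibre
  AlgebraicGeometry.AffineSpace

/-- Generic points of irreducible components have no proper generizations. -/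
theorem maximal_of_closure_mem_irreducibleComponents {W : Type*} [TopologicalSpace W] [T0Space W]
    (η : W) (h : closure ({η} : Set W) ∈ irreducibleComponents W) : ∀ t : W, t ⤳ η → t = η :=
  fun _ ht => Groth.Agent.Lib.Helper87.UnivOpenAtChart.eq_of_mem_genericPoints h ht

/-- The local dimension at `x` of the part of an irreducible closed set lying in the fibre of
`x`, computed by a generization of `x` inside both with the largest residual transcendence
degree. -/
theorem localDim_closure_inter_fiber' {X Y : Scheme.{u}} [IsLocallyNoetherian X] (f : X ⟶ Y)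
    [LocallyOfFiniteType f] (x z ξ : X) (hx : x ∈ closure ({ξ} : Set X))
    (hzξ : z ∈ closure ({ξ} : Set X)) (hzx : z ⤳ x) (hfz : f z = f x)
    (hdim : FlatMor.fibreDimAt f x ≤ ((resTrdegNat f z : ℕ) : WithBot ℕ∞)) :
    FlatMor.localDim ↥(closure ({ξ} : Set X) ∩ f.base ⁻¹' {f.base x}) ⟨x, ⟨hx, rfl⟩⟩ =
      ((resTrdegNat f z : ℕ) : WithBot ℕ∞) := by
  apply le_antisymm
  · apply localDim_interFiber_le f (closure {ξ}) (f x) isClosed_closure _ (resTrdegNat f z)
    intro ζ _ hfζ hζx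
    have := (resTrdegNat_le_fibreDimAt_of_specializes f x ζ hζx hfζ).trans hdim
    exact_mod_cast this
  · exact resTrdegNat_le_localDim_interFiber f (closure {ξ}) (f x) isClosed_closure
      ⟨x, ⟨hx, rfl⟩⟩ ⟨z, ⟨hzξ, hfz⟩⟩ hzx

/-- Condition b) of the fibrewise Chevalley criterion at an arbitrary point of the fibre. -/
theorem component_of_forall_hasGoodGenerization {X Y : Scheme.{u}} [IsLocallyNoetherian Y]
    (f : X ⟶ Y) [LocallyOfFiniteType f] (x : X)
    (hy : CAlg2.IsGeomUnibranch (Y.presheaf.stalk (f.base x)))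
    (H : ∀ z : X, z ⤳ x → f z = f x → (∀ t : X, t ⤳ z → f t = f z → t = z) →
      HasGoodGenerization f z) :
    ∀ Y₀ ∈ irreducibleComponents (Y : Type u), f.base x ∈ Y₀ →
        ∃ Z ∈ irreducibleComponents (X : Type u), ∃ hx : x ∈ Z, closure (f.base '' Z) = Y₀ ∧
          ∀ η : Y, closure ({η} : Set Y) = Y₀ →
            FlatMor.localDim ↥(Z ∩ f.base ⁻¹' {f.base x}) ⟨x, ⟨hx, rfl⟩⟩ =
              topologicalKrullDim ↥(Z ∩ f.base ⁻¹' {η}) := by
  have hLN : IsLocallyNoetherian X := LocallyOfFiniteType.isLocallyNoetherian f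
  obtain ⟨z, hzx, hfz, hzmax, hdim⟩ := exists_maximal_fiber_fibreDimAt_le f x
  obtain ⟨ξ, hξz, hξmax, hfξmax, hr⟩ := H z hzx hfz hzmax
  intro Y₀ hY₀ hy₀
  obtain ⟨η', hη'Y₀, hη'max⟩ := exists_maximal_of_mem_irreducibleComponents Y₀ hY₀
  have hη'y : η' ⤳ f x := by
    rw [specializes_iff_mem_closure, hη'Y₀]; exact hy₀
  have heq : η' = f ξ := eq_of_maximal_of_isGeomUnibranch (f x) hy η' (f ξ) hη'y
    ((hξz.trans hzx).map f.continuous) hη'max hfξmax
  subst hη'Y₀
  have hx : x ∈ closure ({ξ} : Set X) := specializes_iff_mem_closure.mp (hξz.trans hzx)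
  have hzξ : z ∈ closure ({ξ} : Set X) := specializes_iff_mem_closure.mp hξz
  refine ⟨closure {ξ}, closure_singleton_mem_irreducibleComponents_of_maximal ξ hξmax, hx, ?_, ?_⟩
  · rw [heq]; exact closure_image_closure_singleton f ξ
  · intro η hη
    have hηξ : f ξ = η := by
      rw [heq] at hη
      exact (inseparable_iff_closure_eq.mpr hη.symm).eq
    rw [localDim_closure_inter_fiber' f x z ξ hx hzξ hzx hfz hdim,
      topologicalKrullDim_closure_inter_fiber f ξ η hηξ, hr]

section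

variable {X Y : Scheme.{u}} {f : X ⟶ Y} [LocallyOfFiniteType f] {x : X} {e : ℕ}
  (c : Chart f x e)

include c in
/-- Variant of `Chart.hasGoodGenerization_of_fibreDimAt_le` with the dimension inequality for
one maximal generization of the image point only. -/
theorem Chart.hasGoodGenerization_of_fibreDimAt_le' [IsLocallyNoetherian Y]
    (hmax : ∀ x' : X, f.base x' = f.base x → x ∈ closure {x'} → x' = x)
    (he : e = resTrdegNat f x) (η : Y) (hηmax : ∀ t : Y, t ⤳ η → t = η)
    (H : FlatMor.fibreDimAt f x ≤ topologicalKrullDim ↥((c.U : Set X) ∩ f.base ⁻¹' {η})) :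
    HasGoodGenerization f x := by
  have h1 := H.trans (topologicalKrullDim_inter_le_fiber f c.U η)
  rw [fibreDimAt_eq_resTrdegNat f x hmax, ← he] at h1
  have key : ∃ ζ : ↥(c.U : Scheme.{u}), (c.U.ι ≫ f) ζ = η ∧ e ≤ resTrdegNat f (c.U.ι ζ) := by
    by_contra hcon
    push Not at hcon
    rcases Nat.eq_zero_or_pos e with he0 | hepos
    · have hempty : IsEmpty ↥((c.U.ι ≫ f).fiber η) := by
        refine ⟨fun z => ?_⟩
        have hz : (c.U.ι ≫ f) ((c.U.ι ≫ f).fiberι η z) = η := by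
          have : (c.U.ι ≫ f).fiberι η z ∈ Set.range ((c.U.ι ≫ f).fiberι η) := ⟨z, rfl⟩
          rwa [(c.U.ι ≫ f).range_fiberι η] at this
        have := hcon _ hz
        omega
      have : IsEmpty (TopologicalSpace.IrreducibleCloseds ↥((c.U.ι ≫ f).fiber η)) :=
        ⟨fun s => hempty.false s.isIrreducible.nonempty.some⟩
      rw [topologicalKrullDim, Order.krullDim_eq_bot] at h1
      simp at h1
    · have h2 : topologicalKrullDim ↥((c.U.ι ≫ f).fiber η) ≤ (((e - 1 : ℕ) : ℕ) : WithBot ℕ∞) := by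
        rw [topologicalKrullDim_fiber_le_iff_forall_maximal]
        intro ζ hζ _
        have h3 := hcon ζ hζ
        rw [resTrdegNat_comp_of_isOpenImmersion]
        have : resTrdegNat f (c.U.ι ζ) ≤ e - 1 := by omega
        exact_mod_cast this
      have h4 := h1.trans h2
      have h5 : e ≤ e - 1 := by exact_mod_cast h4
      omega
  obtain ⟨ζ, hζη, hζe⟩ := key
  obtain ⟨ζ', hζ'ζ, hfζ', hζ'max⟩ := exists_fiber_maximal_generization f (c.U.ι ζ)
  have hfζ'η : f ζ' = η := hfζ'.trans hζη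
  have hζ'U : ζ' ∈ c.U := hζ'ζ.mem_open c.U.isOpen ζ.2
  have hζ'maxX : ∀ t : X, t ⤳ ζ' → t = ζ' := by
    intro t ht
    apply hζ'max t ht
    have h2 := hηmax (f t) (by rw [← hfζ'η]; exact ht.map f.continuous)
    rw [h2, hfζ'η]
  have hle : resTrdegNat f (c.U.ι ζ) ≤ resTrdegNat f ζ' :=
    resTrdegNat_le_of_specializes_fiber f (c.U.ι ζ) ζ' hζ'ζ hfζ'
  have hge : resTrdegNat f ζ' ≤ e := c.resTrdegNat_le ⟨ζ', hζ'U⟩
  refine ⟨ζ', c.hmaxU ζ' hζ'U hζ'maxX, hζ'maxX, by rw [hfζ'η]; exact hηmax, ?_⟩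
  omega

end

/-- Condition b'') of the fibrewise Chevalley criterion from good generizations. -/
theorem inter_dim_le_of_forall_hasGoodGenerization {X Y : Scheme.{u}} [IsLocallyNoetherian Y]
    (f : X ⟶ Y) [LocallyOfFiniteType f] (y : Y)
    (hy : CAlg2.IsGeomUnibranch (Y.presheaf.stalk y))
    (H : ∀ z : X, f z = y → (∀ t : X, t ⤳ z → f t = f z → t = z) → HasGoodGenerization f z)
    (U : X.Opens) (Y₀ : Set Y) (hY₀ : Y₀ ∈ irreducibleComponents (Y : Type u)) (hyY₀ : y ∈ Y₀)
    (η : Y) (hη : closure ({η} : Set Y) = Y₀) :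
    topologicalKrullDim ↥((U : Set X) ∩ f.base ⁻¹' {y}) ≤
      topologicalKrullDim ↥((U : Set X) ∩ f.base ⁻¹' {η}) := by
  refine (topologicalKrullDim_inter_le_fiber f U y).trans ?_
  rw [topologicalKrullDim_fiber_le_iff_forall_maximal]
  intro ζ' hfζ' hζ'max
  rw [resTrdegNat_comp_of_isOpenImmersion]
  have hζmax : ∀ t : X, t ⤳ U.ι ζ' → f t = f (U.ι ζ') → t = U.ι ζ' := by
    intro t ht hft
    have htU : t ∈ Set.range U.ι := ht.mem_open U.ι.isOpenEmbedding.isOpen_range ⟨ζ', rfl⟩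
    obtain ⟨t', rfl⟩ := htU
    have h1 : t' ⤳ ζ' := U.ι.isEmbedding.isInducing.specializes_iff.mp ht
    rw [hζ'max t' h1 hft]
  obtain ⟨ξ, hξζ, hξmax, hfξmax, hr⟩ := H (U.ι ζ') hfζ' hζmax
  have hηmax : ∀ t : Y, t ⤳ η → t = η :=
    maximal_of_closure_mem_irreducibleComponents η (by rw [hη]; exact hY₀)
  have hηy : η ⤳ y := by rw [specializes_iff_mem_closure, hη]; exact hyY₀
  have hfξy : f ξ ⤳ y := by
    have := hξζ.map f.continuous
    rwa [show f (U.ι ζ') = y from hfζ'] at this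
  have heq : η = f ξ := eq_of_maximal_of_isGeomUnibranch y hy η (f ξ) hηy hfξy hηmax hfξmax
  have hξU : ξ ∈ U := hξζ.mem_open U.isOpen ζ'.2
  rw [← hr]
  exact resTrdegNat_le_topologicalKrullDim_inter f U η ξ hξU heq.symm

end Groth.Agent.Lib.Helper87.ChevalleyFibre2
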