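import Mathlib
/-!
# Finite subcovers by constructible sets (helper87)
-/

set_option autoImplicit false
set_option linter.style.haveILetI false
open Topology Set

namespace Groth.Agent.Lib.Helper87.ConsCover

variable {X : Type*} [TopologicalSpace X]

/-- Constructible sets of a compact space are clopen in the constructible topology. -/
theorem isOpen_constructibleTopology_of_isConstructible [CompactSpace X] {s : Set X}
    (hs : IsConstructible s) :
    IsOpen[constructibleTopology X] s ∧ IsOpen[constructibleTopology X] sᶜ := by
  induction hs using IsConstructible.empty_union_induction with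
  | open_retrocompact U hUopen hUcomp =>
    have hc : IsCompact U := hUcomp.isCompact
    exact ⟨hc.isOpen_constructibleTopology_of_isOpen hUopen,
      IsCompact.isOpen_constructibleTopology_of_isClosed (by rwa [compl_compl])
        hUopen.isClosed_compl⟩
  | union s hs t ht hs' ht' =>
    have key1 : ∀ (τ : TopologicalSpace X) (a b : Set X), IsOpen[τ] a → IsOpen[τ] b →
        IsOpen[τ] (a ∪ b) := fun τ a b h1 h2 => by
      letI := τ
      exact h1.union h2
    have key2 : ∀ (τ : TopologicalSpace X) (a b : Set X), IsOpen[τ] a → IsOpen[τ] b →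
        IsOpen[τ] (a ∩ b) := fun τ a b h1 h2 => by
      letI := τ
      exact h1.inter h2
    refine ⟨key1 _ _ _ hs'.1 ht'.1, ?_⟩
    rw [compl_union]
    exact key2 _ _ _ hs'.2 ht'.2
  | compl s hs hs' =>
    exact ⟨hs'.2, by rw [compl_compl]; exact hs'.1⟩

/-- A cover of a spectral space by constructible sets has a finite subcover. -/
theorem exists_finite_subcover_of_isConstructible [CompactSpace X] [QuasiSober X]
    [PrespectralSpace X] [QuasiSeparatedSpace X] {ι : Type*} (C : ι → Set X)
    (hC : ∀ i, IsConstructible (C i)) (hcov : ∀ x, ∃ i, x ∈ C i) :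
    ∃ t : Finset ι, ∀ x, ∃ i ∈ t, x ∈ C i := by
  have hcomp : IsCompact (univ : Set (WithConstructibleTopology X)) := isCompact_univ
  let U : ι → Set (WithConstructibleTopology X) :=
    fun i => WithTopology.ofTopology ⁻¹' (C i)
  have hU : ∀ i, IsOpen (U i) := by
    intro i
    rw [WithConstructibleTopology.isOpen_iff]
    exact (isOpen_constructibleTopology_of_isConstructible (hC i)).1
  obtain ⟨t, ht⟩ := hcomp.elim_finite_subcover U hU (by
    intro x _
    obtain ⟨i, hi⟩ := hcov (WithTopology.ofTopology x)
    exact mem_iUnion.mpr ⟨i, hi⟩)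
  refine ⟨t, fun x => ?_⟩
  have := ht (mem_univ (WithTopology.toTopology _ x))
  simp only [mem_iUnion] at this
  obtain ⟨i, hit, hi⟩ := this
  exact ⟨i, hit, hi⟩

end Groth.Agent.Lib.Helper87.ConsCover
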