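import Mathlib

/-!
A normal local domain whose integral closure in a separably closed Galois extension of its
fraction field carries a Galois stable prime over the maximal ideal is henselian.
Used for the decomposition field and inertia field descriptions of henselizations.
-/

set_option autoImplicit false

namespace Groth.Agent.Lib.Helper87.DecompHens

open Polynomial IsLocalRing

section Abstract

variable (A L : Type*) {Ω : Type*} [CommRing A] [Field L] [Algebra A L] [Field Ω] [Algebra L Ω]
  [Algebra A Ω]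

/-- a subset of the big field behaving as a Galois stable prime of the integral closure, lying
over the maximal ideal -/
structure StablePrime [IsLocalRing A] (M : Set Ω) : Prop where
  zero_mem : (0 : Ω) ∈ M
  add_mem : ∀ x y, x ∈ M → y ∈ M → x + y ∈ M
  mul_mem : ∀ x y, IsIntegral A x → y ∈ M → x * y ∈ M
  one_notMem : (1 : Ω) ∉ M
  prime : ∀ x y, IsIntegral A x → IsIntegral A y → x * y ∈ M → x ∈ M ∨ y ∈ M
  max_mem : ∀ a ∈ maximalIdeal A, algebraMap A Ω a ∈ M
  stable : ∀ (σ : Ω ≃ₐ[L] Ω) x, x ∈ M → σ x ∈ M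

variable {A L} [IsLocalRing A] {M : Set Ω}

set_option linter.unusedSectionVars false

theorem StablePrime.sum_mem (hM : StablePrime A L M) (s : Multiset Ω) (hs : ∀ x ∈ s, x ∈ M) :
    s.sum ∈ M := by
  induction s using Multiset.induction_on with
  | empty => simpa using hM.zero_mem
  | cons a s ih =>
    rw [Multiset.sum_cons]
    exact hM.add_mem _ _ (hs a (Multiset.mem_cons_self a s))
      (ih fun x hx => hs x (Multiset.mem_cons_of_mem hx))

theorem StablePrime.exists_mem_of_prod_mem (hM : StablePrime A L M) (s : Multiset Ω)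
    (hs : ∀ x ∈ s, IsIntegral A x) (hp : s.prod ∈ M) : ∃ x ∈ s, x ∈ M := by
  induction s using Multiset.induction_on with
  | empty => exact absurd (by simpa using hp) hM.one_notMem
  | cons a s ih =>
    rw [Multiset.prod_cons] at hp
    have hs' : ∀ x ∈ s, IsIntegral A x := fun x hx => hs x (Multiset.mem_cons_of_mem hx)
    rcases hM.prime _ _ (hs a (Multiset.mem_cons_self a s)) (IsIntegral.multiset_prod hs') hp with
      h | h
    · exact ⟨a, Multiset.mem_cons_self a s, h⟩
    · obtain ⟨x, hx, hxM⟩ := ih hs' h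
      exact ⟨x, Multiset.mem_cons_of_mem hx, hxM⟩

theorem StablePrime.prod_mem_of_exists [DecidableEq Ω] (hM : StablePrime A L M) (s : Multiset Ω)
    (hs : ∀ x ∈ s, IsIntegral A x) (hp : ∃ x ∈ s, x ∈ M) : s.prod ∈ M := by
  obtain ⟨x, hx, hxM⟩ := hp
  rw [← Multiset.cons_erase hx, Multiset.prod_cons, mul_comm]
  exact hM.mul_mem _ _
    (IsIntegral.multiset_prod fun y hy => hs y (Multiset.mem_of_mem_erase hy)) hxM

variable [IsDomain A] [IsIntegrallyClosed A] [IsFractionRing A L] [IsScalarTower A L Ω]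
  [Normal L Ω] [IsSepClosed Ω]

theorem natDegree_eq_one (hM : StablePrime A L M) {f : A[X]} (hf : f.Monic)
    (hirr : Irreducible (f.map (algebraMap A L))) (a0 : A)
    (h0 : f.eval a0 ∈ maximalIdeal A) (h1 : IsUnit (f.derivative.eval a0)) :
    f.natDegree = 1 := by
  classical
  have hfΩ : f.map (algebraMap A Ω) = (f.map (algebraMap A L)).map (algebraMap L Ω) := by
    rw [Polynomial.map_map, ← IsScalarTower.algebraMap_eq]
  have hder : derivative (f.map (algebraMap A L)) ≠ 0 := by
    rw [derivative_map]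
    intro h
    have h' : derivative f = 0 :=
      (Polynomial.map_eq_zero_iff (IsFractionRing.injective A L)).mp h
    rw [h'] at h1
    simp at h1
  have hsep : (f.map (algebraMap A L)).Separable :=
    (separable_iff_derivative_ne_zero hirr).mpr hder
  have hsplit : (f.map (algebraMap A Ω)).Splits := by
    rw [hfΩ]
    exact IsSepClosed.splits_of_separable _ hsep.map
  have hmΩ : (f.map (algebraMap A Ω)).Monic := hf.map _
  have hint : ∀ α ∈ (f.map (algebraMap A Ω)).roots, IsIntegral A α := by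
    intro α hα
    refine ⟨f, hf, ?_⟩
    rw [← eval_map]
    exact (mem_roots hmΩ.ne_zero).mp hα
  have hint' : ∀ x ∈ (f.map (algebraMap A Ω)).roots.map (algebraMap A Ω a0 - ·),
      IsIntegral A x := by
    intro x hx
    obtain ⟨α, hα, rfl⟩ := Multiset.mem_map.mp hx
    exact isIntegral_algebraMap.sub (hint α hα)
  have he : (f.map (algebraMap A Ω)).eval (algebraMap A Ω a0) = algebraMap A Ω (f.eval a0) := by
    rw [eval_map, eval₂_at_apply]
  have hprod : ((f.map (algebraMap A Ω)).roots.map (algebraMap A Ω a0 - ·)).prod ∈ M := by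
    rw [← hsplit.eval_eq_prod_roots_of_monic hmΩ, he]
    exact hM.max_mem _ h0
  obtain ⟨x, hx, hxM⟩ := hM.exists_mem_of_prod_mem _ hint' hprod
  obtain ⟨α, hα, rfl⟩ := Multiset.mem_map.mp hx
  have hroot : ∀ β ∈ (f.map (algebraMap A Ω)).roots,
      minpoly L β = f.map (algebraMap A L) := by
    intro β hβ
    refine (minpoly.eq_of_irreducible_of_monic hirr ?_ (hf.map _)).symm
    rw [aeval_def, ← eval_map, ← hfΩ]
    exact (mem_roots hmΩ.ne_zero).mp hβ
  have hall : ∀ β ∈ (f.map (algebraMap A Ω)).roots, algebraMap A Ω a0 - β ∈ M := by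
    intro β hβ
    obtain ⟨σ, hσ⟩ := (Normal.minpoly_eq_iff_mem_orbit (F := L) (E := Ω)).mp
      ((hroot β hβ).trans (hroot α hα).symm)
    have hσ' : σ α = β := hσ
    have : σ (algebraMap A Ω a0 - α) = algebraMap A Ω a0 - β := by
      rw [map_sub, hσ', IsScalarTower.algebraMap_apply A L Ω, σ.commutes]
    rw [← this]
    exact hM.stable σ _ hxM
  by_contra hne
  have hcard : (f.map (algebraMap A Ω)).roots.card = f.natDegree := by
    rw [← hsplit.natDegree_eq_card_roots, hf.natDegree_map]
  have hpos : 0 < (f.map (algebraMap A Ω)).roots.card :=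
    Multiset.card_pos_iff_exists_mem.mpr ⟨α, hα⟩
  have hd : algebraMap A Ω (f.derivative.eval a0) ∈ M := by
    have h2 : algebraMap A Ω (f.derivative.eval a0) =
        (f.map (algebraMap A Ω)).derivative.eval (algebraMap A Ω a0) := by
      rw [derivative_map, eval_map, eval₂_at_apply]
    rw [h2, hsplit.eval_derivative, hmΩ.leadingCoeff, one_mul]
    refine hM.sum_mem _ fun y hy => ?_
    obtain ⟨a, ha, rfl⟩ := Multiset.mem_map.mp hy
    obtain ⟨b, hb⟩ : ∃ b, b ∈ (f.map (algebraMap A Ω)).roots.erase a :=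
      Multiset.card_pos_iff_exists_mem.mp (by rw [Multiset.card_erase_of_mem ha, Nat.pred_eq_sub_one]; omega)
    refine hM.prod_mem_of_exists _ ?_ ?_
    · intro x hx
      obtain ⟨c, hc, rfl⟩ := Multiset.mem_map.mp hx
      exact isIntegral_algebraMap.sub (hint c (Multiset.mem_of_mem_erase hc))
    · exact ⟨_, Multiset.mem_map.mpr ⟨b, hb, rfl⟩, hall b (Multiset.mem_of_mem_erase hb)⟩
  obtain ⟨u, hu⟩ := h1.exists_left_inv
  have h3 : (1 : Ω) ∈ M := by
    rw [← map_one (algebraMap A Ω), ← hu, map_mul]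
    exact hM.mul_mem _ _ isIntegral_algebraMap hd
  exact hM.one_notMem h3

theorem exists_root (hM : StablePrime A L M) : ∀ (n : ℕ) (f : A[X]), f.natDegree = n → f.Monic →
    ∀ a0 : A, f.eval a0 ∈ maximalIdeal A → IsUnit (f.derivative.eval a0) →
      ∃ a, f.IsRoot a ∧ a - a0 ∈ maximalIdeal A := by
  intro n
  induction n using Nat.strong_induction_on with
  | _ n ih =>
    intro f hn hf a0 h0 h1
    by_cases hirr : Irreducible f
    · have hirrL := (hf.irreducible_iff_irreducible_map_fraction_map (K := L)).mp hirr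
      have hd := natDegree_eq_one hM hf hirrL a0 h0 h1
      have hfe := hf.eq_X_add_C hd
      generalize f.coeff 0 = c at hfe
      subst hfe
      refine ⟨-c, by simp, ?_⟩
      have h4 : -c - a0 = -(eval a0 (X + C c)) := by simp; ring
      rw [h4]
      exact neg_mem h0
    · by_cases hf1 : f = 1
      · subst hf1
        simp only [eval_one] at h0
        exact absurd h0 (Ideal.ne_top_iff_one _ |>.mp (maximalIdeal.isMaximal A).ne_top)
      rw [hf.irreducible_iff_natDegree] at hirr
      push Not at hirr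
      obtain ⟨g, h, hg, hh, hgh, hg0, hh0⟩ := hirr hf1
      have key : ∀ (g h : A[X]), g.Monic → h.Monic → g * h = f → h.natDegree ≠ 0 →
          g.eval a0 ∈ maximalIdeal A → ∃ a, f.IsRoot a ∧ a - a0 ∈ maximalIdeal A := by
        intro g h hg hh hgh hh0 hg0m
        have hdeg : g.natDegree < n := by
          rw [← hn, ← hgh, hg.natDegree_mul hh]
          omega
        have hder : IsUnit (g.derivative.eval a0) := by
          have h5 : f.derivative.eval a0 =
              g.derivative.eval a0 * h.eval a0 + g.eval a0 * h.derivative.eval a0 := by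
            rw [← hgh, derivative_mul]
            simp
          rw [h5] at h1
          have h2 : IsUnit (g.derivative.eval a0 * h.eval a0) := by
            by_contra hnu
            have hx : g.derivative.eval a0 * h.eval a0 ∈ maximalIdeal A :=
              (mem_maximalIdeal _).mpr hnu
            have hy : g.eval a0 * h.derivative.eval a0 ∈ maximalIdeal A :=
              Ideal.mul_mem_right _ _ hg0m
            exact (mem_maximalIdeal _).mp (add_mem hx hy) h1
          exact isUnit_of_mul_isUnit_left h2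
        obtain ⟨a, ha, ham⟩ := ih _ hdeg g rfl hg a0 hg0m hder
        refine ⟨a, ?_, ham⟩
        rw [← hgh, IsRoot, eval_mul, ha, zero_mul]
      have hmul : g.eval a0 * h.eval a0 ∈ maximalIdeal A := by
        rw [← eval_mul, hgh]
        exact h0
      rcases (maximalIdeal.isMaximal A).isPrime.mem_or_mem hmul with h' | h'
      · exact key g h hg hh hgh hh0 h'
      · exact key h g hh hg (by rw [mul_comm]; exact hgh) hg0 h'

theorem henselianLocalRing_of_stablePrime (hM : StablePrime A L M) : HenselianLocalRing A :=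
  ⟨fun f hf a0 h0 h1 => exists_root hM _ f rfl hf a0 h0 h1⟩

end Abstract

section Localization

set_option linter.style.haveILetI false

variable {R₀ C L Ω : Type*} [CommRing R₀] [CommRing C] [IsDomain C] [IsIntegrallyClosed C]
  [Field L] [Algebra C L] [IsFractionRing C L] [Field Ω] [Algebra L Ω] [Algebra C Ω]
  [IsScalarTower C L Ω] [Normal L Ω] [IsSepClosed Ω] [Algebra R₀ Ω]

theorem henselianLocalRing_localization (Q : Ideal C) [Q.IsPrime] (B : Subalgebra R₀ Ω)
    (hB : ∀ x : Ω, x ∈ B ↔ IsIntegral C x) (P : Ideal B) [P.IsPrime]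
    (hPQ : ∀ c : C, c ∈ Q ↔ ∃ p ∈ P, (p : Ω) = algebraMap C Ω c)
    (hσ : ∀ (σ : Ω ≃ₐ[L] Ω) (x : B), x ∈ P → ∃ y ∈ P, (y : Ω) = σ x) :
    HenselianLocalRing (Localization.AtPrime Q) := by
  have hunits : ∀ y : Q.primeCompl, IsUnit (algebraMap C L y) := by
    intro y
    refine IsUnit.mk0 _ fun h => ?_
    have h0 : (y : C) = 0 := (IsFractionRing.injective C L) (by rw [h, map_zero])
    exact y.2 (by rw [h0]; exact Q.zero_mem)
  letI : Algebra (Localization.AtPrime Q) L :=
    (IsLocalization.lift (M := Q.primeCompl) (g := algebraMap C L) hunits).toAlgebra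
  haveI : IsScalarTower C (Localization.AtPrime Q) L :=
    IsScalarTower.of_algebraMap_eq fun c => (IsLocalization.lift_eq hunits c).symm
  haveI : IsFractionRing (Localization.AtPrime Q) L :=
    IsFractionRing.isFractionRing_of_isDomain_of_isLocalization Q.primeCompl _ L
  haveI : IsDomain (Localization.AtPrime Q) :=
    IsLocalization.isDomain_localization Q.primeCompl_le_nonZeroDivisors
  haveI : IsIntegrallyClosed (Localization.AtPrime Q) :=
    isIntegrallyClosed_of_isLocalization _ Q.primeCompl Q.primeCompl_le_nonZeroDivisors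
  letI : Algebra (Localization.AtPrime Q) Ω :=
    ((algebraMap L Ω).comp (algebraMap (Localization.AtPrime Q) L)).toAlgebra
  haveI : IsScalarTower (Localization.AtPrime Q) L Ω := IsScalarTower.of_algebraMap_eq' rfl
  haveI : IsScalarTower C (Localization.AtPrime Q) Ω := by
    refine IsScalarTower.of_algebraMap_eq fun c => ?_
    show _ = algebraMap L Ω (algebraMap (Localization.AtPrime Q) L (algebraMap C _ c))
    rw [← IsScalarTower.algebraMap_apply C (Localization.AtPrime Q) L,
      ← IsScalarTower.algebraMap_apply C L Ω]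
  -- images of elements of `C` in `B`
  have hCB : ∀ c : C, algebraMap C Ω c ∈ B := fun c => (hB _).mpr isIntegral_algebraMap
  have hCP : ∀ c : C, c ∉ Q → (⟨algebraMap C Ω c, hCB c⟩ : B) ∉ P := by
    intro c hc hP
    exact hc ((hPQ c).mpr ⟨_, hP, rfl⟩)
  have h1P : (1 : B) ∉ P := (Ideal.ne_top_iff_one P).mp (Ideal.IsPrime.ne_top inferInstance)
  -- integral elements have a multiple in `B`
  have hInt : ∀ x : Ω, IsIntegral (Localization.AtPrime Q) x →
      ∃ t : B, t ∉ P ∧ ∃ r : B, (t : Ω) * x = r := by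
    intro x hx
    obtain ⟨⟨t, ht⟩, hint⟩ := IsIntegral.exists_multiple_integral_of_isLocalization
      Q.primeCompl x hx
    have hint' : IsIntegral C (algebraMap C Ω t * x) := by
      have : (⟨t, ht⟩ : Q.primeCompl) • x = algebraMap C Ω t * x := by
        rw [Submonoid.smul_def, Algebra.smul_def]
      rwa [this] at hint
    exact ⟨⟨_, hCB t⟩, hCP t ht, ⟨_, (hB _).mpr hint'⟩, rfl⟩
  refine henselianLocalRing_of_stablePrime (L := L)
    (M := {x : Ω | ∃ s : B, s ∉ P ∧ ∃ p ∈ P, (s : Ω) * x = (p : Ω)}) ?_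
  refine ⟨?_, ?_, ?_, ?_, ?_, ?_, ?_⟩
  · exact ⟨1, h1P, 0, P.zero_mem, by simp⟩
  · rintro x y ⟨s, hs, p, hp, hsx⟩ ⟨s', hs', p', hp', hsy⟩
    refine ⟨s * s', fun h => (Ideal.IsPrime.mem_or_mem inferInstance h).elim hs hs',
      s' * p + s * p', P.add_mem (P.mul_mem_left _ hp) (P.mul_mem_left _ hp'), ?_⟩
    push_cast
    rw [← hsx, ← hsy]
    ring
  · rintro x y hx ⟨s, hs, p, hp, hsy⟩
    obtain ⟨t, ht, r, htx⟩ := hInt x hx
    refine ⟨t * s, fun h => (Ideal.IsPrime.mem_or_mem inferInstance h).elim ht hs,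
      r * p, P.mul_mem_left _ hp, ?_⟩
    push_cast
    rw [← hsy, ← htx]
    ring
  · rintro ⟨s, hs, p, hp, hsx⟩
    rw [mul_one] at hsx
    exact hs ((Subtype.ext hsx : s = p) ▸ hp)
  · rintro x y hx hy ⟨s, hs, p, hp, hsxy⟩
    obtain ⟨t, ht, r, htx⟩ := hInt x hx
    obtain ⟨t', ht', r', hty⟩ := hInt y hy
    have hmem : s * (r * r') ∈ P := by
      have : s * (r * r') = t * t' * p := by
        apply Subtype.ext
        push_cast
        rw [← htx, ← hty, ← hsxy]
        ring
      rw [this]
      exact P.mul_mem_left _ hp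
    rcases (Ideal.IsPrime.mem_or_mem inferInstance hmem) with h | h
    · exact absurd h hs
    · rcases (Ideal.IsPrime.mem_or_mem inferInstance h) with h | h
      · exact Or.inl ⟨t, ht, r, h, htx⟩
      · exact Or.inr ⟨t', ht', r', h, hty⟩
  · intro a ha
    obtain ⟨c, t, rfl⟩ := IsLocalization.exists_mk'_eq Q.primeCompl a
    have hcQ : c ∈ Q := (IsLocalization.AtPrime.mk'_mem_maximal_iff _ Q c t).mp ha
    obtain ⟨p, hp, hpc⟩ := (hPQ c).mp hcQ
    refine ⟨⟨_, hCB t⟩, hCP t t.2, p, hp, ?_⟩
    rw [hpc]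
    show algebraMap C Ω t * algebraMap (Localization.AtPrime Q) Ω _ = _
    rw [IsScalarTower.algebraMap_apply C (Localization.AtPrime Q) Ω,
      IsScalarTower.algebraMap_apply C (Localization.AtPrime Q) Ω c, ← map_mul, mul_comm,
      IsLocalization.mk'_spec]
  · rintro σ x ⟨s, hs, p, hp, hsx⟩
    obtain ⟨y, hy, hyp⟩ := hσ σ p hp
    have hσs : σ (s : Ω) ∈ B := by
      rw [hB]
      have hs' : IsIntegral C (s : Ω) := (hB _).mp s.2
      exact hs'.map (σ.toAlgHom.restrictScalars C)
    refine ⟨⟨_, hσs⟩, fun h => ?_, y, hy, ?_⟩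
    · obtain ⟨z, hz, hzs⟩ := hσ σ.symm _ h
      have : z = s := by
        apply Subtype.ext
        rw [hzs]
        exact σ.symm_apply_apply _
      exact hs (this ▸ hz)
    · show σ (s : Ω) * σ x = _
      rw [← map_mul, hsx, hyp]

end Localization

section Galois

open scoped Pointwise

variable {K Ks : Type*} [Field K] [Field Ks] [Algebra K Ks]

/-- stabilizer of a subset of the big field -/
def stab (T : Set Ks) : Subgroup (Ks ≃ₐ[K] Ks) where
  carrier := {σ | ∀ z, z ∈ T ↔ σ z ∈ T}
  one_mem' := fun _ => Iff.rfl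
  mul_mem' := fun {σ τ} hσ hτ z => (hτ z).trans (hσ (τ z))
  inv_mem' := fun {σ} hσ z => by
    have h := hσ (σ⁻¹ z)
    have h2 : σ (σ⁻¹ z) = z := σ.apply_symm_apply z
    rw [h2] at h
    exact h.symm

theorem mem_stab_iff (T : Set Ks) (σ : Ks ≃ₐ[K] Ks) :
    σ ∈ stab (K := K) T ↔ ∀ z, z ∈ T ↔ σ z ∈ T := Iff.rfl

theorem isClosed_stab [Algebra.IsIntegral K Ks] (T : Set Ks) :
    IsClosed ((stab T : Subgroup (Ks ≃ₐ[K] Ks)) : Set (Ks ≃ₐ[K] Ks)) := by
  rw [← isOpen_compl_iff, isOpen_iff_forall_mem_open]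
  intro σ hσ
  have hσ' : ¬ ∀ z, z ∈ T ↔ σ z ∈ T := hσ
  push Not at hσ'
  obtain ⟨z, hz⟩ := hσ'
  refine ⟨σ • (MulAction.stabilizer (Ks ≃ₐ[K] Ks) z : Set (Ks ≃ₐ[K] Ks)), ?_,
    (stabilizer_isOpen_of_isIntegral z).leftCoset σ, ?_⟩
  · rintro τ ⟨ρ, hρ, rfl⟩ hmem
    have hρ' : ρ z = z := hρ
    have h3 : (σ • ρ) z = σ z := by
      show σ (ρ z) = _
      rw [hρ']
    have h4 := hmem z
    rw [h3] at h4
    tauto
  · exact ⟨1, one_mem _, by simp⟩

theorem mem_stab_of_fixes [IsGalois K Ks] (T : Set Ks) (H : Subgroup (Ks ≃ₐ[K] Ks))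
    (hH : H ≤ stab T) (τ : Ks ≃ₐ[K] Ks)
    (hτ : ∀ y ∈ IntermediateField.fixedField H, τ y = y) : τ ∈ stab (K := K) T := by
  have h1 : τ ∈ (IntermediateField.fixedField H).fixingSubgroup :=
    (IntermediateField.mem_fixingSubgroup_iff _ τ).mpr hτ
  have h2 := IntermediateField.fixingSubgroup_antitone (IntermediateField.fixedField_antitone hH) h1
  have h3 := InfiniteGalois.fixingSubgroup_fixedField (k := K) (K := Ks)
    (⟨stab T, isClosed_stab T⟩ : ClosedSubgroup (Ks ≃ₐ[K] Ks))
  rw [h3] at h2
  exact h2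

end Galois

section Main

set_option linter.style.haveILetI false
set_option linter.unusedSectionVars false

variable {R K Ks : Type*} [CommRing R] [IsDomain R] [Field K] [Algebra R K] [IsFractionRing R K]
  [Field Ks] [Algebra K Ks] [IsSepClosure K Ks] [Algebra R Ks] [IsScalarTower R K Ks]

/-- an automorphism carrying a maximal ideal of the integral closure into itself stabilizes it -/
theorem mem_stab_of_maps (Ps : Ideal (integralClosure R Ks)) [Ps.IsMaximal] (ρ : Ks ≃ₐ[K] Ks)
    (hρ : ∀ x : integralClosure R Ks, x ∈ Ps → ∃ y ∈ Ps, (y : Ks) = ρ x) :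
    ρ ∈ stab (K := K) {z : Ks | ∃ x ∈ Ps, (x : Ks) = z} := by
  set e := (ρ.restrictScalars R).mapIntegralClosure with he
  have hcoe : ∀ x : integralClosure R Ks, ((e x : integralClosure R Ks) : Ks) = ρ x := fun _ => rfl
  have hle : Ps ≤ Ps.comap (e : integralClosure R Ks →+* integralClosure R Ks) := by
    intro x hx
    obtain ⟨y, hy, hyx⟩ := hρ x hx
    rw [Ideal.mem_comap]
    have : (e : integralClosure R Ks →+* integralClosure R Ks) x = y :=
      Subtype.ext ((hcoe x).trans hyx.symm)
    rw [this]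
    exact hy
  have hne : Ps.comap (e : integralClosure R Ks →+* integralClosure R Ks) ≠ ⊤ :=
    Ideal.comap_ne_top _ (Ideal.IsMaximal.ne_top inferInstance)
  have heq : Ps = Ps.comap (e : integralClosure R Ks →+* integralClosure R Ks) :=
    Ideal.IsMaximal.eq_of_le inferInstance hne hle
  rw [mem_stab_iff]
  intro z
  constructor
  · rintro ⟨x, hx, rfl⟩
    obtain ⟨y, hy, hyx⟩ := hρ x hx
    exact ⟨y, hy, hyx⟩
  · rintro ⟨w, hw, hwz⟩
    refine ⟨e.symm w, ?_, ?_⟩
    · rw [heq, Ideal.mem_comap]
      show e (e.symm w) ∈ Ps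
      rw [e.apply_symm_apply]
      exact hw
    · have h1 : ρ ((e.symm w : integralClosure R Ks) : Ks) = ρ z := by
        rw [← hwz, ← hcoe, e.apply_symm_apply]
      exact ρ.injective h1

theorem henselianLocalRing_fixedField (Ps : Ideal (integralClosure R Ks)) [Ps.IsMaximal]
    (L : IntermediateField K Ks) (S : Set (Ks ≃ₐ[K] Ks))
    (hS : ∀ σ ∈ S, ∀ x : integralClosure R Ks, x ∈ Ps → ∃ y ∈ Ps, (y : Ks) = σ x)
    (hL : L = IntermediateField.fixedField (Subgroup.closure S))
    (Q : Ideal (integralClosure R L)) [Q.IsPrime]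
    (hQ : ∀ y : integralClosure R L, y ∈ Q ↔
      ∃ x : integralClosure R Ks, x ∈ Ps ∧ (x : Ks) = ((y : L) : Ks)) :
    HenselianLocalRing (Localization.AtPrime Q) := by
  haveI : IsGalois K Ks := inferInstance
  haveI : IsSepClosed Ks := IsSepClosure.sep_closed K
  haveI : IsScalarTower R K L :=
    IsScalarTower.of_algebraMap_eq fun r => Subtype.ext (IsScalarTower.algebraMap_apply R K Ks r)
  haveI : Algebra.IsAlgebraic K L := Algebra.IsAlgebraic.tower_bot_of_injective
    (algebraMap L Ks).injective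
  haveI : Algebra.IsAlgebraic R L := (IsFractionRing.comap_isAlgebraic_iff (K := K)).mpr
    inferInstance
  have inj : ∀ x : R, algebraMap R L x = 0 → x = 0 := by
    intro x hx
    rw [IsScalarTower.algebraMap_apply R K L, map_eq_zero] at hx
    exact (IsFractionRing.to_map_eq_zero_iff (K := K)).mp hx
  haveI : IsFractionRing (integralClosure R L) L :=
    integralClosure.isFractionRing_of_algebraic (A := R) inj
  haveI : IsIntegrallyClosed (integralClosure R L) :=
    (IsIntegrallyClosed.integralClosure_eq_bot_iff L).mp integralClosure_idem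
  haveI : IsScalarTower R (integralClosure R L) Ks := IsScalarTower.of_algebraMap_eq fun r => rfl
  refine henselianLocalRing_localization (R₀ := R) (C := integralClosure R L) (L := L) (Ω := Ks)
    Q (integralClosure R Ks) ?_ Ps ?_ ?_
  · intro x
    constructor
    · intro hx
      exact IsIntegral.tower_top (R := R) hx
    · intro hx
      exact isIntegral_trans (R := R) x hx
  · intro c
    rw [hQ c]
    constructor
    · rintro ⟨x, hx, hxc⟩
      exact ⟨x, hx, hxc⟩
    · rintro ⟨x, hx, hxc⟩
      exact ⟨x, hx, hxc⟩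
  · intro σ x hx
    have hle : Subgroup.closure S ≤ stab (K := K) {z : Ks | ∃ x ∈ Ps, (x : Ks) = z} := by
      rw [Subgroup.closure_le]
      intro ρ hρ
      exact mem_stab_of_maps Ps ρ (hS ρ hρ)
    have hτ := mem_stab_of_fixes _ _ hle (σ.restrictScalars K) (by
      intro y hy
      rw [← hL] at hy
      exact σ.commutes ⟨y, hy⟩)
    rw [mem_stab_iff] at hτ
    obtain ⟨y, hy, hyx⟩ := (hτ (x : Ks)).mp ⟨x, hx, rfl⟩
    exact ⟨y, hy, hyx⟩

end Main

end Groth.Agent.Lib.Helper87.DecompHens
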