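import Groth.Agent.Lib.Helper57.Wt10

set_option autoImplicit false
set_option linter.unusedSectionVars false
set_option linter.style.haveILetI false
universe u

open CategoryTheory CategoryTheory.Limits AlgebraicGeometry TopologicalSpace
open Groth.Agent.Lib.Helper57 Groth.Agent.Lib.Helper57.Wt

namespace Groth.Agent.Lib.Helper87.DisjComp

theorem finsum_lt_finsum_of_finite {K : Type*} [Finite K] {a b : K → ℤ} (h : ∀ k, a k ≤ b k)
    (k₀ : K) (h₀ : a k₀ < b k₀) : ∑ᶠ k, a k < ∑ᶠ k, b k := by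
  have := Fintype.ofFinite K
  rw [finsum_eq_sum_of_fintype, finsum_eq_sum_of_fintype]
  exact Finset.sum_lt_sum (fun k _ => h k) ⟨k₀, Finset.mem_univ _, h₀⟩

/-- Strengthened counting lemma: when the count is constant, the pieces cover and each piece has at
most one point in each nearby fibre. -/
theorem exists_count_pieces_unique {X Y : Scheme.{u}} (f : X ⟶ Y) [LocallyQuasiFinite f]
    [LocallyOfFiniteType f] [IsSeparated f] (hfin : ∀ y : Y, (f ⁻¹' {y}).Finite) (y : Y)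
    (hopen : ∀ (V : Scheme.{u}) (a : V ⟶ Y) [Etale a] (u : ↑(pullback f a)),
      f (pullback.fst f a u) = y → ∀ S ∈ nhds u,
        pullback.snd f a '' S ∈ nhds (pullback.snd f a u)) :
    ∃ (V₀ : Scheme.{u}) (a : V₀ ⟶ Y) (v₀ : V₀), Etale a ∧ a v₀ = y ∧
      ∃ (K : Type) (_ : Finite K) (U : K → (pullback f a).Opens),
        ∃ N : V₀.Opens, v₀ ∈ N ∧ ∀ v ∈ N,
          (MoreMor.fibreIntegral f (fun _ => 1) (a v) = MoreMor.fibreIntegral f (fun _ => 1) y →
            (∀ p : ↑(pullback f a), pullback.snd f a p = v → ∃ k, p ∈ U k) ∧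
            (∀ (k : K) (p p' : ↑(pullback f a)), p ∈ U k → p' ∈ U k →
              pullback.snd f a p = v → pullback.snd f a p' = v → p = p')) := by
  have : Finite ↥(f ⁻¹' {y}) := (hfin y).to_subtype
  obtain ⟨n, ⟨e⟩⟩ := Finite.exists_equiv_fin ↥(f ⁻¹' {y})
  let x : Fin n → ↑X := fun i => (e.symm i).1
  have hxinj : Function.Injective x := fun i i' h => e.symm.injective (Subtype.ext h)
  have hxs : ∀ i, f (x i) = y := fun i => (e.symm i).2
  obtain ⟨V₀, a, v₀, ha, hav, J, hJ, Vp, vp, hclopen, hdisj, hVp, hcov⟩ :=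
    EtRes.exists_etale_nbhd_purelyInseparable f y x hxinj hxs (fun i => f.quasiFiniteAt _)
  refine ⟨V₀, a, v₀, ha, hav, Σ i, J i, inferInstance, fun k => Vp k.1 k.2, ?_⟩
  let q := pullback.snd f a
  let g : ↑(pullback f a) → ℤ := fun p => (fun _ => (1 : ℤ)) p * deg q p
  let t : (Σ i, J i) → ↑V₀ → Set ↑(pullback f a) := fun k v => {p | p ∈ Vp k.1 k.2 ∧ q p = v}
  have hT : ∀ v, {p : ↑(pullback f a) | q p = v}.Finite := finite_fibre_snd f hfin a
  have hF : ∀ v, MoreMor.fibreIntegral f (fun _ => 1) (a v) = ∑ᶠ p ∈ {p | q p = v}, g p := by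
    intro v
    rw [← fibreIntegral_baseChange_lqf f q (pullback.fst f a) a (IsPullback.of_hasPullback f a)
      (fun _ => 1) v, fibreIntegral_eq_finsum_mem]
    rfl
  have hgpos : ∀ p, 0 < g p := fun p => by
    show 0 < (1 : ℤ) * deg q p
    rw [one_mul]
    exact deg_pos _ _ (finite_residueFieldMap _ _)
  have hdisj' : ∀ v, Pairwise (Function.onFun Disjoint fun k => t k v) := by
    rintro v ⟨i, j⟩ ⟨i', j'⟩ hne
    rw [Function.onFun, Set.disjoint_left]
    rintro p ⟨h1, -⟩ ⟨h2, -⟩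
    apply hne
    obtain ⟨rfl, h3⟩ := hdisj i j i' j' ⟨p, h1, h2⟩
    rw [eq_of_heq h3]
  have htfin : ∀ k v, (t k v).Finite := fun k v => (hT v).subset fun p hp => hp.2
  have hsub : ∀ v, (⋃ k, t k v) ⊆ {p | q p = v} := by
    intro v p hp
    obtain ⟨k, hk⟩ := Set.mem_iUnion.mp hp
    exact hk.2
  have hv₀ : ∀ k : Σ i, J i, t k v₀ = {vp k.1 k.2} := by
    intro k
    obtain ⟨h1, h2, h3, h4, h5, h6⟩ := hVp k.1 k.2
    ext p
    constructor
    · rintro ⟨e1, e2⟩
      exact h4 p e1 e2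
    · rintro rfl
      exact ⟨h1, h3⟩
  have hgpt : ∀ k : Σ i, J i, g (vp k.1 k.2) = 1 := by
    intro k
    obtain ⟨h1, h2, h3, h4, h5, h6⟩ := hVp k.1 k.2
    show (1 : ℤ) * deg q (vp k.1 k.2) = 1
    rw [one_mul]
    exact deg_eq_one _ _ h5
  have hcov₀ : {p | q p = v₀} = ⋃ k, t k v₀ := by
    refine Set.Subset.antisymm ?_ (hsub v₀)
    intro p hp
    have h1 : f (pullback.fst f a p) = y := by
      rw [← hav, ← (show q p = v₀ from hp)]
      exact congr($(pullback.condition (f := f) (g := a)) p)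
    obtain ⟨i, hi⟩ : ∃ i, pullback.fst f a p = x i := by
      refine ⟨e ⟨_, h1⟩, ?_⟩
      simp [x]
    obtain ⟨j, hj⟩ := hcov p i hp hi
    exact Set.mem_iUnion.mpr ⟨⟨i, j⟩, hj, hp⟩
  have h0 : MoreMor.fibreIntegral f (fun _ => 1) y = ∑ᶠ _k : Σ i, J i, (1 : ℤ) := by
    rw [← hav, hF, hcov₀, finsum_mem_iUnion (hdisj' v₀) (fun k => htfin k v₀)]
    refine finsum_congr fun k => ?_
    rw [hv₀, finsum_mem_singleton, hgpt]
  -- the neighbourhood
  have hnhds : ∀ k : Σ i, J i, q '' (Vp k.1 k.2 : Set ↑(pullback f a)) ∈ nhds v₀ := by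
    intro k
    obtain ⟨h1, h2, h3, h4, h5, h6⟩ := hVp k.1 k.2
    have := hopen V₀ a (vp k.1 k.2) (by rw [h6]; exact hxs _) _ ((Vp k.1 k.2).2.mem_nhds h1)
    rw [h3] at this
    exact this
  let N : Set ↑V₀ := ⋂ k : Σ i, J i, interior (q '' (Vp k.1 k.2 : Set ↑(pullback f a)))
  have hN : IsOpen N := isOpen_iInter_of_finite fun k => isOpen_interior
  have hv₀N : v₀ ∈ N := Set.mem_iInter.mpr fun k => mem_interior_iff_mem_nhds.mpr (hnhds k)
  refine ⟨⟨N, hN⟩, hv₀N, ?_⟩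
  intro v hv
  have hk1 : ∀ k : Σ i, J i, (1 : ℤ) ≤ ∑ᶠ p ∈ t k v, g p := by
    intro k
    obtain ⟨p, hp, hpv⟩ := interior_subset (Set.mem_iInter.mp hv k)
    have h1 : g p ≤ ∑ᶠ p ∈ t k v, g p :=
      single_le_finsum_mem' (htfin k v) (fun p' _ => (hgpos p').le) ⟨hp, hpv⟩
    have := hgpos p
    omega
  have hle : ∑ᶠ p ∈ ⋃ k, t k v, g p ≤ ∑ᶠ p ∈ {p | q p = v}, g p :=
    finsum_mem_le_of_subset (hsub v) (hT v) fun p _ => (hgpos p).le
  intro heq
  constructor
  · intro p hp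
    by_contra hnot
    have h2 : MoreMor.fibreIntegral f (fun _ => 1) y ≤ ∑ᶠ p ∈ ⋃ k, t k v, g p := by
      rw [h0, finsum_mem_iUnion (hdisj' v) (fun k => htfin k v)]
      exact finsum_le_finsum_of_finite hk1
    have h3 : ∑ᶠ p ∈ ⋃ k, t k v, g p < ∑ᶠ p ∈ {p | q p = v}, g p :=
      finsum_mem_lt_of_subset (hsub v) (hT v) (fun p _ => hgpos p) (p₀ := p) hp (by
        intro hmem
        obtain ⟨k, hk⟩ := Set.mem_iUnion.mp hmem
        exact hnot ⟨k, hk.1⟩)
    rw [← hF v, heq] at h3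
    omega
  · intro k₀ p p' hp hp' hpv hp'v
    by_contra hne
    have h4 : (1 : ℤ) < ∑ᶠ p ∈ t k₀ v, g p := by
      have hsub2 : ({p, p'} : Set ↑(pullback f a)) ⊆ t k₀ v := by
        intro z hz
        rcases hz with rfl | rfl
        · exact ⟨hp, hpv⟩
        · exact ⟨hp', hp'v⟩
      have h5 : ∑ᶠ z ∈ ({p, p'} : Set ↑(pullback f a)), g z ≤ ∑ᶠ z ∈ t k₀ v, g z :=
        finsum_mem_le_of_subset hsub2 (htfin k₀ v) fun z _ => (hgpos z).le
      rw [finsum_mem_pair hne] at h5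
      have := hgpos p
      have := hgpos p'
      omega
    have h2 : MoreMor.fibreIntegral f (fun _ => 1) y < ∑ᶠ p ∈ ⋃ k, t k v, g p := by
      rw [h0, finsum_mem_iUnion (hdisj' v) (fun k => htfin k v)]
      exact finsum_lt_finsum_of_finite hk1 k₀ h4
    rw [← hF v, heq] at hle
    omega

end Groth.Agent.Lib.Helper87.DisjComp
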