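import Groth.Agent.Lib.Helper87.DisjCompCount
import Groth.Agent.Lib.Helper87.LocIrredScheme
import Groth.Agent.S3404

set_option autoImplicit false
set_option linter.unusedSectionVars false
set_option linter.style.haveILetI false
universe u

open CategoryTheory CategoryTheory.Limits AlgebraicGeometry TopologicalSpace
open Groth.Agent.Lib.Helper57 Groth.Agent.Lib.Helper57.Wt
open Groth.Agent.Lib.Helper87.LocIrred Groth.Agent.Lib.Helper87.GeomUnibranchSmooth

namespace Groth.Agent.Lib.Helper87.DisjComp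

/-- Points of a scheme etale over a locally Noetherian scheme, lying over a geometrically
unibranch point, have irreducible neighbourhoods. -/
theorem exists_irreducible_nhd_of_etale_noeth {X Y : Scheme.{u}} (f : X ⟶ Y) [Etale f]
    [IsLocallyNoetherian Y] (x : X) (hY : CAlg2.IsGeomUnibranch (Y.presheaf.stalk (f x))) :
    ∃ W : Set X, IsOpen W ∧ IsIrreducible W ∧ x ∈ W := by
  obtain ⟨_, ⟨V : Y.Opens, hV : IsAffineOpen V, rfl⟩, hxV, -⟩ :=
    Y.isBasis_affineOpens.exists_subset_of_mem_open (Set.mem_univ (f x)) isOpen_univ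
  obtain ⟨_, ⟨U : X.Opens, hU : IsAffineOpen U, rfl⟩, hxU, hUV⟩ :=
    X.isBasis_affineOpens.exists_subset_of_mem_open (show x ∈ f ⁻¹ᵁ V from hxV) (f ⁻¹ᵁ V).2
  have hUV' : U ≤ f ⁻¹ᵁ V := hUV
  haveI : IsNoetherianRing Γ(Y, V) := IsLocallyNoetherian.component_noetherian ⟨V, hV⟩
  have hfinA : (minimalPrimes Γ(Y, V)).Finite := minimalPrimes.finite_of_isNoetherianRing _
  have het := f.etale_appLE hV hU hUV'
  algebraize [(f.appLE V U hUV').hom]
  haveI : Algebra.Etale Γ(Y, V) Γ(X, U) := het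
  have hfinB : (minimalPrimes Γ(X, U)).Finite :=
    finite_minimalPrimes_of_flat_quasiFinite Γ(Y, V) Γ(X, U) hfinA
  have hx : x ∈ f.smoothLocus := by
    rw [Scheme.Hom.smoothLocus_eq_top]
    trivial
  have hpgu : PGU (X.presheaf.stalk x) :=
    (stalk_pgu_iff_of_smoothAt f x hx).mpr ⟨inferInstance, hY⟩
  exact exists_irreducible_nhd hU x hxU hfinB (hasUniqueMinimalPrime_of_pgu _ hpgu)

/-- **EGA IV 15.5.x**: over a locally Noetherian geometrically unibranch base, a separated
quasi-finite universally open morphism with locally constant geometric point count has pairwise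
disjoint irreducible components. -/
theorem disjoint_irreducibleComponents {X Y : Scheme.{u}} [IsLocallyNoetherian Y]
    (hY : ∀ y : Y, CAlg2.IsGeomUnibranch (Y.presheaf.stalk y)) (f : X ⟶ Y)
    [IsSeparated f] [LocallyQuasiFinite f] [LocallyOfFiniteType f] [QuasiCompact f]
    [UniversallyOpen f]
    (hn : IsLocallyConstant (fun z : Y => MoreMor.nGeomConnComp f z)) :
    ∀ Z ∈ irreducibleComponents (X : Type u), ∀ Z' ∈ irreducibleComponents (X : Type u),
      Z ≠ Z' → Disjoint Z Z' := by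
  intro Z hZ Z' hZ' hne
  rw [Set.disjoint_left]
  intro x hxZ hxZ'
  apply hne
  have hfin : ∀ y : Y, (f ⁻¹' {y}).Finite := fun y => Scheme.Hom.finite_preimage_singleton f y
  have hopen : ∀ (V : Scheme.{u}) (a : V ⟶ Y) [Etale a] (u : ↑(pullback f a)),
      f (pullback.fst f a u) = f x → ∀ S ∈ nhds u,
        pullback.snd f a '' S ∈ nhds (pullback.snd f a u) := by
    intro V a _ u _ S hS
    exact (pullback.snd f a).isOpenMap.image_mem_nhds hS
  obtain ⟨V₀, a, v₀, ha, hav, K, hK, U, N, hv₀N, hN⟩ :=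
    exists_count_pieces_unique f hfin (f x) hopen
  have hnn : ∀ z : Y, MoreMor.nGeomConnComp f z =
      ((MoreMor.fibreIntegral f (fun _ => 1) z).toNat : ℕ∞) :=
    fun z => (nGeomConnComp_eq f z hfin).1
  -- the open set on which the count is constant
  let O : Set Y := (fun z : Y => MoreMor.nGeomConnComp f z) ⁻¹' {MoreMor.nGeomConnComp f (f x)}
  have hO : IsOpen O := hn.isOpen_fiber _
  have hOc : ∀ z ∈ O, MoreMor.fibreIntegral f (fun _ => 1) z =
      MoreMor.fibreIntegral f (fun _ => 1) (f x) := by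
    intro z hz
    have h1 : MoreMor.nGeomConnComp f z = MoreMor.nGeomConnComp f (f x) := hz
    rw [hnn, hnn] at h1
    have h2 : (MoreMor.fibreIntegral f (fun _ => 1) z).toNat =
        (MoreMor.fibreIntegral f (fun _ => 1) (f x)).toNat := Nat.cast_injective h1
    have h3 := fibreIntegral_one_nonneg f z
    have h4 := fibreIntegral_one_nonneg f (f x)
    omega
  obtain ⟨W, hWo, hWirr, hv₀W⟩ := exists_irreducible_nhd_of_etale_noeth a v₀ (hY _)
  let M : Set V₀ := (N : Set V₀) ∩ a ⁻¹' O ∩ W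
  have hMo : IsOpen M := (N.2.inter (hO.preimage a.continuous)).inter hWo
  have hv₀M : v₀ ∈ M := ⟨⟨hv₀N, by show a v₀ ∈ O; rw [hav]; rfl⟩, hv₀W⟩
  -- generic point of `W`
  obtain ⟨η, hη⟩ := QuasiSober.sober hWirr.closure isClosed_closure
  have hηM : η ∈ M := (hη.mem_open_set_iff hMo).mpr ⟨v₀, subset_closure hv₀W, hv₀M⟩
  have heqη : MoreMor.fibreIntegral f (fun _ => 1) (a η) =
      MoreMor.fibreIntegral f (fun _ => 1) (f x) := hOc _ hηM.1.2
  have heq₀ : MoreMor.fibreIntegral f (fun _ => 1) (a v₀) =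
      MoreMor.fibreIntegral f (fun _ => 1) (f x) := by rw [hav]
  -- a point over `(x, v₀)`
  obtain ⟨x', hx'1, hx'2⟩ := Scheme.Pullback.exists_preimage_pullback (f := f) (g := a) x v₀ hav.symm
  obtain ⟨k, hk⟩ := (hN v₀ hv₀N heq₀).1 x' hx'2
  -- the key: any generic point of a component through `x` is the image of the unique point of
  -- `U k` over `η`
  have key : ∀ T ∈ irreducibleComponents (X : Type u), x ∈ T →
      ∃ ω : ↑(pullback f a), ω ∈ U k ∧ pullback.snd f a ω = η ∧
        T = closure {pullback.fst f a ω} := by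
    intro T hT hxT
    obtain ⟨ξ, hξ⟩ := QuasiSober.sober hT.1 (isClosed_of_mem_irreducibleComponents T hT)
    have hξx : ξ ⤳ pullback.fst f a x' := by rw [hx'1]; exact hξ.specializes hxT
    obtain ⟨ξ₁, hξ₁, hξ₁f⟩ := Flat.generalizingMap (pullback.fst f a) hξx
    have hν : pullback.snd f a ξ₁ ⤳ v₀ := by
      rw [← hx'2]
      exact hξ₁.map (pullback.snd f a).continuous
    have hνM : pullback.snd f a ξ₁ ∈ M := hν.mem_open hMo hv₀M
    have hην : η ⤳ pullback.snd f a ξ₁ := hη.specializes (subset_closure hνM.2)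
    have hopenAt : EGA43.IsOpenAt (pullback.snd f a).base ξ₁ := fun S hS =>
      (pullback.snd f a).isOpenMap.image_mem_nhds hS
    obtain ⟨ω, hω, hωη⟩ := (Groth.Agent.S3404.result (pullback.snd f a) ξ₁).1 hopenAt η hην
    refine ⟨ω, (hω.trans hξ₁).mem_open (U k).2 hk, hωη, ?_⟩
    have h1 : pullback.fst f a ω ⤳ ξ := by
      rw [← hξ₁f]
      exact hω.map (pullback.fst f a).continuous
    have h2 : T ⊆ closure {pullback.fst f a ω} := by
      rw [← hξ.def]
      exact closure_minimal (Set.singleton_subset_iff.mpr h1.mem_closure) isClosed_closure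
    exact Set.Subset.antisymm h2 (hT.2 isIrreducible_singleton.closure h2)
  obtain ⟨ω, hωU, hωη, hZω⟩ := key Z hZ hxZ
  obtain ⟨ω', hω'U, hω'η, hZ'ω'⟩ := key Z' hZ' hxZ'
  have : ω = ω' := (hN η hηM.1.1 heqη).2 k ω ω' hωU hω'U hωη hω'η
  rw [hZω, hZ'ω', this]

end Groth.Agent.Lib.Helper87.DisjComp
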