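import Groth.Agent.Lib.Helper87.DvrLiftRing
import Groth.Agent.Lib.Helper41.UnivOpenDvr
import Mathlib

set_option autoImplicit false
set_option linter.style.haveILetI false
universe u
open CategoryTheory AlgebraicGeometry IsLocalRing Limits

namespace Groth.Agent.Lib.Helper87.DvrLiftConverse

/-- The lifting property of the statement (for complete discrete valuation rings with
algebraically closed residue field). -/
def LiftProp {X Y : Scheme.{u}} (f : X ⟶ Y) (x : X) : Prop :=
  ∀ (A : Type u) [CommRing A] [IsDomain A] [IsDiscreteValuationRing A]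
    [IsAdicComplete (IsLocalRing.maximalIdeal A) A] [IsAlgClosed (IsLocalRing.ResidueField A)]
    (g : Spec (CommRingCat.of A) ⟶ Y), g.base (IsLocalRing.closedPoint A) = f.base x →
    ∀ u₀ : Spec (CommRingCat.of (IsLocalRing.ResidueField A)) ⟶ X,
      u₀ ≫ f = Spec.map (CommRingCat.ofHom (IsLocalRing.residue A)) ≫ g → x ∈ Set.range u₀.base →
      ∃ (B : CommRingCat.{u}) (_ : IsDomain B) (_ : IsDiscreteValuationRing B) (φ : A →+* B)
        (_ : IsLocalHom φ) (v : Spec B ⟶ X),
        φ.Finite ∧ v ≫ f = Spec.map (CommRingCat.ofHom φ) ≫ g ∧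
        Spec.map (CommRingCat.ofHom (IsLocalRing.ResidueField.map φ)) ≫ u₀ =
          Spec.map (CommRingCat.ofHom (IsLocalRing.residue B)) ≫ v

theorem dvrCrit_of_liftProp {X Y : Scheme.{u}} (f : X ⟶ Y) (x : X) (H : LiftProp f x) :
    Groth.Agent.Lib.Helper41.UnivOpenDvr.DvrCrit f x := by
  intro R _ _ _ g hg x'' hx1 hx2
  let κ : Type u := (pullback f g).residueField x''
  let j : Spec (CommRingCat.of κ) ⟶ pullback f g := (pullback f g).fromSpecResidueField x''
  let ψc : CommRingCat.of R ⟶ CommRingCat.of κ := Spec.preimage (j ≫ pullback.snd f g)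
  have hψc : Spec.map ψc = j ≫ pullback.snd f g := Spec.map_preimage _
  let ψ : R →+* κ := ψc.hom
  have hker : RingHom.ker ψ = maximalIdeal R := by
    let s₀ : PrimeSpectrum κ := ⟨⊥, Ideal.isPrime_bot⟩
    have h1 : (Spec.map ψc).base s₀ = closedPoint R := by
      rw [hψc, Scheme.Hom.comp_apply, Scheme.fromSpecResidueField_apply, hx2]
    have h2 : ((Spec.map ψc).base s₀).asIdeal = Ideal.comap ψ s₀.asIdeal := rfl
    rw [h1] at h2
    exact h2.symm
  haveI hψloc : IsLocalHom ψ := by
    constructor
    intro a ha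
    by_contra hna
    have : a ∈ RingHom.ker ψ := by rw [hker]; exact (mem_maximalIdeal a).mpr hna
    rw [RingHom.mem_ker] at this
    rw [this] at ha
    exact not_isUnit_zero ha
  let K : Type u := AlgebraicClosure κ
  letI : Algebra (ResidueField R) K :=
    ((algebraMap κ K).comp (IsLocalRing.ResidueField.lift ψ)).toAlgebra
  obtain ⟨B, iB1, iB2, iB3, iB4, φ, hφloc, e, hφinj, he⟩ :=
    Groth.Agent.Lib.Helper87.DvrLiftRing.exists_complete_dvr_ext R K
  haveI : IsAlgClosed (ResidueField B) := IsAlgClosed.of_ringEquiv (k := K) _ e.symm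
  let g' : Spec (CommRingCat.of B) ⟶ Y := Spec.map (CommRingCat.ofHom φ) ≫ g
  let θ : κ →+* ResidueField B := (e.symm : K →+* ResidueField B).comp (algebraMap κ K)
  have hθ : ∀ r : R, θ (ψ r) = residue B (φ r) := by
    intro r
    have h1 := he r
    have h2 : algebraMap (ResidueField R) K (residue R r) = algebraMap κ K (ψ r) := by
      change algebraMap κ K (IsLocalRing.ResidueField.lift ψ (residue R r)) = _
      rw [IsLocalRing.ResidueField.lift_residue_apply]
    rw [h2] at h1
    change e.symm (algebraMap κ K (ψ r)) = _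
    rw [← h1, RingEquiv.symm_apply_apply]
  let θc : CommRingCat.of κ ⟶ CommRingCat.of (ResidueField B) := CommRingCat.ofHom θ
  have hθc : ψc ≫ θc = CommRingCat.ofHom φ ≫ CommRingCat.ofHom (residue B) := by
    ext r
    exact hθ r
  let u₀ : Spec (CommRingCat.of (ResidueField B)) ⟶ X := Spec.map θc ≫ j ≫ pullback.fst f g
  have hE2 : u₀ ≫ f = Spec.map (CommRingCat.ofHom (residue B)) ≫ g' := by
    change (Spec.map θc ≫ j ≫ pullback.fst f g) ≫ f =
      Spec.map (CommRingCat.ofHom (residue B)) ≫ Spec.map (CommRingCat.ofHom φ) ≫ g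
    rw [Category.assoc, Category.assoc, pullback.condition, ← Category.assoc j, ← hψc,
      ← Category.assoc, ← Spec.map_comp, hθc, Spec.map_comp, Category.assoc]
  have hE3 : x ∈ Set.range u₀.base := by
    refine ⟨closedPoint (ResidueField B), ?_⟩
    change (pullback.fst f g).base (j.base ((Spec.map θc).base (closedPoint (ResidueField B)))) = x
    rw [Scheme.fromSpecResidueField_apply, hx1]
  have hE4 : g'.base (closedPoint B) = f.base x := by
    change g.base ((Spec.map (CommRingCat.ofHom φ)).base (closedPoint B)) = _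
    have : (Spec.map (CommRingCat.ofHom φ)).base (closedPoint B) = closedPoint R :=
      IsLocalRing.comap_closedPoint φ
    rw [this, hg]
  obtain ⟨B', hB'd, hB'dvr, φ', hφ'loc, v, hfin, hv, hres⟩ := H B g' hE4 u₀ hE2 hE3
  have hφ'inj : Function.Injective φ' :=
    Groth.Agent.Lib.Helper87.DvrLiftRing.injective_of_finite
      (IsDiscreteValuationRing.not_isField B') φ' hfin
  have hvw : v ≫ f = (Spec.map (CommRingCat.ofHom φ') ≫ Spec.map (CommRingCat.ofHom φ)) ≫ g := by
    rw [hv, Category.assoc]
  let w : Spec B' ⟶ pullback f g :=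
    pullback.lift v (Spec.map (CommRingCat.ofHom φ') ≫ Spec.map (CommRingCat.ofHom φ)) hvw
  have hw1 : w ≫ pullback.fst f g = v := pullback.lift_fst _ _ _
  have hw2 : w ≫ pullback.snd f g =
      Spec.map (CommRingCat.ofHom φ') ≫ Spec.map (CommRingCat.ofHom φ) := pullback.lift_snd _ _ _
  let η' : PrimeSpectrum B' := ⟨⊥, Ideal.isPrime_bot⟩
  have hspec : η' ⤳ closedPoint B' := IsLocalRing.specializes_closedPoint η'
  -- the closed point goes to x''
  have hcl : w.base (closedPoint B') = x'' := by
    let r' : Spec (CommRingCat.of (ResidueField B')) ⟶ Spec B' :=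
      Spec.map (CommRingCat.ofHom (residue B'))
    have hr' : r'.base (closedPoint (ResidueField B')) = closedPoint B' :=
      IsLocalRing.comap_closedPoint (residue B')
    have heq : r' ≫ w = Spec.map (CommRingCat.ofHom (IsLocalRing.ResidueField.map φ')) ≫
        Spec.map θc ≫ j := by
      apply pullback.hom_ext
      · rw [Category.assoc, hw1, ← hres]
        simp only [u₀, Category.assoc]
      · rw [Category.assoc, hw2, Category.assoc, Category.assoc, ← hψc]
        simp only [r', ← Spec.map_comp]
        congr 1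
        ext r
        change residue B' (φ' (φ r)) = IsLocalRing.ResidueField.map φ' (θ (ψ r))
        rw [hθ, IsLocalRing.ResidueField.map_residue]
    rw [← hr', ← Scheme.Hom.comp_apply, heq, Scheme.Hom.comp_apply, Scheme.Hom.comp_apply,
      Scheme.fromSpecResidueField_apply]
  refine ⟨w.base η', ?_, ?_⟩
  · rw [← hcl]
    exact hspec.map w.continuous
  · rw [← Scheme.Hom.comp_apply, hw2]
    intro hcon
    have h1 : ((Spec.map (CommRingCat.ofHom φ') ≫ Spec.map (CommRingCat.ofHom φ)).base η').asIdeal =
        Ideal.comap φ (Ideal.comap φ' ⊥) := rfl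
    rw [hcon] at h1
    have h2 : Ideal.comap φ (Ideal.comap φ' (⊥ : Ideal B')) = ⊥ := by
      rw [Ideal.comap_comap, ← RingHom.ker_eq_comap_bot, ← RingHom.injective_iff_ker_eq_bot]
      exact hφ'inj.comp hφinj
    rw [h2] at h1
    exact IsDiscreteValuationRing.not_a_field R h1

end Groth.Agent.Lib.Helper87.DvrLiftConverse
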