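import Groth.Agent.S4944
import Groth.Agent.Lib.Helper69.HensQFinite

/-!
# Finite local sections over a henselian local domain

A quasi-finite dominant integral scheme over a henselian local domain contains, around any point
over the closed point, the spectrum of a finite local domain as an open subscheme.
-/

set_option autoImplicit false
set_option linter.style.haveILetI false
universe u

open CategoryTheory CategoryTheory.Limits AlgebraicGeometry TopologicalSpace IsLocalRing

namespace Groth.Agent.Lib.Helper87.HensSection

/-- The spectrum of a localization at a prime which is of finite type over a Noetherian ring is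
an open subscheme. -/
theorem isOpenImmersion_SpecMap_atPrime (B : Type u) [CommRing B] [IsNoetherianRing B]
    (Q : Ideal B) [Q.IsPrime] [Algebra.FiniteType B (Localization.AtPrime Q)] :
    IsOpenImmersion (Spec.map (CommRingCat.ofHom (algebraMap B (Localization.AtPrime Q)))) := by
  set φ := CommRingCat.ofHom (algebraMap B (Localization.AtPrime Q)) with hφ
  have hEpi : Epi φ := IsLocalization.epi Q.primeCompl _
  have hmono : Mono (Spec.map φ) := by
    have : Mono φ.op := inferInstance
    exact inferInstanceAs (Mono (Scheme.Spec.map φ.op))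
  have hflat : φ.hom.Flat := by
    have : Module.Flat B (Localization.AtPrime Q) := IsLocalization.flat _ Q.primeCompl
    exact RingHom.flat_algebraMap_iff.mpr this
  have hfp : φ.hom.FinitePresentation := by
    have : Algebra.FinitePresentation B (Localization.AtPrime Q) :=
      Algebra.FinitePresentation.of_finiteType.mp inferInstance
    exact RingHom.finitePresentation_algebraMap.mpr this
  have h1 : Flat (Spec.map φ) := (HasRingHomProperty.Spec_iff (P := @Flat)).mpr hflat
  have h2 : LocallyOfFinitePresentation (Spec.map φ) :=
    (HasRingHomProperty.Spec_iff (P := @LocallyOfFinitePresentation)).mpr hfp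
  exact IsOpenImmersion.of_flat_of_mono _

/-- A quasi-finite dominant integral scheme over a henselian local domain contains, around any
point over the closed point, the spectrum of a finite local domain as an open subscheme. -/
theorem exists_finite_local_domain {A : Type u} [CommRing A] [IsDomain A] [IsNoetherianRing A]
    [HenselianLocalRing A] {T : Scheme.{u}} [IrreducibleSpace T] [IsReduced T]
    (φ : T ⟶ Spec (CommRingCat.of A)) [LocallyOfFiniteType φ] [LocallyQuasiFinite φ]
    [IsDominant φ] (t : T) (ht : φ.base t = closedPoint A) :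
    ∃ (A' : Type u) (_ : CommRing A') (_ : IsDomain A') (_ : IsLocalRing A') (_ : Algebra A A')
      (_ : Module.Finite A A'), Function.Injective (algebraMap A A') ∧
      ∃ h : Spec (CommRingCat.of A') ⟶ T, h ≫ φ = Spec.map (CommRingCat.ofHom (algebraMap A A')) ∧
        IsOpenImmersion h ∧ t ∈ Set.range h.base := by
  haveI : IsIntegral T := isIntegral_of_irreducibleSpace_of_isReduced T
  obtain ⟨W, hW, htW, -⟩ :=
    exists_isAffineOpen_mem_and_subset (X := T) (x := t) (U := ⊤) trivial
  let θ : Spec Γ(T, W) ⟶ Spec (CommRingCat.of A) := hW.fromSpec ≫ φ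
  let ψ : CommRingCat.of A ⟶ Γ(T, W) := Spec.preimage θ
  have hψ : Spec.map ψ = θ := Spec.map_preimage θ
  letI algB : Algebra A Γ(T, W) := ψ.hom.toAlgebra
  haveI : Nonempty ↥(W : Scheme.{u}) := ⟨⟨t, htW⟩⟩
  haveI hdomB : IsDomain Γ(T, W) := IsIntegral.component_integral W
  have hθlft : LocallyOfFiniteType (Spec.map ψ) := by rw [hψ]; infer_instance
  have hθqf : LocallyQuasiFinite (Spec.map ψ) := by rw [hψ]; infer_instance
  haveI hft : Algebra.FiniteType A Γ(T, W) :=
    (HasRingHomProperty.Spec_iff (P := @LocallyOfFiniteType)).mp hθlft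
  haveI hqf : Algebra.QuasiFinite A Γ(T, W) :=
    (HasRingHomProperty.Spec_iff (P := @LocallyQuasiFinite)).mp hθqf
  -- injectivity
  have hWdense : Dense ((W : Set T)) := W.isOpen.dense ⟨t, htW⟩
  haveI : IsDominant W.ι := Opens.isDominant_ι hWdense
  haveI : IsDominant hW.fromSpec := by
    have : hW.fromSpec = hW.isoSpec.inv ≫ W.ι := rfl
    rw [this]; infer_instance
  haveI : IsDominant (Spec.map ψ) := by rw [hψ]; infer_instance
  have hinjB : Function.Injective (algebraMap A Γ(T, W)) := by
    rw [RingHom.injective_iff_ker_eq_bot, eq_bot_iff]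
    have h1 : DenseRange (PrimeSpectrum.comap ψ.hom) := (Spec.map ψ).denseRange
    have h2 := (PrimeSpectrum.denseRange_comap_iff_ker_le_nilRadical ψ.hom).mp h1
    rw [nilradical_eq_zero] at h2
    exact h2
  -- the prime
  let tW : Spec Γ(T, W) := hW.primeIdealOf ⟨t, htW⟩
  have htW' : hW.fromSpec tW = t := hW.fromSpec_primeIdealOf ⟨t, htW⟩
  set Q : Ideal Γ(T, W) := tW.asIdeal with hQ
  haveI : Q.IsPrime := tW.isPrime
  have hθt : (Spec.map ψ) tW = closedPoint A := by
    rw [hψ, Scheme.Hom.comp_apply, htW']; exact ht
  haveI hlo : Q.LiesOver (maximalIdeal A) := by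
    refine ⟨?_⟩
    have := congrArg PrimeSpectrum.asIdeal hθt
    exact this.symm
  haveI : Algebra.QuasiFiniteAt A Q := inferInstance
  haveI hfin : Module.Finite A (Localization.AtPrime Q) :=
    Groth.Agent.Lib.Helper69.HensQFinite.finite_atPrime_of_quasiFiniteAt A Γ(T, W) Q
  haveI hNB : IsNoetherianRing Γ(T, W) := Algebra.FiniteType.isNoetherianRing A Γ(T, W)
  haveI hftBA' : Algebra.FiniteType Γ(T, W) (Localization.AtPrime Q) :=
    Algebra.FiniteType.of_restrictScalars_finiteType A Γ(T, W) (Localization.AtPrime Q)
  haveI hoi : IsOpenImmersion (Spec.map (CommRingCat.ofHom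
      (algebraMap Γ(T, W) (Localization.AtPrime Q)))) := isOpenImmersion_SpecMap_atPrime Γ(T, W) Q
  haveI hdomA' : IsDomain (Localization.AtPrime Q) :=
    IsLocalization.isDomain_localization Q.primeCompl_le_nonZeroDivisors
  have hinjA' : Function.Injective (algebraMap A (Localization.AtPrime Q)) := by
    rw [IsScalarTower.algebraMap_eq A Γ(T, W) (Localization.AtPrime Q)]
    exact (IsLocalization.injective (Localization.AtPrime Q)
      Q.primeCompl_le_nonZeroDivisors).comp hinjB
  refine ⟨Localization.AtPrime Q, inferInstance, hdomA', inferInstance, inferInstance, hfin,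
    hinjA', Spec.map (CommRingCat.ofHom (algebraMap Γ(T, W) (Localization.AtPrime Q))) ≫
      hW.fromSpec, ?_, inferInstance, ?_⟩
  · rw [Category.assoc]
    change _ ≫ θ = _
    rw [← hψ, ← Spec.map_comp]
    congr 1
  · refine ⟨closedPoint (Localization.AtPrime Q), ?_⟩
    rw [Scheme.Hom.comp_apply]
    have : (Spec.map (CommRingCat.ofHom (algebraMap Γ(T, W) (Localization.AtPrime Q))))
        (closedPoint (Localization.AtPrime Q)) = tW := by
      apply PrimeSpectrum.ext
      exact IsLocalization.AtPrime.under_maximalIdeal (Localization.AtPrime Q) Q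
    rw [this, htW']

end Groth.Agent.Lib.Helper87.HensSection
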