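import Groth.Agent.Lib.Helper87.DvrLiftScheme
import Groth.Agent.Lib.Helper87.DvrLiftConverse
import Groth.Agent.S3404
import Groth.Agent.S2285
import Groth.Agent.S4917
import Groth.Agent.S4974
import Mathlib

set_option autoImplicit false
set_option linter.style.haveILetI false
universe u
open CategoryTheory AlgebraicGeometry IsLocalRing Limits

namespace Groth.Agent.Lib.Helper87.DvrLiftDirect

open Groth.Agent.Lib.Helper87.DvrLiftConverse in
theorem liftProp_of_isUnivOpenAt {X Y : Scheme.{u}} [IsLocallyNoetherian Y] (f : X ⟶ Y)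
    [LocallyOfFiniteType f] (x : X) (hf : EGA43.IsUnivOpenAt f x) : LiftProp f x := by
  intro A _ _ _ _ _ g hg u₀ hu₀ hx
  have hρ : Function.Surjective (residue A) := residue_surjective
  let f' := pullback.snd f g
  let u : Spec (CommRingCat.of (ResidueField A)) ⟶ pullback f g :=
    pullback.lift u₀ (Spec.map (CommRingCat.ofHom (residue A))) hu₀
  have hu : u ≫ f' = Spec.map (CommRingCat.ofHom (residue A)) := pullback.lift_snd _ _ _
  have hu1 : u ≫ pullback.fst f g = u₀ := pullback.lift_fst _ _ _
  let s : Spec (CommRingCat.of (ResidueField A)) := closedPoint (ResidueField A)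
  let x' := u.base s
  have hx'1 : (pullback.fst f g).base x' = x := by
    obtain ⟨t, ht⟩ := hx
    rw [← Scheme.Hom.comp_apply, hu1, Subsingleton.elim s t, ht]
  have hx'2 : f'.base x' = closedPoint A := by
    rw [← Scheme.Hom.comp_apply, hu]
    exact IsLocalRing.comap_closedPoint (residue A)
  have hopen : EGA43.IsOpenAt f'.base x' := hf _ g x' hx'1
  let η : PrimeSpectrum A := ⟨⊥, Ideal.isPrime_bot⟩
  have hη : (show ↥(Spec (CommRingCat.of A)) from η) ⤳ f'.base x' := by
    rw [hx'2]; exact IsLocalRing.specializes_closedPoint _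
  obtain ⟨z, hz, hzη⟩ := (Groth.Agent.S3404.result f' x').1 hopen η hη
  -- the closure of `z` with its reduced structure
  let Z : TopologicalSpace.Closeds ↥(pullback f g) := ⟨closure {z}, isClosed_closure⟩
  let I := Scheme.IdealSheafData.vanishingIdeal Z
  have hrange : Set.range I.subschemeι.base = closure {z} := by
    rw [Scheme.IdealSheafData.range_subschemeι, Scheme.IdealSheafData.coe_support_vanishingIdeal]
    rfl
  obtain ⟨xT, hxT⟩ : x' ∈ Set.range I.subschemeι.base := by
    rw [hrange]; exact specializes_iff_mem_closure.mp hz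
  obtain ⟨zT, hzT⟩ : z ∈ Set.range I.subschemeι.base := by
    rw [hrange]; exact subset_closure rfl
  haveI hred : IsReduced I.subscheme := Groth.Agent.S2285.isReduced_subscheme_vanishingIdeal Z
  have hgenT : ∀ t : I.subscheme, zT ⤳ t := by
    intro t
    rw [← I.subschemeι.isEmbedding.isInducing.specializes_iff, hzT]
    exact specializes_iff_mem_closure.mpr (hrange ▸ ⟨t, rfl⟩)
  haveI hirr : IrreducibleSpace I.subscheme := by
    have h1 : closure ({zT} : Set I.subscheme) = Set.univ := by
      ext t
      simp only [Set.mem_univ, iff_true]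
      exact specializes_iff_mem_closure.mp (hgenT t)
    have h2 : IsIrreducible (Set.univ : Set I.subscheme) := by
      rw [← h1]; exact isIrreducible_singleton.closure
    exact (irreducibleSpace_def _).mpr h2
  let φT : I.subscheme ⟶ Spec (CommRingCat.of A) := I.subschemeι ≫ f'
  haveI : LocallyOfFiniteType f' := MorphismProperty.pullback_snd _ _ inferInstance
  haveI : LocallyOfFiniteType φT := inferInstance
  haveI : LocallyOfFinitePresentation φT :=
    LocallyOfFinitePresentation.iff_locallyOfFiniteType.2 inferInstance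
  have hφz : φT.base zT = η := by
    rw [Scheme.Hom.comp_apply, hzT, hzη]
  have hφx : φT.base xT = closedPoint A := by
    rw [Scheme.Hom.comp_apply, hxT, hx'2]
  haveI hdom : IsDominant φT := by
    constructor
    intro y
    have h1 : η ⤳ (show PrimeSpectrum A from y) :=
      (PrimeSpectrum.le_iff_specializes η (show PrimeSpectrum A from y)).mp bot_le
    have h2 : y ∈ closure ({φT.base zT} : Set ↥(Spec (CommRingCat.of A))) := by
      rw [hφz]; exact specializes_iff_mem_closure.mp h1
    exact closure_mono (by rintro _ rfl; exact ⟨zT, rfl⟩) h2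
  -- every point of `Spec A` is the generic point or the closed point
  have hpts : ∀ y : PrimeSpectrum A, y = η ∨ y = closedPoint A := by
    intro y
    by_cases hy : y.asIdeal = ⊥
    · left; exact PrimeSpectrum.ext hy
    · right
      apply PrimeSpectrum.ext
      exact IsLocalRing.eq_maximalIdeal (y.isPrime.isMaximal hy)
  have hopenT : ∀ t : I.subscheme, EGA43.IsOpenAt φT.base t := by
    intro t
    rw [(Groth.Agent.S3404.result φT t).2 inferInstance]
    intro y' hy'
    rcases hpts y' with rfl | rfl
    · exact ⟨zT, hgenT t, hφz⟩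
    · refine ⟨t, specializes_rfl, ?_⟩
      have h1 : φT.base t ∈ closure ({closedPoint A} : Set (PrimeSpectrum A)) :=
        specializes_iff_mem_closure.mp hy'
      rw [(IsLocalRing.isClosed_singleton_closedPoint A).closure_eq] at h1
      exact h1
  have hequi : EGA43.IsEquidimAt φT xT :=
    Groth.Agent.S4917.result φT xT (fun z₁ _ _ => hopenT _)
  have hclT : ∀ t' : I.subscheme, φT.base t' = φT.base xT → xT ⤳ t' → t' = xT := by
    intro t' _ ht'
    have h1 : u.base s ⤳ I.subschemeι.base t' := by
      have := ht'.map I.subschemeι.continuous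
      rwa [hxT] at this
    have h2 := Groth.Agent.Lib.Helper87.DvrLiftScheme.eq_of_specializes_section f' (residue A) hρ
      u hu s _ h1
    exact I.subschemeι.isEmbedding.injective (h2.trans hxT.symm)
  obtain ⟨A', iA1, iA2, iA3, iA4, iA5, hinjA', h, hh, himm, a₀, ha₀⟩ :=
    Groth.Agent.S4974.result φT xT hφx hequi hclT
  obtain ⟨B, iB1, iB2, iB3, ψ, hψloc, hfin, hloc⟩ :=
    Groth.Agent.Lib.Helper87.DvrLiftRing.exists_dvr_normalization A A' hinjA'
  -- the closed point of `Spec A'` goes to `xT`
  have ha₀cl : a₀ = closedPoint A' := by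
    have h1 : (Spec.map (CommRingCat.ofHom (algebraMap A A'))).base a₀ = closedPoint A := by
      rw [← hh, Scheme.Hom.comp_apply, ha₀, hφx]
    have h2 : Ideal.comap (algebraMap A A') a₀.asIdeal = maximalIdeal A :=
      congrArg PrimeSpectrum.asIdeal h1
    have h3 : (Ideal.comap (algebraMap A A') a₀.asIdeal).IsMaximal := by
      rw [h2]; infer_instance
    have h4 : a₀.asIdeal.IsMaximal :=
      Ideal.isMaximal_of_isIntegral_of_isMaximal_comap (R := A) a₀.asIdeal h3
    exact PrimeSpectrum.ext (IsLocalRing.eq_maximalIdeal h4)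
  let b₀ : Spec (CommRingCat.of B) ⟶ pullback f g :=
    Spec.map (CommRingCat.ofHom ψ) ≫ h ≫ I.subschemeι
  let v : Spec (CommRingCat.of B) ⟶ X := b₀ ≫ pullback.fst f g
  have hb₀f' : b₀ ≫ f' = Spec.map (CommRingCat.ofHom (ψ.comp (algebraMap A A'))) := by
    change (Spec.map (CommRingCat.ofHom ψ) ≫ h ≫ I.subschemeι) ≫ f' = _
    rw [Category.assoc, Category.assoc]
    change Spec.map (CommRingCat.ofHom ψ) ≫ h ≫ φT = _
    rw [hh, ← Spec.map_comp]
    rfl
  refine ⟨CommRingCat.of B, iB2, iB3, ψ.comp (algebraMap A A'), hloc, v, hfin, ?_, ?_⟩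
  · change (b₀ ≫ pullback.fst f g) ≫ f = _
    rw [Category.assoc, pullback.condition, ← Category.assoc]
    change (b₀ ≫ f') ≫ g = _
    rw [hb₀f']
  · rw [← hu1, ← Category.assoc]
    change _ = Spec.map (CommRingCat.ofHom (residue B)) ≫ b₀ ≫ pullback.fst f g
    rw [← Category.assoc _ b₀]
    congr 1
    let t : Spec (CommRingCat.of (ResidueField B)) := closedPoint (ResidueField B)
    apply Groth.Agent.Lib.Helper87.DvrLiftScheme.hom_ext_of_section f' (residue A) hρ u hu s _ _ ?_
      t ?_ ?_
    · rw [Category.assoc, hu, Category.assoc, hb₀f', ← Spec.map_comp, ← Spec.map_comp]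
      congr 1
    · rw [Scheme.Hom.comp_apply]
      congr 1
      exact Subsingleton.elim _ _
    · have h1 : (Spec.map (CommRingCat.ofHom (residue B))).base t = closedPoint B :=
        IsLocalRing.comap_closedPoint (residue B)
      have h2 : (Spec.map (CommRingCat.ofHom ψ)).base (closedPoint B) = closedPoint A' :=
        IsLocalRing.comap_closedPoint ψ
      change I.subschemeι.base (h.base ((Spec.map (CommRingCat.ofHom ψ)).base
        ((Spec.map (CommRingCat.ofHom (residue B))).base t))) = _
      rw [h1, h2, ← ha₀cl, ha₀, hxT]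

end Groth.Agent.Lib.Helper87.DvrLiftDirect
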