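import Groth.Agent.Lib.Helper87.DvrLiftRing
import Mathlib

set_option autoImplicit false
set_option linter.style.haveILetI false
universe u
open CategoryTheory AlgebraicGeometry IsLocalRing

namespace Groth.Agent.Lib.Helper87.DvrLiftScheme

/-- A morphism from the spectrum of a field whose image lies in an affine chart factors through
that chart, and the image point is the kernel of the corresponding ring map. -/
theorem exists_factor {X' : Scheme.{u}} {L : Type u} [Field L] (a : Spec (CommRingCat.of L) ⟶ X')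
    {W : X'.Opens} (hW : IsAffineOpen W) (s : Spec (CommRingCat.of L)) (ha : a.base s ∈ W) :
    ∃ α : Γ(X', W) ⟶ CommRingCat.of L, a = Spec.map α ≫ hW.fromSpec ∧
      ∀ p : Spec Γ(X', W), hW.fromSpec.base p = a.base s → p.asIdeal = RingHom.ker α.hom := by
  have hrange : Set.range a.base ⊆ Set.range hW.fromSpec.base := by
    rintro _ ⟨t, rfl⟩
    rw [hW.range_fromSpec, Subsingleton.elim t s]
    exact ha
  let a₂ := IsOpenImmersion.lift hW.fromSpec a hrange
  have ha₂ : a₂ ≫ hW.fromSpec = a := IsOpenImmersion.lift_fac _ _ _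
  refine ⟨Spec.preimage a₂, ?_, ?_⟩
  · rw [Spec.map_preimage, ha₂]
  · intro p hp
    have h1 : hW.fromSpec.base (a₂.base s) = a.base s := by
      rw [← Scheme.Hom.comp_apply, ha₂]
    have h2 : p = a₂.base s := hW.fromSpec.isOpenEmbedding.injective (hp.trans h1.symm)
    have h3 : a₂.base s = (Spec.map (Spec.preimage a₂)).base s := by
      rw [Spec.map_preimage]
    rw [h2, h3]
    change Ideal.comap (Spec.preimage a₂).hom s.asIdeal = _
    have hs : s.asIdeal = ⊥ := by
      have := s.isPrime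
      exact (Ideal.eq_bot_or_top s.asIdeal).resolve_right this.ne_top
    rw [hs]
    rfl


/-- Common set-up: a section over a surjection `A → k` through an affine chart. -/
theorem exists_factor_section {A : Type u} [CommRing A] {X' : Scheme.{u}}
    (f' : X' ⟶ Spec (CommRingCat.of A)) {k : Type u} [Field k] (ρ : A →+* k)
    (u : Spec (CommRingCat.of k) ⟶ X') (hu : u ≫ f' = Spec.map (CommRingCat.ofHom ρ))
    {W : X'.Opens} (hW : IsAffineOpen W) (s : Spec (CommRingCat.of k)) (hs : u.base s ∈ W) :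
    ∃ (ι₁ : CommRingCat.of A ⟶ Γ(X', W)) (υ : Γ(X', W) ⟶ CommRingCat.of k),
      Spec.map ι₁ = hW.fromSpec ≫ f' ∧ u = Spec.map υ ≫ hW.fromSpec ∧
      υ.hom.comp ι₁.hom = ρ ∧
      ∀ p : Spec Γ(X', W), hW.fromSpec.base p = u.base s → p.asIdeal = RingHom.ker υ.hom := by
  obtain ⟨υ, hυ, hυp⟩ := exists_factor u hW s hs
  refine ⟨Spec.preimage (hW.fromSpec ≫ f'), υ, Spec.map_preimage _, hυ, ?_, hυp⟩
  have h1 : Spec.map (Spec.preimage (hW.fromSpec ≫ f') ≫ υ) =
      Spec.map (CommRingCat.ofHom ρ) := by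
    rw [Spec.map_comp, Spec.map_preimage, ← Category.assoc, ← hυ, hu]
  have h2 := Spec.map_injective h1
  have h3 := congrArg CommRingCat.Hom.hom h2
  simpa using h3

/-- The image of a section over a surjection `A → k` onto a field is a closed point. -/
theorem eq_of_specializes_section {A : Type u} [CommRing A] {X' : Scheme.{u}}
    (f' : X' ⟶ Spec (CommRingCat.of A)) {k : Type u} [Field k] (ρ : A →+* k)
    (hρ : Function.Surjective ρ)
    (u : Spec (CommRingCat.of k) ⟶ X') (hu : u ≫ f' = Spec.map (CommRingCat.ofHom ρ))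
    (s : Spec (CommRingCat.of k)) (x₁ : X') (hx₁ : u.base s ⤳ x₁) : x₁ = u.base s := by
  obtain ⟨W, hW, hx₁W, -⟩ :=
    exists_isAffineOpen_mem_and_subset (X := X') (x := x₁) (U := ⊤) trivial
  have hs : u.base s ∈ W := hx₁.mem_open W.isOpen hx₁W
  obtain ⟨ι₁, υ, -, hυ, hρυ, hp⟩ := exists_factor_section f' ρ u hu hW s hs
  have hυsurj : Function.Surjective υ.hom := by
    intro c
    obtain ⟨a, ha⟩ := hρ c
    exact ⟨ι₁.hom a, by rw [← ha, ← hρυ]; rfl⟩
  obtain ⟨p₁, hp₁⟩ : x₁ ∈ Set.range hW.fromSpec.base := by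
    rw [hW.range_fromSpec]; exact hx₁W
  obtain ⟨p₀, hp₀⟩ : u.base s ∈ Set.range hW.fromSpec.base := by
    rw [hW.range_fromSpec]; exact hs
  have hp₀ker : p₀.asIdeal = RingHom.ker υ.hom := hp p₀ hp₀
  have hmax : p₀.asIdeal.IsMaximal := by
    rw [hp₀ker]
    exact RingHom.ker_isMaximal_of_surjective υ.hom hυsurj
  have hcl : IsClosed ({p₀} : Set (PrimeSpectrum Γ(X', W))) :=
    (PrimeSpectrum.isClosed_singleton_iff_isMaximal p₀).mpr hmax
  have hspec : p₀ ⤳ p₁ := by
    rw [← hW.fromSpec.isOpenEmbedding.isInducing.specializes_iff, hp₀, hp₁]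
    exact hx₁
  have h1 : p₁ ∈ closure ({p₀} : Set (PrimeSpectrum Γ(X', W))) :=
    specializes_iff_mem_closure.mp hspec
  rw [hcl.closure_eq] at h1
  rw [← hp₁, ← hp₀, Set.mem_singleton_iff.mp h1]

/-- Two morphisms from the spectrum of a field with the same image point as a section over a
surjection `A → k`, and the same composite to `Spec A`, are equal. -/
theorem hom_ext_of_section {A : Type u} [CommRing A] {X' : Scheme.{u}}
    (f' : X' ⟶ Spec (CommRingCat.of A)) {k : Type u} [Field k] (ρ : A →+* k)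
    (hρ : Function.Surjective ρ)
    (u : Spec (CommRingCat.of k) ⟶ X') (hu : u ≫ f' = Spec.map (CommRingCat.ofHom ρ))
    (s : Spec (CommRingCat.of k)) {L : Type u} [Field L] (a b : Spec (CommRingCat.of L) ⟶ X')
    (hab : a ≫ f' = b ≫ f') (t : Spec (CommRingCat.of L)) (ha : a.base t = u.base s)
    (hb : b.base t = u.base s) : a = b := by
  obtain ⟨W, hW, hsW, -⟩ :=
    exists_isAffineOpen_mem_and_subset (X := X') (x := u.base s) (U := ⊤) trivial
  obtain ⟨ι₁, υ, hι₁, hυ, hρυ, hp⟩ := exists_factor_section f' ρ u hu hW s hsW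
  obtain ⟨α, hα, hαp⟩ := exists_factor a hW t (ha ▸ hsW)
  obtain ⟨β, hβ, hβp⟩ := exists_factor b hW t (hb ▸ hsW)
  obtain ⟨p₀, hp₀⟩ : u.base s ∈ Set.range hW.fromSpec.base := by
    rw [hW.range_fromSpec]; exact hsW
  have hkα : RingHom.ker υ.hom = RingHom.ker α.hom := by
    rw [← hp p₀ hp₀, hαp p₀ (hp₀.trans ha.symm)]
  have hkβ : RingHom.ker υ.hom = RingHom.ker β.hom := by
    rw [← hp p₀ hp₀, hβp p₀ (hp₀.trans hb.symm)]
  have hαβ : α.hom.comp ι₁.hom = β.hom.comp ι₁.hom := by
    have h1 : Spec.map (ι₁ ≫ α) = Spec.map (ι₁ ≫ β) := by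
      rw [Spec.map_comp, Spec.map_comp, hι₁, ← Category.assoc, ← Category.assoc, ← hα, ← hβ, hab]
    have h2 := congrArg CommRingCat.Hom.hom (Spec.map_injective h1)
    simpa using h2
  have hfinal : α.hom = β.hom :=
    Groth.Agent.Lib.Helper87.DvrLiftRing.ringHom_ext_of_surjective ι₁.hom υ.hom α.hom β.hom
      (by rw [hρυ]; exact hρ) hαβ hkα.le hkβ.le
  have : α = β := CommRingCat.hom_ext hfinal
  rw [hα, hβ, this]

end Groth.Agent.Lib.Helper87.DvrLiftScheme
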