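import Groth.Agent.Lib.Helper87.UnivOpenRing
import Groth.Agent.Lib.Helper41.DimOpenRing

/-!
# Equidimensionality of the source of a quasi-finite morphism at points over geometrically
unibranch points (ring level)
-/

set_option autoImplicit false
set_option linter.style.haveILetI false
universe u

open TensorProduct IsLocalRing

namespace Groth.Agent.Lib.Helper87.EquidimQF

open Groth.Agent.Lib.Helper87.UnivOpen Groth.Agent.Lib.Helper87
open Groth.Agent.Lib.Helper41.DimOpenRing

/-- Generization lifting for a quasi-finite algebra at a prime over a geometrically unibranch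
point (no base change). -/
theorem genLift_of_pgu (A B : Type u) [CommRing A] [CommRing B] [Algebra A B]
    [Algebra.FiniteType A B] [Algebra.QuasiFinite A B]
    (hD : ∀ b ∈ minimalPrimes B, b.comap (algebraMap A B) ∈ minimalPrimes A)
    (Q : Ideal B) [Q.IsPrime]
    (hG : GeomUnibranchSmooth.PGU (Localization.AtPrime (Q.comap (algebraMap A B)))) :
    GenLift A B Q := by
  set p : Ideal A := Q.comap (algebraMap A B) with hp
  haveI : p.IsPrime := Ideal.comap_isPrime _ _
  letI : Algebra A (Hens.Hsh (Localization.AtPrime p)) :=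
    ((algebraMap (Localization.AtPrime p) (Hens.Hsh (Localization.AtPrime p))).comp
      (algebraMap A (Localization.AtPrime p))).toAlgebra
  haveI : IsScalarTower A (Localization.AtPrime p) (Hens.Hsh (Localization.AtPrime p)) :=
    IsScalarTower.of_algebraMap_eq' rfl
  have hgood := goodCover_Hsh A p hG
  haveI hstr := Hens.isStrictHenselization_Hsh (Localization.AtPrime p)
  haveI : HenselianLocalRing (Hens.Hsh (Localization.AtPrime p)) := hstr.henselian
  haveI : IsSepClosed (ResidueField (Hens.Hsh (Localization.AtPrime p))) :=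
    hstr.isSepClosure.sep_closed
  let e : A ⊗[A] B ≃ₐ[A] B := Algebra.TensorProduct.lid A B
  set Qs : Ideal (A ⊗[A] B) := Q.comap e.toAlgHom.toRingHom with hQs
  haveI : Qs.IsPrime := Ideal.comap_isPrime _ _
  have hQ : Qs.comap (algebraMap A (A ⊗[A] B)) =
      (maximalIdeal (Hens.Hsh (Localization.AtPrime p))).comap
        (algebraMap A (Hens.Hsh (Localization.AtPrime p))) := by
    rw [IsScalarTower.algebraMap_eq A (Localization.AtPrime p)
      (Hens.Hsh (Localization.AtPrime p)), ← Ideal.comap_comap, PunctConn.comap_maximalIdeal_eq]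
    have h5 : (maximalIdeal (Localization.AtPrime p)).comap
        (algebraMap A (Localization.AtPrime p)) = p :=
      IsLocalization.AtPrime.under_maximalIdeal (Localization.AtPrime p) p
    rw [h5, hQs, Ideal.comap_comap, hp]
    congr 1
    ext a
    exact e.commutes a
  have key := genLift_of_goodCover A B hD (Hens.Hsh (Localization.AtPrime p)) hgood A Qs hQ
  have h2 := GenLift.comap e.symm.toAlgHom Qs key
  have h3 : Qs.comap e.symm.toAlgHom.toRingHom = Q := by
    rw [hQs, Ideal.comap_comap]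
    have : (e.toAlgHom.toRingHom.comp e.symm.toAlgHom.toRingHom) = RingHom.id B :=
      RingHom.ext fun x => e.apply_symm_apply x
    rw [this, Ideal.comap_id]
  rwa [h3] at h2

/-- For a quasi-finite algebra of finite type over a Noetherian ring, a prime at which
generizations lift has the same height as its contraction. -/
theorem height_eq_of_genLift (A₀ B' : Type u) [CommRing A₀] [CommRing B'] [Algebra A₀ B']
    [IsNoetherianRing A₀] [Algebra.FiniteType A₀ B'] [Algebra.QuasiFinite A₀ B']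
    (Q' : Ideal B') [Q'.IsPrime] (hgl : GenLift A₀ B' Q') :
    Q'.height = (Q'.comap (algebraMap A₀ B')).height := by
  set p : Ideal A₀ := Q'.comap (algebraMap A₀ B') with hp
  haveI : p.IsPrime := Ideal.comap_isPrime _ _
  haveI : IsNoetherianRing B' := Algebra.FiniteType.isNoetherianRing A₀ B'
  let A := Localization.AtPrime p
  let B := Localization.AtPrime Q'
  let φ : A →+* B := Localization.localRingHom p Q' (algebraMap A₀ B') rfl
  haveI : IsLocalHom φ := Localization.isLocalHom_localRingHom p Q' (algebraMap A₀ B') rfl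
  have hφ : ∀ a : A₀, φ (algebraMap A₀ A a) = algebraMap B' B (algebraMap A₀ B' a) :=
    fun a => Localization.localRingHom_to_map p Q' (algebraMap A₀ B') rfl a
  -- primes of `B` containing the extension of the maximal ideal of `A`
  have hF : ∀ 𝔮 : Ideal B, 𝔮.IsPrime → Ideal.map φ (maximalIdeal A) ≤ 𝔮 → 𝔮 = maximalIdeal B := by
    intro 𝔮 h𝔮 hle
    haveI := h𝔮
    set 𝔮' : Ideal B' := 𝔮.comap (algebraMap B' B) with h𝔮'
    haveI : 𝔮'.IsPrime := Ideal.comap_isPrime _ _
    have h1 : 𝔮' ≤ Q' := by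
      have : 𝔮 ≤ maximalIdeal B := IsLocalRing.le_maximalIdeal h𝔮.ne_top
      calc 𝔮' ≤ (maximalIdeal B).comap (algebraMap B' B) := Ideal.comap_mono this
        _ = Q' := IsLocalization.AtPrime.under_maximalIdeal B Q'
    have h2 : 𝔮'.under A₀ = Q'.under A₀ := by
      apply le_antisymm (Ideal.comap_mono h1)
      intro a ha
      have ha' : algebraMap A₀ A a ∈ maximalIdeal A := by
        rw [← IsLocalization.AtPrime.map_eq_maximalIdeal p A]
        exact Ideal.mem_map_of_mem _ ha
      have h3 : φ (algebraMap A₀ A a) ∈ 𝔮 := hle (Ideal.mem_map_of_mem _ ha')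
      rw [hφ] at h3
      exact h3
    have h4 : 𝔮' = Q' := Algebra.QuasiFinite.eq_of_le_of_under_eq (R := A₀) 𝔮' Q' h1 h2
    rw [← IsLocalization.map_under Q'.primeCompl B 𝔮, ← IsLocalization.AtPrime.map_eq_maximalIdeal Q' B]
    exact congrArg (Ideal.map (algebraMap B' B)) h4
  have hgd : ∀ 𝔮₀ ∈ (Ideal.map φ (maximalIdeal A)).minimalPrimes, ∀ P : PrimeSpectrum A,
      ∃ 𝔮 : PrimeSpectrum B, 𝔮.asIdeal ≤ 𝔮₀ ∧ PrimeSpectrum.comap φ 𝔮 = P := by
    intro 𝔮₀ h𝔮₀ P
    have h𝔮₀m : 𝔮₀ = maximalIdeal B := hF 𝔮₀ h𝔮₀.1.1 h𝔮₀.1.2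
    set p' : Ideal A₀ := P.asIdeal.comap (algebraMap A₀ A) with hp'
    have hp'le : p' ≤ p := by
      have : P.asIdeal ≤ maximalIdeal A := IsLocalRing.le_maximalIdeal P.isPrime.ne_top
      calc p' ≤ (maximalIdeal A).comap (algebraMap A₀ A) := Ideal.comap_mono this
        _ = p := IsLocalization.AtPrime.under_maximalIdeal A p
    obtain ⟨q'', hq''p, hq''le, hq''c⟩ := hgl p' (Ideal.comap_isPrime _ _) hp'le
    have hdisj : Disjoint (Q'.primeCompl : Set B') q'' := by
      rw [Set.disjoint_left]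
      intro b hb hbq
      exact hb (hq''le hbq)
    have hprime : (Ideal.map (algebraMap B' B) q'').IsPrime :=
      IsLocalization.isPrime_of_isPrime_disjoint Q'.primeCompl B q'' hq''p hdisj
    refine ⟨⟨Ideal.map (algebraMap B' B) q'', hprime⟩, ?_, ?_⟩
    · rw [h𝔮₀m]
      exact IsLocalRing.le_maximalIdeal hprime.ne_top
    · apply PrimeSpectrum.localization_comap_injective A p.primeCompl
      apply PrimeSpectrum.ext
      change ((Ideal.map (algebraMap B' B) q'').comap φ).comap (algebraMap A₀ A) = p'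
      rw [Ideal.comap_comap]
      have hcomp : φ.comp (algebraMap A₀ A) = (algebraMap B' B).comp (algebraMap A₀ B') :=
        RingHom.ext hφ
      rw [hcomp, ← Ideal.comap_comap]
      have := IsLocalization.under_map_of_isPrime_disjoint Q'.primeCompl B hq''p hdisj
      rw [Ideal.under] at this
      rw [this, hq''c]
  have h1 := ringKrullDim_le_add φ
  have h2 := add_le_ringKrullDim φ hgd
  obtain ⟨hnt, hloc⟩ := isLocalRing_quotient_map φ
  have h0 : ringKrullDim (B ⧸ Ideal.map φ (maximalIdeal A)) = 0 := by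
    apply le_antisymm _ ringKrullDim_nonneg_of_nontrivial
    rw [ringKrullDim_quotient]
    haveI : Subsingleton ↥(PrimeSpectrum.zeroLocus ((Ideal.map φ (maximalIdeal A) : Ideal B) : Set B)) := by
      refine ⟨fun a b => ?_⟩
      apply Subtype.ext
      apply PrimeSpectrum.ext
      rw [hF a.1.asIdeal a.1.isPrime a.2, hF b.1.asIdeal b.1.isPrime b.2]
    exact Order.krullDim_nonpos_of_subsingleton
  rw [h0, add_zero] at h1 h2
  have h3 : ringKrullDim B = ringKrullDim A := le_antisymm h1 h2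
  rw [IsLocalization.AtPrime.ringKrullDim_eq_height Q' B,
    IsLocalization.AtPrime.ringKrullDim_eq_height p A] at h3
  exact_mod_cast h3

theorem pgu_congr {A₀ : Type u} [CommRing A₀] (I J : Ideal A₀) [I.IsPrime] [J.IsPrime]
    (h : I = J) (hG : GeomUnibranchSmooth.PGU (Localization.AtPrime I)) :
    GeomUnibranchSmooth.PGU (Localization.AtPrime J) := by
  subst h
  exact hG

/-- Over a geometrically unibranch point, all the minimal primes below a prime `Q` of a
quasi-finite algebra (whose minimal primes lie over minimal primes) have the same coheight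
in `Q`. -/
theorem height_map_quotient_eq (A₀ B₀ : Type u) [CommRing A₀] [CommRing B₀] [Algebra A₀ B₀]
    [IsNoetherianRing A₀] [Algebra.FiniteType A₀ B₀] [Algebra.QuasiFinite A₀ B₀]
    (hD : ∀ b ∈ minimalPrimes B₀, b.comap (algebraMap A₀ B₀) ∈ minimalPrimes A₀)
    (Q : Ideal B₀) [Q.IsPrime]
    (hG : GeomUnibranchSmooth.PGU (Localization.AtPrime (Q.comap (algebraMap A₀ B₀))))
    (𝔭₀ : Ideal B₀) (h𝔭₀ : 𝔭₀ ∈ minimalPrimes B₀) (hle : 𝔭₀ ≤ Q) :
    (Q.map (Ideal.Quotient.mk 𝔭₀)).height = Q.height := by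
  haveI h𝔭₀p : 𝔭₀.IsPrime := h𝔭₀.1.1
  rw [height_eq_of_genLift A₀ B₀ Q (genLift_of_pgu A₀ B₀ hD Q hG)]
  haveI ftB : Algebra.FiniteType A₀ (B₀ ⧸ 𝔭₀) :=
    Algebra.FiniteType.of_surjective (Ideal.Quotient.mkₐ A₀ 𝔭₀) (Ideal.Quotient.mkₐ_surjective A₀ 𝔭₀)
  haveI qfB : Algebra.QuasiFinite A₀ (B₀ ⧸ 𝔭₀) :=
    Algebra.QuasiFinite.of_surjective_algHom (Ideal.Quotient.mkₐ A₀ 𝔭₀)
      (Ideal.Quotient.mkₐ_surjective A₀ 𝔭₀)
  have hker : RingHom.ker (Ideal.Quotient.mk 𝔭₀) ≤ Q := by rw [Ideal.mk_ker]; exact hle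
  haveI hQ' : (Q.map (Ideal.Quotient.mk 𝔭₀)).IsPrime :=
    Ideal.map_isPrime_of_surjective Ideal.Quotient.mk_surjective hker
  have hcm : (Q.map (Ideal.Quotient.mk 𝔭₀)).comap (Ideal.Quotient.mk 𝔭₀) = Q := by
    rw [Ideal.comap_map_of_surjective _ Ideal.Quotient.mk_surjective]
    exact sup_eq_left.2 (by rw [← RingHom.ker_eq_comap_bot]; exact hker)
  have hcomap : (Q.map (Ideal.Quotient.mk 𝔭₀)).comap (algebraMap A₀ (B₀ ⧸ 𝔭₀)) =
      Q.comap (algebraMap A₀ B₀) := by
    have : algebraMap A₀ (B₀ ⧸ 𝔭₀) = (Ideal.Quotient.mk 𝔭₀).comp (algebraMap A₀ B₀) := rfl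
    rw [this, ← Ideal.comap_comap, hcm]
  have hD' : ∀ b ∈ minimalPrimes (B₀ ⧸ 𝔭₀), b.comap (algebraMap A₀ (B₀ ⧸ 𝔭₀)) ∈
      minimalPrimes A₀ := by
    intro b hb
    rw [IsDomain.minimalPrimes_eq_singleton_bot, Set.mem_singleton_iff] at hb
    subst hb
    have : algebraMap A₀ (B₀ ⧸ 𝔭₀) = (Ideal.Quotient.mk 𝔭₀).comp (algebraMap A₀ B₀) := rfl
    rw [this, ← Ideal.comap_comap, ← RingHom.ker_eq_comap_bot, Ideal.mk_ker]
    exact hD 𝔭₀ h𝔭₀
  have hG' : GeomUnibranchSmooth.PGU (Localization.AtPrime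
      ((Q.map (Ideal.Quotient.mk 𝔭₀)).comap (algebraMap A₀ (B₀ ⧸ 𝔭₀)))) :=
    pgu_congr _ _ hcomap.symm hG
  rw [height_eq_of_genLift A₀ (B₀ ⧸ 𝔭₀) (Q.map (Ideal.Quotient.mk 𝔭₀))
    (genLift_of_pgu A₀ (B₀ ⧸ 𝔭₀) hD' _ hG'), hcomap]

end Groth.Agent.Lib.Helper87.EquidimQF
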