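import Groth.Agent.Lib.Helper87.UnivOpenRing
import Groth.Agent.Lib.Helper87.GUScheme
import Groth.Agent.Lib.Helper41.UnivOpenDvr

set_option autoImplicit false
set_option linter.style.haveILetI false
universe u

open CategoryTheory CategoryTheory.Limits AlgebraicGeometry TensorProduct IsLocalRing

namespace Groth.Agent.Lib.Helper87.UnivOpenAtQF

open Groth.Agent.Lib.Helper87.UnivOpen Groth.Agent.Lib.Helper41.UnivOpenDvr

attribute [local instance] Algebra.TensorProduct.rightAlgebra in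
/-- Pointwise form of the universal openness of quasi-finite morphisms over a geometrically
unibranch point. -/
theorem isUnivOpenAt_of_locallyQuasiFinite {X Y : Scheme.{u}} (f : X ⟶ Y) [LocallyQuasiFinite f]
    [LocallyOfFiniteType f] [IsLocallyNoetherian Y]
    (hdom : ∀ x ∈ genericPoints X, f x ∈ genericPoints Y) (x : X)
    (hY : CAlg2.IsGeomUnibranch (Y.presheaf.stalk (f x))) : EGA43.IsUnivOpenAt f x := by
  apply isUnivOpenAt_of_dvrCrit
  intro R _ _ _ h hh x' hx'1 hx'2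
  obtain ⟨_, ⟨U, hU, rfl⟩, hyU, -⟩ :=
    Y.isBasis_affineOpens.exists_subset_of_mem_open (Set.mem_univ (f.base x)) isOpen_univ
  obtain ⟨_, ⟨W, hW, rfl⟩, hxW, hWU'⟩ :=
    X.isBasis_affineOpens.exists_subset_of_mem_open (show x ∈ (f ⁻¹ᵁ U : Set X) from hyU)
      (f ⁻¹ᵁ U).isOpen
  have hWU : W ≤ f ⁻¹ᵁ U := hWU'
  have hc : h.base (closedPoint R) ∈ U := by rw [hh]; exact hyU
  obtain ⟨ψ, rfl⟩ := exists_factor_of_isLocalRing hU (CommRingCat.of R) h hc
  haveI : IsNoetherianRing Γ(Y, U) := IsLocallyNoetherian.component_noetherian ⟨U, hU⟩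
  letI algC : Algebra Γ(Y, U) Γ(X, W) := (f.appLE U W hWU).hom.toAlgebra
  letI algV : Algebra Γ(Y, U) R := ψ.hom.toAlgebra
  have hft : Algebra.FiniteType Γ(Y, U) Γ(X, W) :=
    HasRingHomProperty.appLE @LocallyOfFiniteType f ‹_› ⟨U, hU⟩ ⟨W, hW⟩ hWU
  have hqf : Algebra.QuasiFinite Γ(Y, U) Γ(X, W) :=
    HasRingHomProperty.appLE @LocallyQuasiFinite f ‹_› ⟨U, hU⟩ ⟨W, hW⟩ hWU
  have hD : ∀ b ∈ minimalPrimes Γ(X, W), b.comap (algebraMap Γ(Y, U) Γ(X, W)) ∈
      minimalPrimes Γ(Y, U) := by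
    intro b hb
    haveI := hb.1.1
    obtain ⟨z, hz, h⟩ := GUScheme.exists_eq_primeIdealOf hW b
    subst h
    have h1 : z ∈ genericPoints X := (GUScheme.mem_genericPoints_iff hW z hz).mpr hb
    have h2 := (GUScheme.mem_genericPoints_iff hU (f z) (hWU hz)).mp (hdom z h1)
    have h3 := congr($(IsAffineOpen.comap_primeIdealOf_appLE U hU W hW hWU hz).1)
    rw [← h3] at h2
    exact h2
  have hpo : IsPushout ψ (f.appLE U W hWU)
      (CommRingCat.ofHom (S := R ⊗[Γ(Y, U)] Γ(X, W))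
        (Algebra.TensorProduct.includeLeftRingHom : R →+* R ⊗[Γ(Y, U)] Γ(X, W)))
      (CommRingCat.ofHom (S := R ⊗[Γ(Y, U)] Γ(X, W))
        (Algebra.TensorProduct.includeRight (R := Γ(Y, U)) (A := R) (B := Γ(X, W))).toRingHom) :=
    CommRingCat.isPushout_tensorProduct Γ(Y, U) R Γ(X, W)
  obtain ⟨θ, hθ, hθ1, hθ2, hθr⟩ := exists_chart_of_isPushout f hU hW hWU ψ _ _ hpo
  have hwr : x' ∈ Set.range θ.base := by
    rw [hθr, Set.mem_preimage, hx'1]; exact hxW
  obtain ⟨𝔮, rfl⟩ := hwr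
  let 𝔮r : PrimeSpectrum (R ⊗[Γ(Y, U)] Γ(X, W)) := 𝔮
  have h₂ : 𝔮r.comap (Algebra.TensorProduct.includeLeftRingHom : R →+* R ⊗[Γ(Y, U)] Γ(X, W)) =
      closedPoint R := by
    rw [← hx'2, ← Scheme.Hom.comp_apply, hθ2]
    rfl
  -- the prime of the base for the point `f x`
  have hpt : (Spec.map ψ).base (closedPoint R) = hU.primeIdealOf ⟨f.base x, hyU⟩ := by
    apply hU.fromSpec.isOpenEmbedding.injective
    rw [hU.fromSpec_primeIdealOf]
    exact hh
  set p : Ideal Γ(Y, U) := (hU.primeIdealOf ⟨f.base x, hyU⟩).asIdeal with hp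
  have hG : GeomUnibranchSmooth.PGU (Localization.AtPrime p) :=
    (GUScheme.pgu_stalk_iff hU (f.base x) hyU).mp hY
  letI : Algebra Γ(Y, U) (Hens.Hsh (Localization.AtPrime p)) :=
    ((algebraMap (Localization.AtPrime p) (Hens.Hsh (Localization.AtPrime p))).comp
      (algebraMap Γ(Y, U) (Localization.AtPrime p))).toAlgebra
  haveI : IsScalarTower Γ(Y, U) (Localization.AtPrime p) (Hens.Hsh (Localization.AtPrime p)) :=
    IsScalarTower.of_algebraMap_eq' rfl
  have hgood := goodCover_Hsh Γ(Y, U) p hG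
  haveI hstr := Hens.isStrictHenselization_Hsh (Localization.AtPrime p)
  haveI : HenselianLocalRing (Hens.Hsh (Localization.AtPrime p)) := hstr.henselian
  haveI : IsSepClosed (ResidueField (Hens.Hsh (Localization.AtPrime p))) :=
    hstr.isSepClosure.sep_closed
  haveI : 𝔮r.asIdeal.IsPrime := 𝔮r.2
  have hQ : 𝔮r.asIdeal.comap (algebraMap Γ(Y, U) (R ⊗[Γ(Y, U)] Γ(X, W))) =
      (maximalIdeal (Hens.Hsh (Localization.AtPrime p))).comap
        (algebraMap Γ(Y, U) (Hens.Hsh (Localization.AtPrime p))) := by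
    rw [IsScalarTower.algebraMap_eq Γ(Y, U) (Localization.AtPrime p)
      (Hens.Hsh (Localization.AtPrime p)), ← Ideal.comap_comap, PunctConn.comap_maximalIdeal_eq]
    have h5 : (maximalIdeal (Localization.AtPrime p)).comap
        (algebraMap Γ(Y, U) (Localization.AtPrime p)) = p :=
      IsLocalization.AtPrime.comap_maximalIdeal (Localization.AtPrime p) p
    rw [h5]
    rw [IsScalarTower.algebraMap_eq Γ(Y, U) R (R ⊗[Γ(Y, U)] Γ(X, W)), ← Ideal.comap_comap]
    have h3 : 𝔮r.asIdeal.comap (algebraMap R (R ⊗[Γ(Y, U)] Γ(X, W))) = maximalIdeal R :=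
      congrArg PrimeSpectrum.asIdeal h₂
    rw [h3]
    exact congrArg PrimeSpectrum.asIdeal hpt
  have key := genLift_of_goodCover Γ(Y, U) Γ(X, W) hD (Hens.Hsh (Localization.AtPrime p)) hgood R
    𝔮r.asIdeal hQ
  obtain ⟨P, hP, hPle, hPc⟩ := key ⊥ Ideal.isPrime_bot bot_le
  refine ⟨θ.base ⟨P, hP⟩, ?_, ?_⟩
  · exact ((PrimeSpectrum.le_iff_specializes (⟨P, hP⟩ : PrimeSpectrum _) 𝔮r).1 hPle).map
      θ.continuous
  · change (θ ≫ pullback.snd f _).base ⟨P, hP⟩ ≠ _
    rw [hθ2]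
    intro hcl
    have h4 : P.comap (algebraMap R (R ⊗[Γ(Y, U)] Γ(X, W))) = maximalIdeal R :=
      congrArg PrimeSpectrum.asIdeal hcl
    rw [hPc] at h4
    exact IsDiscreteValuationRing.not_a_field R h4.symm

end Groth.Agent.Lib.Helper87.UnivOpenAtQF
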