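import Groth.Agent.Lib.Helper87.EquidimQF
import Groth.Agent.Lib.Helper87.UnivOpenAtQF
import Groth.Agent.Lib.Helper73.DimFormula.Equidim
import Groth.Agent.Lib.Helper73.DimFormula.GenericFibre
import Groth.Agent.Lib.Helper73.DimFormula.SchemeLocal

/-!
# Equidimensionality of the local rings of the source of a quasi-finite morphism at points
over geometrically unibranch points
-/

set_option autoImplicit false
set_option linter.style.haveILetI false
universe u

open CategoryTheory CategoryTheory.Limits AlgebraicGeometry TopologicalSpace IsLocalRing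

namespace Groth.Agent.Lib.Helper87.EquidimQFScheme

open Groth.Agent.Lib.Helper87 Groth.Agent.Lib.Helper73 Groth.Agent.Lib.Helper87.EquidimQF

/-- The local ring of the source of a quasi-finite morphism sending generic points to generic
points is equidimensional at points over geometrically unibranch points. -/
theorem isEquidim_stalk_of_locallyQuasiFinite {X T : Scheme.{u}} (g : X ⟶ T)
    [LocallyQuasiFinite g] [LocallyOfFiniteType g] [IsLocallyNoetherian T]
    (hdom : ∀ x ∈ genericPoints X, g x ∈ genericPoints T) (x : X)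
    (hT : CAlg2.IsGeomUnibranch (T.presheaf.stalk (g x))) :
    EGA4.IsEquidim (X.presheaf.stalk x) := by
  rw [isEquidim_stalk_iff]
  intro ξ hξx hξmax
  obtain ⟨_, ⟨V, hV, rfl⟩, hyV, -⟩ :=
    T.isBasis_affineOpens.exists_subset_of_mem_open (Set.mem_univ (g.base x)) isOpen_univ
  obtain ⟨_, ⟨W, hW, rfl⟩, hxW, hWV'⟩ :=
    X.isBasis_affineOpens.exists_subset_of_mem_open (show x ∈ (g ⁻¹ᵁ V : Set X) from hyV)
      (g ⁻¹ᵁ V).isOpen
  have hWV : W ≤ g ⁻¹ᵁ V := hWV'
  have hξW : ξ ∈ W := hξx.mem_open W.isOpen hxW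
  haveI : IsNoetherianRing Γ(T, V) := IsLocallyNoetherian.component_noetherian ⟨V, hV⟩
  letI algC : Algebra Γ(T, V) Γ(X, W) := (g.appLE V W hWV).hom.toAlgebra
  have hft : Algebra.FiniteType Γ(T, V) Γ(X, W) :=
    HasRingHomProperty.appLE @LocallyOfFiniteType g ‹_› ⟨V, hV⟩ ⟨W, hW⟩ hWV
  have hqf : Algebra.QuasiFinite Γ(T, V) Γ(X, W) :=
    HasRingHomProperty.appLE @LocallyQuasiFinite g ‹_› ⟨V, hV⟩ ⟨W, hW⟩ hWV
  have hD : ∀ b ∈ minimalPrimes Γ(X, W), b.comap (algebraMap Γ(T, V) Γ(X, W)) ∈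
      minimalPrimes Γ(T, V) := by
    intro b hb
    haveI := hb.1.1
    obtain ⟨z, hz, h⟩ := GUScheme.exists_eq_primeIdealOf hW b
    subst h
    have h1 : z ∈ genericPoints X := (GUScheme.mem_genericPoints_iff hW z hz).mpr hb
    have h2 := (GUScheme.mem_genericPoints_iff hV (g z) (hWV hz)).mp (hdom z h1)
    have h3 := congr($(IsAffineOpen.comap_primeIdealOf_appLE V hV W hW hWV hz).1)
    rw [← h3] at h2
    exact h2
  set Q : Ideal Γ(X, W) := (hW.primeIdealOf ⟨x, hxW⟩).asIdeal with hQ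
  set 𝔭₀ : Ideal Γ(X, W) := (hW.primeIdealOf ⟨ξ, hξW⟩).asIdeal with h𝔭₀
  haveI : Q.IsPrime := (hW.primeIdealOf ⟨x, hxW⟩).isPrime
  have hξgen : ξ ∈ genericPoints X :=
    closure_singleton_mem_irreducibleComponents_of_maximal ξ hξmax
  have h𝔭₀min : 𝔭₀ ∈ minimalPrimes Γ(X, W) := (GUScheme.mem_genericPoints_iff hW ξ hξW).mp hξgen
  have hle : 𝔭₀ ≤ Q := primeIdealOf_le_of_specializes hW ξ x hξW hxW hξx
  have hcomap : (hV.primeIdealOf ⟨g x, hyV⟩).asIdeal = Q.comap (algebraMap Γ(T, V) Γ(X, W)) :=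
    (congr($(IsAffineOpen.comap_primeIdealOf_appLE V hV W hW hWV hxW).1)).symm
  have hG0 : GeomUnibranchSmooth.PGU (Localization.AtPrime (hV.primeIdealOf ⟨g x, hyV⟩).asIdeal) :=
    (GUScheme.pgu_stalk_iff hV (g.base x) hyV).mp hT
  have hG : GeomUnibranchSmooth.PGU (Localization.AtPrime (Q.comap (algebraMap Γ(T, V) Γ(X, W)))) :=
    pgu_congr _ _ hcomap hG0
  have key := height_map_quotient_eq Γ(T, V) Γ(X, W) hD Q hG 𝔭₀ h𝔭₀min hle
  rw [codim_eq_height_chart hW ξ x hξW hxW hξx]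
  rw [ringKrullDim_stalk_eq_height hW x hxW]
  exact congrArg _ key

end Groth.Agent.Lib.Helper87.EquidimQFScheme
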