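import Groth.Agent.Lib.Helper41.FiniteExtend
import Groth.Agent.Lib.Helper41.UnivOpenDvr
import Groth.Agent.Lib.Helper80.UnivOpenAt
import Groth.Agent.Lib.Helper87.FiniteOpenRing

/-!
# Universal openness at a point from openness after finite base changes: scheme level

EGA IV 14.4: over a Noetherian base, universal openness at a fibre-maximal point can be tested
on finite base changes.
-/

set_option autoImplicit false
set_option linter.style.haveILetI false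
universe u

open CategoryTheory CategoryTheory.Limits AlgebraicGeometry TopologicalSpace TensorProduct

namespace Groth.Agent.Lib.Helper87.FiniteOpenScheme

open Groth.Agent.Lib.Helper41.ZMTFinGlue Groth.Agent.Lib.Helper41.FiniteExtend
open Groth.Agent.Lib.Helper41.UnivOpenDvr Groth.Agent.Lib.Helper73
open Groth.Agent.Lib.Helper87.ChevalleyPointwise Groth.Agent.Lib.Helper87.FiniteOpenRing
open IsLocalRing

/-- A finite morphism to a quasi-compact open `U` of a qcqs scheme `S` extends to a finite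
morphism to `S` (no surjectivity needed). -/
theorem exists_finite_extension' {S V : Scheme.{u}} [CompactSpace S] [QuasiSeparatedSpace S]
    (U : S.Opens) (hU : IsCompact (U : Set S)) (v : V ⟶ (U : Scheme.{u})) [IsFinite v] :
    ∃ (V' : Scheme.{u}) (π : V' ⟶ S) (i : V ⟶ V'), IsFinite π ∧ IsPullback i v π U.ι := by
  haveI : CompactSpace (U : Scheme.{u}) := isCompact_iff_compactSpace.mp hU
  haveI : QuasiCompact U.ι := quasiCompact_of_compactSpace U.ι
  let f : V ⟶ S := v ≫ U.ι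
  obtain ⟨T, j, π₀, hj, hπ₀, hfac⟩ := zmtf_of_qcqs f
  haveI := hj
  haveI := hπ₀
  haveI : QuasiCompact (j ≫ π₀) := by rw [hfac]; infer_instance
  haveI : QuasiCompact j := QuasiCompact.of_comp j π₀
  let T' : Scheme.{u} := j.image
  let j' : V ⟶ T' := j.toImage
  let π' : T' ⟶ S := j.imageι ≫ π₀
  have hfac' : j' ≫ π' = v ≫ U.ι := by
    change j.toImage ≫ j.imageι ≫ π₀ = _
    rw [← Category.assoc, Scheme.Hom.toImage_imageι, hfac]
  haveI : IsOpenImmersion j' := inferInstanceAs (IsOpenImmersion j.toImage)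
  haveI : IsDominant j' := inferInstanceAs (IsDominant j.toImage)
  haveI : IsFinite π' := inferInstanceAs (IsFinite (j.imageι ≫ π₀))
  have hUC : UniversallyClosed ((j' ≫ π') ∣_ U) := by
    rw [hfac']
    refine morphismRestrict_of_range_eq @UniversallyClosed (𝟙 V) (v ≫ U.ι) U v (by simp) ?_
      inferInstance
    ext y
    refine ⟨fun _ => ?_, fun _ => ⟨y, rfl⟩⟩
    change (v ≫ U.ι) y ∈ U
    rw [Scheme.Hom.comp_apply]
    exact (v y).2
  have hrange : Set.range j' = π' ⁻¹' (U : Set S) := by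
    ext t
    constructor
    · rintro ⟨y, rfl⟩
      change π' (j' y) ∈ U
      rw [← Scheme.Hom.comp_apply, hfac', Scheme.Hom.comp_apply]
      exact (v y).2
    · intro ht
      exact mem_range_of_mem_of_universallyClosed j' π' U hUC t ht
  exact ⟨T', π', j', inferInstance, isPullback_of_range_eq j' π' U v hfac' hrange⟩

/-- Openness at a point descends along a square with open-embedding verticals. -/
theorem isOpenAt_of_square {P' T' P T : Type*} [TopologicalSpace P'] [TopologicalSpace T']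
    [TopologicalSpace P] [TopologicalSpace T] (ψ' : P' → T') (ψ : P → T) (a : P' → P)
    (b : T' → T) (ha : IsOpenMap a) (hb : Topology.IsEmbedding b)
    (hcomm : ∀ p, ψ (a p) = b (ψ' p)) (p : P') (h : EGA43.IsOpenAt ψ (a p)) :
    EGA43.IsOpenAt ψ' p := by
  intro U hU
  have h1 : a '' U ∈ nhds (a p) := ha.image_mem_nhds hU
  have h2 := h _ h1
  rw [hcomm] at h2
  rw [hb.isInducing.nhds_eq_comap]
  refine ⟨_, h2, ?_⟩
  rintro t ⟨_, ⟨u, hu, rfl⟩, hut⟩
  rw [hcomm] at hut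
  exact ⟨u, hu, hb.injective hut⟩

theorem isOpenAt_chart_of_finite {X Y : Scheme.{u}} [CompactSpace Y] [QuasiSeparatedSpace Y]
    (f : X ⟶ Y) (x : X)
    (H : ∀ (Y' : Scheme.{u}) (g : Y' ⟶ Y) [IsFinite g], ∀ x' : ↥(pullback f g),
      (pullback.fst f g).base x' = x → EGA43.IsOpenAt (pullback.snd f g).base x')
    {U : Y.Opens} (hU : IsAffineOpen U) {W : X.Opens} (hW : IsAffineOpen W) (hWU : W ≤ f ⁻¹ᵁ U) :
    letI : Algebra Γ(Y, U) Γ(X, W) := (f.appLE U W hWU).hom.toAlgebra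
    ∀ (C : Type u) [CommRing C] [Algebra Γ(Y, U) C] [Module.Finite Γ(Y, U) C]
      (w' : Spec (CommRingCat.of (C ⊗[Γ(Y, U)] Γ(X, W)))),
      hW.fromSpec ((Spec.map (CommRingCat.ofHom (Algebra.TensorProduct.includeRight
        (R := Γ(Y, U)) (A := C) (B := Γ(X, W))).toRingHom)) w') = x →
      EGA43.IsOpenAt (Spec.map (CommRingCat.ofHom
        (algebraMap C (C ⊗[Γ(Y, U)] Γ(X, W))))).base w' := by
  letI : Algebra Γ(Y, U) Γ(X, W) := (f.appLE U W hWU).hom.toAlgebra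
  intro C _ _ _ w' hw'
  let ψC : Γ(Y, U) ⟶ CommRingCat.of C := CommRingCat.ofHom (algebraMap Γ(Y, U) C)
  haveI hfin : IsFinite (Spec.map ψC) := by
    rw [IsFinite.SpecMap_iff]
    exact RingHom.finite_algebraMap.mpr inferInstance
  let v : Spec (CommRingCat.of C) ⟶ (U : Scheme.{u}) := Spec.map ψC ≫ hU.isoSpec.inv
  haveI : IsFinite v := inferInstanceAs (IsFinite (Spec.map ψC ≫ hU.isoSpec.inv))
  obtain ⟨V', πV, i, hπV, hpb⟩ := exists_finite_extension' U hU.isCompact v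
  haveI := hπV
  haveI : IsOpenImmersion i := MorphismProperty.of_isPullback hpb.flip inferInstance
  have hgC : i ≫ πV = Spec.map ψC ≫ hU.fromSpec := by
    rw [hpb.w, Category.assoc]
    rfl
  have hpo : IsPushout ψC (f.appLE U W hWU)
      (CommRingCat.ofHom (S := C ⊗[Γ(Y, U)] Γ(X, W))
        (Algebra.TensorProduct.includeLeftRingHom : C →+* C ⊗[Γ(Y, U)] Γ(X, W)))
      (CommRingCat.ofHom (S := C ⊗[Γ(Y, U)] Γ(X, W))
        (Algebra.TensorProduct.includeRight (R := Γ(Y, U)) (A := C)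
          (B := Γ(X, W))).toRingHom) :=
    CommRingCat.isPushout_tensorProduct Γ(Y, U) C Γ(X, W)
  obtain ⟨θ, hθ, hθ1, hθ2, -⟩ := exists_chart_of_isPushout f hU hW hWU ψC _ _ hpo
  haveI := hθ
  let m : pullback f (Spec.map ψC ≫ hU.fromSpec) ⟶ pullback f πV :=
    pullback.map f (Spec.map ψC ≫ hU.fromSpec) f πV (𝟙 X) i (𝟙 Y) (by simp) (by simp [hgC])
  have hm1 : m ≫ pullback.fst f πV = pullback.fst _ _ ≫ 𝟙 X := pullback.lift_fst _ _ _
  have hm2 : m ≫ pullback.snd f πV = pullback.snd _ _ ≫ i := pullback.lift_snd _ _ _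
  have hopen := H V' πV ((θ ≫ m).base w') (by
    rw [← Scheme.Hom.comp_apply, Category.assoc, hm1, Category.comp_id, hθ1, Scheme.Hom.comp_apply]
    exact hw')
  have hal : algebraMap C (C ⊗[Γ(Y, U)] Γ(X, W)) =
      (Algebra.TensorProduct.includeLeftRingHom : C →+* C ⊗[Γ(Y, U)] Γ(X, W)) := by
    ext c; rfl
  rw [hal]
  refine isOpenAt_of_square _ (pullback.snd f πV).base (θ ≫ m).base i.base
    (θ ≫ m).isOpenEmbedding.isOpenMap i.isOpenEmbedding.isEmbedding ?_ w' hopen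
  intro p
  rw [← Scheme.Hom.comp_apply, Category.assoc, hm2, ← Category.assoc, hθ2, Scheme.Hom.comp_apply]

theorem finiteType_of_algHom {A₀ B₁ : Type u} [CommRing A₀] [CommRing B₁] [Algebra A₀ B₁]
    [Algebra.FiniteType A₀ B₁] {e : ℕ} (π₁ : MvPolynomial (Fin e) A₀ →ₐ[A₀] B₁) :
    π₁.toRingHom.FiniteType := by
  have h1 : (algebraMap A₀ B₁).FiniteType := RingHom.finiteType_algebraMap.mpr inferInstance
  have h2 : π₁.toRingHom.comp (algebraMap A₀ (MvPolynomial (Fin e) A₀)) = algebraMap A₀ B₁ :=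
    π₁.comp_algebraMap
  rw [← h2] at h1
  exact RingHom.FiniteType.of_comp_finiteType h1

/-- Shrinking an affine chart so that a polynomial chart becomes quasi-finite. -/
theorem exists_basicOpen_quasiFinite {X Y : Scheme.{u}} (f : X ⟶ Y) [LocallyOfFiniteType f]
    {U : Y.Opens} (hU : IsAffineOpen U) {W₁ : X.Opens} (hW₁ : IsAffineOpen W₁)
    (hW₁U : W₁ ≤ f ⁻¹ᵁ U) (x : X) (hxW₁ : x ∈ W₁) (e : ℕ)
    (hfd : FlatMor.fibreDimAt f x ≤ ((e : ℕ) : WithBot ℕ∞)) :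
    ∃ (W : X.Opens) (_ : IsAffineOpen W) (hWU : W ≤ f ⁻¹ᵁ U), x ∈ W ∧
      letI : Algebra Γ(Y, U) Γ(X, W) := (f.appLE U W hWU).hom.toAlgebra
      ∃ π : MvPolynomial (Fin e) Γ(Y, U) →ₐ[Γ(Y, U)] Γ(X, W), π.toRingHom.QuasiFinite := by
  letI alg₁ : Algebra Γ(Y, U) Γ(X, W₁) := (f.appLE U W₁ hW₁U).hom.toAlgebra
  haveI hft₁ : Algebra.FiniteType Γ(Y, U) Γ(X, W₁) :=
    HasRingHomProperty.appLE @LocallyOfFiniteType f inferInstance ⟨U, hU⟩ ⟨W₁, hW₁⟩ hW₁U
  have hsq₁ : Spec.map (CommRingCat.ofHom (algebraMap Γ(Y, U) Γ(X, W₁))) ≫ hU.fromSpec =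
      hW₁.fromSpec ≫ f := IsAffineOpen.SpecMap_appLE_fromSpec f hU hW₁ hW₁U
  haveI hf' : LocallyOfFiniteType (Spec.map (CommRingCat.ofHom (algebraMap Γ(Y, U) Γ(X, W₁)))) :=
    (HasRingHomProperty.Spec_iff (P := @LocallyOfFiniteType)).mpr
      (RingHom.finiteType_algebraMap.mpr inferInstance)
  have hloc₁ := fibreDimAt_eq_of_isOpenImmersion_square hW₁.fromSpec hU.fromSpec
    (Spec.map (CommRingCat.ofHom (algebraMap Γ(Y, U) Γ(X, W₁)))) f hsq₁
  let x1 : Spec Γ(X, W₁) := hW₁.primeIdealOf ⟨x, hxW₁⟩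
  have hx1 : hW₁.fromSpec x1 = x := hW₁.fromSpec_primeIdealOf ⟨x, hxW₁⟩
  obtain ⟨π₁, hπ₁⟩ := exists_mvPolynomial_quasiFiniteAt e Γ(Y, U) Γ(X, W₁) x1
    (by rw [hloc₁ x1, hx1]; exact hfd)
  set q₁ := Spec.map (CommRingCat.ofHom π₁.toRingHom) with hq₁
  haveI hq₁lft : LocallyOfFiniteType q₁ :=
    (HasRingHomProperty.Spec_iff (P := @LocallyOfFiniteType)).mpr (finiteType_of_algHom π₁)
  have hx1loc : x1 ∈ (q₁.quasiFiniteLocus : Set (Spec Γ(X, W₁))) := hπ₁
  obtain ⟨_, ⟨s, rfl⟩, hx1s, hsub⟩ :=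
    PrimeSpectrum.isTopologicalBasis_basic_opens.exists_subset_of_mem_open hx1loc
      q₁.quasiFiniteLocus.isOpen
  let W : X.Opens := X.basicOpen s
  have hW : IsAffineOpen W := hW₁.basicOpen s
  have hWW₁ : W ≤ W₁ := X.basicOpen_le s
  have hWU : W ≤ f ⁻¹ᵁ U := hWW₁.trans hW₁U
  have hxW : x ∈ W := by
    have : x1 ∈ hW₁.fromSpec ⁻¹ᵁ X.basicOpen s := by
      rw [hW₁.fromSpec_preimage_basicOpen]; exact hx1s
    rw [← hx1]; exact this
  refine ⟨W, hW, hWU, hxW, ?_⟩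
  letI alg₀ : Algebra Γ(Y, U) Γ(X, W) := (f.appLE U W hWU).hom.toAlgebra
  haveI hft₀ : Algebra.FiniteType Γ(Y, U) Γ(X, W) :=
    HasRingHomProperty.appLE @LocallyOfFiniteType f inferInstance ⟨U, hU⟩ ⟨W, hW⟩ hWU
  let res : Γ(X, W₁) →ₐ[Γ(Y, U)] Γ(X, W) :=
    { (X.presheaf.map (homOfLE hWW₁).op).hom with
      commutes' := fun a => by
        change ((f.appLE U W₁ hW₁U) ≫ X.presheaf.map (homOfLE hWW₁).op).hom a =
          (f.appLE U W hWU).hom a
        rw [Scheme.Hom.appLE_map] }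
  refine ⟨res.comp π₁, ?_⟩
  letI algres : Algebra Γ(X, W₁) Γ(X, W) := (X.presheaf.map (homOfLE hWW₁).op).hom.toAlgebra
  haveI hloc : IsLocalization.Away s Γ(X, W) :=
    hW₁.isLocalization_of_eq_basicOpen s (homOfLE hWW₁) rfl
  haveI hoi : IsOpenImmersion (Spec.map (CommRingCat.ofHom (algebraMap Γ(X, W₁) Γ(X, W)))) :=
    IsOpenImmersion.of_isLocalization s
  set r := Spec.map (CommRingCat.ofHom (algebraMap Γ(X, W₁) Γ(X, W))) with hr
  have hcomp : Spec.map (CommRingCat.ofHom (res.comp π₁).toRingHom) = r ≫ q₁ := by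
    rw [hr, hq₁, ← Spec.map_comp, ← CommRingCat.ofHom_comp]
    rfl
  suffices h : LocallyQuasiFinite (Spec.map (CommRingCat.ofHom (res.comp π₁).toRingHom)) from
    (HasRingHomProperty.Spec_iff (P := @LocallyQuasiFinite)).mp h
  rw [hcomp]
  haveI : LocallyOfFiniteType (r ≫ q₁) := inferInstance
  rw [← Scheme.Hom.quasiFiniteLocus_eq_top_iff, Scheme.Hom.quasiFiniteLocus_comp, eq_top_iff]
  intro t _
  apply hsub
  change s ∉ (t.asIdeal.comap (algebraMap Γ(X, W₁) Γ(X, W)))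
  intro hmem
  have hunit : IsUnit (algebraMap Γ(X, W₁) Γ(X, W) s) := IsLocalization.Away.algebraMap_isUnit s
  exact t.isPrime.ne_top (Ideal.eq_top_of_isUnit_mem _ hmem hunit)

/-- EGA IV 14.4 (the nontrivial direction): over a Noetherian base, openness at the points over
`x` after all finite base changes implies universal openness at a fibre-maximal point `x`. -/
theorem isUnivOpenAt_of_finite_isOpenAt {X Y : Scheme.{u}} [IsNoetherian Y] (f : X ⟶ Y)
    [LocallyOfFiniteType f] (x : X)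
    (hmax : ∀ x' : X, f.base x' = f.base x → x ∈ closure {x'} → x' = x)
    (H : ∀ (Y' : Scheme.{u}) (g : Y' ⟶ Y) [IsFinite g], ∀ x' : ↥(pullback f g),
      (pullback.fst f g).base x' = x → EGA43.IsOpenAt (pullback.snd f g).base x') :
    EGA43.IsUnivOpenAt f x := by
  apply isUnivOpenAt_of_dvrCrit f x
  intro R _ _ _ g hg x' hx'1 hx'2
  obtain ⟨_, ⟨U, hU, rfl⟩, hyU, -⟩ :=
    Y.isBasis_affineOpens.exists_subset_of_mem_open (Set.mem_univ (f.base x)) isOpen_univ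
  obtain ⟨_, ⟨W₁, hW₁, rfl⟩, hxW₁, hW₁U'⟩ :=
    X.isBasis_affineOpens.exists_subset_of_mem_open (show x ∈ (f ⁻¹ᵁ U : Set X) from hyU)
      (f ⁻¹ᵁ U).isOpen
  have hW₁U : W₁ ≤ f ⁻¹ᵁ U := hW₁U'
  haveI : IsNoetherianRing Γ(Y, U) := IsLocallyNoetherian.component_noetherian ⟨U, hU⟩
  have hfd : FlatMor.fibreDimAt f x = ((resTrdegNat f x : ℕ) : WithBot ℕ∞) :=
    fibreDimAt_eq_resTrdegNat f x hmax
  obtain ⟨W, hW, hWU, hxW, π, hπ⟩ :=
    exists_basicOpen_quasiFinite f hU hW₁ hW₁U x hxW₁ (resTrdegNat f x) hfd.le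
  letI alg₀ : Algebra Γ(Y, U) Γ(X, W) := (f.appLE U W hWU).hom.toAlgebra
  haveI hft₀ : Algebra.FiniteType Γ(Y, U) Γ(X, W) :=
    HasRingHomProperty.appLE @LocallyOfFiniteType f inferInstance ⟨U, hU⟩ ⟨W, hW⟩ hWU
  have hsq : Spec.map (CommRingCat.ofHom (algebraMap Γ(Y, U) Γ(X, W))) ≫ hU.fromSpec =
      hW.fromSpec ≫ f := IsAffineOpen.SpecMap_appLE_fromSpec f hU hW hWU
  haveI hf' : LocallyOfFiniteType (Spec.map (CommRingCat.ofHom (algebraMap Γ(Y, U) Γ(X, W)))) :=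
    (HasRingHomProperty.Spec_iff (P := @LocallyOfFiniteType)).mpr
      (RingHom.finiteType_algebraMap.mpr inferInstance)
  have hloc := fibreDimAt_eq_of_isOpenImmersion_square hW.fromSpec hU.fromSpec
    (Spec.map (CommRingCat.ofHom (algebraMap Γ(Y, U) Γ(X, W)))) f hsq
  let x0 : Spec Γ(X, W) := hW.primeIdealOf ⟨x, hxW⟩
  have hx0 : hW.fromSpec x0 = x := hW.fromSpec_primeIdealOf ⟨x, hxW⟩
  have hfd₀ : FlatMor.fibreDimAt (Spec.map (CommRingCat.ofHom (algebraMap Γ(Y, U) Γ(X, W)))) x0 =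
      ((resTrdegNat f x : ℕ) : WithBot ℕ∞) := by
    rw [hloc x0, hx0]; exact hfd
  have hφ₀ : ∀ t : Spec Γ(X, W), f (hW.fromSpec t) =
      hU.fromSpec ((Spec.map (CommRingCat.ofHom (algebraMap Γ(Y, U) Γ(X, W)))) t) := by
    intro t
    rw [← Scheme.Hom.comp_apply, ← Scheme.Hom.comp_apply, hsq]
  have hmax₀ : ∀ t : Spec Γ(X, W), t ⤳ x0 →
      (Spec.map (CommRingCat.ofHom (algebraMap Γ(Y, U) Γ(X, W)))) t =
        (Spec.map (CommRingCat.ofHom (algebraMap Γ(Y, U) Γ(X, W)))) x0 → t = x0 := by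
    intro t ht hft
    apply hW.fromSpec.isOpenEmbedding.injective
    rw [hx0]
    apply hmax
    · rw [← hx0, hφ₀, hφ₀, hft]
    · rw [← specializes_iff_mem_closure, ← hx0]
      exact ht.map hW.fromSpec.continuous
  -- factor through the affine open
  have hc : g.base (closedPoint R) ∈ U := by rw [hg]; exact hyU
  obtain ⟨ψ, rfl⟩ := exists_factor_of_isLocalRing hU (CommRingCat.of R) g hc
  letI algR : Algebra Γ(Y, U) R := ψ.hom.toAlgebra
  have hpo : IsPushout ψ (f.appLE U W hWU)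
      (CommRingCat.ofHom (S := R ⊗[Γ(Y, U)] Γ(X, W))
        (Algebra.TensorProduct.includeLeftRingHom : R →+* R ⊗[Γ(Y, U)] Γ(X, W)))
      (CommRingCat.ofHom (S := R ⊗[Γ(Y, U)] Γ(X, W))
        (Algebra.TensorProduct.includeRight (R := Γ(Y, U)) (A := R) (B := Γ(X, W))).toRingHom) :=
    CommRingCat.isPushout_tensorProduct Γ(Y, U) R Γ(X, W)
  obtain ⟨θ, hθ, hθ1, hθ2, hθr⟩ := exists_chart_of_isPushout f hU hW hWU ψ _ _ hpo
  have hx'r : x' ∈ Set.range θ.base := by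
    rw [hθr, Set.mem_preimage, hx'1]; exact hxW
  obtain ⟨𝔮, rfl⟩ := hx'r
  let 𝔮r : PrimeSpectrum (R ⊗[Γ(Y, U)] Γ(X, W)) := 𝔮
  have hpr : (Spec.map (CommRingCat.ofHom (S := R ⊗[Γ(Y, U)] Γ(X, W))
      (Algebra.TensorProduct.includeRight (R := Γ(Y, U)) (A := R) (B := Γ(X, W))).toRingHom)) 𝔮 =
      x0 := by
    apply hW.fromSpec.isOpenEmbedding.injective
    rw [hx0, ← hx'1, ← Scheme.Hom.comp_apply, ← Scheme.Hom.comp_apply, hθ1]
  have hx₀ : 𝔮r.asIdeal.comap (Algebra.TensorProduct.includeRight (R := Γ(Y, U)) (A := R)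
      (B := Γ(X, W))).toRingHom = x0.asIdeal := congrArg PrimeSpectrum.asIdeal hpr
  haveI : 𝔮r.asIdeal.IsPrime := 𝔮r.isPrime
  obtain ⟨P, hP, hPle, hPbot⟩ := exists_prime_over_bot π hπ R 𝔮r.asIdeal x0 hx₀ hmax₀ hfd₀
    (fun C _ _ _ _ w' hw' => isOpenAt_chart_of_finite f x H hU hW hWU C w' (by rw [hw', hx0]))
  let Pr : PrimeSpectrum (R ⊗[Γ(Y, U)] Γ(X, W)) := ⟨P, hP⟩
  refine ⟨θ.base Pr, ?_, ?_⟩
  · exact ((PrimeSpectrum.le_iff_specializes Pr 𝔮r).mp hPle).map θ.continuous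
  · intro hcl
    have h1 : (θ ≫ pullback.snd f (Spec.map ψ ≫ hU.fromSpec)).base Pr = closedPoint R := by
      rw [Scheme.Hom.comp_apply]; exact hcl
    rw [hθ2] at h1
    have h2 : P.comap (Algebra.TensorProduct.includeLeftRingHom : R →+* R ⊗[Γ(Y, U)] Γ(X, W)) =
        maximalIdeal R := congrArg PrimeSpectrum.asIdeal h1
    have h3 : P.comap (algebraMap R (R ⊗[Γ(Y, U)] Γ(X, W))) = maximalIdeal R := h2
    rw [hPbot] at h3
    exact IsDiscreteValuationRing.not_a_field R h3.symm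

end Groth.Agent.Lib.Helper87.FiniteOpenScheme
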