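import Mathlib

open CategoryTheory AlgebraicGeometry

universe u

namespace Groth.Agent.Lib.Helper87.FlatRes

theorem flat_restrict_affine {X : Scheme.{u}} [IsAffine X] (V : X.Opens) (hV : IsAffineOpen V) :
    (X.presheaf.map (homOfLE (le_top : V ≤ ⊤)).op).hom.Flat := by
  have h := HasRingHomProperty.appLE (P := @Flat) (f := 𝟙 X) inferInstance
    ⟨⊤, isAffineOpen_top X⟩ ⟨V, hV⟩ (by simp)
  simpa [Scheme.Hom.appLE] using h

end Groth.Agent.Lib.Helper87.FlatRes
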