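import Mathlib
import Groth.Prelude.Def_EGA4b
import Groth.Agent.S9238
import Groth.Agent.Lib.Helper69.HensFinite
import Groth.Agent.Lib.Helper87.BranchSumHens

set_option autoImplicit false
set_option linter.style.haveILetI false
universe u

/-!
# Geometric branches of a quotient by a prime, via the strict henselization (helper87)
-/

open IsLocalRing TensorProduct

namespace Groth.Agent.Lib.Helper87.BranchSum

attribute [local instance] Algebra.TensorProduct.rightAlgebra

variable (A S : Type u) [CommRing A] [IsLocalRing A] [CommRing S] [IsLocalRing S] [Algebra A S]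
  [IsLocalHom (algebraMap A S)] [Hensel.IsStrictHenselization A S]

theorem numGeomBranches_quotient (p : Ideal A) [p.IsPrime] :
    Brnch.numGeomBranches (A ⧸ p) = ENat.card ((p.map (algebraMap A S)).minimalPrimes) := by
  have hsurj := includeRight_surjective A S p
  haveI : Nontrivial ((A ⧸ p) ⊗[A] S) :=
    Groth.Agent.Lib.Helper69.HensFinite.nontrivial_tensor A (A ⧸ p) S
  haveI : IsLocalRing ((A ⧸ p) ⊗[A] S) :=
    IsLocalRing.of_surjective'
      (Algebra.TensorProduct.includeRight : S →ₐ[A] (A ⧸ p) ⊗[A] S).toRingHom hsurj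
  haveI : IsLocalHom (algebraMap (A ⧸ p)
      (Localization.AtPrime (maximalIdeal ((A ⧸ p) ⊗[A] S)))) :=
    Groth.Agent.Lib.Helper69.HensFinite.isLocalHom_B_atPrime A (A ⧸ p) S _
  haveI := Groth.Agent.Lib.Helper69.HensFinite.isStrictHenselization_atPrime A (A ⧸ p) S
    (maximalIdeal ((A ⧸ p) ⊗[A] S))
  rw [← Groth.Agent.S9238.result (A ⧸ p)
    (Localization.AtPrime (maximalIdeal ((A ⧸ p) ⊗[A] S)))]
  have hf : Function.Surjective
      ((algebraMap ((A ⧸ p) ⊗[A] S)
        (Localization.AtPrime (maximalIdeal ((A ⧸ p) ⊗[A] S)))).comp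
        (Algebra.TensorProduct.includeRight : S →ₐ[A] (A ⧸ p) ⊗[A] S).toRingHom) :=
    (Groth.Agent.Lib.Helper69.HensFinite.surjective_atPrime A (A ⧸ p) S _).comp hsurj
  rw [card_minimalPrimes_of_surjective _ hf]
  have hinj : Function.Injective (algebraMap ((A ⧸ p) ⊗[A] S)
      (Localization.AtPrime (maximalIdeal ((A ⧸ p) ⊗[A] S)))) := by
    refine IsLocalization.injective (M := (maximalIdeal ((A ⧸ p) ⊗[A] S)).primeCompl)
      (Localization.AtPrime (maximalIdeal ((A ⧸ p) ⊗[A] S))) ?_
    intro x hx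
    have hu : IsUnit x := by
      by_contra hnu
      exact hx hnu
    exact hu.mem_nonZeroDivisors
  have hker : RingHom.ker ((algebraMap ((A ⧸ p) ⊗[A] S)
        (Localization.AtPrime (maximalIdeal ((A ⧸ p) ⊗[A] S)))).comp
        (Algebra.TensorProduct.includeRight : S →ₐ[A] (A ⧸ p) ⊗[A] S).toRingHom) =
      p.map (algebraMap A S) := by
    rw [← RingHom.comap_ker, (RingHom.injective_iff_ker_eq_bot _).mp hinj,
      ← RingHom.ker_eq_comap_bot, ker_includeRight]
  rw [hker]

end Groth.Agent.Lib.Helper87.BranchSum
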