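import Groth.Agent.Lib.Helper87.GeomPtsScheme

set_option autoImplicit false
set_option linter.unusedSectionVars false
set_option linter.style.haveILetI false
universe u

open CategoryTheory CategoryTheory.Limits AlgebraicGeometry IsLocalRing
open Groth.Agent.Lib.Helper57.Wt

namespace Groth.Agent.Lib.Helper87.GeomPts

/-- Over a point with separably closed residue field all degrees are one. -/
theorem deg_eq_one_of_isSepClosed_residueField {G V : Scheme.{u}} (q : G ⟶ V) (p : G)
    [IsSepClosed (V.residueField (q p))] (h : (q.residueFieldMap p).hom.Finite) :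
    deg q p = 1 := by
  apply deg_eq_one
  letI := (q.residueFieldMap p).hom.toAlgebra
  have : Module.Finite (V.residueField (q p)) (G.residueField p) := h
  infer_instance

/-- If all points of the base-changed fibre over `v` have degree one, the number of points of that
fibre is the geometric number of points of the fibre over the image point. -/
theorem nGeomConnComp_eq_card_fiber {X Y V : Scheme.{u}} (f : X ⟶ Y) [LocallyQuasiFinite f]
    [LocallyOfFiniteType f] (hfin : ∀ y : Y, (f ⁻¹' {y}).Finite) (g : V ⟶ Y) (v : V)
    (hdeg : ∀ u : ↑(pullback f g), pullback.snd f g u = v → deg (pullback.snd f g) u = 1) :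
    MoreMor.nGeomConnComp f (g v) = ENat.card ↥((pullback.snd f g).fiber v) := by
  rw [(nGeomConnComp_eq f (g v) hfin).1]
  have hbc := fibreIntegral_baseChange_lqf f (pullback.snd f g) (pullback.fst f g) g
    (IsPullback.of_hasPullback f g) (fun _ => 1) v
  rw [← hbc, fibreIntegral_eq]
  have h5 : ∀ u : {u : ↑(pullback f g) // pullback.snd f g u = v},
      ((fun _ => (1 : ℤ)) ∘ pullback.fst f g) u.1 * deg (pullback.snd f g) u.1 = 1 := by
    intro u
    rw [hdeg u.1 u.2]
    rfl
  simp_rw [h5]
  have hF : {p : ↑(pullback f g) | pullback.snd f g p = v}.Finite := finite_fibre_snd f hfin g v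
  have : Finite {u : ↑(pullback f g) // pullback.snd f g u = v} := hF
  have := Fintype.ofFinite {u : ↑(pullback f g) // pullback.snd f g u = v}
  rw [finsum_eq_sum_of_fintype, Finset.sum_const, Finset.card_univ, nsmul_eq_mul, mul_one,
    ← Nat.card_eq_fintype_card, Int.toNat_natCast, ← ENat.card_eq_coe_natCard]
  exact ENat.card_congr ((pullback.snd f g).fiberHomeo v).toEquiv.symm

end Groth.Agent.Lib.Helper87.GeomPts
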