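import Mathlib
import Groth.Agent.S4433
import Groth.Agent.Lib.Helper87.DvrLiftRing

set_option autoImplicit false
set_option linter.unusedSectionVars false
set_option linter.style.haveILetI false
universe u

open IsLocalRing Polynomial

namespace Groth.Agent.Lib.Helper87.GeomPts

/-- Ring-level construction: a discrete valuation ring with algebraically closed residue field,
dominating a Noetherian local ring along a prescribed non-maximal prime, whose fraction field
splits a prescribed polynomial over the residue field of that prime. -/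
theorem exists_dvr_splitting (R₀ : Type u) [CommRing R₀] [IsNoetherianRing R₀] [IsLocalRing R₀]
    (κ' : Type u) [Field κ'] (π : R₀ →+* κ')
    (hπ : RingHom.ker π ≠ maximalIdeal R₀)
    (hfrac : ∀ z : κ', ∃ a s : R₀, π s ≠ 0 ∧ z * π s = π a)
    (P : κ'[X]) :
    ∃ (B : Type u) (_ : CommRing B) (_ : IsDomain B) (_ : IsDiscreteValuationRing B)
      (φ : R₀ →+* B) (ι : κ' →+* FractionRing B),
      IsLocalHom φ ∧ RingHom.ker φ = RingHom.ker π ∧ IsAlgClosed (ResidueField B) ∧
      ι.comp π = (algebraMap B (FractionRing B)).comp φ ∧ (P.map ι).Splits := by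
  classical
  set p : Ideal R₀ := RingHom.ker π with hp
  have hpprime : p.IsPrime := RingHom.ker_isPrime π
  let R := R₀ ⧸ p
  have hmk : IsLocalHom (Ideal.Quotient.mk p) :=
    IsLocalHom.of_surjective _ Ideal.Quotient.mk_surjective
  have hRloc : IsLocalRing R := IsLocalRing.of_surjective (Ideal.Quotient.mk p)
    Ideal.Quotient.mk_surjective
  have hRnf : ¬ IsField R := by
    intro hf
    have hmax : p.IsMaximal := Ideal.Quotient.maximal_of_isField p hf
    exact hπ (IsLocalRing.eq_maximalIdeal hmax)
  letI algRκ : Algebra R κ' := (RingHom.kerLift π).toAlgebra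
  have hinjRκ : Function.Injective (algebraMap R κ') := RingHom.kerLift_injective π
  have hmkπ : ∀ a : R₀, algebraMap R κ' (Ideal.Quotient.mk p a) = π a := fun a => rfl
  haveI : FaithfulSMul R κ' := (faithfulSMul_iff_algebraMap_injective R κ').mpr hinjRκ
  haveI hfr : IsFractionRing R κ' := by
    apply IsFractionRing.of_field
    intro z
    obtain ⟨a, s, hs, hz⟩ := hfrac z
    refine ⟨Ideal.Quotient.mk p a, Ideal.Quotient.mk p s, ?_⟩
    rw [hmkπ, hmkπ, eq_div_iff hs, hz]
  -- the splitting field
  obtain ⟨L, iL, iAlgL, hLfd, hLsplit⟩ : ∃ (L : Type u) (_ : Field L) (_ : Algebra κ' L),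
      FiniteDimensional κ' L ∧ (P.map (algebraMap κ' L)).Splits :=
    ⟨P.SplittingField, inferInstance, inferInstance,
      Polynomial.IsSplittingField.finiteDimensional _ P, Polynomial.SplittingField.splits P⟩
  haveI : IsNoetherian κ' L := IsNoetherian.iff_fg.2 inferInstance
  have hfg : (⊤ : IntermediateField κ' L).FG := IntermediateField.fg_of_noetherian _
  letI algRL : Algebra R L := ((algebraMap κ' L).comp (algebraMap R κ')).toAlgebra
  haveI : IsScalarTower R κ' L := IsScalarTower.of_algebraMap_eq (fun _ => rfl)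
  have hinjRL : Function.Injective (algebraMap R L) :=
    (algebraMap κ' L).injective.comp hinjRκ
  obtain ⟨V, hVdvr, hVmem, hVdom⟩ := Groth.Agent.S4433.result R hRnf κ' L hfg
  let ψ : R →+* V := (algebraMap R L).codRestrict V hVmem
  have hψval : ∀ a : R, ((ψ a : V) : L) = algebraMap R L a := fun a => rfl
  have hψinj : Function.Injective ψ := fun a a' h =>
    hinjRL (by rw [← hψval, ← hψval, h])
  have hψloc : IsLocalHom ψ := by
    refine ⟨fun a ha => ?_⟩
    by_contra hna
    have hmem : a ∈ maximalIdeal R := (IsLocalRing.mem_maximalIdeal a).mpr hna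
    have h1 := hVdom a hmem
    have h2 := (V.valuation_eq_one_iff (ψ a)).mp ha
    rw [hψval] at h2
    rw [h2] at h1
    exact lt_irrefl _ h1
  -- extend the residue field
  obtain ⟨B, iB, iBdom, iBdvr, -, φ₂, hφ₂loc, e, hφ₂inj, -⟩ :=
    Groth.Agent.Lib.Helper87.DvrLiftRing.exists_complete_dvr_ext V
      (AlgebraicClosure (ResidueField V))
  have hAC : IsAlgClosed (ResidueField B) :=
    IsAlgClosed.of_ringEquiv (k := AlgebraicClosure (ResidueField V)) (ResidueField B) e.symm
  let φ : R₀ →+* B := φ₂.comp (ψ.comp (Ideal.Quotient.mk p))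
  have hginj : Function.Injective ((algebraMap B (FractionRing B)).comp φ₂) :=
    (IsFractionRing.injective B (FractionRing B)).comp hφ₂inj
  let lft : L →+* FractionRing B := IsFractionRing.lift (A := V) (K := L) hginj
  have hlft : ∀ v : V, lft (v : L) = algebraMap B (FractionRing B) (φ₂ v) := fun v =>
    IsFractionRing.lift_algebraMap hginj v
  refine ⟨B, iB, iBdom, iBdvr, φ, lft.comp (algebraMap κ' L), ?_, ?_, hAC, ?_, ?_⟩
  · haveI := hφ₂loc
    haveI := hψloc
    haveI := hmk
    haveI : IsLocalHom (ψ.comp (Ideal.Quotient.mk p)) := RingHom.isLocalHom_comp _ _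
    exact RingHom.isLocalHom_comp _ _
  · ext a
    rw [RingHom.mem_ker, RingHom.mem_ker]
    show φ₂ (ψ (Ideal.Quotient.mk p a)) = 0 ↔ _
    rw [map_eq_zero_iff φ₂ hφ₂inj, map_eq_zero_iff ψ hψinj, Ideal.Quotient.eq_zero_iff_mem, hp,
      RingHom.mem_ker]
  · ext a
    show lft (algebraMap κ' L (π a)) = algebraMap B (FractionRing B) (φ₂ (ψ (Ideal.Quotient.mk p a)))
    rw [← hlft, hψval]
    rfl
  · have h2 := hLsplit.map lft
    rwa [Polynomial.map_map] at h2

end Groth.Agent.Lib.Helper87.GeomPts
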