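import Mathlib

set_option autoImplicit false
set_option linter.unusedSectionVars false
universe u

open Polynomial

namespace Groth.Agent.Lib.Helper87.GeomPts

/-- For a finite field extension there is a nonzero polynomial whose splitting over an overfield
`K` of the base forces every compatible embedding of the extension to land in `K`. -/
theorem exists_poly_good (F E₁ : Type u) [Field F] [Field E₁] [Algebra F E₁]
    [FiniteDimensional F E₁] :
    ∃ Q : F[X], Q ≠ 0 ∧ ∀ (K : Type u) [Field K] (ι : F →+* K), (Q.map ι).Splits →
      ∀ (E : Type u) [Field E] (σ : E₁ →+* E) (b : K →+* E),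
        σ.comp (algebraMap F E₁) = b.comp ι → ∀ c, σ c ∈ b.range := by
  classical
  obtain ⟨S, hS⟩ := (Module.Finite.fg_top : (⊤ : Submodule F E₁).FG)
  have hint : ∀ c : E₁, IsIntegral F c := fun c => Algebra.IsIntegral.isIntegral c
  refine ⟨∏ c ∈ S, minpoly F c, ?_, ?_⟩
  · rw [Finset.prod_ne_zero_iff]
    exact fun c _ => minpoly.ne_zero (hint c)
  · intro K _ ι hsp E _ σ b hcomp
    have hS' : ∀ c ∈ S, σ c ∈ b.range := by
      intro c hc
      have h1 : ((minpoly F c).map ι).Splits := by
        rw [Polynomial.map_prod] at hsp
        have hne : ∀ i ∈ S, (minpoly F i).map ι ≠ 0 := fun i _ =>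
          (Polynomial.map_ne_zero_iff ι.injective).mpr (minpoly.ne_zero (hint i))
        exact (Polynomial.splits_prod_iff hne).mp hsp c hc
      have h2 : (((minpoly F c).map ι).map b).IsRoot (σ c) := by
        rw [Polynomial.map_map, ← hcomp, ← Polynomial.map_map, Polynomial.IsRoot.def,
          Polynomial.eval_map, Polynomial.eval₂_hom, Polynomial.eval_map, ← Polynomial.aeval_def,
          minpoly.aeval, map_zero]
      exact h1.mem_range_of_isRoot
        ((Polynomial.map_ne_zero_iff ι.injective).mpr (minpoly.ne_zero (hint c))) h2
    intro c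
    have hc : c ∈ Submodule.span F (S : Set E₁) := by rw [hS]; trivial
    induction hc using Submodule.span_induction with
    | mem x hx => exact hS' x hx
    | zero => rw [map_zero]; exact b.range.zero_mem
    | add x y _ _ hx hy => rw [map_add]; exact b.range.add_mem hx hy
    | smul a x _ hx =>
      rw [Algebra.smul_def, map_mul]
      refine b.range.mul_mem ?_ hx
      have := congrArg (fun g => g a) hcomp
      simp only [RingHom.comp_apply] at this
      rw [this]
      exact ⟨ι a, rfl⟩

end Groth.Agent.Lib.Helper87.GeomPts
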