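import Groth.Agent.Lib.Helper87.GeomPtsStalk

set_option autoImplicit false
set_option linter.unusedSectionVars false
set_option linter.style.haveILetI false
universe u

open CategoryTheory CategoryTheory.Limits AlgebraicGeometry IsLocalRing Polynomial
open Groth.Agent.Lib.Helper57.Wt

namespace Groth.Agent.Lib.Helper87.GeomPts

/-- The residue field of the spectrum of a local ring at the closed point is algebraically
closed when the residue field of the ring is. -/
theorem isAlgClosed_residueField_closedPoint (B : Type u) [CommRing B] [IsLocalRing B]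
    [IsAlgClosed (ResidueField B)] :
    IsAlgClosed ((Spec (CommRingCat.of B)).residueField (closedPoint B)) := by
  let e1 : ResidueField B ≃+* (maximalIdeal B).ResidueField :=
    RingEquiv.ofBijective (algebraMap (B ⧸ maximalIdeal B) (maximalIdeal B).ResidueField)
      (Ideal.bijective_algebraMap_quotient_residueField _)
  let e2 : (Spec (CommRingCat.of B)).residueField (closedPoint B) ≃+*
      (maximalIdeal B).ResidueField :=
    (Scheme.Spec.residueFieldIso (CommRingCat.of B) (closedPoint B)).commRingCatIsoToRingEquiv
  exact IsAlgClosed.of_ringEquiv (k := ResidueField B) _ (e1.trans e2.symm)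

/-- The data at the generic point of the spectrum of a domain. -/
theorem exists_iota_generic {Y : Scheme.{u}} {y y' : Y} (hgen : y' ⤳ y)
    (B : Type u) [CommRing B] [IsDomain B] (φ : Y.presheaf.stalk y →+* B)
    (ι₀ : Y.residueField y' →+* FractionRing B)
    (hcompat : ι₀.comp (stalkToResidue hgen).hom = (algebraMap B (FractionRing B)).comp φ)
    (P : (Y.residueField y')[X]) (hsp : (P.map ι₀).Splits) :
    ∃ ι : Y.residueField y' ⟶
        CommRingCat.of ((Spec (CommRingCat.of B)).residueField (⊥ : PrimeSpectrum B)),
      (Spec (CommRingCat.of B)).fromSpecResidueField (⊥ : PrimeSpectrum B) ≫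
          (Spec.map (CommRingCat.ofHom φ) ≫ Y.fromSpecStalk y) =
        Spec.map ι ≫ Y.fromSpecResidueField y' ∧ (P.map ι.hom).Splits := by
  set η : Spec (CommRingCat.of B) := (⊥ : PrimeSpectrum B) with hη
  let Fη := η.asIdeal.ResidueField
  have hinj : Function.Injective (algebraMap B Fη) := by
    rw [injective_iff_map_eq_zero]
    intro b hb
    have h1 : b ∈ η.asIdeal := (Ideal.algebraMap_residueField_eq_zero).mp hb
    exact h1
  let j : FractionRing B →+* Fη := IsFractionRing.lift (A := B) (K := FractionRing B) hinj
  have hj : ∀ b : B, j (algebraMap B (FractionRing B) b) = algebraMap B Fη b := fun b =>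
    IsFractionRing.lift_algebraMap hinj b
  let resIso := Scheme.Spec.residueFieldIso (CommRingCat.of B) η
  let ι : Y.residueField y' ⟶ (Spec (CommRingCat.of B)).residueField η :=
    CommRingCat.ofHom (j.comp ι₀) ≫ resIso.inv
  refine ⟨ι, ?_, ?_⟩
  · have h1 : (Spec (CommRingCat.of B)).fromSpecResidueField η =
        Spec.map resIso.inv ≫ Spec.map (CommRingCat.ofHom (algebraMap B Fη)) :=
      (Scheme.Spec.map_residueFieldIso_inv_eq_fromSpecResidueField (CommRingCat.of B) η).symm
    have h2 : stalkToResidue hgen ≫ CommRingCat.ofHom (j.comp ι₀) =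
        CommRingCat.ofHom φ ≫ CommRingCat.ofHom (algebraMap B Fη) := by
      ext r
      have h3 := congrArg (fun ψ => ψ r) hcompat
      simp only [RingHom.comp_apply] at h3
      show j (ι₀ ((stalkToResidue hgen).hom r)) = algebraMap B Fη (φ r)
      rw [h3, hj]
    rw [h1, ← specMap_stalkToResidue hgen]
    show _ = Spec.map (CommRingCat.ofHom (j.comp ι₀) ≫ resIso.inv) ≫ _
    simp only [Spec.map_comp, Category.assoc]
    rw [← Spec.map_comp_assoc (CommRingCat.ofHom φ), ← h2, Spec.map_comp, Category.assoc]
    rfl
  · have h1 := (hsp.map j).map resIso.inv.hom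
    rw [Polynomial.map_map, Polynomial.map_map] at h1
    exact h1

/-- **Main construction.** For a quasi-finite morphism with finite fibres over a locally
Noetherian base and a proper generization `y'` of `y`, there is a discrete valuation ring mapping
to the base (closed point to `y`, generic point to `y'`) such that all points of the base change
over either point of the trait have separable degree one. -/
theorem exists_dvr_deg_one {X Y : Scheme.{u}} [IsLocallyNoetherian Y] (f : X ⟶ Y)
    [LocallyQuasiFinite f] [LocallyOfFiniteType f] (hfin : ∀ y : Y, (f ⁻¹' {y}).Finite)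
    (y y' : Y) (hne : y' ≠ y) (hgen : y' ⤳ y) :
    ∃ (A : Type u) (_ : CommRing A) (_ : IsDomain A) (_ : IsDiscreteValuationRing A)
      (g : Spec (CommRingCat.of A) ⟶ Y),
      g (closedPoint A) = y ∧ g (⊥ : PrimeSpectrum A) = y' ∧
      (∀ u : ↑(pullback f g), pullback.snd f g u = closedPoint A →
        deg (pullback.snd f g) u = 1) ∧
      (∀ u : ↑(pullback f g), pullback.snd f g u = (⊥ : PrimeSpectrum A) →
        deg (pullback.snd f g) u = 1) := by
  obtain ⟨P, -, hPgood⟩ := exists_poly_good_fibre f hfin y'
  obtain ⟨B, iB, iBdom, iBdvr, φ, ι₀, hφloc, hφker, hAC, hcompat, hsplit⟩ :=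
    exists_dvr_splitting (Y.presheaf.stalk y) (Y.residueField y') (stalkToResidue hgen).hom
      (ker_stalkToResidue_ne hgen hne) (stalkToResidue_frac hgen) P
  let g : Spec (CommRingCat.of B) ⟶ Y := Spec.map (CommRingCat.ofHom φ) ≫ Y.fromSpecStalk y
  refine ⟨B, iB, iBdom, iBdvr, g, ?_, ?_, ?_, ?_⟩
  · show Y.fromSpecStalk y (Spec.map (CommRingCat.ofHom φ) (closedPoint B)) = y
    have h1 : Spec.map (CommRingCat.ofHom φ) (closedPoint B) =
        closedPoint (Y.presheaf.stalk y) := by
      haveI := hφloc
      exact IsLocalRing.comap_closedPoint φ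
    rw [h1]
    exact Scheme.fromSpecStalk_closedPoint
  · show Y.fromSpecStalk y (Spec.map (CommRingCat.ofHom φ) (⊥ : PrimeSpectrum B)) = y'
    refine Eq.trans (congrArg (Y.fromSpecStalk y) ?_) (fromSpecStalk_ker hgen)
    apply PrimeSpectrum.ext
    show Ideal.comap φ ⊥ = RingHom.ker (stalkToResidue hgen).hom
    rw [← hφker]
    rfl
  · intro u hu
    haveI : IsAlgClosed ((Spec (CommRingCat.of B)).residueField (pullback.snd f g u)) := by
      rw [hu]
      exact isAlgClosed_residueField_closedPoint B
    haveI : LocallyQuasiFinite (pullback.snd f g) :=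
      MorphismProperty.pullback_snd _ _ inferInstance
    haveI : LocallyOfFiniteType (pullback.snd f g) :=
      MorphismProperty.pullback_snd _ _ inferInstance
    exact deg_eq_one_of_isSepClosed_residueField _ _ (finite_residueFieldMap _ _)
  · intro u hu
    have key : ∀ a : Spec (CommRingCat.of B), a = (⊥ : PrimeSpectrum B) →
        ∃ ι : Y.residueField y' ⟶
          CommRingCat.of ((Spec (CommRingCat.of B)).residueField a),
        (Spec (CommRingCat.of B)).fromSpecResidueField a ≫ g =
          Spec.map ι ≫ Y.fromSpecResidueField y' ∧ (P.map ι.hom).Splits := by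
      intro a ha
      subst ha
      exact exists_iota_generic hgen B φ ι₀ hcompat P hsplit
    obtain ⟨ι, hι, hsp⟩ := key _ hu
    exact deg_snd_eq_one_of_good f g u y' ι hι (hPgood _ ι hsp)

end Groth.Agent.Lib.Helper87.GeomPts
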