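import Groth.Agent.Lib.Helper87.GeomPtsField
import Groth.Agent.Lib.Helper57.Wt9

set_option autoImplicit false
set_option linter.unusedSectionVars false
set_option linter.style.haveILetI false
universe u

open CategoryTheory CategoryTheory.Limits AlgebraicGeometry IsLocalRing

namespace Groth.Agent.Lib.Helper87.GeomPts

/-- Every compatible embedding of a residue field of the fibre over `y'` into an overfield of `K`
lands in `K`. -/
def Good {X Y : Scheme.{u}} (f : X ⟶ Y) (y' : Y) (K : Type u) [Field K]
    (ι : Y.residueField y' ⟶ CommRingCat.of K) : Prop :=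
  ∀ (x : X) (hx : f x = y') (E : Type u) [Field E] (σ : X.residueField x ⟶ CommRingCat.of E)
    (b : K →+* E),
    ((Y.residueFieldCongr hx).inv ≫ f.residueFieldMap x) ≫ σ = ι ≫ CommRingCat.ofHom b →
      ∀ c, σ.hom c ∈ b.range

theorem congr_inv_fromSpecResidueField {Y : Scheme.{u}} {a b : Y} (h : a = b) :
    Spec.map (Y.residueFieldCongr h).inv ≫ Y.fromSpecResidueField b =
      Y.fromSpecResidueField a := by
  subst h; simp

theorem exists_lift_of_good {X Y : Scheme.{u}} (f : X ⟶ Y) (y' : Y) (K : Type u) [Field K]
    (ι : Y.residueField y' ⟶ CommRingCat.of K) (hgood : Good f y' K ι)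
    (E : Type u) [Field E] (b : K →+* E) (ζ : Spec (CommRingCat.of E) ⟶ X)
    (hζ : ζ ≫ f = Spec.map (ι ≫ CommRingCat.ofHom b) ≫ Y.fromSpecResidueField y') :
    ∃ ζK : Spec (CommRingCat.of K) ⟶ X,
      ζK ≫ f = Spec.map ι ≫ Y.fromSpecResidueField y' ∧
        Spec.map (CommRingCat.ofHom b) ≫ ζK = ζ := by
  set x : X := ζ (closedPoint E) with hxdef
  set σ : X.residueField x ⟶ CommRingCat.of E :=
    X.descResidueField (Scheme.stalkClosedPointTo ζ) with hσdef
  have hσ : Spec.map σ ≫ X.fromSpecResidueField x = ζ :=
    Scheme.descResidueField_stalkClosedPointTo_fromSpecResidueField E X ζ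
  have hx : f x = y' := by
    have h1 := congrArg (fun φ : Spec (CommRingCat.of E) ⟶ Y => φ (closedPoint E)) hζ
    simp only [Scheme.Hom.comp_apply, Scheme.fromSpecResidueField_apply] at h1
    exact h1
  have hcongr : Spec.map (Y.residueFieldCongr hx).inv ≫ Y.fromSpecResidueField y' =
      Y.fromSpecResidueField (f x) := congr_inv_fromSpecResidueField hx
  have hcomp : ((Y.residueFieldCongr hx).inv ≫ f.residueFieldMap x) ≫ σ =
      ι ≫ CommRingCat.ofHom b := by
    apply Spec.map_injective
    rw [← cancel_mono (Y.fromSpecResidueField y')]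
    rw [hζ.symm, ← hσ]
    simp only [Spec.map_comp, Category.assoc]
    rw [hcongr, Scheme.Hom.SpecMap_residueFieldMap_fromSpecResidueField]
  have hrange := hgood x hx E σ b hcomp
  have hbinj : Function.Injective b := b.injective
  let e : K ≃+* b.range := RingEquiv.ofBijective b.rangeRestrict
    ⟨fun a a' h => hbinj (congrArg Subtype.val h), b.rangeRestrict_surjective⟩
  let σ' : X.residueField x →+* b.range := σ.hom.codRestrict b.range hrange
  let σK : X.residueField x →+* K := (e.symm : b.range →+* K).comp σ'
  have hσK : ∀ c, b (σK c) = σ.hom c := by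
    intro c
    have h1 : e (σK c) = σ' c := e.apply_symm_apply _
    exact congrArg Subtype.val h1
  have hσK' : CommRingCat.ofHom σK ≫ CommRingCat.ofHom b = σ := by
    ext c
    exact hσK c
  have hι : ((Y.residueFieldCongr hx).inv ≫ f.residueFieldMap x) ≫ CommRingCat.ofHom σK = ι := by
    ext r
    apply hbinj
    have h1 := congrArg (fun φ => φ.hom r) hcomp
    simp only [CommRingCat.hom_comp, RingHom.comp_apply, CommRingCat.hom_ofHom] at h1
    exact (hσK _).trans h1
  refine ⟨Spec.map (CommRingCat.ofHom σK) ≫ X.fromSpecResidueField x, ?_, ?_⟩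
  · rw [Category.assoc, ← Scheme.Hom.SpecMap_residueFieldMap_fromSpecResidueField, ← hcongr,
      ← hι]
    simp only [Spec.map_comp, Category.assoc]
    rfl
  · rw [← Category.assoc, ← Spec.map_comp, hσK', hσ]

/-- If the canonical point `Spec κ(u) ⟶ P` factors through a `K`-point along `β`, then `β` is
surjective. -/
theorem surjective_of_factor {P : Scheme.{u}} (u : P) (K : Type u) [Field K]
    (β : CommRingCat.of K ⟶ P.residueField u) (d : Spec (CommRingCat.of K) ⟶ P)
    (h : P.fromSpecResidueField u = Spec.map β ≫ d) : Function.Surjective β.hom := by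
  set γ : P.residueField (d (closedPoint K)) ⟶ CommRingCat.of K :=
    P.descResidueField (Scheme.stalkClosedPointTo d) with hγdef
  have hγ : Spec.map γ ≫ P.fromSpecResidueField (d (closedPoint K)) = d :=
    Scheme.descResidueField_stalkClosedPointTo_fromSpecResidueField K P d
  have e : d (closedPoint K) = u := by
    have h1 := congrArg (fun φ : Spec (P.residueField u) ⟶ P =>
      φ (closedPoint (P.residueField u))) h
    simp only [Scheme.Hom.comp_apply, Scheme.fromSpecResidueField_apply] at h1
    rw [h1]
    congr 1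
    exact Subsingleton.elim (α := PrimeSpectrum K) _ _
  have h2 : P.fromSpecResidueField u =
      Spec.map ((P.residueFieldCongr e).inv ≫ γ ≫ β) ≫ P.fromSpecResidueField u := by
    conv_lhs => rw [h, ← hγ, ← congr_inv_fromSpecResidueField e]
    simp only [Spec.map_comp, Category.assoc]
  have h3 : Spec.map ((P.residueFieldCongr e).inv ≫ γ ≫ β) = 𝟙 _ := by
    rw [← cancel_mono (P.fromSpecResidueField u), ← h2, Category.id_comp]
  have h4 : (P.residueFieldCongr e).inv ≫ γ ≫ β = 𝟙 _ := by
    apply Spec.map_injective
    rw [h3, Spec.map_id]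
  intro z
  refine ⟨γ.hom ((P.residueFieldCongr e).inv.hom z), ?_⟩
  have := congrArg (fun φ => φ.hom z) h4
  simpa using this

open Groth.Agent.Lib.Helper57.Wt in
/-- Surjective residue field map gives degree one. -/
theorem deg_eq_one_of_surjective {P V : Scheme.{u}} (q : P ⟶ V) (p : P)
    (h : Function.Surjective (q.residueFieldMap p).hom) : deg q p = 1 := by
  apply deg_eq_one
  letI := (q.residueFieldMap p).hom.toAlgebra
  rw [isPurelyInseparable_iff]
  intro x
  obtain ⟨a, rfl⟩ := h x
  exact ⟨isIntegral_algebraMap, fun _ => ⟨a, rfl⟩⟩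

open Groth.Agent.Lib.Helper57.Wt in
/-- Degree one at the points of a base change lying over a point whose residue field splits the
fibre. -/
theorem deg_snd_eq_one_of_good {X Y V : Scheme.{u}} (f : X ⟶ Y) (g : V ⟶ Y)
    (u : ↑(pullback f g)) (y' : Y)
    (ι : Y.residueField y' ⟶ CommRingCat.of (V.residueField (pullback.snd f g u)))
    (hι : V.fromSpecResidueField (pullback.snd f g u) ≫ g =
      Spec.map ι ≫ Y.fromSpecResidueField y')
    (hgood : Good f y' (V.residueField (pullback.snd f g u)) ι) :
    deg (pullback.snd f g) u = 1 := by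
  apply deg_eq_one_of_surjective
  set β := (pullback.snd f g).residueFieldMap u with hβ
  let c := (pullback f g).fromSpecResidueField u
  have hcs : c ≫ pullback.snd f g = Spec.map β ≫ V.fromSpecResidueField (pullback.snd f g u) :=
    (Scheme.Hom.SpecMap_residueFieldMap_fromSpecResidueField _ _).symm
  have hζ : (c ≫ pullback.fst f g) ≫ f =
      Spec.map (ι ≫ CommRingCat.ofHom β.hom) ≫ Y.fromSpecResidueField y' := by
    rw [Category.assoc, pullback.condition, ← Category.assoc, hcs, Category.assoc, hι,
      Spec.map_comp, Category.assoc]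
    rfl
  obtain ⟨ζK, hζK1, hζK2⟩ := exists_lift_of_good f y' _ ι hgood _ β.hom _ hζ
  let d : Spec (CommRingCat.of (V.residueField (pullback.snd f g u))) ⟶ pullback f g :=
    pullback.lift ζK (V.fromSpecResidueField (pullback.snd f g u)) (by rw [hζK1, hι])
  have hd : c = Spec.map (CommRingCat.ofHom β.hom) ≫ d := by
    apply pullback.hom_ext
    · rw [Category.assoc, pullback.lift_fst, hζK2]
    · rw [Category.assoc, pullback.lift_snd, hcs]
      rfl
  exact surjective_of_factor u _ (CommRingCat.ofHom β.hom) d hd

end Groth.Agent.Lib.Helper87.GeomPts
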