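import Groth.Agent.Lib.Helper87.GeomPtsCount
import Groth.Agent.Lib.Helper87.GeomPtsDvr

set_option autoImplicit false
set_option linter.unusedSectionVars false
set_option linter.style.haveILetI false
universe u

open CategoryTheory CategoryTheory.Limits AlgebraicGeometry IsLocalRing Polynomial
open Groth.Agent.Lib.Helper57.Wt

namespace Groth.Agent.Lib.Helper87.GeomPts

section Stalk

variable {Y : Scheme.{u}} {y y' : Y} (hgen : y' ⤳ y)

/-- The canonical map from the local ring at `y` to the residue field of a generization. -/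
noncomputable def stalkToResidue : Y.presheaf.stalk y ⟶ Y.residueField y' :=
  Y.presheaf.stalkSpecializes hgen ≫ Y.residue y'

theorem specMap_stalkToResidue :
    Spec.map (stalkToResidue hgen) ≫ Y.fromSpecStalk y = Y.fromSpecResidueField y' := by
  unfold stalkToResidue Scheme.fromSpecResidueField
  rw [Spec.map_comp, Category.assoc, Scheme.SpecMap_stalkSpecializes_fromSpecStalk]

theorem fromSpecStalk_ker :
    Y.fromSpecStalk y ⟨RingHom.ker (stalkToResidue hgen).hom, RingHom.ker_isPrime _⟩ = y' := by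
  have h1 := congrArg (fun φ : Spec (Y.residueField y') ⟶ Y =>
    φ (closedPoint (Y.residueField y'))) (specMap_stalkToResidue hgen)
  simp only [Scheme.Hom.comp_apply, Scheme.fromSpecResidueField_apply] at h1
  refine Eq.trans (congrArg (Y.fromSpecStalk y) ?_) h1
  apply PrimeSpectrum.ext
  show RingHom.ker _ = Ideal.comap _ (maximalIdeal _)
  rw [IsLocalRing.maximalIdeal_eq_bot (R := Y.residueField y')]
  rfl

theorem ker_stalkToResidue_ne (hne : y' ≠ y) :
    RingHom.ker (stalkToResidue hgen).hom ≠ maximalIdeal (Y.presheaf.stalk y) := by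
  intro h
  apply hne
  refine Eq.trans (fromSpecStalk_ker hgen).symm
    (Eq.trans (congrArg (Y.fromSpecStalk y) ?_) (Scheme.fromSpecStalk_closedPoint (x := y)))
  apply PrimeSpectrum.ext
  exact h

theorem stalkToResidue_frac (z : Y.residueField y') :
    ∃ a s : Y.presheaf.stalk y, (stalkToResidue hgen).hom s ≠ 0 ∧
      z * (stalkToResidue hgen).hom s = (stalkToResidue hgen).hom a := by
  obtain ⟨t, rfl⟩ := IsLocalRing.residue_surjective (R := Y.presheaf.stalk y') z
  obtain ⟨_, ⟨U, hU, rfl⟩, hyU, -⟩ :=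
    Y.isBasis_affineOpens.exists_subset_of_mem_open (Set.mem_univ y) isOpen_univ
  have hy'U : y' ∈ U := hgen.mem_open U.2 hyU
  letI := Y.presheaf.algebra_section_stalk ⟨y', hy'U⟩
  haveI := hU.isLocalization_stalk ⟨y', hy'U⟩
  obtain ⟨⟨a₀, s₀⟩, hs⟩ := IsLocalization.surj (hU.primeIdealOf ⟨y', hy'U⟩).asIdeal.primeCompl t
  have hunit : IsUnit (algebraMap Γ(Y, U) (Y.presheaf.stalk y') s₀) :=
    IsLocalization.map_units _ s₀
  have hgerm : ∀ r : Γ(Y, U), (stalkToResidue hgen).hom (Y.presheaf.germ U y hyU r) =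
      Y.residue y' (algebraMap Γ(Y, U) (Y.presheaf.stalk y') r) := by
    intro r
    show (Y.residue y').hom ((Y.presheaf.stalkSpecializes hgen).hom
      ((Y.presheaf.germ U y hyU).hom r)) = _
    have := TopCat.Presheaf.germ_stalkSpecializes_apply Y.presheaf hyU hgen r
    rw [this]
    rfl
  refine ⟨Y.presheaf.germ U y hyU a₀, Y.presheaf.germ U y hyU s₀, ?_, ?_⟩
  · rw [hgerm]
    exact ((Y.residue y').hom.isUnit_map hunit).ne_zero
  · rw [hgerm, hgerm]
    show (Y.residue y').hom t * _ = _
    rw [← map_mul, hs]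

end Stalk

section Poly

variable {X Y : Scheme.{u}} (f : X ⟶ Y) [LocallyQuasiFinite f] [LocallyOfFiniteType f]

theorem exists_poly_good_fibre (hfin : ∀ y : Y, (f ⁻¹' {y}).Finite) (y' : Y) :
    ∃ P : (Y.residueField y')[X], P ≠ 0 ∧ ∀ (K : Type u) [Field K]
      (ι : Y.residueField y' ⟶ CommRingCat.of K), (P.map ι.hom).Splits → Good f y' K ι := by
  classical
  have key : ∀ x : X, ∃ Q : (Y.residueField y')[X], Q ≠ 0 ∧ ∀ (hx : f x = y') (K : Type u)
      [Field K] (ι : Y.residueField y' ⟶ CommRingCat.of K), (Q.map ι.hom).Splits →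
      ∀ (E : Type u) [Field E] (σ : X.residueField x ⟶ CommRingCat.of E) (b : K →+* E),
        ((Y.residueFieldCongr hx).inv ≫ f.residueFieldMap x) ≫ σ = ι ≫ CommRingCat.ofHom b →
          ∀ c, σ.hom c ∈ b.range := by
    intro x
    by_cases hx : f x = y'
    · letI alg : Algebra (Y.residueField y') (X.residueField x) :=
        ((Y.residueFieldCongr hx).inv ≫ f.residueFieldMap x).hom.toAlgebra
      haveI : FiniteDimensional (Y.residueField y') (X.residueField x) := by
        have h1 : (f.residueFieldMap x).hom.Finite := finite_residueFieldMap f x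
        have h2 : ((Y.residueFieldCongr hx).inv).hom.Finite :=
          RingHom.Finite.of_surjective _
            (Y.residueFieldCongr hx).symm.commRingCatIsoToRingEquiv.surjective
        exact h1.comp h2
      obtain ⟨Q, hQ0, hQ⟩ := exists_poly_good (Y.residueField y') (X.residueField x)
      refine ⟨Q, hQ0, fun _ K _ ι hsp E _ σ b hcomp c => hQ K ι.hom hsp E σ.hom b ?_ c⟩
      ext r
      exact congrArg (fun φ => φ.hom r) hcomp
    · exact ⟨1, one_ne_zero, fun hx' => absurd hx' hx⟩
  choose Q hQ0 hQ using key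
  refine ⟨∏ x ∈ (hfin y').toFinset, Q x, ?_, ?_⟩
  · rw [Finset.prod_ne_zero_iff]
    exact fun x _ => hQ0 x
  · intro K _ ι hsp x hx E _ σ b hcomp c
    have hxmem : x ∈ (hfin y').toFinset := by simpa using hx
    have hsp' : ((Q x).map ι.hom).Splits := by
      rw [Polynomial.map_prod] at hsp
      exact (Polynomial.splits_prod_iff (fun i _ =>
        (Polynomial.map_ne_zero_iff ι.hom.injective).mpr (hQ0 i))).mp hsp x hxmem
    exact hQ x hx K ι hsp' E σ b hcomp c

end Poly

end Groth.Agent.Lib.Helper87.GeomPts
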