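import Mathlib
import Groth.Agent.Lib.Helper87.HensMain

set_option autoImplicit false
universe u

namespace Groth.Agent.Lib.Helper87.Hens

open IsLocalRing TensorProduct Polynomial

section FEtale

variable {R : Type u} [CommRing R] {Ω : Type u} [Field Ω] [Algebra R Ω]

instance H.formallyEtale : Algebra.FormallyEtale R (H R Ω) := by
  rw [Algebra.FormallyEtale.iff_comp_bijective]
  intro B _ _ I hI
  constructor
  · intro g₁ g₂ h
    apply H.algHom_ext
    intro i x
    have h' : (Ideal.Quotient.mkₐ R I).comp (g₁.comp (H.of i)) =
        (Ideal.Quotient.mkₐ R I).comp (g₂.comp (H.of i)) := by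
      rw [← AlgHom.comp_assoc, ← AlgHom.comp_assoc]
      exact congrArg (fun t => AlgHom.comp t (H.of i)) h
    have := (Algebra.FormallyEtale.comp_bijective R i.L I hI).1 h'
    exact DFunLike.congr_fun this x
  · intro f
    choose g hg using fun i : Idx R Ω =>
      (Algebra.FormallyEtale.comp_bijective R i.L I hI).2 (f.comp (H.of i))
    have hcompat : ∀ i j h x, g j (tr i j h x) = g i x := by
      intro i j h x
      have : (g j).comp (tr i j h) = g i := by
        apply (Algebra.FormallyEtale.comp_bijective R i.L I hI).1
        show (Ideal.Quotient.mkₐ R I).comp ((g j).comp (tr i j h)) =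
          (Ideal.Quotient.mkₐ R I).comp (g i)
        rw [← AlgHom.comp_assoc, hg, hg, AlgHom.comp_assoc]
        congr 1
        exact AlgHom.ext (fun x => H.of_tr i j h x)
      exact DFunLike.congr_fun this x
    refine ⟨H.lift g hcompat, ?_⟩
    apply H.algHom_ext
    intro i x
    rw [AlgHom.comp_apply, H.lift_of]
    exact DFunLike.congr_fun (hg i) x

end FEtale

end Groth.Agent.Lib.Helper87.Hens
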