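import Mathlib
import Groth.Agent.Lib.Helper87.HensMain
import Groth.Agent.Lib.Helper25.SmoothReduced

set_option autoImplicit false
universe u

namespace Groth.Agent.Lib.Helper87.Hens

open IsLocalRing TensorProduct Polynomial

/-- the nilradical of an étale algebra is the extension of the nilradical of the base. -/
theorem nilradical_le_map_of_etale (R A : Type u) [CommRing R] [CommRing A] [Algebra R A]
    [Algebra.Etale R A] : nilradical A ≤ (nilradical R).map (algebraMap R A) := by
  have hred : IsReduced (R ⧸ nilradical R) :=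
    (Ideal.isRadical_iff_quotient_reduced _).mp (Ideal.radical_isRadical _)
  have h1 : IsReduced ((R ⧸ nilradical R) ⊗[R] A) :=
    Groth.Agent.Lib.Helper25.isReduced_of_smooth (R ⧸ nilradical R) _
  have h2 : IsReduced (A ⧸ (nilradical R).map (algebraMap R A)) :=
    isReduced_of_injective
      (Algebra.TensorProduct.quotIdealMapEquivQuotTensor A (nilradical R))
      (Algebra.TensorProduct.quotIdealMapEquivQuotTensor A (nilradical R)).injective
  intro x hx
  rw [mem_nilradical] at hx
  have : IsNilpotent (Ideal.Quotient.mk ((nilradical R).map (algebraMap R A)) x) := hx.map _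
  exact Ideal.Quotient.eq_zero_iff_mem.mp this.eq_zero

section Nil

variable {R : Type u} [CommRing R] {Ω : Type u} [Field Ω] [Algebra R Ω]

theorem Loc.nilradical_le {A : Type u} [CommRing A] [Algebra R A] [Algebra.Etale R A]
    (φ : A →ₐ[R] Ω) : nilradical (Loc φ) ≤ (nilradical R).map (algebraMap R (Loc φ)) := by
  intro x hx
  rw [mem_nilradical] at hx
  obtain ⟨n, hn⟩ := hx
  obtain ⟨a, s, rfl⟩ := IsLocalization.exists_mk'_eq (RingHom.ker φ).primeCompl x
  rw [← IsLocalization.mk'_pow, IsLocalization.mk'_eq_zero_iff] at hn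
  obtain ⟨t, ht⟩ := hn
  have hta : (t : A) * a ∈ nilradical A := by
    rw [mem_nilradical]
    refine ⟨n + 1, ?_⟩
    rw [mul_pow, pow_succ a, pow_succ (t : A)]
    calc (t : A) ^ n * t * (a ^ n * a) = (t : A) ^ n * a * (t * a ^ n) := by ring
      _ = 0 := by rw [ht, mul_zero]
  have h2 := nilradical_le_map_of_etale R A hta
  have h3 : algebraMap A (Loc φ) (t * a) ∈ (nilradical R).map (algebraMap R (Loc φ)) := by
    rw [IsScalarTower.algebraMap_eq R A (Loc φ), ← Ideal.map_map]
    exact Ideal.mem_map_of_mem _ h2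
  have h4 : IsLocalization.mk' (Loc φ) a s =
      algebraMap A (Loc φ) (t * a) * IsLocalization.mk' (Loc φ) 1 (t * s) := by
    rw [IsLocalization.mul_mk'_eq_mk'_of_mul, mul_one, IsLocalization.mk'_eq_iff_eq]
    simp only [Submonoid.coe_mul]
    ring_nf
  rw [h4]
  exact Ideal.mul_mem_right _ _ h3

theorem H.nilradical_le : nilradical (H R Ω) ≤ (nilradical R).map (algebraMap R (H R Ω)) := by
  intro x hx
  rw [mem_nilradical] at hx
  obtain ⟨n, hn⟩ := hx
  obtain ⟨i, y, rfl⟩ := H.exists_of x
  have h0 : H.of i (y ^ n) = H.of i 0 := by rw [map_pow, hn, map_zero]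
  obtain ⟨k, hik, hik', hk⟩ := (H.of_eq_of_iff _ _).mp h0
  rw [map_zero, map_pow] at hk
  have hz : tr i k hik y ∈ nilradical k.L := mem_nilradical.mpr ⟨n, hk⟩
  have h2 := Loc.nilradical_le k.pt hz
  have hcomp : (H.of k).toRingHom.comp (algebraMap R k.L) = algebraMap R (H R Ω) := by
    ext r
    simp
  rw [← H.of_tr i k hik, ← hcomp, ← Ideal.map_map]
  exact Ideal.mem_map_of_mem _ h2

theorem H.map_nilradical : (nilradical R).map (algebraMap R (H R Ω)) = nilradical (H R Ω) := by
  apply le_antisymm _ H.nilradical_le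
  rw [Ideal.map_le_iff_le_comap]
  intro r hr
  rw [Ideal.mem_comap, mem_nilradical]
  exact (mem_nilradical.mp hr).map _

end Nil

theorem map_nilradical_of_equiv {R : Type*} [CommRing R] {S S' : Type*} [CommRing S] [CommRing S']
    [Algebra R S] [Algebra R S'] (e : S ≃ₐ[R] S')
    (h : (nilradical R).map (algebraMap R S') = nilradical S') :
    (nilradical R).map (algebraMap R S) = nilradical S := by
  apply le_antisymm
  · rw [Ideal.map_le_iff_le_comap]
    intro r hr
    rw [Ideal.mem_comap, mem_nilradical]
    exact (mem_nilradical.mp hr).map _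
  · intro x hx
    have h1 : e x ∈ nilradical S' := mem_nilradical.mpr ((mem_nilradical.mp hx).map e)
    rw [← h] at h1
    have h2 := Ideal.mem_map_of_mem (e.symm : S' →+* S) h1
    rw [Ideal.map_map] at h2
    have hc : (e.symm : S' →+* S).comp (algebraMap R S') = algebraMap R S := by
      ext r
      simp
    rw [hc] at h2
    simpa using h2

end Groth.Agent.Lib.Helper87.Hens
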