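import Mathlib

set_option autoImplicit false

namespace Groth.Agent.Lib.Helper87.HenselSubIdeal

open Polynomial

/-- If `(A, I)` is a henselian pair and `J ≤ I`, then `(A, J)` is a henselian pair. -/
theorem henselianRing_of_le {A : Type*} [CommRing A] (I J : Ideal A) [HenselianRing A I]
    (hJ : J ≤ I) : HenselianRing A J := by
  have hIjac : I ≤ Ideal.jacobson ⊥ := HenselianRing.jac
  refine ⟨hJ.trans hIjac, ?_⟩
  intro f hf a₀ h₁ h₂
  have h₂' : IsUnit (Ideal.Quotient.mk I (f.derivative.eval a₀)) := by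
    have := h₂.map (Ideal.Quotient.factor hJ)
    simpa using this
  obtain ⟨a, ha, haI⟩ := HenselianRing.is_henselian f hf a₀ (hJ h₁) h₂'
  refine ⟨a, ha, ?_⟩
  obtain ⟨k, hk⟩ := f.binomExpansion a (a₀ - a)
  have ha0 : f.eval a = 0 := ha
  rw [add_sub_cancel, ha0, zero_add] at hk
  -- `f a₀ = (a₀ - a) * u` with `u` a unit
  set u : A := f.derivative.eval a + k * (a₀ - a) with hu
  have hfu : f.eval a₀ = u * (a₀ - a) := by rw [hk, hu]; ring
  have hI' : a₀ - a ∈ I := by
    have := I.neg_mem haI
    rwa [neg_sub] at this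
  have hunit : IsUnit u := by
    haveI := isLocalHom_of_le_jacobson_bot I hIjac
    apply isUnit_of_map_unit (Ideal.Quotient.mk I)
    have h3 : Ideal.Quotient.mk I u = Ideal.Quotient.mk I (f.derivative.eval a₀) := by
      rw [Ideal.Quotient.eq]
      obtain ⟨z, hz⟩ := f.derivative.evalSubFactor a a₀
      have : u - f.derivative.eval a₀ = (k - z) * (a₀ - a) := by
        rw [hu]
        have hz' : f.derivative.eval a - f.derivative.eval a₀ = z * (a - a₀) := hz
        linear_combination hz'
      rw [this]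
      exact I.mul_mem_left _ hI'
    rw [h3]
    exact h₂'
  obtain ⟨v, hv⟩ := hunit
  have : a₀ - a = ↑v⁻¹ * f.eval a₀ := by
    rw [hfu, ← hv, ← mul_assoc, Units.inv_mul, one_mul]
  have h4 : a₀ - a ∈ J := by
    rw [this]
    exact J.mul_mem_left _ h₁
  have := J.neg_mem h4
  rwa [neg_sub] at this

end Groth.Agent.Lib.Helper87.HenselSubIdeal
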