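import Groth.Agent.Lib.Helper21.IdealMulSec
import Groth.Agent.Lib.Helper21.QCohSections

set_option autoImplicit false
set_option linter.style.haveILetI false

universe u

open CategoryTheory CategoryTheory.Limits AlgebraicGeometry Opposite TopologicalSpace

namespace Groth.Agent.Lib.Helper87.KosDivRHO

variable {X : Scheme.{u}}

open Groth.Agent.Lib.Helper21.IdealMulSec Groth.Agent.Lib.Helper21.QCohSections in
/-- General form for a closed immersion `i`. -/
theorem rho_app_surjective_aux {Y : Scheme.{u}} (i : Y ⟶ X) [IsClosedImmersion i]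
    {Z H : X.Modules} [Z.IsQuasicoherent]
    [H.IsQuasicoherent] (π : Z ⟶ H) [Epi π] {U : X.Opens} (hU : IsAffineOpen U)
    (p : Γ(pullback ((Scheme.Modules.pullback i ⋙ Scheme.Modules.pushforward i).map π)
      ((Scheme.Modules.pullbackPushforwardAdjunction i).unit.app H), U)) :
    ∃ z : Γ(Z, U),
      (pullback.fst ((Scheme.Modules.pullback i ⋙ Scheme.Modules.pushforward i).map π)
        ((Scheme.Modules.pullbackPushforwardAdjunction i).unit.app H)).app U p =
        ((Scheme.Modules.pullbackPushforwardAdjunction i).unit.app Z).app U z ∧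
      (pullback.snd ((Scheme.Modules.pullback i ⋙ Scheme.Modules.pushforward i).map π)
        ((Scheme.Modules.pullbackPushforwardAdjunction i).unit.app H)).app U p =
        π.app U z := by
  -- the pullback condition on sections
  have hcond : ((Scheme.Modules.pullback i ⋙ Scheme.Modules.pushforward i).map π).app U
      ((pullback.fst ((Scheme.Modules.pullback i ⋙ Scheme.Modules.pushforward i).map π)
        ((Scheme.Modules.pullbackPushforwardAdjunction i).unit.app H)).app U p) =
      ((Scheme.Modules.pullbackPushforwardAdjunction i).unit.app H).app U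
        ((pullback.snd ((Scheme.Modules.pullback i ⋙ Scheme.Modules.pushforward i).map π)
          ((Scheme.Modules.pullbackPushforwardAdjunction i).unit.app H)).app U p) := by
    have := congrArg (fun φ => (Scheme.Modules.Hom.app φ U) p)
      (pullback.condition (f := (Scheme.Modules.pullback i ⋙ Scheme.Modules.pushforward i).map π)
        (g := (Scheme.Modules.pullbackPushforwardAdjunction i).unit.app H))
    exact this
  generalize (pullback.fst ((Scheme.Modules.pullback i ⋙ Scheme.Modules.pushforward i).map π)
        ((Scheme.Modules.pullbackPushforwardAdjunction i).unit.app H)).app U p = u at hcond ⊢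
  generalize (pullback.snd ((Scheme.Modules.pullback i ⋙ Scheme.Modules.pushforward i).map π)
        ((Scheme.Modules.pullbackPushforwardAdjunction i).unit.app H)).app U p = h at hcond ⊢
  -- naturality of the unit on sections
  have hnat : ∀ z : Γ(Z, U),
      ((Scheme.Modules.pullback i ⋙ Scheme.Modules.pushforward i).map π).app U
        (((Scheme.Modules.pullbackPushforwardAdjunction i).unit.app Z).app U z) =
      ((Scheme.Modules.pullbackPushforwardAdjunction i).unit.app H).app U (π.app U z) := by
    intro z
    have := congrArg (fun φ => (Scheme.Modules.Hom.app φ U) z)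
      ((Scheme.Modules.pullbackPushforwardAdjunction i).unit.naturality π)
    exact this.symm
  obtain ⟨z₀, hz₀⟩ : ∃ z₀ : Γ(Z, U), π.app U z₀ = h := app_surjective_of_epi π hU h
  obtain ⟨z₁, hz₁⟩ : ∃ z₁ : Γ(Z, U),
      ((Scheme.Modules.pullbackPushforwardAdjunction i).unit.app Z).app U z₁ =
        u - ((Scheme.Modules.pullbackPushforwardAdjunction i).unit.app Z).app U z₀ :=
    unit_app_surjective i Z hU _
  have h0 : ((Scheme.Modules.pullbackPushforwardAdjunction i).unit.app H).app U (π.app U z₁) = 0 := by
    rw [← hnat, hz₁, map_sub, hcond, hnat, hz₀, sub_self]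
  rw [unit_app_eq_zero_iff i H hU] at h0
  -- lift along the surjection `π`
  have hrange : LinearMap.range (appL π U) = ⊤ :=
    LinearMap.range_eq_top.mpr (app_surjective_of_epi π hU)
  have hmap : (RingHom.ker (i.app U).hom • (⊤ : Submodule Γ(X, U) Γ(Z, U))).map (appL π U) =
      RingHom.ker (i.app U).hom • (⊤ : Submodule Γ(X, U) Γ(H, U)) := by
    rw [Submodule.map_smul'', Submodule.map_top, hrange]
  rw [← hmap] at h0
  obtain ⟨w, hw, hwz⟩ : ∃ w : Γ(Z, U),
      w ∈ RingHom.ker (i.app U).hom • (⊤ : Submodule Γ(X, U) Γ(Z, U)) ∧
        appL π U w = π.app U z₁ := h0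
  have hw0 : ((Scheme.Modules.pullbackPushforwardAdjunction i).unit.app Z).app U w = 0 :=
    (unit_app_eq_zero_iff i Z hU w).mpr hw
  have hwz' : π.app U w = π.app U z₁ := hwz
  refine ⟨z₀ + (z₁ - w), ?_, ?_⟩
  · rw [map_add, map_sub, hz₁, hw0, sub_zero]
    exact (add_sub_cancel _ _).symm
  · rw [map_add, map_sub, hwz', sub_self, add_zero, hz₀]

theorem rho_app_surjective (ID : X.IdealSheafData) {Z H : X.Modules} [Z.IsQuasicoherent]
    [H.IsQuasicoherent] (π : Z ⟶ H) [Epi π] {U : X.Opens} (hU : IsAffineOpen U)
    (p : Γ(pullback ((Scheme.Modules.pullback ID.subschemeι ⋙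
        Scheme.Modules.pushforward ID.subschemeι).map π)
      ((Scheme.Modules.pullbackPushforwardAdjunction ID.subschemeι).unit.app H), U)) :
    ∃ z : Γ(Z, U),
      (pullback.fst ((Scheme.Modules.pullback ID.subschemeι ⋙
          Scheme.Modules.pushforward ID.subschemeι).map π)
        ((Scheme.Modules.pullbackPushforwardAdjunction ID.subschemeι).unit.app H)).app U p =
        ((Scheme.Modules.pullbackPushforwardAdjunction ID.subschemeι).unit.app Z).app U z ∧
      (pullback.snd ((Scheme.Modules.pullback ID.subschemeι ⋙
          Scheme.Modules.pushforward ID.subschemeι).map π)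
        ((Scheme.Modules.pullbackPushforwardAdjunction ID.subschemeι).unit.app H)).app U p =
        π.app U z :=
  rho_app_surjective_aux ID.subschemeι π hU p

end Groth.Agent.Lib.Helper87.KosDivRHO
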