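import Mathlib

/-!
# Lengths and inseparable degrees: algebraic preliminaries (helper87)

Ring and field level lemmas used for the weighting `length * inseparable degree`.
-/

set_option autoImplicit false
set_option linter.unusedSectionVars false
set_option linter.style.haveILetI false
universe u

open IsLocalRing

namespace Groth.Agent.Lib.Helper87.LenWt

/-- The length of a ring over itself is invariant under ring isomorphisms. -/
theorem length_self_eq_of_ringEquiv {R S : Type*} [CommRing R] [CommRing S] (e : R ≃+* S) :
    Module.length R R = Module.length S S := by
  letI : Algebra R S := e.toRingHom.toAlgebra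
  have h1 : Module.length R S = Module.length S S :=
    Module.length_eq_of_surjective (S := R) (R := S) (M := S) e.surjective
  rw [← h1]
  let l : R ≃ₗ[R] S :=
    { e.toAddEquiv with
      map_smul' := fun r x => by
        show e (r * x) = e r * e x
        exact map_mul e r x }
  exact l.length_eq

/-- The length of a quotient ring over the ring equals its length over itself. -/
theorem length_quotient_self {R : Type*} [CommRing R] (I : Ideal R) :
    Module.length R (R ⧸ I) = Module.length (R ⧸ I) (R ⧸ I) :=
  Module.length_eq_of_surjective (S := R) (R := R ⧸ I) (M := R ⧸ I) Ideal.Quotient.mk_surjective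

/-- Quotients by equal ideals have the same length. -/
theorem length_quotient_congr {R : Type*} [CommRing R] {I J : Ideal R} (h : I = J) :
    Module.length R (R ⧸ I) = Module.length R (R ⧸ J) := by
  subst h
  rfl

/-- For a flat local homomorphism `A → B` with `m_A B = m_B`, the length of `B / I B` over `B`
equals the length of `A / I` over `A`. -/
theorem length_quotient_map_eq {A B : Type*} [CommRing A] [CommRing B] [IsLocalRing A]
    [IsLocalRing B] [Algebra A B] [IsLocalHom (algebraMap A B)] [Module.Flat A B]
    (h : (maximalIdeal A).map (algebraMap A B) = maximalIdeal B) (I : Ideal A) :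
    Module.length B (B ⧸ I.map (algebraMap A B)) = Module.length A (A ⧸ I) := by
  have h1 := IsLocalRing.length_baseChange A B (A ⧸ I)
  rw [h] at h1
  have h2 : Module.length B (B ⧸ maximalIdeal B) = 1 := by
    haveI : IsSimpleModule B (B ⧸ maximalIdeal B) :=
      isSimpleModule_iff_quot_maximal.mpr ⟨maximalIdeal B, inferInstance, ⟨LinearEquiv.refl _ _⟩⟩
    exact Module.length_eq_one B _
  rw [h2, mul_one] at h1
  rw [← h1]
  exact (Algebra.TensorProduct.quotIdealMapEquivTensorQuot B I).toLinearEquiv.length_eq

section Fields

variable {F E K : Type*} [Field F] [Field E] [Field K] [Algebra F E] [Algebra E K] [Algebra F K]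
  [IsScalarTower F E K]

/-- Inseparable degree is unchanged when enlarging the base by a separable extension. -/
theorem finInsepDegree_eq_of_isSeparable_left [Algebra.IsSeparable F E] :
    Field.finInsepDegree F K = Field.finInsepDegree E K := by
  have h := Field.finInsepDegree_mul_finInsepDegree_of_isAlgebraic F E K
  rw [Algebra.IsSeparable.finInsepDegree_eq F E, one_mul] at h
  exact h.symm

/-- Inseparable degree is unchanged when enlarging the top by a separable extension. -/
theorem finInsepDegree_eq_of_isSeparable_right [Algebra.IsAlgebraic F E]
    [Algebra.IsSeparable E K] :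
    Field.finInsepDegree F K = Field.finInsepDegree F E := by
  have h := Field.finInsepDegree_mul_finInsepDegree_of_isAlgebraic F E K
  rw [Algebra.IsSeparable.finInsepDegree_eq E K, mul_one] at h
  exact h.symm

end Fields

/-- A bijective field homomorphism is a separable extension. -/
theorem isSeparable_of_bijective {F E : Type*} [Field F] [Field E] [Algebra F E]
    (h : Function.Surjective (algebraMap F E)) : Algebra.IsSeparable F E :=
  ⟨fun x => by
    obtain ⟨y, rfl⟩ := h x
    exact isSeparable_algebraMap y⟩

/-- Inseparable degrees across a commutative square of fields whose horizontal maps are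
separable: `k → K` separable, `L → M` separable, `k → L` algebraic; then
`[M : K]_i = [L : k]_i`. -/
theorem finInsepDegree_square {k K L M : Type*} [Field k] [Field K] [Field L] [Field M]
    (a : k →+* K) (b : k →+* L) (c : K →+* M) (d : L →+* M) (h : c.comp a = d.comp b)
    (ha : letI := a.toAlgebra; Algebra.IsSeparable k K)
    (hb : letI := b.toAlgebra; Algebra.IsAlgebraic k L)
    (hd : letI := d.toAlgebra; Algebra.IsSeparable L M) :
    (letI := c.toAlgebra; Field.finInsepDegree K M) =
      (letI := b.toAlgebra; Field.finInsepDegree k L) := by
  letI := a.toAlgebra
  letI := b.toAlgebra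
  letI := c.toAlgebra
  letI := d.toAlgebra
  letI : Algebra k M := (c.comp a).toAlgebra
  haveI : IsScalarTower k K M := IsScalarTower.of_algebraMap_eq (fun x => rfl)
  haveI : IsScalarTower k L M := IsScalarTower.of_algebraMap_eq (fun x => congr($h x))
  haveI : Algebra.IsSeparable k K := ha
  haveI : Algebra.IsAlgebraic k L := hb
  haveI : Algebra.IsSeparable L M := hd
  exact (finInsepDegree_eq_of_isSeparable_left (F := k) (E := K) (K := M)).symm.trans
    (finInsepDegree_eq_of_isSeparable_right (F := k) (E := L) (K := M))

end Groth.Agent.Lib.Helper87.LenWt
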