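import Groth.Agent.Lib.Helper87.LenWt1
import Groth.Agent.Lib.Helper67.FiberStalk
import Groth.Agent.Lib.Helper51.FibreStalkMax
import Groth.Agent.Lib.Helper57.Wt1

/-!
# The weight `length * inseparable degree` of a morphism at a point (helper87)

Invariance under étale maps on the source and on the target, and under passing to the fibre.
-/

set_option autoImplicit false
set_option linter.unusedSectionVars false
set_option linter.style.haveILetI false
universe u

open CategoryTheory CategoryTheory.Limits AlgebraicGeometry TopologicalSpace IsLocalRing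
open Groth.Agent.Lib.Helper67.FiberStalk

namespace Groth.Agent.Lib.Helper87.LenWt

variable {X Y : Scheme.{u}}

/-- The length of `O_{X,x} / m_{f x} O_{X,x}` over `O_{X,x}`. -/
noncomputable def lenAt (f : X ⟶ Y) (x : X) : ℕ∞ :=
  Module.length (X.presheaf.stalk x) (X.presheaf.stalk x ⧸
    Ideal.map (f.stalkMap x).hom (IsLocalRing.maximalIdeal (Y.presheaf.stalk (f x))))

/-- The inseparable degree of the residue field extension at `x`. -/
noncomputable def insepAt (f : X ⟶ Y) (x : X) : ℕ :=
  letI := (f.residueFieldMap x).hom.toAlgebra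
  Field.finInsepDegree (Y.residueField (f x)) (X.residueField x)

/-- The weight `length * inseparable degree`. -/
noncomputable def wt (f : X ⟶ Y) (x : X) : ℤ :=
  ((lenAt f x).toNat : ℤ) * (insepAt f x : ℤ)

theorem fibIdeal_comp' {X S U : Scheme.{u}} (f : X ⟶ S) (g : U ⟶ X) (u : U) :
    fibIdeal (g ≫ f) u = Ideal.map (g.stalkMap u).hom (fibIdeal f (g u)) := by
  unfold fibIdeal
  rw [Ideal.map_map, ← CommRingCat.hom_comp, ← Scheme.Hom.stalkMap_comp]
  rfl

/-- Étale stalk maps send the maximal ideal onto the maximal ideal. -/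
theorem map_maximalIdeal_stalkMap_of_etale {U X : Scheme.{u}} (j : U ⟶ X) [Etale j] (u : U) :
    Ideal.map (j.stalkMap u).hom (maximalIdeal (X.presheaf.stalk (j u))) =
      maximalIdeal (U.presheaf.stalk u) := by
  algebraize [(j.stalkMap u).hom]
  have : IsLocalHom (algebraMap (X.presheaf.stalk (j u)) (U.presheaf.stalk u)) :=
    inferInstanceAs <| IsLocalHom (j.stalkMap u).hom
  have : Algebra.EssFiniteType (X.presheaf.stalk (j u)) (U.presheaf.stalk u) := by
    rw [← RingHom.essFiniteType_algebraMap, RingHom.algebraMap_toAlgebra]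
    exact LocallyOfFiniteType.stalkMap j u
  have : Algebra.FormallyUnramified (X.presheaf.stalk (j u)) (U.presheaf.stalk u) := by
    rw [← RingHom.formallyUnramified_algebraMap, RingHom.algebraMap_toAlgebra]
    exact AlgebraicGeometry.FormallyUnramified.stalkMap j u
  exact Algebra.FormallyUnramified.map_maximalIdeal

/-- **Étale invariance on the source** of the length. -/
theorem lenAt_comp_of_etale {U X Y : Scheme.{u}} (j : U ⟶ X) [Etale j] (f : X ⟶ Y) (u : U) :
    lenAt (j ≫ f) u = lenAt f (j u) := by
  have hI : fibIdeal (j ≫ f) u = Ideal.map (j.stalkMap u).hom (fibIdeal f (j u)) :=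
    fibIdeal_comp' f j u
  algebraize [(j.stalkMap u).hom]
  have : IsLocalHom (algebraMap (X.presheaf.stalk (j u)) (U.presheaf.stalk u)) :=
    inferInstanceAs <| IsLocalHom (j.stalkMap u).hom
  have hflat : Module.Flat (X.presheaf.stalk (j u)) (U.presheaf.stalk u) := by
    exact Flat.stalkMap j u
  have hm := map_maximalIdeal_stalkMap_of_etale j u
  have key := length_quotient_map_eq (A := X.presheaf.stalk (j u)) (B := U.presheaf.stalk u)
    hm (fibIdeal f (j u))
  unfold lenAt
  rw [← key]
  exact length_quotient_congr hI

/-- Residue field extensions of locally quasi-finite morphisms are algebraic. -/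
theorem isAlgebraic_residueFieldMap {X Y : Scheme.{u}} (f : X ⟶ Y) [LocallyQuasiFinite f]
    [LocallyOfFiniteType f] (x : X) :
    letI := (f.residueFieldMap x).hom.toAlgebra
    Algebra.IsAlgebraic (Y.residueField (f x)) (X.residueField x) := by
  letI := (f.residueFieldMap x).hom.toAlgebra
  have hfin : (f.residueFieldMap x).hom.Finite :=
    Groth.Agent.Lib.Helper57.Wt.finite_residueFieldMap f x
  haveI : Module.Finite (Y.residueField (f x)) (X.residueField x) := hfin
  exact Algebra.IsAlgebraic.of_finite _ _

/-- **Étale invariance on the source** of the inseparable degree. -/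
theorem insepAt_comp_of_etale {U X Y : Scheme.{u}} (j : U ⟶ X) [Etale j] (f : X ⟶ Y)
    [LocallyQuasiFinite f] [LocallyOfFiniteType f] (u : U) :
    insepAt (j ≫ f) u = insepAt f (j u) := by
  unfold insepAt
  have hcomp : (j ≫ f).residueFieldMap u = f.residueFieldMap (j u) ≫ j.residueFieldMap u :=
    Scheme.residueFieldMap_comp j f u
  refine finInsepDegree_square (RingHom.id (Y.residueField (f (j u))))
    (f.residueFieldMap (j u)).hom ((j ≫ f).residueFieldMap u).hom (j.residueFieldMap u).hom
    ?_ ?_ ?_ ?_
  · rw [hcomp]
    rfl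
  · letI := (RingHom.id (Y.residueField (f (j u)))).toAlgebra
    exact isSeparable_of_bijective (fun x => ⟨x, rfl⟩)
  · exact isAlgebraic_residueFieldMap f (j u)
  · infer_instance

/-- **Étale invariance on the target** of the length. -/
theorem lenAt_comp_etale_right {U V Y : Scheme.{u}} (π : U ⟶ V) (g : V ⟶ Y) [Etale g] (u : U) :
    lenAt (π ≫ g) u = lenAt π u := by
  have hI : fibIdeal (π ≫ g) u = fibIdeal π u := by
    rw [fibIdeal_comp' g π u]
    unfold fibIdeal
    rw [map_maximalIdeal_stalkMap_of_etale g (π u)]
  exact length_quotient_congr hI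

/-- **Étale invariance on the target** of the inseparable degree. -/
theorem insepAt_comp_etale_right {U V Y : Scheme.{u}} (π : U ⟶ V) (g : V ⟶ Y) [Etale g]
    [LocallyQuasiFinite (π ≫ g)] [LocallyOfFiniteType (π ≫ g)] (u : U) :
    insepAt (π ≫ g) u = insepAt π u := by
  unfold insepAt
  have hcomp : (π ≫ g).residueFieldMap u = g.residueFieldMap (π u) ≫ π.residueFieldMap u :=
    Scheme.residueFieldMap_comp π g u
  refine (finInsepDegree_square (g.residueFieldMap (π u)).hom
    ((π ≫ g).residueFieldMap u).hom (π.residueFieldMap u).hom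
    (RingHom.id (U.residueField u)) ?_ ?_ ?_ ?_).symm
  · rw [hcomp]
    rfl
  · infer_instance
  · exact isAlgebraic_residueFieldMap (π ≫ g) u
  · letI := (RingHom.id (U.residueField u)).toAlgebra
    exact isSeparable_of_bijective (fun x => ⟨x, rfl⟩)

theorem residueFieldMap_bijective_of_isPreimmersion {Y Z : Scheme.{u}} (i : Y ⟶ Z)
    [IsPreimmersion i] (y : Y) : Function.Bijective (i.residueFieldMap y).hom := by
  refine ⟨(i.residueFieldMap y).hom.injective, fun z => ?_⟩
  obtain ⟨a, rfl⟩ := IsLocalRing.residue_surjective (R := Y.presheaf.stalk y) z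
  obtain ⟨b, rfl⟩ := i.stalkMap_surjective y a
  exact ⟨IsLocalRing.residue _ b, rfl⟩

theorem lenAt_fiber_aux {U V : Scheme.{u}} (π : U ⟶ V) (x : U) (u' : π.fiber (π x))
    (hx' : π.fiberι (π x) u' = x) :
    lenAt (π.fiberToSpecResidueField (π x)) u' = lenAt π x := by
  unfold lenAt
  have hbot := Groth.Agent.Lib.Helper51.FibreStalkMax.maximalIdeal_stalk_Spec_field
    (IsLocalRing.ResidueField (V.presheaf.stalk (π x))) ((π.fiberToSpecResidueField (π x)) u')
  have hbot' : Ideal.map ((π.fiberToSpecResidueField (π x)).stalkMap u').hom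
      (maximalIdeal ((Spec (V.residueField (π x))).presheaf.stalk
        ((π.fiberToSpecResidueField (π x)) u'))) = ⊥ := by
    rw [show maximalIdeal ((Spec (V.residueField (π x))).presheaf.stalk
        ((π.fiberToSpecResidueField (π x)) u')) = ⊥ from hbot, Ideal.map_bot]
  rw [length_quotient_congr hbot']
  rw [(Submodule.quotEquivOfEqBot (⊥ : Ideal ((π.fiber (π x)).presheaf.stalk u')) rfl).length_eq]
  rw [length_self_eq_of_ringEquiv (stalkEquiv π x u' hx')]
  exact (length_quotient_self _).symm

/-- **Passing to the fibre** does not change the length. -/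
theorem lenAt_fiber {U V : Scheme.{u}} (π : U ⟶ V) (v : V) (u' : π.fiber v) :
    lenAt (π.fiberToSpecResidueField v) u' = lenAt π (π.fiberι v u') := by
  have aux : ∀ (v : V) (x : U) (hv : π x = v) (u' : π.fiber v) (hx' : π.fiberι v u' = x),
      lenAt (π.fiberToSpecResidueField v) u' = lenAt π x := by
    intro v x hv
    subst hv
    intro u' hx'
    exact lenAt_fiber_aux π x u' hx'
  exact aux v _ (π.fiberHomeo v u').2 u' rfl

/-- **Passing to the fibre** does not change the inseparable degree. -/
theorem insepAt_fiber {U V : Scheme.{u}} (π : U ⟶ V) [LocallyQuasiFinite π]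
    [LocallyOfFiniteType π] (v : V) (u' : π.fiber v) :
    insepAt (π.fiberToSpecResidueField v) u' = insepAt π (π.fiberι v u') := by
  unfold insepAt
  have h1 := Scheme.Hom.residueFieldMap_congr (π.fiber_fac v) u'
  rw [Scheme.residueFieldMap_comp, Scheme.residueFieldMap_comp] at h1
  set c := V.residueFieldCongr (show (π.fiberι v ≫ π) u' =
    (π.fiberToSpecResidueField v ≫ V.fromSpecResidueField v) u' by rw [π.fiber_fac v]) with hc
  have hb1 : Function.Bijective c.hom.hom := ConcreteCategory.bijective_of_isIso c.hom
  have hb2 := residueFieldMap_bijective_of_isPreimmersion (V.fromSpecResidueField v)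
    (π.fiberToSpecResidueField v u')
  let a : V.residueField (π (π.fiberι v u')) →+*
      (Spec (V.residueField v)).residueField (π.fiberToSpecResidueField v u') :=
    ((V.fromSpecResidueField v).residueFieldMap (π.fiberToSpecResidueField v u')).hom.comp
      c.hom.hom
  have ha : Function.Surjective a := hb2.2.comp hb1.2
  refine finInsepDegree_square a
    (π.residueFieldMap (π.fiberι v u')).hom
    ((π.fiberToSpecResidueField v).residueFieldMap u').hom
    ((π.fiberι v).residueFieldMap u').hom ?_ ?_ ?_ ?_
  · ext z
    exact (congr($(h1).hom z)).symm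
  · letI := a.toAlgebra
    exact isSeparable_of_bijective ha
  · exact isAlgebraic_residueFieldMap π (π.fiberι v u')
  · letI := ((π.fiberι v).residueFieldMap u').hom.toAlgebra
    exact isSeparable_of_bijective
      (residueFieldMap_bijective_of_isPreimmersion (π.fiberι v) u').2

end Groth.Agent.Lib.Helper87.LenWt
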