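import Groth.Agent.Lib.Helper87.LenWt2
import Groth.Agent.Lib.Helper57.Wt5

/-!
# The weight `length * inseparable degree`: the case of a finite scheme over a field (helper87)
-/

set_option autoImplicit false
set_option linter.unusedSectionVars false
set_option linter.style.haveILetI false
universe u

open CategoryTheory CategoryTheory.Limits AlgebraicGeometry TopologicalSpace IsLocalRing
open Groth.Agent.Lib.Helper57.Wt

namespace Groth.Agent.Lib.Helper87.LenWt

/-- Length of a finite algebra over a field as a sum over local rings. -/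
theorem length_eq_sum_localizations {K B : Type u} [Field K] [CommRing B] [Algebra K B]
    [Module.Finite K B] (O : PrimeSpectrum B → CommRingCat.{u})
    [∀ z, Algebra B (O z)] [∀ z, IsLocalization.AtPrime (O z) z.asIdeal]
    [∀ z, Module K (O z)] [∀ z, IsScalarTower K B (O z)] [Fintype (PrimeSpectrum B)] :
    (Module.finrank K B : ℕ∞) = ∑ z : PrimeSpectrum B, Module.length K (O z) := by
  haveI : IsArtinianRing B := IsArtinianRing.of_finite K B
  let e₁ : B ≃ₗ[B] PrimeSpectrum.PiLocalization B :=
    (PrimeSpectrum.toPiLocalizationEquiv B).toLinearEquiv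
  let e₂ : PrimeSpectrum.PiLocalization B ≃ₗ[B] (∀ z : PrimeSpectrum B, O z) :=
    LinearEquiv.piCongrRight (fun z =>
      (IsLocalization.algEquiv z.asIdeal.primeCompl (Localization.AtPrime z.asIdeal)
        (O z)).toLinearEquiv)
  let e : B ≃ₗ[K] (∀ z : PrimeSpectrum B, O z) := (e₁ ≪≫ₗ e₂).restrictScalars K
  rw [← Module.length_eq_finrank K B, e.length_eq, Module.length_pi_of_fintype]

/-- The separable degree of the residue field extension at `x`. -/
noncomputable def sepAt {X Y : Scheme.{u}} (f : X ⟶ Y) (x : X) : ℕ :=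
  letI := (f.residueFieldMap x).hom.toAlgebra
  Field.finSepDegree (Y.residueField (f x)) (X.residueField x)

theorem deg_eq_sepAt {X Y : Scheme.{u}} (f : X ⟶ Y) (x : X) : deg f x = (sepAt f x : ℤ) := rfl

theorem insepAt_mul_sepAt {X Y : Scheme.{u}} (f : X ⟶ Y) (x : X) :
    letI := (f.residueFieldMap x).hom.toAlgebra
    insepAt f x * sepAt f x = Module.finrank (Y.residueField (f x)) (X.residueField x) := by
  letI := (f.residueFieldMap x).hom.toAlgebra
  rw [← Field.finSepDegree_mul_finInsepDegree (Y.residueField (f x)) (X.residueField x),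
    mul_comm]
  rfl

theorem insepAt_mul_sepAt_pos {X Y : Scheme.{u}} (f : X ⟶ Y) [LocallyQuasiFinite f]
    [LocallyOfFiniteType f] (x : X) : 0 < insepAt f x * sepAt f x := by
  letI := (f.residueFieldMap x).hom.toAlgebra
  rw [insepAt_mul_sepAt]
  have hf : (f.residueFieldMap x).hom.Finite := finite_residueFieldMap f x
  haveI : Module.Finite (Y.residueField (f x)) (X.residueField x) := hf
  exact Module.finrank_pos

variable {K : Type u} [Field K] {B : CommRingCat.{u}} (φ : CommRingCat.of K ⟶ B)

/-- the `K`-algebra structure on a stalk of `Spec B` through `B` -/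
@[reducible] noncomputable def stalkAlgK (z : Spec B) : Algebra K ((Spec B).presheaf.stalk z) :=
  ((StructureSheaf.toStalk B z).hom.comp φ.hom).toAlgebra

theorem length_stalk_eq (hfin : φ.hom.Finite) (z : Spec B) :
    letI := stalkAlgK φ z
    letI := ((Spec.map φ).residueFieldMap z).hom.toAlgebra
    Module.length K ((Spec B).presheaf.stalk z) =
      lenAt (Spec.map φ) z *
        (Module.finrank ((Spec (CommRingCat.of K)).residueField ((Spec.map φ) z))
          ((Spec B).residueField z) : ℕ∞) := by
  letI aK := stalkAlgK φ z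
  letI aR := ((Spec.map φ).residueFieldMap z).hom.toAlgebra
  -- the stalk of the base
  letI aA : Algebra ((Spec (CommRingCat.of K)).presheaf.stalk ((Spec.map φ) z))
      ((Spec B).presheaf.stalk z) := ((Spec.map φ).stalkMap z).hom.toAlgebra
  haveI : IsLocalHom (algebraMap ((Spec (CommRingCat.of K)).presheaf.stalk ((Spec.map φ) z))
      ((Spec B).presheaf.stalk z)) := inferInstanceAs <| IsLocalHom ((Spec.map φ).stalkMap z).hom
  have h1 := IsLocalRing.length_restrictScalars
    ((Spec (CommRingCat.of K)).presheaf.stalk ((Spec.map φ) z)) ((Spec B).presheaf.stalk z)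
    ((Spec B).presheaf.stalk z)
  -- K → A
  letI aKA : Algebra K ((Spec (CommRingCat.of K)).presheaf.stalk ((Spec.map φ) z)) :=
    (StructureSheaf.toStalk K ((Spec.map φ) z)).hom.toAlgebra
  haveI tower : IsScalarTower K ((Spec (CommRingCat.of K)).presheaf.stalk ((Spec.map φ) z))
      ((Spec B).presheaf.stalk z) := by
    refine IsScalarTower.of_algebraMap_eq (fun k => ?_)
    exact (stalkMap_toStalk_apply φ z k).symm
  -- K → A is surjective
  have hsurj : Function.Surjective
      (algebraMap K ((Spec (CommRingCat.of K)).presheaf.stalk ((Spec.map φ) z))) := by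
    let p : PrimeSpectrum K := (Spec.map φ) z
    letI := StructureSheaf.stalkAlgebra K p
    haveI : IsLocalization.AtPrime ((Spec.structureSheaf K).presheaf.stalk p)
        p.asIdeal := StructureSheaf.IsLocalization.to_stalk K p
    have e := IsLocalization.atUnits K p.asIdeal.primeCompl
      (S := (Spec.structureSheaf K).presheaf.stalk p) (fun x hx => by
        have : x ≠ 0 := fun h0 => hx (h0 ▸ p.asIdeal.zero_mem)
        exact this.isUnit)
    intro s
    obtain ⟨r, hr⟩ := e.surjective s
    refine ⟨r, ?_⟩
    rw [← hr]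
    exact (e.commutes r).symm
  have h2 : Module.length K ((Spec B).presheaf.stalk z) =
      Module.length ((Spec (CommRingCat.of K)).presheaf.stalk ((Spec.map φ) z))
        ((Spec B).presheaf.stalk z) :=
    Module.length_eq_of_surjective hsurj
  -- the length of the stalk over itself
  have h3 : Module.length ((Spec B).presheaf.stalk z) ((Spec B).presheaf.stalk z) =
      lenAt (Spec.map φ) z := by
    unfold lenAt
    have hbot := Groth.Agent.Lib.Helper51.FibreStalkMax.maximalIdeal_stalk_Spec_field K ((Spec.map φ) z)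
    have hbot' : Ideal.map ((Spec.map φ).stalkMap z).hom
        (maximalIdeal ((Spec (CommRingCat.of K)).presheaf.stalk ((Spec.map φ) z))) = ⊥ := by
      rw [hbot, Ideal.map_bot]
    rw [length_quotient_congr hbot']
    exact (Submodule.quotEquivOfEqBot (⊥ : Ideal ((Spec B).presheaf.stalk z)) rfl).length_eq.symm
  -- residue fields
  have hinst : aR = (inferInstance : Algebra
      (ResidueField ((Spec (CommRingCat.of K)).presheaf.stalk ((Spec.map φ) z)))
      (ResidueField ((Spec B).presheaf.stalk z))) := by
    refine Algebra.algebra_ext _ _ fun x ↦ ?_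
    obtain ⟨x, rfl⟩ := IsLocalRing.residue_surjective x
    rfl
  haveI hfinres : Module.Finite (ResidueField ((Spec (CommRingCat.of K)).presheaf.stalk ((Spec.map φ) z)))
      (ResidueField ((Spec B).presheaf.stalk z)) := by
    have hf : ((Spec.map φ).residueFieldMap z).hom.Finite := by
      haveI : IsFinite (Spec.map φ) := by rw [IsFinite.SpecMap_iff]; exact hfin
      exact Groth.Agent.Lib.Helper57.Wt.finite_residueFieldMap (Spec.map φ) z
    have hf' : @Module.Finite _ _ _ _ aR.toModule := hf
    rw [hinst] at hf'
    exact hf'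
  rw [h2, h1, h3, Module.length_eq_finrank]
  congr 3
  exact (congrArg (fun a : Algebra
      (ResidueField ((Spec (CommRingCat.of K)).presheaf.stalk ((Spec.map φ) z)))
      (ResidueField ((Spec B).presheaf.stalk z)) => a.toModule) hinst).symm

/-- **The field case**: for a finite algebra `B` over a field `K`, the fibre integral of the
weight `length * inseparable degree` along `Spec B → Spec K` is the dimension of `B`. -/
theorem fibreIntegral_wt_Spec (hfin : φ.hom.Finite) (v : Spec (CommRingCat.of K)) :
    MoreMor.fibreIntegral (Spec.map φ) (wt (Spec.map φ)) v = ((Spec.map φ).finrank v : ℤ) := by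
  letI aKB : Algebra K B := φ.hom.toAlgebra
  haveI : Module.Finite K B := hfin
  haveI : IsArtinianRing B := IsArtinianRing.of_finite K B
  haveI : Fintype (PrimeSpectrum B) := Fintype.ofFinite _
  -- the right hand side
  have hR : (Spec.map φ).finrank v = Module.finrank K B := by
    have hflat : φ.hom.Flat := (inferInstance : Module.Flat K B)
    rw [Scheme.Hom.finrank_SpecMap_eq_finrank hfin hflat]
    show Module.rankAtStalk (R := K) B v = _
    rw [Module.rankAtStalk_eq_finrank_of_free]
    rfl
  -- the decomposition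
  letI i1 : ∀ z : PrimeSpectrum B, Algebra B ((Spec B).presheaf.stalk z) :=
    fun z => StructureSheaf.stalkAlgebra B z
  haveI i2 : ∀ z : PrimeSpectrum B, IsLocalization.AtPrime ((Spec B).presheaf.stalk z)
      z.asIdeal := fun z => StructureSheaf.IsLocalization.to_stalk B z
  letI i3 : ∀ z : PrimeSpectrum B, Module K ((Spec B).presheaf.stalk z) :=
    fun z => (stalkAlgK φ z).toModule
  haveI i4 : ∀ z : PrimeSpectrum B, IsScalarTower K B ((Spec B).presheaf.stalk z) := fun z =>
    letI := stalkAlgK φ z
    IsScalarTower.of_algebraMap_eq (fun _ => rfl)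
  have hsum := length_eq_sum_localizations (K := K) (B := B)
    (fun z : PrimeSpectrum B => (Spec B).presheaf.stalk z)
  -- separable degrees
  haveI : IsFinite (Spec.map φ) := by rw [IsFinite.SpecMap_iff]; exact hfin
  have hterm : ∀ z : PrimeSpectrum B, Module.length K ((Spec B).presheaf.stalk z) =
      lenAt (Spec.map φ) z *
        ((insepAt (Spec.map φ) z * sepAt (Spec.map φ) z : ℕ) : ℕ∞) := by
    intro z
    have h := length_stalk_eq φ hfin z
    rw [insepAt_mul_sepAt (Spec.map φ) z]
    exact h
  have hpos : ∀ z : PrimeSpectrum B, 0 < insepAt (Spec.map φ) z * sepAt (Spec.map φ) z :=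
    fun z => insepAt_mul_sepAt_pos (Spec.map φ) z
  -- finiteness of the lengths
  have hsum' : (Module.finrank K B : ℕ∞) = ∑ z : PrimeSpectrum B,
      lenAt (Spec.map φ) z * ((insepAt (Spec.map φ) z * sepAt (Spec.map φ) z : ℕ) : ℕ∞) := by
    rw [hsum]
    exact Finset.sum_congr rfl (fun z _ => hterm z)
  have hne : ∀ z : PrimeSpectrum B, lenAt (Spec.map φ) z ≠ ⊤ := by
    intro z hz
    have h1 : lenAt (Spec.map φ) z * ((insepAt (Spec.map φ) z * sepAt (Spec.map φ) z : ℕ) : ℕ∞) ≤
        ∑ z : PrimeSpectrum B,
          lenAt (Spec.map φ) z * ((insepAt (Spec.map φ) z * sepAt (Spec.map φ) z : ℕ) : ℕ∞) :=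
      Finset.single_le_sum (f := fun z : PrimeSpectrum B =>
        lenAt (Spec.map φ) z * ((insepAt (Spec.map φ) z * sepAt (Spec.map φ) z : ℕ) : ℕ∞))
        (fun _ _ => zero_le) (Finset.mem_univ z)
    rw [← hsum', hz, ENat.top_mul (by exact_mod_cast (hpos z).ne')] at h1
    exact (ENat.natCast_ne_top _) (top_le_iff.mp h1)
  have hnat : Module.finrank K B = ∑ z : PrimeSpectrum B,
      (lenAt (Spec.map φ) z).toNat * (insepAt (Spec.map φ) z * sepAt (Spec.map φ) z) := by
    have : (Module.finrank K B : ℕ∞) = ((∑ z : PrimeSpectrum B,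
        (lenAt (Spec.map φ) z).toNat * (insepAt (Spec.map φ) z * sepAt (Spec.map φ) z) : ℕ) : ℕ∞) := by
      rw [hsum', Nat.cast_sum]
      refine Finset.sum_congr rfl (fun z _ => ?_)
      calc lenAt (Spec.map φ) z * ((insepAt (Spec.map φ) z * sepAt (Spec.map φ) z : ℕ) : ℕ∞)
          = ((lenAt (Spec.map φ) z).toNat : ℕ∞) *
            ((insepAt (Spec.map φ) z * sepAt (Spec.map φ) z : ℕ) : ℕ∞) := by
            rw [ENat.natCast_toNat (hne z)]
        _ = _ := by push_cast; rfl
    exact_mod_cast this
  -- the integral
  rw [fibreIntegral_eq_finsum_mem, hR, hnat]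
  have huniv : {p : Spec B | (Spec.map φ) p = v} = Set.univ := by
    ext p
    simp only [Set.mem_ofPred_eq, Set.mem_univ, iff_true]
    exact Subsingleton.elim (α := PrimeSpectrum K) _ _
  letI : Fintype (Spec B) := ‹Fintype (PrimeSpectrum B)›
  rw [huniv, finsum_mem_univ, finsum_eq_sum_of_fintype, Nat.cast_sum]
  refine Finset.sum_congr rfl (fun z _ => ?_)
  rw [deg_eq_sepAt]
  unfold wt
  push_cast
  ring

end Groth.Agent.Lib.Helper87.LenWt
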