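import Groth.Agent.Lib.Helper87.LenWt3

/-!
# `length * inseparable degree` is a positive weighting (helper87)

For `f` flat, locally quasi-finite and locally of finite presentation, the function
`x ↦ length(O_x / m_{f x} O_x) * [κ(x) : κ(f x)]_i` is a weighting: for a finite flat morphism its
fibre integral is the rank function, which is locally constant.
-/

set_option autoImplicit false
set_option linter.unusedSectionVars false
set_option linter.style.haveILetI false
universe u
open CategoryTheory CategoryTheory.Limits AlgebraicGeometry TopologicalSpace IsLocalRing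
open Groth.Agent.Lib.Helper57.Wt
namespace Groth.Agent.Lib.Helper87.LenWt

/-- Invariance of the weight under an isomorphism of the source. -/
theorem wt_comp_of_etale {U X Y : Scheme.{u}} (j : U ⟶ X) [Etale j] (f : X ⟶ Y)
    [LocallyQuasiFinite f] [LocallyOfFiniteType f] (u : U) :
    wt (j ≫ f) u = wt f (j u) := by
  unfold wt
  rw [lenAt_comp_of_etale, insepAt_comp_of_etale]

theorem wt_comp_etale_right {U V Y : Scheme.{u}} (π : U ⟶ V) (g : V ⟶ Y) [Etale g]
    [LocallyQuasiFinite (π ≫ g)] [LocallyOfFiniteType (π ≫ g)] (u : U) :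
    wt (π ≫ g) u = wt π u := by
  unfold wt
  rw [lenAt_comp_etale_right, insepAt_comp_etale_right]

theorem wt_fiber {U V : Scheme.{u}} (π : U ⟶ V) [LocallyQuasiFinite π]
    [LocallyOfFiniteType π] (v : V) (u' : π.fiber v) :
    wt (π.fiberToSpecResidueField v) u' = wt π (π.fiberι v u') := by
  unfold wt
  rw [lenAt_fiber, insepAt_fiber]

/-- Invariance of the integral of the weight under an isomorphism of the source. -/
theorem fibreIntegral_wt_comp_iso {W W' T : Scheme.{u}} (e : W ⟶ W') [IsIso e] (q : W' ⟶ T)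
    [LocallyQuasiFinite q] [LocallyOfFiniteType q] (t : T) :
    MoreMor.fibreIntegral (e ≫ q) (wt (e ≫ q)) t = MoreMor.fibreIntegral q (wt q) t := by
  have hc : IsPullback e (e ≫ q) q (𝟙 T) := IsPullback.of_horiz_isIso ⟨by simp⟩
  have h := fibreIntegral_baseChange_lqf q (e ≫ q) e (𝟙 T) hc (wt q) t
  have hw : wt (e ≫ q) = wt q ∘ e := funext (fun w => wt_comp_of_etale e q w)
  rw [hw]
  exact h

/-- A morphism from an affine scheme to `Spec R` in terms of global sections. -/
theorem eq_isoSpec_hom_comp_SpecMap {W : Scheme.{u}} [IsAffine W] {R : CommRingCat.{u}}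
    (q : W ⟶ Spec R) :
    q = W.isoSpec.hom ≫ Spec.map ((Scheme.ΓSpecIso R).inv ≫ q.appTop) := by
  have h := Scheme.isoSpec_hom_naturality q
  rw [Scheme.isoSpec_Spec_hom] at h
  rw [Spec.map_comp, ← Category.assoc, h, Category.assoc, ← Spec.map_comp,
    Iso.inv_hom_id, Spec.map_id, Category.comp_id]

/-- The field case for an arbitrary finite morphism to the spectrum of a field. -/
theorem fibreIntegral_wt_of_field {K : Type u} [Field K] {W : Scheme.{u}}
    (q : W ⟶ Spec (CommRingCat.of K)) [IsFinite q] (t : Spec (CommRingCat.of K)) :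
    MoreMor.fibreIntegral q (wt q) t = (q.finrank t : ℤ) := by
  haveI : IsAffine W := isAffine_of_isAffineHom q
  set φ : CommRingCat.of K ⟶ Γ(W, ⊤) := (Scheme.ΓSpecIso (CommRingCat.of K)).inv ≫ q.appTop
    with hφ
  have hq : q = W.isoSpec.hom ≫ Spec.map φ := eq_isoSpec_hom_comp_SpecMap q
  have hfinφ : φ.hom.Finite := by
    have h0 : Spec.map φ = W.isoSpec.inv ≫ q := by
      rw [Iso.eq_inv_comp]
      exact hq.symm
    have h2 : IsFinite (Spec.map φ) := h0 ▸ inferInstance
    exact (IsFinite.SpecMap_iff φ).mp h2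
  haveI : IsFinite (Spec.map φ) := (IsFinite.SpecMap_iff φ).mpr hfinφ
  haveI : Flat (Spec.map φ) := by
    rw [Flat.SpecMap_iff]
    letI := φ.hom.toAlgebra
    exact (inferInstance : Module.Flat K Γ(W, ⊤))
  rw [hq, fibreIntegral_wt_comp_iso, Scheme.Hom.finrank_comp_left_of_isIso]
  exact fibreIntegral_wt_Spec φ hfinφ t

/-- **The finite flat case**: the fibre integral of the weight is the rank. -/
theorem fibreIntegral_wt_eq_finrank {U V : Scheme.{u}} (π : U ⟶ V) [IsFinite π] [Flat π]
    (v : V) : MoreMor.fibreIntegral π (wt π) v = (π.finrank v : ℤ) := by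
  have hc : IsPullback (π.fiberι v) (π.fiberToSpecResidueField v) π
      (V.fromSpecResidueField v) := IsPullback.of_hasPullback _ _
  let pt : Spec (V.residueField v) := IsLocalRing.closedPoint (V.residueField v)
  have hpt : (V.fromSpecResidueField v) pt = v := Scheme.fromSpecResidueField_apply v pt
  have h1 := fibreIntegral_baseChange_lqf π (π.fiberToSpecResidueField v) (π.fiberι v)
    (V.fromSpecResidueField v) hc (wt π) pt
  have hw : wt π ∘ (π.fiberι v) = wt (π.fiberToSpecResidueField v) :=
    funext (fun u' => (wt_fiber π v u').symm)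
  rw [hw, hpt] at h1
  have h2 := Scheme.Hom.finrank_of_isPullback (π.fiberι v) (π.fiberToSpecResidueField v) π
    (V.fromSpecResidueField v) hc pt
  rw [hpt] at h2
  rw [← h1, ← h2]
  haveI : IsFinite (π.fiberToSpecResidueField v) := MorphismProperty.of_isPullback hc inferInstance
  exact fibreIntegral_wt_of_field (K := V.residueField v) (π.fiberToSpecResidueField v) pt

/-- Étale morphisms are locally quasi-finite. -/
theorem locallyQuasiFinite_of_etale_aux {X Y : Scheme.{u}} (f : X ⟶ Y) [Etale f] :
    LocallyQuasiFinite f := by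
  refine ⟨fun {U} hU {V} hV e => ?_⟩
  have hf : (f.appLE U V e).hom.Etale :=
    HasRingHomProperty.appLE (P := @Etale) f inferInstance ⟨U, hU⟩ ⟨V, hV⟩ e
  algebraize [(f.appLE U V e).hom]
  have : Algebra.Etale Γ(Y, U) Γ(X, V) := hf
  show Algebra.QuasiFinite Γ(Y, U) Γ(X, V)
  infer_instance

/-- **Main theorem**: `length * inseparable degree` is a weighting of a flat, locally
quasi-finite morphism locally of finite presentation. -/
theorem isWeighting_wt {X Y : Scheme.{u}} (f : X ⟶ Y) [LocallyQuasiFinite f] [Flat f]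
    [LocallyOfFinitePresentation f] : MoreMor.IsWeighting f (wt f) := by
  intro V g _ U hfin
  set π := U.ι ≫ pullback.snd f g with hπ
  set j := U.ι ≫ pullback.fst f g with hj
  haveI : IsFinite π := hfin
  haveI : Etale j := by rw [hj]; infer_instance
  have e : j ≫ f = π ≫ g := by
    rw [hj, hπ, Category.assoc, Category.assoc, pullback.condition]
  haveI : LocallyQuasiFinite (π ≫ g) := by
    rw [← e]
    haveI : LocallyQuasiFinite j := locallyQuasiFinite_of_etale_aux j
    infer_instance
  haveI : LocallyOfFiniteType (π ≫ g) := by rw [← e]; infer_instance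
  have hw : (fun u => wt f (pullback.fst f g (U.ι u))) = wt π := by
    funext u
    have h1 : wt (j ≫ f) u = wt f (j u) := wt_comp_of_etale j f u
    have h2 : wt (π ≫ g) u = wt π u := wt_comp_etale_right π g u
    have h3 : wt (j ≫ f) u = wt (π ≫ g) u := by rw [e]
    exact (h1.symm.trans h3).trans h2
  rw [hw]
  haveI : Flat π := by rw [hπ]; infer_instance
  haveI : LocallyOfFinitePresentation π := by rw [hπ]; infer_instance
  have hfr : MoreMor.fibreIntegral π (wt π) = fun v => ((π.finrank v : ℕ) : ℤ) :=
    funext (fun v => fibreIntegral_wt_eq_finrank π v)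
  rw [hfr]
  exact (Scheme.Hom.isLocallyConstant_finrank π).comp (fun n : ℕ => (n : ℤ))

/-- For a morphism to the spectrum of a field, the length is that of the local ring. -/
theorem lenAt_eq_length_self_of_field {K : Type u} [Field K] {W : Scheme.{u}}
    (q : W ⟶ Spec (CommRingCat.of K)) (w : W) :
    lenAt q w = Module.length (W.presheaf.stalk w) (W.presheaf.stalk w) := by
  unfold lenAt
  have hbot := Groth.Agent.Lib.Helper51.FibreStalkMax.maximalIdeal_stalk_Spec_field K (q w)
  have hbot' : Ideal.map (q.stalkMap w).hom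
      (maximalIdeal ((Spec (CommRingCat.of K)).presheaf.stalk (q w))) = ⊥ := by
    rw [hbot, Ideal.map_bot]
  rw [length_quotient_congr hbot']
  exact (Submodule.quotEquivOfEqBot (⊥ : Ideal (W.presheaf.stalk w)) rfl).length_eq

/-- Stalks of locally Artinian schemes are Artinian rings. -/
theorem isArtinianRing_stalk (Z : Scheme.{u}) [IsLocallyArtinian Z] (z : Z) :
    IsArtinianRing (Z.presheaf.stalk z) := by
  obtain ⟨W, hW, hzW, -⟩ := Opens.isBasis_iff_nbhd.mp Z.isBasis_affineOpens
    (show z ∈ (⊤ : Z.Opens) from trivial)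
  have hW' : IsAffineOpen W := hW
  haveI : IsArtinianRing Γ(Z, W) := IsLocallyArtinian.isArtinianRing_presheaf_obj ⟨W, hW⟩
  letI : Algebra Γ(Z, W) (Z.presheaf.stalk z) :=
    TopCat.Presheaf.algebra_section_stalk Z.presheaf (⟨z, hzW⟩ : W)
  haveI : IsLocalization.AtPrime (Z.presheaf.stalk z) (hW'.primeIdealOf ⟨z, hzW⟩).asIdeal :=
    hW'.isLocalization_stalk ⟨z, hzW⟩
  exact IsArtinianRing.localization_artinian (hW'.primeIdealOf ⟨z, hzW⟩).asIdeal.primeCompl
    (Z.presheaf.stalk z)

/-- The length is finite for a locally quasi-finite morphism. -/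
theorem lenAt_ne_top {X Y : Scheme.{u}} (f : X ⟶ Y) [LocallyQuasiFinite f] (x : X) :
    lenAt f x ≠ ⊤ := by
  have h := lenAt_fiber f (f x) (f.asFiber x)
  rw [f.fiberι_asFiber x] at h
  rw [← h, lenAt_eq_length_self_of_field (K := Y.residueField (f x))]
  haveI := isArtinianRing_stalk (f.fiber (f x)) (f.asFiber x)
  exact Module.length_ne_top

theorem lenAt_ne_zero {X Y : Scheme.{u}} (f : X ⟶ Y) (x : X) : lenAt f x ≠ 0 := by
  unfold lenAt
  rw [Ne, Module.length_eq_zero_iff, not_subsingleton_iff_nontrivial]
  exact inferInstanceAs (Nontrivial (Groth.Agent.Lib.Helper67.FiberStalk.Q f x))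

/-- **Positivity** of the weight. -/
theorem wt_pos {X Y : Scheme.{u}} (f : X ⟶ Y) [LocallyQuasiFinite f] [LocallyOfFiniteType f]
    (x : X) : 0 < wt f x := by
  unfold wt
  have h1 : 0 < (lenAt f x).toNat := by
    rw [Nat.pos_iff_ne_zero, Ne, ENat.toNat_eq_zero, not_or]
    exact ⟨lenAt_ne_zero f x, lenAt_ne_top f x⟩
  have h2 : 0 < insepAt f x := by
    have := insepAt_mul_sepAt_pos f x
    exact Nat.pos_of_ne_zero (fun h => by simp [h] at this)
  positivity

end Groth.Agent.Lib.Helper87.LenWt
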