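import Groth.Agent.Lib.Helper87.LenWt4
import Groth.Agent.Lib.Helper87.SepDegSquare

/-!
# Rank of the base change of a locally quasi-finite morphism to a field-valued point (helper87)
-/

set_option autoImplicit false
set_option linter.style.haveILetI false
set_option linter.unusedSectionVars false
universe u
open CategoryTheory CategoryTheory.Limits AlgebraicGeometry TopologicalSpace IsLocalRing
open Groth.Agent.Lib.Helper57.Wt
namespace Groth.Agent.Lib.Helper87.LenWt

/-- The weight across a square with open immersions. -/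
theorem wt_eq_of_square {A B P V : Scheme.{u}} (π : A ⟶ B) (j : B ⟶ V)
    (i : A ⟶ P) (q : P ⟶ V) [IsOpenImmersion i] [IsOpenImmersion j] [LocallyQuasiFinite q]
    [LocallyOfFiniteType q] (e : π ≫ j = i ≫ q) (ζ : A) :
    wt π ζ = wt q (i ζ) := by
  haveI : LocallyQuasiFinite (π ≫ j) := by rw [e]; infer_instance
  haveI : LocallyOfFiniteType (π ≫ j) := by rw [e]; infer_instance
  have h1 : wt (π ≫ j) ζ = wt π ζ := wt_comp_etale_right π j ζ
  have h2 : wt (i ≫ q) ζ = wt q (i ζ) := wt_comp_of_etale i q ζ
  have h3 : wt (π ≫ j) ζ = wt (i ≫ q) ζ := by rw [e]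
  exact (h1.symm.trans h3).trans h2

/-- Morphisms to the spectrum of a field from an affine scheme are flat. -/
theorem flat_of_field {K : Type u} [Field K] {W : Scheme.{u}} [IsAffine W]
    (q : W ⟶ Spec (CommRingCat.of K)) : Flat q := by
  have hq := eq_isoSpec_hom_comp_SpecMap q
  haveI : Flat (Spec.map ((Scheme.ΓSpecIso (CommRingCat.of K)).inv ≫ q.appTop)) := by
    rw [Flat.SpecMap_iff]
    letI := ((Scheme.ΓSpecIso (CommRingCat.of K)).inv ≫ q.appTop).hom.toAlgebra
    exact (inferInstance : Module.Flat K Γ(W, ⊤))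
  rw [hq]
  infer_instance

/-- The rank of the global sections of a finite scheme over a field. -/
theorem rank_eq_finrank_of_field {K : Type u} [Field K] {W : Scheme.{u}}
    (q : W ⟶ Spec (CommRingCat.of K)) [IsFinite q] (t : Spec (CommRingCat.of K)) :
    letI := ((Scheme.ΓSpecIso (CommRingCat.of K)).inv ≫ q.appTop).hom.toAlgebra
    Module.rank K Γ(W, ⊤) = (q.finrank t : Cardinal) := by
  haveI : IsAffine W := isAffine_of_isAffineHom q
  set φ : CommRingCat.of K ⟶ Γ(W, ⊤) := (Scheme.ΓSpecIso (CommRingCat.of K)).inv ≫ q.appTop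
    with hφ
  letI := φ.hom.toAlgebra
  have hq : q = W.isoSpec.hom ≫ Spec.map φ := eq_isoSpec_hom_comp_SpecMap q
  have hfinφ : φ.hom.Finite := by
    have h0 : Spec.map φ = W.isoSpec.inv ≫ q := by
      rw [Iso.eq_inv_comp]
      exact hq.symm
    have h2 : IsFinite (Spec.map φ) := h0 ▸ inferInstance
    exact (IsFinite.SpecMap_iff φ).mp h2
  haveI : IsFinite (Spec.map φ) := (IsFinite.SpecMap_iff φ).mpr hfinφ
  haveI : Flat (Spec.map φ) := by
    rw [Flat.SpecMap_iff]
    exact (inferInstance : Module.Flat K Γ(W, ⊤))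
  haveI : Module.Finite K Γ(W, ⊤) := hfinφ
  have hflat : φ.hom.Flat := (inferInstance : Module.Flat K Γ(W, ⊤))
  have h1 : q.finrank t = Module.finrank K Γ(W, ⊤) := by
    rw [hq, Scheme.Hom.finrank_comp_left_of_isIso,
      Scheme.Hom.finrank_SpecMap_eq_finrank hfinφ hflat]
    show Module.rankAtStalk (R := K) Γ(W, ⊤) t = _
    rw [Module.rankAtStalk_eq_finrank_of_free]
    rfl
  rw [h1]
  exact (Module.finrank_eq_rank K Γ(W, ⊤)).symm

/-- The fibre integral of the weight at a point with finite scheme-theoretic fibre. -/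
theorem fibreIntegral_wt_eq_finrank_fiber {U V : Scheme.{u}} (π : U ⟶ V) [LocallyQuasiFinite π]
    [LocallyOfFiniteType π] (v : V) [IsFinite (π.fiberToSpecResidueField v)]
    (pt : Spec (V.residueField v)) :
    MoreMor.fibreIntegral π (wt π) v = ((π.fiberToSpecResidueField v).finrank pt : ℤ) := by
  have hc : IsPullback (π.fiberι v) (π.fiberToSpecResidueField v) π
      (V.fromSpecResidueField v) := IsPullback.of_hasPullback _ _
  have hpt : (V.fromSpecResidueField v) pt = v := Scheme.fromSpecResidueField_apply v pt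
  have h1 := fibreIntegral_baseChange_lqf π (π.fiberToSpecResidueField v) (π.fiberι v)
    (V.fromSpecResidueField v) hc (wt π) pt
  have hw : wt π ∘ (π.fiberι v) = wt (π.fiberToSpecResidueField v) :=
    funext (fun u' => (wt_fiber π v u').symm)
  rw [hw, hpt] at h1
  rw [← h1]
  exact fibreIntegral_wt_of_field (K := V.residueField v) (π.fiberToSpecResidueField v) pt

/-- **Rank of the base change to a field-valued point** with finite scheme-theoretic fibre. -/
theorem rank_pullback_eq {U V : Scheme.{u}} (π : U ⟶ V) [LocallyQuasiFinite π]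
    [LocallyOfFiniteType π] {K : Type u} [Field K] (g : Spec (CommRingCat.of K) ⟶ V)
    [IsFinite (π.fiberToSpecResidueField (g (IsLocalRing.closedPoint K)))] :
    letI := ((Scheme.ΓSpecIso (CommRingCat.of K)).inv ≫ (pullback.snd π g).appTop).hom.toAlgebra
    ∃ n : ℕ, (n : ℤ) = MoreMor.fibreIntegral π (wt π) (g (IsLocalRing.closedPoint K)) ∧
      Module.rank K Γ(pullback π g, ⊤) = (n : Cardinal) := by
  set v := g (IsLocalRing.closedPoint K) with hv
  let ψ : V.residueField v ⟶ CommRingCat.of K :=
    V.descResidueField (Scheme.stalkClosedPointTo g)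
  have hg : Spec.map ψ ≫ V.fromSpecResidueField v = g :=
    Scheme.descResidueField_stalkClosedPointTo_fromSpecResidueField K V g
  -- the pullback square over the fibre
  let fst' : pullback π g ⟶ π.fiber v :=
    pullback.lift (pullback.fst π g) (pullback.snd π g ≫ Spec.map ψ) (by
      rw [Category.assoc, hg, pullback.condition])
  have hfst' : fst' ≫ π.fiberι v = pullback.fst π g := pullback.lift_fst _ _ _
  have hsnd' : fst' ≫ π.fiberToSpecResidueField v = pullback.snd π g ≫ Spec.map ψ :=
    pullback.lift_snd _ _ _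
  have hbig : IsPullback (fst' ≫ π.fiberι v) (pullback.snd π g) π
      (Spec.map ψ ≫ V.fromSpecResidueField v) := by
    rw [hfst', hg]
    exact IsPullback.of_hasPullback π g
  have hpb : IsPullback fst' (pullback.snd π g) (π.fiberToSpecResidueField v) (Spec.map ψ) :=
    IsPullback.of_right hbig hsnd' (IsPullback.of_hasPullback π (V.fromSpecResidueField v))
  haveI : IsAffine (π.fiber v) := isAffine_of_isAffineHom (π.fiberToSpecResidueField v)
  haveI : Flat (π.fiberToSpecResidueField v) :=
    flat_of_field (K := V.residueField v) (π.fiberToSpecResidueField v)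
  haveI : IsFinite (pullback.snd π g) := MorphismProperty.of_isPullback hpb inferInstance
  have h1 := Scheme.Hom.finrank_of_isPullback fst' (pullback.snd π g)
    (π.fiberToSpecResidueField v) (Spec.map ψ) hpb (IsLocalRing.closedPoint K)
  refine ⟨(π.fiberToSpecResidueField v).finrank (Spec.map ψ (IsLocalRing.closedPoint K)), ?_, ?_⟩
  · exact (fibreIntegral_wt_eq_finrank_fiber π v _).symm
  · rw [← h1]
    exact rank_eq_finrank_of_field (pullback.snd π g) (IsLocalRing.closedPoint K)

end Groth.Agent.Lib.Helper87.LenWt
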