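import Groth.Agent.Lib.Helper87.LenWt4

/-!
# Global sections and clopen subschemes (helper87)
-/

set_option autoImplicit false
set_option linter.style.haveILetI false
set_option linter.unusedSectionVars false
universe u
open CategoryTheory CategoryTheory.Limits AlgebraicGeometry TopologicalSpace IsLocalRing Opposite
namespace Groth.Agent.Lib.Helper87.LenWt

/-- Restriction of global sections to a clopen subset is surjective. -/
theorem restrict_surjective_of_isClosed {P : Scheme.{u}} (V : P.Opens)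
    (hcl : IsClosed (V : Set P)) :
    Function.Surjective (P.presheaf.map (homOfLE (le_top : V ≤ ⊤)).op).hom := by
  intro b
  let W : P.Opens := ⟨(V : Set P)ᶜ, hcl.isOpen_compl⟩
  have hsup : V ⊔ W = ⊤ := by
    ext x
    simp only [Opens.coe_sup, Opens.coe_top, Set.mem_union, Set.mem_univ, iff_true]
    exact Classical.em (x ∈ (V : Set P))
  have hinf : V ⊓ W = ⊥ := by
    ext x
    simp only [Opens.coe_inf, Opens.coe_bot, Set.mem_inter_iff, Set.mem_empty_iff_false,
      iff_false, not_and]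
    exact fun h1 h2 => h2 h1
  haveI : Subsingleton (P.sheaf.1.obj (op (V ⊓ W))) :=
    CommRingCat.subsingleton_of_isTerminal (P.sheaf.isTerminalOfEqEmpty hinf)
  let x : RingHom.eqLocus
      (RingHom.comp (P.sheaf.obj.map (homOfLE inf_le_left : V ⊓ W ⟶ V).op).hom
        (RingHom.fst (P.sheaf.obj.obj <| op V) (P.sheaf.obj.obj <| op W)))
      (RingHom.comp (P.sheaf.obj.map (homOfLE inf_le_right : V ⊓ W ⟶ W).op).hom
        (RingHom.snd (P.sheaf.obj.obj <| op V) (P.sheaf.obj.obj <| op W))) :=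
    ⟨(b, 0), Subsingleton.elim _ _⟩
  obtain ⟨c, hc⟩ : ∃ c : Γ(P, V ⊔ W), P.presheaf.map (homOfLE le_sup_left).op c = b :=
    ⟨_, TopCat.Sheaf.objSupIsoProdEqLocus_inv_fst P.sheaf V W x⟩
  refine ⟨P.presheaf.map (homOfLE (hsup.ge : ⊤ ≤ V ⊔ W)).op c, ?_⟩
  have hcomp : P.presheaf.map (homOfLE (hsup.ge : ⊤ ≤ V ⊔ W)).op ≫
      P.presheaf.map (homOfLE (le_top : V ≤ ⊤)).op =
      P.presheaf.map (homOfLE (le_sup_left : V ≤ V ⊔ W)).op := by
    rw [← Functor.map_comp]
    rfl
  rw [← hc]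
  exact congr($(hcomp).hom c)

/-- Pulling back global sections along an open immersion with closed range is surjective. -/
theorem appTop_surjective_of_isClosed_range {P' P : Scheme.{u}} (i : P' ⟶ P) [IsOpenImmersion i]
    (hcl : IsClosed (Set.range i)) : Function.Surjective i.appTop.hom := by
  intro a
  have hV : IsClosed ((i ''ᵁ (i ⁻¹ᵁ ⊤) : P.Opens) : Set P) := by
    have : ((i ''ᵁ (i ⁻¹ᵁ ⊤) : P.Opens) : Set P) = Set.range i := by
      simp
    rw [this]
    exact hcl
  obtain ⟨c, hc⟩ := restrict_surjective_of_isClosed (i ''ᵁ (i ⁻¹ᵁ ⊤)) hV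
    ((i.appIso (i ⁻¹ᵁ ⊤)).inv a)
  refine ⟨c, ?_⟩
  have h1 := i.app_appIso_inv ⊤
  have h2 : (i.appIso (i ⁻¹ᵁ ⊤)).inv (i.app ⊤ c) = (i.appIso (i ⁻¹ᵁ ⊤)).inv a := by
    rw [← hc]
    exact congr($(h1).hom c)
  have hinj : Function.Injective (i.appIso (i ⁻¹ᵁ ⊤)).inv.hom :=
    (ConcreteCategory.bijective_of_isIso (i.appIso (i ⁻¹ᵁ ⊤)).inv).1
  exact hinj h2

/-- The rank of global sections does not increase on passing to a clopen subscheme. -/
theorem rank_le_of_isClosed_range {K : Type u} [Field K] {P' P : Scheme.{u}} (i : P' ⟶ P)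
    [IsOpenImmersion i] (hcl : IsClosed (Set.range i)) (q : P ⟶ Spec (CommRingCat.of K))
    (q' : P' ⟶ Spec (CommRingCat.of K)) (hq : i ≫ q = q') :
    (letI := ((Scheme.ΓSpecIso (CommRingCat.of K)).inv ≫ q'.appTop).hom.toAlgebra
     Module.rank K Γ(P', ⊤)) ≤
    (letI := ((Scheme.ΓSpecIso (CommRingCat.of K)).inv ≫ q.appTop).hom.toAlgebra
     Module.rank K Γ(P, ⊤)) := by
  letI a1 := ((Scheme.ΓSpecIso (CommRingCat.of K)).inv ≫ q'.appTop).hom.toAlgebra
  letI a2 := ((Scheme.ΓSpecIso (CommRingCat.of K)).inv ≫ q.appTop).hom.toAlgebra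
  have hcomp : q'.appTop = q.appTop ≫ i.appTop := by
    rw [← hq, Scheme.Hom.comp_appTop]
  let l : Γ(P, ⊤) →ₗ[K] Γ(P', ⊤) :=
    { toFun := i.appTop.hom
      map_add' := map_add _
      map_smul' := fun k x => by
        simp only [RingHom.id_apply]
        rw [Algebra.smul_def, Algebra.smul_def, map_mul]
        congr 1
        show i.appTop.hom (q.appTop.hom ((Scheme.ΓSpecIso (CommRingCat.of K)).inv.hom k)) =
          q'.appTop.hom ((Scheme.ΓSpecIso (CommRingCat.of K)).inv.hom k)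
        rw [hcomp]
        rfl }
  exact LinearMap.rank_le_of_surjective l (appTop_surjective_of_isClosed_range i hcl)

end Groth.Agent.Lib.Helper87.LenWt
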