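import Groth.Agent.Lib.Helper87.LenWt5
import Groth.Agent.Lib.Helper87.LenWt6
import Groth.Agent.Lib.Helper57.Wt5
import Groth.Agent.Lib.Helper57.Wt3

/-!
# The opens where the fibre rank of a flat locally quasi-finite morphism is at least `d`
(helper87)
-/

set_option autoImplicit false
set_option linter.style.haveILetI false
set_option linter.unusedSectionVars false
universe u
open CategoryTheory CategoryTheory.Limits AlgebraicGeometry TopologicalSpace IsLocalRing Opposite
open Groth.Agent.Lib.Helper57.Wt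
namespace Groth.Agent.Lib.Helper87.LenWt

/-- The set of points over which some finite part of the fibre has total weighted degree at
least `d`. -/
def Ud {X S : Scheme.{u}} (f : X ⟶ S) (d : ℕ) : Set S :=
  {s | ∃ T : Finset X, (∀ x ∈ T, f x = s) ∧ (d : ℤ) ≤ ∑ x ∈ T, wt f x * deg f x}

theorem term_pos {X S : Scheme.{u}} (f : X ⟶ S) [LocallyQuasiFinite f] [LocallyOfFiniteType f]
    (x : X) : 0 < wt f x * deg f x :=
  mul_pos (wt_pos f x) (deg_pos f x (finite_residueFieldMap f x))

theorem Ud_antitone {X S : Scheme.{u}} (f : X ⟶ S) : Antitone (Ud f) := by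
  intro d d' hdd' s ⟨T, hT, hsum⟩
  exact ⟨T, hT, le_trans (by exact_mod_cast hdd') hsum⟩

theorem Ud_zero {X S : Scheme.{u}} (f : X ⟶ S) : Ud f 0 = Set.univ := by
  ext s
  simp only [Set.mem_univ, iff_true]
  exact ⟨∅, by simp, by simp⟩

/-- A finite topological fibre gives a finite scheme-theoretic fibre. -/
theorem isFinite_fiberToSpecResidueField_of_finite {U V : Scheme.{u}} (π : U ⟶ V)
    [LocallyQuasiFinite π] (v : V) (h : (π ⁻¹' {v}).Finite) :
    IsFinite (π.fiberToSpecResidueField v) := by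
  haveI : Finite (π.fiber v) := by
    haveI : Finite ↥(π ⁻¹' {v}) := h.to_subtype
    exact Finite.of_equiv _ (π.fiberHomeo v).symm.toEquiv
  haveI : CompactSpace (π.fiber v) := Finite.compactSpace
  haveI : QuasiCompact (π.fiberToSpecResidueField v) := inferInstance
  haveI : LocallyQuasiFinite (π.fiberToSpecResidueField v) :=
    (inferInstance : LocallyQuasiFinite (pullback.snd π (V.fromSpecResidueField v)))
  exact IsFinite.of_locallyQuasiFinite (π.fiberToSpecResidueField v)

/-- The fibre integral as a finite sum over a finite fibre. -/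
theorem fibreIntegral_eq_sum {U V : Scheme.{u}} (π : U ⟶ V) (w : U → ℤ) (v : V)
    (h : (π ⁻¹' {v}).Finite) :
    MoreMor.fibreIntegral π w v = ∑ p ∈ h.toFinset, w p * deg π p := by
  rw [fibreIntegral_eq_finsum_mem]
  have : {p : U | π p = v} = π ⁻¹' {v} := rfl
  rw [this, finsum_mem_eq_finite_toFinset_sum _ h]

section Rank

variable {X S : Scheme.{u}} (f : X ⟶ S) [LocallyQuasiFinite f] [LocallyOfFiniteType f]
  {K : Type u} [Field K] (g : Spec (CommRingCat.of K) ⟶ S)

theorem mem_Ud_of_le_rank (d : ℕ)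
    (h : (d : Cardinal.{u}) ≤
      (letI := ((Scheme.ΓSpecIso (CommRingCat.of K)).inv ≫ (pullback.snd f g).appTop).hom.toAlgebra
       Module.rank K Γ(pullback f g, ⊤))) :
    g (IsLocalRing.closedPoint K) ∈ Ud f d := by
  set s := g (IsLocalRing.closedPoint K) with hs
  by_cases hfin : (f ⁻¹' {s}).Finite
  · haveI := isFinite_fiberToSpecResidueField_of_finite f s hfin
    obtain ⟨n, hn, hr⟩ := rank_pullback_eq f g
    rw [hr] at h
    have hdn : d ≤ n := by exact_mod_cast h
    refine ⟨hfin.toFinset, fun x hx => by simpa using hx, ?_⟩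
    rw [← fibreIntegral_eq_sum f (wt f) s hfin, ← hn]
    exact_mod_cast hdn
  · obtain ⟨T, hTsub, hTcard⟩ := Set.Infinite.exists_subset_card_eq hfin d
    refine ⟨T, fun x hx => hTsub hx, ?_⟩
    calc (d : ℤ) = ∑ x ∈ T, (1 : ℤ) := by simp [hTcard]
      _ ≤ ∑ x ∈ T, wt f x * deg f x :=
        Finset.sum_le_sum (fun x _ => by have := term_pos f x; omega)

theorem le_rank_of_mem_Ud (d : ℕ) (h : g (IsLocalRing.closedPoint K) ∈ Ud f d) :
    (d : Cardinal.{u}) ≤
      (letI := ((Scheme.ΓSpecIso (CommRingCat.of K)).inv ≫ (pullback.snd f g).appTop).hom.toAlgebra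
       Module.rank K Γ(pullback f g, ⊤)) := by
  set s := g (IsLocalRing.closedPoint K) with hs
  obtain ⟨T, hT, hsum⟩ := h
  have hdisc := (isDiscrete_iff_forall_subset_exists_isOpen.mp (f.isDiscrete_preimage_singleton s))
  have hTsub : (T : Set X) ⊆ f ⁻¹' {s} := fun x hx => hT x hx
  obtain ⟨u, hu, huT⟩ := hdisc (T : Set X) hTsub
  obtain ⟨u', hu', huT'⟩ := hdisc (f ⁻¹' {s} \ (T : Set X)) Set.sdiff_subset
  let X' : X.Opens := ⟨u, hu⟩
  have hmem : ∀ x : X, x ∈ X' ∧ f x = s ↔ x ∈ T := by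
    intro x
    have := Set.ext_iff.mp huT x
    simp only [Set.mem_inter_iff, Set.mem_preimage, Set.mem_singleton_iff, Finset.mem_coe] at this
    exact this
  have hιmem : ∀ p : ↥X', X'.ι p ∈ X' := fun p => by
    have := Set.mem_range_self (f := X'.ι) p
    rwa [Scheme.Opens.range_ι] at this
  -- the restricted morphism has finite fibre over `s`
  have hfin' : ((X'.ι ≫ f) ⁻¹' {s}).Finite := by
    refine ((Finset.finite_toSet T).preimage (X'.ι.injective.injOn)).subset ?_
    intro p hp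
    exact (hmem (X'.ι p)).mp ⟨hιmem p, hp⟩
  haveI := isFinite_fiberToSpecResidueField_of_finite (X'.ι ≫ f) s hfin'
  obtain ⟨n, hn, hr⟩ := rank_pullback_eq (X'.ι ≫ f) g
  -- the sum over the fibre of the restriction is the sum over `T`
  have hmap : hfin'.toFinset.map ⟨X'.ι, X'.ι.injective⟩ = T := by
    ext x
    simp only [Finset.mem_map, Set.Finite.mem_toFinset, Function.Embedding.coeFn_mk]
    constructor
    · rintro ⟨p, hp, rfl⟩
      exact (hmem (X'.ι p)).mp ⟨hιmem p, hp⟩
    · intro hx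
      obtain ⟨hxX', hxs⟩ := (hmem x).mpr hx
      exact ⟨⟨x, hxX'⟩, hxs, rfl⟩
  have hsum' : MoreMor.fibreIntegral (X'.ι ≫ f) (wt (X'.ι ≫ f)) s =
      ∑ x ∈ T, wt f x * deg f x := by
    rw [fibreIntegral_eq_sum (X'.ι ≫ f) _ s hfin', ← hmap, Finset.sum_map]
    refine Finset.sum_congr rfl (fun p _ => ?_)
    rw [wt_comp_of_etale X'.ι f p, deg_comp_of_isOpenImmersion X'.ι f p]
    rfl
  have hdn : d ≤ n := by
    have : (d : ℤ) ≤ (n : ℤ) := by rw [hn, hsum']; exact hsum
    exact_mod_cast this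
  -- compare the ranks
  have hcl : IsClosed (Set.range (pbMap X'.ι f g)) := by
    have hrange : Set.range (pbMap X'.ι f g) = (pullback.fst f g) ⁻¹' u := by
      have h1 := Scheme.image_preimage_eq_of_isPullback (isPullback_pbMap X'.ι f g).flip Set.univ
      simp only [Set.preimage_univ, Set.image_univ] at h1
      rw [h1, Scheme.Opens.range_ι]
      rfl
    have hcompl : (Set.range (pbMap X'.ι f g))ᶜ = (pullback.fst f g) ⁻¹' u' := by
      rw [hrange]
      ext z
      have hz : f (pullback.fst f g z) = s := by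
        have h1 : f (pullback.fst f g z) = g (pullback.snd f g z) :=
          congr($(pullback.condition (f := f) (g := g)) z)
        rw [h1, hs]
        congr 1
        exact Subsingleton.elim (α := PrimeSpectrum K) _ _
      have h1 := Set.ext_iff.mp huT (pullback.fst f g z)
      have h2 := Set.ext_iff.mp huT' (pullback.fst f g z)
      simp only [Set.mem_inter_iff, Set.mem_preimage, Set.mem_singleton_iff, hz, and_true,
        Finset.mem_coe, Set.mem_sdiff, true_and] at h1 h2
      simp only [Set.mem_compl_iff, Set.mem_preimage]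
      rw [h1, h2]
    rw [← isOpen_compl_iff, hcompl]
    exact (pullback.fst f g).continuous.isOpen_preimage _ hu'
  have hle := rank_le_of_isClosed_range (pbMap X'.ι f g) hcl (pullback.snd f g)
    (pullback.snd (X'.ι ≫ f) g) (pbMap_snd X'.ι f g)
  calc (d : Cardinal.{u}) ≤ (n : Cardinal.{u}) := by exact_mod_cast hdn
    _ = _ := hr.symm
    _ ≤ _ := hle

end Rank

section Open

variable {X S : Scheme.{u}} (f : X ⟶ S) [Flat f] [LocallyOfFinitePresentation f] [IsSeparated f]
  [LocallyQuasiFinite f]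

/-- **Openness** of the locus where some finite part of the fibre has degree at least `d`. -/
theorem isOpen_Ud (d : ℕ) : IsOpen (Ud f d) := by
  rw [isOpen_iff_mem_nhds]
  rintro s₀ ⟨T, hT, hsum⟩
  -- an affine neighbourhood of `s₀`
  obtain ⟨(S₀ : S.Opens), hS₀, hs₀, -⟩ := Opens.isBasis_iff_nbhd.mp S.isBasis_affineOpens
    (show s₀ ∈ (⊤ : S.Opens) from trivial)
  have hS₀' : IsAffineOpen S₀ := hS₀
  -- affine neighbourhoods of the points of `T`
  have hW : ∀ x : X, ∃ W : X.Opens, x ∈ T → (IsAffineOpen W ∧ x ∈ W ∧ W ≤ f ⁻¹ᵁ S₀) := by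
    intro x
    by_cases hx : x ∈ T
    · have hxS : x ∈ f ⁻¹ᵁ S₀ := by
        show f x ∈ S₀
        rw [hT x hx]
        exact hs₀
      obtain ⟨(W : X.Opens), hW, hxW, hle⟩ := Opens.isBasis_iff_nbhd.mp X.isBasis_affineOpens hxS
      exact ⟨W, fun _ => ⟨hW, hxW, hle⟩⟩
    · exact ⟨⊥, fun h => absurd h hx⟩
  choose W hW using hW
  let X' : X.Opens := ⨆ x : T, W x.1
  have hle : X' ≤ f ⁻¹ᵁ S₀ := iSup_le fun x => (hW x.1 x.2).2.2
  have hTX' : ∀ x ∈ T, x ∈ X' := fun x hx =>
    Opens.mem_iSup.mpr ⟨⟨x, hx⟩, (hW x hx).2.1⟩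
  haveI : CompactSpace ↥(X' : Scheme.{u}) := by
    have hc : IsCompact (X' : Set X) := by
      have : (X' : Set X) = ⋃ x : T, (W x.1 : Set X) := by
        simp [X']
      rw [this]
      exact isCompact_iUnion fun x => (hW x.1 x.2).1.isCompact
    have h : CompactSpace ↥(X' : Set X) := isCompact_iff_compactSpace.mp hc
    exact h
  haveI : IsAffine (S₀ : Scheme.{u}) := hS₀'
  let π : (X' : Scheme.{u}) ⟶ (S₀ : Scheme.{u}) := f.resLE S₀ X' hle
  have e : π ≫ S₀.ι = X'.ι ≫ f := Scheme.Hom.resLE_comp_ι f hle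
  haveI : Flat π := by
    show Flat (f.resLE S₀ X' hle)
    delta Scheme.Hom.resLE; infer_instance
  haveI : LocallyOfFinitePresentation π := by
    show LocallyOfFinitePresentation (f.resLE S₀ X' hle)
    delta Scheme.Hom.resLE; infer_instance
  haveI : IsSeparated π := by
    show IsSeparated (f.resLE S₀ X' hle)
    delta Scheme.Hom.resLE; infer_instance
  haveI : LocallyQuasiFinite π := inferInstance
  haveI : QuasiCompact π := inferInstance
  have hfinπ : ∀ s : ↥(S₀ : Scheme.{u}), (π ⁻¹' {s}).Finite :=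
    fun s => π.finite_preimage_singleton s
  have hlsc := lowerSemicontinuous_fibreIntegral π hfinπ (wt π) (isWeighting_wt π) (wt_pos π)
  -- comparison of the terms
  have hterm : ∀ p : ↥(X' : Scheme.{u}), wt π p * deg π p =
      wt f (X'.ι p) * deg f (X'.ι p) := by
    intro p
    rw [wt_eq_of_square π S₀.ι X'.ι f e p,
      Groth.Agent.Lib.Helper87.SepDeg.deg_eq_of_square π S₀.ι X'.ι f e p]
  have hpt : ∀ p : ↥(X' : Scheme.{u}), S₀.ι (π p) = f (X'.ι p) := fun p => congr($(e) p)
  have hsumπ : ∀ s' : ↥(S₀ : Scheme.{u}), MoreMor.fibreIntegral π (wt π) s' =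
      ∑ x ∈ (hfinπ s').toFinset.map ⟨X'.ι, X'.ι.injective⟩, wt f x * deg f x := by
    intro s'
    rw [fibreIntegral_eq_sum π _ s' (hfinπ s'), Finset.sum_map]
    exact Finset.sum_congr rfl (fun p _ => hterm p)
  let N : Set ↥(S₀ : Scheme.{u}) := (MoreMor.fibreIntegral π (wt π)) ⁻¹' Set.Ioi ((d : ℤ) - 1)
  have hN : IsOpen N := hlsc.isOpen_preimage _
  let s₀' : ↥(S₀ : Scheme.{u}) := ⟨s₀, hs₀⟩
  have hs₀' : S₀.ι s₀' = s₀ := rfl
  have hs₀N : s₀' ∈ N := by
    show (d : ℤ) - 1 < MoreMor.fibreIntegral π (wt π) s₀'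
    rw [hsumπ s₀']
    have hsub : T ⊆ (hfinπ s₀').toFinset.map ⟨X'.ι, X'.ι.injective⟩ := by
      intro x hx
      rw [Finset.mem_map]
      let p : ↥(X' : Scheme.{u}) := ⟨x, hTX' x hx⟩
      have hp : π p = s₀' := by
        apply S₀.ι.injective
        rw [hpt, hs₀']
        exact hT x hx
      exact ⟨p, (hfinπ s₀').mem_toFinset.mpr hp, rfl⟩
    have h1 : ∑ x ∈ T, wt f x * deg f x ≤
        ∑ x ∈ (hfinπ s₀').toFinset.map ⟨X'.ι, X'.ι.injective⟩, wt f x * deg f x :=
      Finset.sum_le_sum_of_subset_of_nonneg hsub (fun x _ _ => (term_pos f x).le)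
    omega
  refine Filter.mem_of_superset
    ((S₀.ι.isOpenEmbedding.isOpenMap _ hN).mem_nhds ⟨s₀', hs₀N, hs₀'⟩) ?_
  rintro _ ⟨s', hs'N, rfl⟩
  refine ⟨(hfinπ s').toFinset.map ⟨X'.ι, X'.ι.injective⟩, ?_, ?_⟩
  · intro x hx
    rw [Finset.mem_map] at hx
    obtain ⟨p, hp, rfl⟩ := hx
    have hp' : π p = s' := (hfinπ s').mem_toFinset.mp hp
    show f (X'.ι p) = S₀.ι s'
    rw [← hpt, hp']
  · have h1 : (d : ℤ) - 1 < MoreMor.fibreIntegral π (wt π) s' := hs'N
    rw [hsumπ s'] at h1
    omega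

end Open

/-- **Stratification by fibre degree**: the opens `U_d` over which the fibre rank is at least
`d`. -/
theorem exists_opens_rank_ge {X S : Scheme.{u}} (f : X ⟶ S) [Flat f]
    [LocallyOfFinitePresentation f] [IsSeparated f] [LocallyQuasiFinite f] :
    ∃ U : ℕ → S.Opens, Antitone U ∧ U 0 = ⊤ ∧ ∀ (K : Type u) [Field K]
      (g : Spec (CommRingCat.of K) ⟶ S) (d : ℕ),
      Set.range ⇑g ⊆ (U d : Set ↑S) ↔ (d : Cardinal.{u}) ≤
        (letI := ((Scheme.ΓSpecIso (CommRingCat.of K)).inv ≫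
          (pullback.snd f g).appTop).hom.toAlgebra
        Module.rank K (Γ(pullback f g, ⊤) : Type u)) := by
  refine ⟨fun d => ⟨Ud f d, isOpen_Ud f d⟩, ?_, ?_, ?_⟩
  · intro d d' hdd'
    exact Ud_antitone f hdd'
  · exact Opens.ext (Ud_zero f)
  · intro K _ g d
    have hiff : Set.range ⇑g ⊆ Ud f d ↔ g (IsLocalRing.closedPoint K) ∈ Ud f d := by
      constructor
      · exact fun h => h ⟨IsLocalRing.closedPoint K, rfl⟩
      · rintro h _ ⟨z, rfl⟩
        have : z = IsLocalRing.closedPoint K := Subsingleton.elim (α := PrimeSpectrum K) _ _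
        rw [this]
        exact h
    show Set.range ⇑g ⊆ Ud f d ↔ _
    rw [hiff]
    exact ⟨le_rank_of_mem_Ud f g d, mem_Ud_of_le_rank f g d⟩

end Groth.Agent.Lib.Helper87.LenWt
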