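import Groth.Agent.Lib.Helper57.EtRes5
import Groth.Agent.Lib.Helper57.Wt5
import Groth.Agent.Lib.Helper87.ConsCover
/-!
# Level sets of the fibre integral of a weighting are locally constructible (helper87)
-/

set_option autoImplicit false
set_option linter.style.haveILetI false
universe u

open CategoryTheory CategoryTheory.Limits AlgebraicGeometry TopologicalSpace Topology

namespace Groth.Agent.Lib.Helper87.WtCons

open Groth.Agent.Lib.Helper57 Groth.Agent.Lib.Helper57.Wt

theorem isLocallyConstructible_compl {X : Type*} [TopologicalSpace X] {s : Set X}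
    (hs : IsLocallyConstructible s) : IsLocallyConstructible sᶜ := by
  intro x
  obtain ⟨U, hxU, hU, hsU⟩ := hs x
  exact ⟨U, hxU, hU, hsU.compl⟩

theorem isRetrocompact_opens_of_quasiCompact {P : Scheme.{u}} (U : P.Opens) [QuasiCompact U.ι] :
    IsRetrocompact (U : Set P) := by
  intro W hWc hWo
  have h1 : IsCompact (U.ι ⁻¹' W) := QuasiCompact.isCompact_preimage (f := U.ι) W hWo hWc
  have h2 := h1.image U.ι.continuous
  rwa [Set.image_preimage_eq_inter_range, Scheme.Opens.range_ι, Set.inter_comm] at h2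

theorem isLocallyConstructible_of_isClopen {X : Type*} [TopologicalSpace X] {s : Set X}
    (hs : IsClopen s) : IsLocallyConstructible s := by
  have hr : IsRetrocompact s := fun W hWc _ => hWc.inter_left hs.1
  exact hr.isLocallyConstructible hs.2

/-- Local claim: around each point of an affine base there is a constructible set on which the
fibre integral is constant. -/
theorem exists_constructible_nbhd {X Y : Scheme.{u}} (f : X ⟶ Y) [LocallyQuasiFinite f]
    [LocallyOfFinitePresentation f] [QuasiCompact f] [QuasiSeparated f] [IsAffine Y]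
    (w : X → ℤ) (hw : MoreMor.IsWeighting f w) (y : Y) :
    ∃ C : Set Y, IsConstructible C ∧ y ∈ C ∧
      ∀ z ∈ C, MoreMor.fibreIntegral f w z = MoreMor.fibreIntegral f w y := by
  have hfinfib : (f ⁻¹' {y}).Finite := f.finite_preimage_singleton y
  have : Finite ↥(f ⁻¹' {y}) := hfinfib.to_subtype
  obtain ⟨n, ⟨e⟩⟩ := Finite.exists_equiv_fin ↥(f ⁻¹' {y})
  let x : Fin n → ↑X := fun i => (e.symm i).1
  have hxinj : Function.Injective x := fun i i' h => e.symm.injective (Subtype.ext h)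
  have hxs : ∀ i, f (x i) = y := fun i => (e.symm i).2
  obtain ⟨V₀, a, v₀, ha, hav, J, hJ, Vp, vp, hVp, hvinj, hcov⟩ :=
    EtRes.exists_etale_nbhd_purelyInseparable_open f y x hxinj hxs (fun i => f.quasiFiniteAt _)
  let π : pullback f a ⟶ V₀ := pullback.snd f a
  let wP : ↑(pullback f a) → ℤ := fun p => w (pullback.fst f a p)
  let K := Σ i, J i
  let G : K → ↑V₀ → ℤ := fun k =>
    MoreMor.fibreIntegral ((Vp k.1 k.2).ι ≫ π) (fun u => wP ((Vp k.1 k.2).ι u))
  have hGlc : ∀ k, IsLocallyConstant (G k) := fun k => hw V₀ a (Vp k.1 k.2) (hVp k.1 k.2).2.1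
  have hF : ∀ v, MoreMor.fibreIntegral π wP v = MoreMor.fibreIntegral f w (a v) := fun v =>
    fibreIntegral_baseChange_lqf f π (pullback.fst f a) a (IsPullback.of_hasPullback f a) w v
  have hπqc : QuasiCompact π := inferInstanceAs (QuasiCompact (pullback.snd f a))
  have hπqs : QuasiSeparated π := inferInstanceAs (QuasiSeparated (pullback.snd f a))
  have hπfp : LocallyOfFinitePresentation π :=
    inferInstanceAs (LocallyOfFinitePresentation (pullback.snd f a))
  have hretro : ∀ k : K, IsRetrocompact ((Vp k.1 k.2 : (pullback f a).Opens) :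
      Set ↑(pullback f a)) := by
    intro k
    have h1 : IsFinite ((Vp k.1 k.2).ι ≫ π) := (hVp k.1 k.2).2.1
    have h2 : QuasiCompact ((Vp k.1 k.2).ι ≫ π) := inferInstance
    have h3 : QuasiCompact (Vp k.1 k.2).ι := QuasiCompact.of_comp _ π
    exact isRetrocompact_opens_of_quasiCompact _
  have hcons : ∀ k : K, IsConstructible ((Vp k.1 k.2 : (pullback f a).Opens) :
      Set ↑(pullback f a)) := fun k => (hretro k).isConstructible (Vp k.1 k.2).2
  let B₁ : Set ↑V₀ := π '' (⋃ k : K, ((Vp k.1 k.2 : (pullback f a).Opens) : Set ↑(pullback f a)))ᶜ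
  let B₂ : K → K → Set ↑V₀ := fun k k' =>
    π '' (((Vp k.1 k.2 : (pullback f a).Opens) : Set ↑(pullback f a)) ∩
      ((Vp k'.1 k'.2 : (pullback f a).Opens) : Set ↑(pullback f a)))
  have hB₁ : IsLocallyConstructible B₁ :=
    π.isLocallyConstructible_image (IsConstructible.iUnion hcons).compl.isLocallyConstructible
  have hB₂ : ∀ k k', IsLocallyConstructible (B₂ k k') := fun k k' =>
    π.isLocallyConstructible_image ((hcons k).inter (hcons k')).isLocallyConstructible
  let Nk : K → Set ↑V₀ := fun k => G k ⁻¹' {G k v₀}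
  have hNk : ∀ k, IsLocallyConstructible (Nk k) := fun k =>
    isLocallyConstructible_of_isClopen ((hGlc k).isClopen_fiber _)
  let D := {p : K × K // p.1 ≠ p.2}
  let C' : Set ↑V₀ := ((⋂ k, Nk k) ∩ B₁ᶜ) ∩ ⋂ p : D, (B₂ p.1.1 p.1.2)ᶜ
  have hC' : IsLocallyConstructible C' :=
    ((IsLocallyConstructible.iInter hNk).inter (isLocallyConstructible_compl hB₁)).inter
      (IsLocallyConstructible.iInter fun p => isLocallyConstructible_compl (hB₂ _ _))
  have hv₀C' : v₀ ∈ C' := by
    refine ⟨⟨Set.mem_iInter.mpr fun k => rfl, ?_⟩, Set.mem_iInter.mpr fun p => ?_⟩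
    · rintro ⟨p, hp, hpv⟩
      apply hp
      have h1 : f (pullback.fst f a p) = y := by
        rw [← hav, ← hpv]
        exact congr($(pullback.condition (f := f) (g := a)) p)
      obtain ⟨i, hi⟩ : ∃ i, pullback.fst f a p = x i := by
        refine ⟨e ⟨_, h1⟩, ?_⟩
        simp [x]
      obtain ⟨j, hj⟩ := hcov p i hpv hi
      exact Set.mem_iUnion.mpr ⟨⟨i, j⟩, hj ▸ (hVp i j).1⟩
    · rintro ⟨q, ⟨hq1, hq2⟩, hqv⟩
      apply p.2
      have e1 := (hVp p.1.1.1 p.1.1.2).2.2.2.1 q hq1 hqv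
      have e2 := (hVp p.1.2.1 p.1.2.2).2.2.2.1 q hq2 hqv
      obtain ⟨h3, h4⟩ := hvinj _ _ _ _ (e1.symm.trans e2)
      exact Sigma.ext h3 h4
  have hsum : ∀ v' ∈ C', MoreMor.fibreIntegral π wP v' = ∑ᶠ k, G k v' := by
    intro v' hv'
    apply fibreIntegral_eq_finsum_pieces_top (fun k : K => (Vp k.1 k.2).ι) π wP v'
    · intro p hp
      by_contra hne
      apply hv'.1.2
      refine ⟨p, ?_, hp⟩
      intro hmem
      obtain ⟨k, hk⟩ := Set.mem_iUnion.mp hmem
      exact hne ⟨k, by rw [Scheme.Opens.range_ι]; exact hk⟩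
    · intro p hp k k' h1 h2
      by_contra hne
      have h3 := Set.mem_iInter.mp hv'.2 ⟨(k, k'), hne⟩
      apply h3
      rw [Scheme.Opens.range_ι] at h1 h2
      exact ⟨p, ⟨h1, h2⟩, hp⟩
    · intro k
      have := (hVp k.1 k.2).2.1
      exact finite_fibre_of_isFinite (Vp k.1 k.2).ι π v'
  have hkey : ∀ v ∈ C', MoreMor.fibreIntegral f w (a v) = MoreMor.fibreIntegral f w y := by
    intro v hv
    rw [← hF v, hsum v hv, ← hav, ← hF v₀, hsum v₀ hv₀C']
    exact finsum_congr fun k => Set.mem_iInter.mp hv.1.1 k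
  obtain ⟨(N : V₀.Opens), hN, hv₀N, -⟩ := Opens.isBasis_iff_nbhd.mp V₀.isBasis_affineOpens
    (show v₀ ∈ (⊤ : V₀.Opens) from trivial)
  have hNaff : IsAffine N.toScheme := hN
  let b : N.toScheme ⟶ Y := N.ι ≫ a
  have hbqc : QuasiCompact b := inferInstance
  have hbfp : LocallyOfFinitePresentation b := inferInstance
  have hCN : IsConstructible (N.ι ⁻¹' C') :=
    (hC'.preimage_of_isOpenEmbedding N.ι.isOpenEmbedding).isConstructible
  refine ⟨b '' (N.ι ⁻¹' C'), b.isConstructible_image hCN, ⟨⟨v₀, hv₀N⟩, hv₀C', hav⟩, ?_⟩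
  rintro _ ⟨v, hv, rfl⟩
  exact hkey (N.ι v) hv

theorem isConstructible_level_of_isAffine {X Y : Scheme.{u}} (f : X ⟶ Y) [LocallyQuasiFinite f]
    [LocallyOfFinitePresentation f] [QuasiCompact f] [QuasiSeparated f] [IsAffine Y]
    (w : X → ℤ) (hw : MoreMor.IsWeighting f w) (n : ℤ) :
    IsConstructible {y : ↑Y | MoreMor.fibreIntegral f w y = n} := by
  classical
  choose C hC1 hC2 hC3 using exists_constructible_nbhd f w hw
  obtain ⟨t, ht⟩ := ConsCover.exists_finite_subcover_of_isConstructible C hC1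
    (fun y => ⟨y, hC2 y⟩)
  have heq : {y : ↑Y | MoreMor.fibreIntegral f w y = n} =
      ⋃ i ∈ {i | i ∈ t ∧ MoreMor.fibreIntegral f w i = n}, C i := by
    ext y
    simp only [Set.mem_ofPred_eq, Set.mem_iUnion, exists_prop]
    constructor
    · intro hy
      obtain ⟨i, hit, hi⟩ := ht y
      exact ⟨i, ⟨hit, by rw [← hC3 i y hi]; exact hy⟩, hi⟩
    · rintro ⟨i, ⟨-, hin⟩, hi⟩
      rw [hC3 i y hi]; exact hin
  rw [heq]
  refine IsConstructible.biUnion (t.finite_toSet.subset fun i hi => hi.1) fun i _ => hC1 i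

theorem isLocallyConstructible_level {X Y : Scheme.{u}} (f : X ⟶ Y) [LocallyQuasiFinite f]
    [LocallyOfFinitePresentation f] [QuasiCompact f] [QuasiSeparated f]
    (w : X → ℤ) (hw : MoreMor.IsWeighting f w) (n : ℤ) :
    IsLocallyConstructible {y : ↑Y | MoreMor.fibreIntegral f w y = n} := by
  intro y₀
  obtain ⟨(K : Y.Opens), hK, hy₀K, -⟩ := Opens.isBasis_iff_nbhd.mp Y.isBasis_affineOpens
    (show y₀ ∈ (⊤ : Y.Opens) from trivial)
  refine ⟨K, K.2.mem_nhds hy₀K, K.2, ?_⟩
  have hKaff : IsAffine K.toScheme := hK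
  have sq : IsPullback (f ⁻¹ᵁ K).ι (f ∣_ K) f K.ι := (isPullback_morphismRestrict f K).flip
  have hw' : MoreMor.IsWeighting (f ∣_ K) (w ∘ (f ⁻¹ᵁ K).ι) :=
    isWeighting_baseChange f w hw (f ∣_ K) (f ⁻¹ᵁ K).ι K.ι sq
  have h1 := isConstructible_level_of_isAffine (f ∣_ K) _ hw' n
  have heq : {k : ↥K.toScheme | MoreMor.fibreIntegral (f ∣_ K) (w ∘ (f ⁻¹ᵁ K).ι) k = n} =
      {k : ↥K.toScheme | MoreMor.fibreIntegral f w (K.ι k) = n} := by
    ext k
    simp only [Set.mem_ofPred_eq]
    rw [fibreIntegral_baseChange_lqf f (f ∣_ K) (f ⁻¹ᵁ K).ι K.ι sq w k]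
  rw [heq] at h1
  exact h1

end Groth.Agent.Lib.Helper87.WtCons
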