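import Groth.Agent.Lib.Helper87.LenWt7
import Groth.Agent.Lib.Helper87.WtCons
import Groth.Agent.Lib.Helper57.Wt6
import Groth.Prelude.Def_Mor2

/-!
# Stratification of the base by the fibre degree of a flat quasi-finite morphism (helper87)
-/

set_option autoImplicit false
set_option linter.style.haveILetI false
set_option linter.unusedSectionVars false
universe u
open CategoryTheory CategoryTheory.Limits AlgebraicGeometry TopologicalSpace IsLocalRing Opposite
open Topology
open Groth.Agent.Lib.Helper57.Wt
namespace Groth.Agent.Lib.Helper87.LenWt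

/-- Constructible sets of a spectral space are compact. -/
theorem isCompact_of_isConstructible {X : Type*} [TopologicalSpace X] [CompactSpace X]
    [QuasiSeparatedSpace X] [PrespectralSpace X] {s : Set X} (hs : IsConstructible s) :
    IsCompact s := by
  let ι := {U : Set X // IsOpen U ∧ IsCompact U}
  haveI : Nonempty ι := ⟨⟨∅, isOpen_empty, isCompact_empty⟩⟩
  have hb : IsTopologicalBasis (Set.range (Subtype.val : ι → Set X)) := by
    have h0 : Set.range (Subtype.val : ι → Set X) = {U : Set X | IsOpen U ∧ IsCompact U} :=
      Subtype.range_coe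
    rw [h0]; exact PrespectralSpace.isTopologicalBasis
  induction s, hs using IsConstructible.induction_of_isTopologicalBasis
    (Subtype.val : ι → Set X) hb (fun i => i.2.2) with
  | sdiff i t ht => exact i.2.2.diff (isOpen_biUnion fun j _ => j.2.1)
  | union s hs t ht hs' ht' => exact hs'.union ht'

/-- Locally constructible subsets of a scheme are retrocompact. -/
theorem isRetrocompact_of_isLocallyConstructible {S : Scheme.{u}} {L : Set S}
    (hL : IsLocallyConstructible L) : IsRetrocompact L := by
  intro W hWc hWo
  obtain ⟨A, hAfin, hWA⟩ :=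
    (isCompact_and_isOpen_iff_finite_and_eq_biUnion_affineOpens).mp ⟨hWc, hWo⟩
  rw [hWA, Set.inter_iUnion₂]
  refine hAfin.isCompact_biUnion fun U _ => ?_
  have hUaff : IsAffine U.1.toScheme := U.2
  have h1 : IsLocallyConstructible (U.1.ι ⁻¹' L) :=
    hL.preimage_of_isOpenEmbedding U.1.ι.isOpenEmbedding
  have h2 : IsCompact (U.1.ι ⁻¹' L) := isCompact_of_isConstructible h1.isConstructible
  have h3 := h2.image U.1.ι.continuous
  rwa [Set.image_preimage_eq_inter_range, Scheme.Opens.range_ι] at h3

/-- Nonnegativity of the integral of the weight. -/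
theorem fibreIntegral_wt_nonneg {X S : Scheme.{u}} (f : X ⟶ S) [LocallyQuasiFinite f]
    [LocallyOfFiniteType f] (s : S) : 0 ≤ MoreMor.fibreIntegral f (wt f) s := by
  rw [fibreIntegral_eq]
  exact finsum_nonneg fun u => (term_pos f u.1).le

/-- **Base change invariance** of the integral of the weight. -/
theorem fibreIntegral_wt_baseChange {X S T : Scheme.{u}} (f : X ⟶ S) [LocallyQuasiFinite f]
    [LocallyOfFiniteType f] [QuasiCompact f] (g : T ⟶ S) (t : T) :
    MoreMor.fibreIntegral (pullback.snd f g) (wt (pullback.snd f g)) t =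
      MoreMor.fibreIntegral f (wt f) (g t) := by
  set q := pullback.snd f g with hq
  haveI : LocallyQuasiFinite q := (inferInstance : LocallyQuasiFinite (pullback.snd f g))
  haveI : LocallyOfFiniteType q := (inferInstance : LocallyOfFiniteType (pullback.snd f g))
  haveI : QuasiCompact q := (inferInstance : QuasiCompact (pullback.snd f g))
  haveI hF : IsFinite (f.fiberToSpecResidueField (g t)) :=
    isFinite_fiberToSpecResidueField_of_finite f (g t) (f.finite_preimage_singleton _)
  haveI hQ : IsFinite (q.fiberToSpecResidueField t) :=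
    isFinite_fiberToSpecResidueField_of_finite q t (q.finite_preimage_singleton _)
  let pt₂ : Spec (T.residueField t) := IsLocalRing.closedPoint (T.residueField t)
  let m : Spec (T.residueField t) ⟶ Spec (S.residueField (g t)) := Spec.map (g.residueFieldMap t)
  have hm : m ≫ S.fromSpecResidueField (g t) = T.fromSpecResidueField t ≫ g :=
    Scheme.Hom.SpecMap_residueFieldMap_fromSpecResidueField g t
  rw [fibreIntegral_wt_eq_finrank_fiber q t pt₂, fibreIntegral_wt_eq_finrank_fiber f (g t) (m pt₂)]
  congr 1
  -- the pullback square of fibres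
  have hcond : (q.fiberι t ≫ pullback.fst f g) ≫ f =
      (q.fiberToSpecResidueField t ≫ m) ≫ S.fromSpecResidueField (g t) := by
    rw [Category.assoc, Category.assoc, hm, pullback.condition, ← Category.assoc,
      ← Category.assoc]
    congr 1
    exact pullback.condition
  let top : q.fiber t ⟶ f.fiber (g t) :=
    pullback.lift (q.fiberι t ≫ pullback.fst f g) (q.fiberToSpecResidueField t ≫ m) hcond
  have htop1 : top ≫ f.fiberι (g t) = q.fiberι t ≫ pullback.fst f g := pullback.lift_fst _ _ _
  have htop2 : top ≫ f.fiberToSpecResidueField (g t) = q.fiberToSpecResidueField t ≫ m :=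
    pullback.lift_snd _ _ _
  have hbig : IsPullback (top ≫ f.fiberι (g t)) (q.fiberToSpecResidueField t) f
      (m ≫ S.fromSpecResidueField (g t)) := by
    rw [htop1, hm]
    exact (IsPullback.of_hasPullback q (T.fromSpecResidueField t)).paste_horiz
      (IsPullback.of_hasPullback f g)
  have hpb : IsPullback top (q.fiberToSpecResidueField t) (f.fiberToSpecResidueField (g t)) m :=
    IsPullback.of_right hbig htop2 (IsPullback.of_hasPullback f (S.fromSpecResidueField (g t)))
  haveI : IsAffine (f.fiber (g t)) := isAffine_of_isAffineHom (f.fiberToSpecResidueField (g t))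
  haveI : Flat (f.fiberToSpecResidueField (g t)) :=
    flat_of_field (K := S.residueField (g t)) (f.fiberToSpecResidueField (g t))
  exact Scheme.Hom.finrank_of_isPullback top (q.fiberToSpecResidueField t)
    (f.fiberToSpecResidueField (g t)) m hpb pt₂

section Strat

variable {X S : Scheme.{u}} (f : X ⟶ S) [Flat f] [LocallyOfFinitePresentation f] [IsSeparated f]
  [LocallyQuasiFinite f] [QuasiCompact f]

/-- The fibre degree. -/
noncomputable def fdeg (s : S) : ℕ := (MoreMor.fibreIntegral f (wt f) s).toNat

theorem fdeg_cast (s : S) : ((fdeg f s : ℕ) : ℤ) = MoreMor.fibreIntegral f (wt f) s :=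
  Int.toNat_of_nonneg (fibreIntegral_wt_nonneg f s)

theorem lowerSemicontinuous_wt :
    LowerSemicontinuous (MoreMor.fibreIntegral f (wt f)) :=
  lowerSemicontinuous_fibreIntegral f (fun y => f.finite_preimage_singleton y) (wt f)
    (isWeighting_wt f) (wt_pos f)

theorem isClosed_fdeg_le (r : ℕ) : IsClosed {s : S | fdeg f s ≤ r} := by
  rw [← isOpen_compl_iff]
  have : {s : S | fdeg f s ≤ r}ᶜ = MoreMor.fibreIntegral f (wt f) ⁻¹' Set.Ioi (r : ℤ) := by
    ext s
    simp only [Set.mem_compl_iff, Set.mem_ofPred_eq, not_le, Set.mem_preimage, Set.mem_Ioi]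
    rw [← fdeg_cast f s]
    exact Nat.cast_lt.symm
  rw [this]
  exact (lowerSemicontinuous_wt f).isOpen_preimage _

theorem isRetrocompact_fdeg_eq (r : ℕ) : IsRetrocompact {s : S | fdeg f s = r} := by
  have : {s : S | fdeg f s = r} = {s : S | MoreMor.fibreIntegral f (wt f) s = (r : ℤ)} := by
    ext s
    simp only [Set.mem_ofPred_eq]
    rw [← fdeg_cast f s]
    exact Nat.cast_inj.symm
  rw [this]
  exact isRetrocompact_of_isLocallyConstructible
    (Groth.Agent.Lib.Helper87.WtCons.isLocallyConstructible_level f (wt f) (isWeighting_wt f) _)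

theorem fdeg_baseChange {T : Scheme.{u}} (g : T ⟶ S) (t : T) :
    MoreMor.fibreIntegral (pullback.snd f g) (wt (pullback.snd f g)) t = (fdeg f (g t) : ℤ) := by
  rw [fdeg_cast, fibreIntegral_wt_baseChange]

theorem isFinLocFree_iff {T : Scheme.{u}} (g : T ⟶ S) (r : ℕ) :
    Mor2.IsFinLocFreeOfDeg r (pullback.snd f g) ↔ ∀ t : T, fdeg f (g t) = r := by
  set q := pullback.snd f g with hq
  haveI : LocallyQuasiFinite q := (inferInstance : LocallyQuasiFinite (pullback.snd f g))
  haveI : LocallyOfFinitePresentation q :=
    (inferInstance : LocallyOfFinitePresentation (pullback.snd f g))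
  haveI : QuasiCompact q := (inferInstance : QuasiCompact (pullback.snd f g))
  haveI : IsSeparated q := (inferInstance : IsSeparated (pullback.snd f g))
  haveI : Flat q := (inferInstance : Flat (pullback.snd f g))
  constructor
  · rintro ⟨⟨h1, h2, h3⟩, h4⟩ t
    have h5 := fibreIntegral_wt_eq_finrank q t
    rw [fdeg_baseChange f g t, h4 t] at h5
    exact_mod_cast h5
  · intro h
    have hconst : ∀ t, MoreMor.fibreIntegral q (wt q) t = (r : ℤ) := by
      intro t
      rw [fdeg_baseChange f g t, h t]
    haveI hfin : IsFinite q := isFinite_of_const q (fun y => q.finite_preimage_singleton y) (wt q)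
      (isWeighting_wt q) (wt_pos q) r hconst
    refine ⟨⟨hfin, inferInstance, inferInstance⟩, fun t => ?_⟩
    have h5 := fibreIntegral_wt_eq_finrank q t
    rw [hconst t] at h5
    exact_mod_cast h5.symm

end Strat

end Groth.Agent.Lib.Helper87.LenWt
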