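import Groth.Agent.Lib.Helper87.LenWt8

/-!
# Fibre degree stratification under a rank bound instead of compactness (helper87)
-/

set_option autoImplicit false
set_option linter.style.haveILetI false
set_option linter.unusedSectionVars false
universe u
open CategoryTheory CategoryTheory.Limits AlgebraicGeometry TopologicalSpace IsLocalRing Opposite
open Topology
open Groth.Agent.Lib.Helper57.Wt
namespace Groth.Agent.Lib.Helper87.LenWt

/-- The one-point opens of a discrete scheme. -/
def ptOpen (Y : Scheme.{u}) [DiscreteTopology Y] (y : Y) : Y.Opens := ⟨{y}, isOpen_discrete _⟩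

/-- Indicator sections on a discrete scheme. -/
theorem exists_indicator_section (Y : Scheme.{u}) [DiscreteTopology Y] (y₀ : Y) :
    ∃ e : Γ(Y, ⊤), Y.presheaf.map (homOfLE le_top : ptOpen Y y₀ ⟶ ⊤).op e = 1 ∧
      ∀ y, y ≠ y₀ → Y.presheaf.map (homOfLE le_top : ptOpen Y y ⟶ ⊤).op e = 0 := by
  classical
  have hcover : (⊤ : Y.Opens) ≤ iSup (ptOpen Y) := by
    intro y _
    exact Opens.mem_iSup.mpr ⟨y, rfl⟩
  let sf : ∀ y : Y, Γ(Y, ptOpen Y y) := fun y => if y = y₀ then 1 else 0
  have hcompat : TopCat.Presheaf.IsCompatible Y.presheaf (ptOpen Y) sf := by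
    intro i j
    by_cases hij : i = j
    · subst hij; rfl
    · have hbot : ptOpen Y i ⊓ ptOpen Y j = ⊥ := by
        ext z
        simp only [ptOpen, Opens.coe_inf, Opens.coe_mk, Set.mem_inter_iff, Set.mem_singleton_iff,
          Opens.coe_bot, Set.mem_empty_iff_false, iff_false, not_and]
        rintro rfl h
        exact hij h
      haveI : Subsingleton Γ(Y, ptOpen Y i ⊓ ptOpen Y j) := by rw [hbot]; infer_instance
      exact Subsingleton.elim _ _
  obtain ⟨e, he, -⟩ := Y.sheaf.existsUnique_gluing' (ptOpen Y) ⊤ (fun y => homOfLE le_top)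
    hcover sf hcompat
  refine ⟨e, ?_, ?_⟩
  · have := he y₀
    simp only [sf, if_true] at this
    exact this
  · intro y hy
    have := he y
    simp only [sf, if_neg hy] at this
    exact this

/-- A discrete scheme whose ring of global functions has bounded rank over a field is finite. -/
theorem finite_of_rank_le {Y : Scheme.{u}} [DiscreteTopology Y] {K : Type u} [Field K]
    [Algebra K Γ(Y, ⊤)] (n : ℕ) (h : Module.rank K Γ(Y, ⊤) ≤ (n : Cardinal.{u})) : Finite Y := by
  classical
  by_contra hinf
  rw [not_finite_iff_infinite] at hinf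
  obtain ⟨F, hF⟩ := Infinite.exists_subset_card_eq Y (n + 1)
  choose e he1 he0 using exists_indicator_section Y
  have hli : LinearIndependent K (fun y : F => e y.1) := by
    rw [linearIndependent_iff']
    intro s g hg i hi
    let ρ : Γ(Y, ⊤) →+* Γ(Y, ptOpen Y i.1) :=
      (Y.presheaf.map (homOfLE le_top : ptOpen Y i.1 ⟶ ⊤).op).hom
    have h1 := congrArg ρ hg
    rw [map_sum, map_zero] at h1
    have h2 : ∀ j ∈ s, ρ (g j • e j.1) = if j = i then ρ (algebraMap K _ (g i)) else 0 := by
      intro j hj
      rw [Algebra.smul_def, map_mul]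
      by_cases hji : j = i
      · subst hji
        rw [if_pos rfl]
        have : ρ (e j.1) = 1 := he1 j.1
        rw [this, mul_one]
      · rw [if_neg hji]
        have : ρ (e j.1) = 0 := he0 j.1 i.1 (fun h => hji (Subtype.ext h).symm)
        rw [this, mul_zero]
    rw [Finset.sum_congr rfl h2, Finset.sum_ite_eq' s i, if_pos hi] at h1
    haveI : Nonempty (ptOpen Y i.1) := ⟨⟨i.1, rfl⟩⟩
    haveI : Nontrivial Γ(Y, ptOpen Y i.1) := inferInstance
    have hinj := (ρ.comp (algebraMap K Γ(Y, ⊤))).injective
    apply hinj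
    rw [map_zero]
    exact h1
  have h3 := hli.cardinal_le_rank
  rw [Cardinal.mk_coe_finset, hF] at h3
  have h4 := h3.trans h
  have h5 : n + 1 ≤ n := by exact_mod_cast h4
  omega

/-- Finiteness of the fibres from a rank bound. -/
theorem finite_fibre_of_rank_le {X S : Scheme.{u}} (f : X ⟶ S) [LocallyQuasiFinite f] (s : S)
    {K : Type u} [Field K] [Algebra K Γ(f.fiber s, ⊤)] (n : ℕ)
    (h : Module.rank K Γ(f.fiber s, ⊤) ≤ (n : Cardinal.{u})) : (f ⁻¹' {s}).Finite := by
  haveI : Finite (f.fiber s) := finite_of_rank_le n h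
  haveI : Finite ↥(f ⁻¹' {s}) := Finite.of_equiv _ (f.fiberHomeo s).toEquiv
  exact Set.toFinite _

/-- **Base change invariance** of the integral of the weight, finite fibres version. -/
theorem fibreIntegral_wt_baseChange' {X S T : Scheme.{u}} (f : X ⟶ S) [LocallyQuasiFinite f]
    [LocallyOfFiniteType f] (hfin : ∀ y : S, (f ⁻¹' {y}).Finite) (g : T ⟶ S) (t : T) :
    MoreMor.fibreIntegral (pullback.snd f g) (wt (pullback.snd f g)) t =
      MoreMor.fibreIntegral f (wt f) (g t) := by
  set q := pullback.snd f g with hq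
  haveI : LocallyQuasiFinite q := (inferInstance : LocallyQuasiFinite (pullback.snd f g))
  haveI : LocallyOfFiniteType q := (inferInstance : LocallyOfFiniteType (pullback.snd f g))
  haveI hF : IsFinite (f.fiberToSpecResidueField (g t)) :=
    isFinite_fiberToSpecResidueField_of_finite f (g t) (hfin _)
  haveI hQ : IsFinite (q.fiberToSpecResidueField t) :=
    isFinite_fiberToSpecResidueField_of_finite q t (finite_fibre_snd f hfin g t)
  let pt₂ : Spec (T.residueField t) := IsLocalRing.closedPoint (T.residueField t)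
  let m : Spec (T.residueField t) ⟶ Spec (S.residueField (g t)) := Spec.map (g.residueFieldMap t)
  have hm : m ≫ S.fromSpecResidueField (g t) = T.fromSpecResidueField t ≫ g :=
    Scheme.Hom.SpecMap_residueFieldMap_fromSpecResidueField g t
  rw [fibreIntegral_wt_eq_finrank_fiber q t pt₂, fibreIntegral_wt_eq_finrank_fiber f (g t) (m pt₂)]
  congr 1
  have hcond : (q.fiberι t ≫ pullback.fst f g) ≫ f =
      (q.fiberToSpecResidueField t ≫ m) ≫ S.fromSpecResidueField (g t) := by
    rw [Category.assoc, Category.assoc, hm, pullback.condition, ← Category.assoc,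
      ← Category.assoc]
    congr 1
    exact pullback.condition
  let top : q.fiber t ⟶ f.fiber (g t) :=
    pullback.lift (q.fiberι t ≫ pullback.fst f g) (q.fiberToSpecResidueField t ≫ m) hcond
  have htop1 : top ≫ f.fiberι (g t) = q.fiberι t ≫ pullback.fst f g := pullback.lift_fst _ _ _
  have htop2 : top ≫ f.fiberToSpecResidueField (g t) = q.fiberToSpecResidueField t ≫ m :=
    pullback.lift_snd _ _ _
  have hbig : IsPullback (top ≫ f.fiberι (g t)) (q.fiberToSpecResidueField t) f
      (m ≫ S.fromSpecResidueField (g t)) := by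
    rw [htop1, hm]
    exact (IsPullback.of_hasPullback q (T.fromSpecResidueField t)).paste_horiz
      (IsPullback.of_hasPullback f g)
  have hpb : IsPullback top (q.fiberToSpecResidueField t) (f.fiberToSpecResidueField (g t)) m :=
    IsPullback.of_right hbig htop2 (IsPullback.of_hasPullback f (S.fromSpecResidueField (g t)))
  haveI : IsAffine (f.fiber (g t)) := isAffine_of_isAffineHom (f.fiberToSpecResidueField (g t))
  haveI : Flat (f.fiberToSpecResidueField (g t)) :=
    flat_of_field (K := S.residueField (g t)) (f.fiberToSpecResidueField (g t))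
  exact Scheme.Hom.finrank_of_isPullback top (q.fiberToSpecResidueField t)
    (f.fiberToSpecResidueField (g t)) m hpb pt₂

section Strat2

variable {X S : Scheme.{u}} (f : X ⟶ S) [Flat f] [LocallyOfFinitePresentation f] [IsSeparated f]
  [LocallyQuasiFinite f]

/-- The fibre degree (no compactness assumption). -/
noncomputable def fdeg' (s : S) : ℕ := (MoreMor.fibreIntegral f (wt f) s).toNat

theorem fdeg'_cast (s : S) : ((fdeg' f s : ℕ) : ℤ) = MoreMor.fibreIntegral f (wt f) s :=
  Int.toNat_of_nonneg (fibreIntegral_wt_nonneg f s)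

variable (hfin : ∀ y : S, (f ⁻¹' {y}).Finite)
include hfin

theorem lowerSemicontinuous_wt' :
    LowerSemicontinuous (MoreMor.fibreIntegral f (wt f)) :=
  lowerSemicontinuous_fibreIntegral f hfin (wt f) (isWeighting_wt f) (wt_pos f)

theorem isClosed_fdeg'_le (r : ℕ) : IsClosed {s : S | fdeg' f s ≤ r} := by
  rw [← isOpen_compl_iff]
  have : {s : S | fdeg' f s ≤ r}ᶜ = MoreMor.fibreIntegral f (wt f) ⁻¹' Set.Ioi (r : ℤ) := by
    ext s
    simp only [Set.mem_compl_iff, Set.mem_ofPred_eq, not_le, Set.mem_preimage, Set.mem_Ioi]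
    rw [← fdeg'_cast f s]
    exact Nat.cast_lt.symm
  rw [this]
  exact (lowerSemicontinuous_wt' f hfin).isOpen_preimage _

theorem fdeg'_baseChange {T : Scheme.{u}} (g : T ⟶ S) (t : T) :
    MoreMor.fibreIntegral (pullback.snd f g) (wt (pullback.snd f g)) t = (fdeg' f (g t) : ℤ) := by
  rw [fdeg'_cast, fibreIntegral_wt_baseChange' f hfin]

theorem isFinLocFree_iff' {T : Scheme.{u}} (g : T ⟶ S) (r : ℕ) :
    Mor2.IsFinLocFreeOfDeg r (pullback.snd f g) ↔ ∀ t : T, fdeg' f (g t) = r := by
  set q := pullback.snd f g with hq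
  haveI : LocallyQuasiFinite q := (inferInstance : LocallyQuasiFinite (pullback.snd f g))
  haveI : LocallyOfFinitePresentation q :=
    (inferInstance : LocallyOfFinitePresentation (pullback.snd f g))
  haveI : IsSeparated q := (inferInstance : IsSeparated (pullback.snd f g))
  haveI : Flat q := (inferInstance : Flat (pullback.snd f g))
  have hfinq : ∀ y : T, (q ⁻¹' {y}).Finite := fun y => finite_fibre_snd f hfin g y
  constructor
  · rintro ⟨⟨h1, h2, h3⟩, h4⟩ t
    have h5 := fibreIntegral_wt_eq_finrank q t
    rw [fdeg'_baseChange f hfin g t, h4 t] at h5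
    exact_mod_cast h5
  · intro h
    have hconst : ∀ t, MoreMor.fibreIntegral q (wt q) t = (r : ℤ) := by
      intro t
      rw [fdeg'_baseChange f hfin g t, h t]
    haveI hfinm : IsFinite q := isFinite_of_const q hfinq (wt q)
      (isWeighting_wt q) (wt_pos q) r hconst
    refine ⟨⟨hfinm, inferInstance, inferInstance⟩, fun t => ?_⟩
    have h5 := fibreIntegral_wt_eq_finrank q t
    rw [hconst t] at h5
    exact_mod_cast h5.symm

end Strat2

end Groth.Agent.Lib.Helper87.LenWt
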