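import Mathlib
import Groth.Agent.Lib.Helper73.DimFT.Catenary

set_option autoImplicit false
universe u
open TensorProduct

namespace Groth.Agent.Lib.Helper87.MovDK

theorem exists_ne_zero_mem_ker {k : Type u} [Field k] {r : ℕ} (R : Type u) [CommRing R]
    [Algebra k R] [Algebra.FiniteType k R] (hdim : ringKrullDim R < (r : WithBot ℕ∞))
    (φ : MvPolynomial (Fin r) k →ₐ[k] R) : ∃ h : MvPolynomial (Fin r) k, h ≠ 0 ∧ φ h = 0 := by
  classical
  by_contra hcon
  push Not at hcon
  -- the multiplicative set φ(P \ {0})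
  let S : Submonoid R := (nonZeroDivisors (MvPolynomial (Fin r) k)).map φ.toRingHom.toMonoidHom
  have hS : Disjoint ((⊥ : Ideal R) : Set R) (S : Set R) := by
    rw [Set.disjoint_left]
    rintro x hx ⟨p, hp, rfl⟩
    have hx0 : φ p = 0 := by simpa using hx
    exact hcon p (nonZeroDivisors.ne_zero hp) hx0
  obtain ⟨q, hq, -, hqS⟩ := Ideal.exists_le_prime_disjoint (⊥ : Ideal R) S hS
  haveI := hq
  -- the composite P → R ⧸ q is injective
  let ψ : MvPolynomial (Fin r) k →ₐ[k] (R ⧸ q) := (Ideal.Quotient.mkₐ k q).comp φ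
  have hψ : Function.Injective ψ := by
    rw [injective_iff_map_eq_zero]
    intro p hp
    by_contra hp0
    have hpq : φ p ∈ q := by
      have : (Ideal.Quotient.mk q) (φ p) = 0 := hp
      exact Ideal.Quotient.eq_zero_iff_mem.mp this
    have hpS : φ p ∈ (S : Set R) := ⟨p, mem_nonZeroDivisors_of_ne_zero hp0, rfl⟩
    exact Set.disjoint_left.mp hqS hpq hpS
  haveI : Algebra.FiniteType k (R ⧸ q) :=
    Algebra.FiniteType.of_surjective (Ideal.Quotient.mkₐ k q) Ideal.Quotient.mk_surjective
  obtain ⟨d, hd⟩ := Groth.Agent.Lib.Helper73.exists_nat_ringKrullDim_eq k (R ⧸ q)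
  let K := FractionRing (R ⧸ q)
  have htr : Algebra.trdeg k K = d :=
    Groth.Agent.Lib.Helper73.trdeg_eq_of_ringKrullDim_eq k K d hd
  let χ : MvPolynomial (Fin r) k →ₐ[k] K := (IsScalarTower.toAlgHom k (R ⧸ q) K).comp ψ
  have hχ : Function.Injective χ := (IsFractionRing.injective (R ⧸ q) K).comp hψ
  have hai : AlgebraicIndependent k (fun i : Fin r => χ (MvPolynomial.X i)) := by
    unfold AlgebraicIndependent
    have : MvPolynomial.aeval (fun i : Fin r => χ (MvPolynomial.X i)) = χ := by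
      apply MvPolynomial.algHom_ext
      intro i
      simp
    rw [this]
    exact hχ
  have hle := hai.lift_cardinalMk_le_trdeg
  rw [htr] at hle
  have hrd : r ≤ d := by
    have : ((r : ℕ) : Cardinal.{u}) ≤ (d : Cardinal.{u}) := by simpa using hle
    exact_mod_cast this
  have h1 : ringKrullDim (R ⧸ q) ≤ ringKrullDim R := ringKrullDim_quotient_le q
  rw [hd] at h1
  have h2 : ((r : ℕ) : WithBot ℕ∞) ≤ ringKrullDim R := le_trans (by exact_mod_cast hrd) h1
  exact absurd hdim (not_lt.mpr h2)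

end Groth.Agent.Lib.Helper87.MovDK
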