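import Mathlib

set_option autoImplicit false
universe u
open TensorProduct

namespace Groth.Agent.Lib.Helper87.MovDT

/-- Integral extensions do not raise Krull dimension. -/
theorem ringKrullDim_le_of_isIntegral (R S : Type*) [CommRing R] [CommRing S] [Algebra R S]
    [Algebra.IsIntegral R S] : ringKrullDim S ≤ ringKrullDim R := by
  refine Order.krullDim_le_of_strictMono
    (fun I : PrimeSpectrum S ↦ (⟨Ideal.comap (algebraMap R S) I.asIdeal, inferInstance⟩ :
      PrimeSpectrum R)) ?_
  intro I J hIJ
  have h1 : I.asIdeal < J.asIdeal := hIJ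
  have h2 := Ideal.IsIntegral.comap_lt_comap (R := R) (I := I.asIdeal) (J := J.asIdeal) h1
  exact h2

theorem ringKrullDim_tensor_le {k : Type u} [Field k] (A E : Type u) [CommRing A] [Algebra k A]
    [CommRing E] [Algebra k E] [Module.Finite k E] :
    ringKrullDim (A ⊗[k] E) ≤ ringKrullDim A := by
  haveI : Module.Finite A (A ⊗[k] E) := inferInstance
  haveI : Algebra.IsIntegral A (A ⊗[k] E) := Algebra.IsIntegral.of_finite A (A ⊗[k] E)
  exact ringKrullDim_le_of_isIntegral A (A ⊗[k] E)

end Groth.Agent.Lib.Helper87.MovDT
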