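import Groth.Agent.Lib.Helper87.PruferSerreT5a
import Groth.Agent.Lib.Helper16.ProjSpaceSmooth

set_option autoImplicit false
universe u

open CategoryTheory CategoryTheory.Limits AlgebraicGeometry

namespace Groth.Agent.Lib.Helper87.PruferSerreT5

/-- Every point of projective space has an affine neighbourhood whose coordinate ring is finitely
presented over the base ring (any affine neighbourhood works, the structure map being smooth). -/
theorem chart_fp (R : Type u) [CommRing R] (n : ℕ) (x : CohB1.ProjSpace n R) :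
    ∃ U : (CohB1.ProjSpace n R).Opens, IsAffineOpen U ∧ x ∈ U ∧
      ((Scheme.ΓSpecIso (CommRingCat.of R)).inv ≫
        (CohB1.ProjSpace.toSpec n R).appLE ⊤ U le_top).hom.FinitePresentation := by
  haveI : Smooth (CohB1.ProjSpace.toSpec n R) :=
    Groth.Agent.Lib.Helper16.ProjSpaceSmooth.smooth_toSpec n R
  haveI : LocallyOfFinitePresentation (CohB1.ProjSpace.toSpec n R) := inferInstance
  obtain ⟨_, ⟨U, hU : IsAffineOpen U, rfl⟩, hxU, -⟩ :=
    ((CohB1.ProjSpace n R).isBasis_affineOpens).exists_subset_of_mem_open (Set.mem_univ x)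
      isOpen_univ
  refine ⟨U, hU, hxU, ?_⟩
  have h1 := HasRingHomProperty.appLE (P := @LocallyOfFinitePresentation)
    (f := CohB1.ProjSpace.toSpec n R) inferInstance
    ⟨⊤, isAffineOpen_top _⟩ ⟨U, hU⟩ le_top
  rw [CommRingCat.hom_comp]
  exact RingHom.FinitePresentation.comp h1 (.of_bijective
    (ConcreteCategory.bijective_of_isIso (Scheme.ΓSpecIso (CommRingCat.of R)).inv))

theorem push_fp (R : Type u) [CommRing R] [IsDomain R]
    (hR : ∀ (p : Ideal R) [p.IsPrime], ValuationRing (Localization.AtPrime p)) (n : ℕ)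
    (X : Scheme.{u}) (ι : X ⟶ CohB1.ProjSpace n R) [IsClosedImmersion ι]
    [Flat (ι ≫ CohB1.ProjSpace.toSpec n R)] (F : X.Modules) (hF : CohB1.IsFP F) :
    CohB1.IsFP ((Scheme.Modules.pushforward ι).obj F) :=
  Groth.Agent.Lib.Helper87.PruferSerreT5a.push_fp_core R hR (CohB1.ProjSpace.toSpec n R) ι
    (chart_fp R n) F hF

end Groth.Agent.Lib.Helper87.PruferSerreT5
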