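import Groth.Prelude.Def_CohB1
import Groth.Agent.Lib.Helper2.FinLocFreeAff
import Groth.Agent.Lib.Helper63.PruferFP
import Groth.Agent.Lib.Lead.QCohPush

set_option autoImplicit false
set_option linter.style.haveILetI false
set_option linter.unusedSectionVars false
universe u

open CategoryTheory CategoryTheory.Limits AlgebraicGeometry

namespace Groth.Agent.Lib.Helper87.PruferSerreT5a

/-- Transitivity along a surjection of rings: a module finitely presented over the target is
finitely presented over the source as soon as the target is (as a module). -/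
theorem finitePresentation_of_ringHom {A B M : Type u} [CommRing A] [CommRing B] [AddCommGroup M]
    [Module A M] [Module B M] (φ : A →+* B)
    (hsm : ∀ (a : A) (m : M), a • m = φ a • m)
    (hB : letI := φ.toAlgebra; Module.FinitePresentation A B)
    [Module.FinitePresentation B M] : Module.FinitePresentation A M := by
  letI := φ.toAlgebra
  haveI : IsScalarTower A B M := IsScalarTower.of_algebraMap_smul fun a m => (hsm a m).symm
  haveI := hB
  exact Module.FinitePresentation.trans A M B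

/-- Core: pushforward along a closed immersion, flat source over a Prufer domain, charts of the
target finitely presented over the base. -/
theorem push_fp_core (R : Type u) [CommRing R] [IsDomain R]
    (hR : ∀ (p : Ideal R) [p.IsPrime], ValuationRing (Localization.AtPrime p))
    {P X : Scheme.{u}} (π : P ⟶ Spec (CommRingCat.of R)) (ι : X ⟶ P) [IsClosedImmersion ι]
    [Flat (ι ≫ π)]
    (hchart : ∀ x : P, ∃ U : P.Opens, IsAffineOpen U ∧ x ∈ U ∧
      ((Scheme.ΓSpecIso (CommRingCat.of R)).inv ≫ π.appLE ⊤ U le_top).hom.FinitePresentation)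
    (F : X.Modules) (hF : CohB1.IsFP F) :
    CohB1.IsFP ((Scheme.Modules.pushforward ι).obj F) := by
  haveI : SheafOfModules.IsFinitePresentation (R := X.ringCatSheaf) F := hF
  haveI hq : F.IsQuasicoherent :=
    SheafOfModules.QuasicoherentData.isQuasicoherent (R := X.ringCatSheaf) (M := F)
      (SheafOfModules.IsFinitePresentation.exists_quasicoherentData
        (R := X.ringCatSheaf) F).choose
  haveI : ((Scheme.Modules.pushforward ι).obj F).IsQuasicoherent :=
    Groth.Agent.Lib.Lead.QCohPush.isQuasicoherent_pushforward_of_isAffineHom ι F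
  apply Groth.Agent.Lib.Helper2.FinLocFreeAff.isFinitePresentation_of_sections
  intro x
  obtain ⟨U, hU, hxU, hfp⟩ := hchart x
  refine ⟨U, hU, hxU, ?_⟩
  have hV : IsAffineOpen (ι ⁻¹ᵁ U) := hU.preimage ι
  haveI hM : Module.FinitePresentation Γ(X, ι ⁻¹ᵁ U) Γ(F, ι ⁻¹ᵁ U) :=
    Groth.Agent.Lib.Helper2.FinTypeAff.finitePresentation_sections F hV
  -- the ring maps
  let ρ : R →+* Γ(P, U) := ((Scheme.ΓSpecIso (CommRingCat.of R)).inv ≫ π.appLE ⊤ U le_top).hom
  let φ : Γ(P, U) →+* Γ(X, ι ⁻¹ᵁ U) := (ι.app U).hom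
  have hφ : Function.Surjective φ := ι.app_surjective U hU
  letI algRA : Algebra R Γ(P, U) := ρ.toAlgebra
  letI algAB : Algebra Γ(P, U) Γ(X, ι ⁻¹ᵁ U) := φ.toAlgebra
  letI algRB : Algebra R Γ(X, ι ⁻¹ᵁ U) := (φ.comp ρ).toAlgebra
  haveI : IsScalarTower R Γ(P, U) Γ(X, ι ⁻¹ᵁ U) := IsScalarTower.of_algebraMap_eq fun _ => rfl
  haveI : Algebra.FinitePresentation R Γ(P, U) := hfp
  haveI : Module.Finite Γ(P, U) Γ(X, ι ⁻¹ᵁ U) :=
    Module.Finite.of_surjective (Algebra.linearMap Γ(P, U) Γ(X, ι ⁻¹ᵁ U)) hφ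
  -- flatness
  have hflat : (φ.comp ρ).Flat := by
    have h1 := HasRingHomProperty.appLE (P := @Flat) (f := ι ≫ π) inferInstance
      ⟨⊤, isAffineOpen_top _⟩ ⟨ι ⁻¹ᵁ U, hV⟩ le_top
    have h2 : π.appLE ⊤ U le_top ≫ ι.app U = (ι ≫ π).appLE ⊤ (ι ⁻¹ᵁ U) le_top := by
      rw [← ι.appLE_eq_app, Scheme.Hom.appLE_comp_appLE]
    have h3 : φ.comp ρ = (((ι ≫ π).appLE ⊤ (ι ⁻¹ᵁ U) le_top).hom).comp
        (Scheme.ΓSpecIso (CommRingCat.of R)).inv.hom := by
      rw [← h2]; rfl
    rw [h3]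
    exact RingHom.Flat.comp (.of_bijective
      (ConcreteCategory.bijective_of_isIso (Scheme.ΓSpecIso (CommRingCat.of R)).inv)) h1
  haveI : Module.Flat R Γ(X, ι ⁻¹ᵁ U) := hflat
  have htf : ∀ a : R, a ≠ 0 → ∀ m : Γ(X, ι ⁻¹ᵁ U), a • m = 0 → m = 0 := by
    intro a ha m hm
    have hreg : IsSMulRegular Γ(X, ι ⁻¹ᵁ U) a :=
      Module.Flat.isSMulRegular_of_nonZeroDivisors (mem_nonZeroDivisors_of_ne_zero ha)
    exact hreg (by simpa using hm)
  have hB : Module.FinitePresentation Γ(P, U) Γ(X, ι ⁻¹ᵁ U) :=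
    Groth.Agent.Lib.Helper63.PruferFP.finitePresentation_of_torsionFree R hR Γ(P, U)
      Γ(X, ι ⁻¹ᵁ U) htf
  exact @finitePresentation_of_ringHom Γ(P, U) Γ(X, ι ⁻¹ᵁ U)
    Γ((Scheme.Modules.pushforward ι).obj F, U) _ _ _ _
    (show Module Γ(X, ι ⁻¹ᵁ U) Γ(F, ι ⁻¹ᵁ U) from inferInstance) φ (fun a m => rfl) hB hM

end Groth.Agent.Lib.Helper87.PruferSerreT5a
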