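import Mathlib

set_option autoImplicit false

universe u

open CategoryTheory CategoryTheory.Limits AlgebraicGeometry

namespace Groth.Agent.Lib.Helper87.QfM3

set_option linter.style.haveILetI false

attribute [local instance] Algebra.TensorProduct.rightAlgebra

open TensorProduct in
/-- If `I` is a nilpotent ideal and `I • ⊤ = ⊤` in `M`, then `M` is trivial. -/
theorem subsingleton_of_smul_top_eq_top {A : Type u} [CommRing A] {M : Type u} [AddCommGroup M]
    [Module A M] (I : Ideal A) (hI : IsNilpotent I) (h : I • (⊤ : Submodule A M) = ⊤) :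
    Subsingleton M := by
  obtain ⟨n, hn⟩ := hI
  have key : ∀ k : ℕ, (I ^ k) • (⊤ : Submodule A M) = ⊤ := by
    intro k
    induction k with
    | zero => simp
    | succ k ih => rw [pow_succ, Submodule.mul_smul, h, ih]
  have h0 := key n
  rw [hn, Ideal.zero_eq_bot, Submodule.bot_smul] at h0
  exact (Submodule.subsingleton_iff A).mp (subsingleton_of_bot_eq_top h0)

open TensorProduct in
/-- Ring-level core: formal unramifiedness over an Artinian local ring can be checked after
base change to the residue field. -/
theorem ring_core (A : Type u) [CommRing A] [IsArtinianRing A] [IsLocalRing A]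
    (B : Type u) [CommRing B] [Algebra A B]
    [h : Algebra.FormallyUnramified (IsLocalRing.ResidueField A)
      (IsLocalRing.ResidueField A ⊗[A] B)] :
    Algebra.FormallyUnramified A B := by
  rw [Algebra.formallyUnramified_iff]
  have e := KaehlerDifferential.tensorKaehlerEquivBase A (IsLocalRing.ResidueField A) B
    (IsLocalRing.ResidueField A ⊗[A] B)
  have h1 : Subsingleton (IsLocalRing.ResidueField A ⊗[A] Ω[B⁄A]) := e.toEquiv.subsingleton
  have e2 := TensorProduct.quotTensorEquivQuotSMul (Ω[B⁄A]) (IsLocalRing.maximalIdeal A)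
  have h2 : Subsingleton (Ω[B⁄A] ⧸ (IsLocalRing.maximalIdeal A • (⊤ : Submodule A Ω[B⁄A]))) :=
    @Equiv.subsingleton _ _ e2.symm.toEquiv h1
  have h3 : IsLocalRing.maximalIdeal A • (⊤ : Submodule A Ω[B⁄A]) = ⊤ :=
    Submodule.Quotient.subsingleton_iff.mp h2
  refine subsingleton_of_smul_top_eq_top (IsLocalRing.maximalIdeal A) ?_ h3
  have := IsArtinianRing.isNilpotent_jacobson_bot (R := A)
  rwa [IsLocalRing.jacobson_eq_maximalIdeal _ bot_ne_top] at this

open TensorProduct in
theorem spec_case (A : Type u) [CommRing A] [IsArtinianRing A] [IsLocalRing A]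
    (R : CommRingCat.{u}) (φ : CommRingCat.of A ⟶ R)
    (h : FormallyUnramified (pullback.snd (Spec.map φ)
      (Spec.map (CommRingCat.ofHom (algebraMap A (IsLocalRing.ResidueField A)))))) :
    FormallyUnramified (Spec.map φ) := by
  letI : Algebra A R := φ.hom.toAlgebra
  have hφ : φ = CommRingCat.ofHom (algebraMap A R) := rfl
  rw [HasRingHomProperty.Spec_iff (P := @FormallyUnramified)]
  rw [hφ] at h ⊢
  change (algebraMap A R).FormallyUnramified
  rw [RingHom.formallyUnramified_algebraMap]
  have h1 : FormallyUnramified (Spec.map (CommRingCat.ofHom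
      (algebraMap (IsLocalRing.ResidueField A) (IsLocalRing.ResidueField A ⊗[A] R)))) := by
    rw [← pullbackSpecIso_inv_fst', ← pullbackSymmetry_hom_comp_snd]
    exact IsZariskiLocalAtSource.comp (P := @FormallyUnramified)
      (IsZariskiLocalAtSource.comp (P := @FormallyUnramified) h _) _
  rw [HasRingHomProperty.Spec_iff (P := @FormallyUnramified)] at h1
  have h2 : Algebra.FormallyUnramified (IsLocalRing.ResidueField A)
      (IsLocalRing.ResidueField A ⊗[A] R) := by
    rw [← RingHom.formallyUnramified_algebraMap]
    exact h1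
  exact ring_core A R

theorem formallyUnramified_of_residue (A : Type u) [CommRing A] [IsArtinianRing A] [IsLocalRing A]
    {X : Scheme.{u}} (f : X ⟶ Spec (CommRingCat.of A))
    [FormallyUnramified (pullback.snd f
      (Spec.map (CommRingCat.ofHom (algebraMap A (IsLocalRing.ResidueField A)))))] :
    FormallyUnramified f := by
  rw [IsZariskiLocalAtSource.iff_of_openCover (P := @FormallyUnramified)
    X.affineOpenCover.openCover]
  intro i
  have hFU : FormallyUnramified (pullback.snd (X.affineOpenCover.openCover.f i ≫ f)
      (Spec.map (CommRingCat.ofHom (algebraMap A (IsLocalRing.ResidueField A))))) := by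
    have : pullback.map (X.affineOpenCover.openCover.f i ≫ f)
        (Spec.map (CommRingCat.ofHom (algebraMap A (IsLocalRing.ResidueField A)))) f
        (Spec.map (CommRingCat.ofHom (algebraMap A (IsLocalRing.ResidueField A))))
        (X.affineOpenCover.openCover.f i) (𝟙 _) (𝟙 _) (by simp) (by simp) ≫
        pullback.snd f (Spec.map (CommRingCat.ofHom (algebraMap A (IsLocalRing.ResidueField A))))
        = pullback.snd (X.affineOpenCover.openCover.f i ≫ f)
          (Spec.map (CommRingCat.ofHom (algebraMap A (IsLocalRing.ResidueField A)))) := by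
      exact (pullback.lift_snd _ _ _).trans (Category.comp_id _)
    rw [← this]
    exact IsZariskiLocalAtSource.comp (P := @FormallyUnramified) inferInstance _
  obtain ⟨φ, hφ⟩ : ∃ φ : CommRingCat.of A ⟶ X.affineOpenCover.X i,
      Spec.map φ = X.affineOpenCover.openCover.f i ≫ f :=
    ⟨Spec.preimage _, Spec.map_preimage _⟩
  rw [← hφ] at hFU ⊢
  exact spec_case A _ φ hFU

end Groth.Agent.Lib.Helper87.QfM3
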