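import Mathlib

set_option autoImplicit false
universe u
open TensorProduct

namespace Groth.Agent.Lib.Helper87.SDMRED

/-- Reduction of RCM (S4911) to the un-localized level `T = A ⊗[K] R`. -/
theorem RCM_of_star {K : Type u} [Field K] {A R : Type u} [CommRing A] [Algebra K A] [CommRing R]
    [Algebra K R] {Bp Bu : Type u} [CommRing Bp] [CommRing Bu] [Algebra Bp Bu] [Algebra A Bu]
    (θ : A ⊗[K] R ≃+* Bp) (b' : Bp) [IsLocalization.Away b' Bu]
    (hA : ∀ a : A, algebraMap A Bu a = algebraMap Bp Bu (θ (a ⊗ₜ[K] (1 : R))))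
    {M : Type u} [AddCommGroup M] [Module A M] {Λ : Type u} (N : Λ → Type u)
    [∀ i, AddCommGroup (N i)] [∀ i, Module A (N i)] (φ : ∀ i, M →ₗ[A] N i)
    (star : ∀ (b : A ⊗[K] R) (y : (A ⊗[K] R) ⊗[A] M),
      (∀ i, ∃ m : ℕ, b ^ m • LinearMap.lTensor (A ⊗[K] R) (φ i) y = 0) → ∃ m : ℕ, b ^ m • y = 0)
    (x : Bu ⊗[A] M) (hx : ∀ i, LinearMap.lTensor Bu (φ i) x = 0) : x = 0 := by
  classical
  letI algT : Algebra (A ⊗[K] R) Bu := ((algebraMap Bp Bu).comp θ.symm.symm.toRingHom).toAlgebra
  have halgT : ∀ t : A ⊗[K] R, algebraMap (A ⊗[K] R) Bu t = algebraMap Bp Bu (θ t) := fun t => rfl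
  haveI : IsScalarTower A (A ⊗[K] R) Bu := IsScalarTower.of_algebraMap_eq (fun a => by
    rw [halgT, Algebra.TensorProduct.algebraMap_apply, hA]; rfl)
  set b : A ⊗[K] R := θ.symm b' with hb
  haveI hloc : IsLocalization (Submonoid.powers b) Bu := by
    have h := IsLocalization.isLocalization_of_base_ringEquiv (Submonoid.powers b') Bu θ.symm
    rw [Submonoid.map_powers] at h
    exact h
  haveI : IsLocalizedModule (Submonoid.powers b) (Algebra.linearMap (A ⊗[K] R) Bu) :=
    inferInstance
  let gM := AlgebraTensorModule.rTensor A M (Algebra.linearMap (A ⊗[K] R) Bu)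
  haveI : IsLocalizedModule (Submonoid.powers b) gM :=
    show IsLocalizedModule (Submonoid.powers b)
      (AlgebraTensorModule.rTensor A M (Algebra.linearMap (A ⊗[K] R) Bu)) from inferInstance
  obtain ⟨⟨y, s⟩, hy⟩ := IsLocalizedModule.surj (Submonoid.powers b) gM x
  have hy' : s • x = gM y := hy
  have hstar : ∃ m : ℕ, b ^ m • y = 0 := by
    apply star b y
    intro i
    let gN := AlgebraTensorModule.rTensor A (N i) (Algebra.linearMap (A ⊗[K] R) Bu)
    haveI : IsLocalizedModule (Submonoid.powers b) gN :=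
      show IsLocalizedModule (Submonoid.powers b)
        (AlgebraTensorModule.rTensor A (N i) (Algebra.linearMap (A ⊗[K] R) Bu)) from inferInstance
    have hnat : gN (LinearMap.lTensor (A ⊗[K] R) (φ i) y) = LinearMap.lTensor Bu (φ i) (gM y) := by
      have : ∀ z : (A ⊗[K] R) ⊗[A] M,
          gN (LinearMap.lTensor (A ⊗[K] R) (φ i) z) = LinearMap.lTensor Bu (φ i) (gM z) := by
        intro z
        induction z using TensorProduct.induction_on with
        | zero => simp
        | tmul t m => simp [gN, gM]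
        | add z₁ z₂ h₁ h₂ => simp only [map_add, h₁, h₂]
      exact this y
    have hsm : LinearMap.lTensor Bu (φ i) (s • x) = s • LinearMap.lTensor Bu (φ i) x := by
      have : ∀ z : Bu ⊗[A] M,
          LinearMap.lTensor Bu (φ i) (s • z) = s • LinearMap.lTensor Bu (φ i) z := by
        intro z
        induction z using TensorProduct.induction_on with
        | zero => simp
        | tmul t m =>
          show LinearMap.lTensor Bu (φ i) ((s : A ⊗[K] R) • (t ⊗ₜ[A] m)) =
            (s : A ⊗[K] R) • LinearMap.lTensor Bu (φ i) (t ⊗ₜ[A] m)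
          rw [TensorProduct.smul_tmul', LinearMap.lTensor_tmul, LinearMap.lTensor_tmul,
            TensorProduct.smul_tmul']
        | add z₁ z₂ h₁ h₂ => simp only [smul_add, map_add, h₁, h₂]
      exact this x
    have h0 : gN (LinearMap.lTensor (A ⊗[K] R) (φ i) y) = 0 := by
      rw [hnat, ← hy', hsm, hx i, smul_zero]
    obtain ⟨c, hc⟩ := (IsLocalizedModule.eq_zero_iff (Submonoid.powers b) gN).mp h0
    obtain ⟨c, m, rfl⟩ := c
    exact ⟨m, hc⟩
  obtain ⟨m, hm⟩ := hstar
  have hgy : gM y = 0 :=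
    (IsLocalizedModule.eq_zero_iff (Submonoid.powers b) gM).mpr ⟨⟨b ^ m, m, rfl⟩, hm⟩
  rw [hgy] at hy'
  have hu := IsLocalizedModule.map_units gM s
  have hinj : Function.Injective (algebraMap (A ⊗[K] R) (Module.End (A ⊗[K] R) (Bu ⊗[A] M)) s) :=
    ((Module.End.isUnit_iff _).mp hu).injective
  apply hinj
  rw [map_zero]
  exact hy'

end Groth.Agent.Lib.Helper87.SDMRED
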