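import Mathlib
import Groth.Agent.S4875
import Groth.Agent.Lib.Helper95.SDFRC
import Groth.Agent.Lib.Helper60.SDMPUR

set_option autoImplicit false
set_option linter.style.haveILetI false
universe u
open TensorProduct

namespace Groth.Agent.Lib.Helper87.SDMSTAR

open Groth.Agent.Lib.Helper60.SDMPUR

section
variable {K : Type u} [Field K] {A R : Type u} [CommRing A] [Algebra K A] [CommRing R] [Algebra K R]
variable {M : Type u} [AddCommGroup M] [Module A M]

theorem inclA_eq (R₀ : Subalgebra K R) (w : A ⊗[K] R₀) :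
    inclA A R₀ w = Algebra.TensorProduct.map (AlgHom.id K A) R₀.val w := by
  induction w using TensorProduct.induction_on with
  | zero => simp
  | tmul a r => simp [inclA]
  | add x y hx hy => simp only [map_add, hx, hy]

theorem range_mono_M {R₁ R₂ : Subalgebra K R} (h : R₁ ≤ R₂) :
    LinearMap.range (LinearMap.rTensor M (inclA A R₁).toLinearMap) ≤
      LinearMap.range (LinearMap.rTensor M (inclA A R₂).toLinearMap) := by
  rintro _ ⟨z, rfl⟩
  refine ⟨LinearMap.rTensor M (Algebra.TensorProduct.map (AlgHom.id A A)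
    (Subalgebra.inclusion h)).toLinearMap z, ?_⟩
  induction z using TensorProduct.induction_on with
  | zero => simp
  | tmul w m =>
    induction w using TensorProduct.induction_on with
    | zero => simp
    | tmul a r => simp [inclA]
    | add x y hx hy =>
      rw [TensorProduct.add_tmul, map_add, map_add, map_add, hx, hy]
  | add x y hx hy => simp only [map_add, hx, hy]

theorem exists_fg_M (y : (A ⊗[K] R) ⊗[A] M) : ∃ R₀ : Subalgebra K R, R₀.FG ∧
    y ∈ LinearMap.range (LinearMap.rTensor M (inclA A R₀).toLinearMap) := by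
  induction y using TensorProduct.induction_on with
  | zero => exact ⟨⊥, Subalgebra.fg_bot, zero_mem _⟩
  | tmul t m =>
    obtain ⟨R₀, h, ⟨t₀, ht₀⟩⟩ := Groth.Agent.Lib.Helper95.SDFRC.exists_fg (A := A) t
    refine ⟨R₀, h, ⟨t₀ ⊗ₜ m, ?_⟩⟩
    rw [LinearMap.rTensor_tmul]
    congr 1
    first
      | done
      | (rw [← ht₀]; exact inclA_eq R₀ t₀)
  | add x y hx hy =>
    obtain ⟨R₁, h1, hx'⟩ := hx
    obtain ⟨R₂, h2, hy'⟩ := hy
    exact ⟨R₁ ⊔ R₂, h1.sup h2,
      add_mem (range_mono_M le_sup_left hx') (range_mono_M le_sup_right hy')⟩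

/-- semilinearity of `ι ⊗ id` -/
theorem rTensor_smul (R₀ : Subalgebra K R) (P : Type u) [AddCommGroup P] [Module A P]
    (c : A ⊗[K] R₀) (z : (A ⊗[K] R₀) ⊗[A] P) :
    LinearMap.rTensor P (inclA A R₀).toLinearMap (c • z) =
      inclA A R₀ c • LinearMap.rTensor P (inclA A R₀).toLinearMap z := by
  induction z using TensorProduct.induction_on with
  | zero => simp
  | tmul w p =>
    rw [TensorProduct.smul_tmul', LinearMap.rTensor_tmul, LinearMap.rTensor_tmul,
      TensorProduct.smul_tmul']
    congr 1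
    exact map_mul (inclA A R₀) c w
  | add x y hx hy => simp only [smul_add, map_add, hx, hy]

theorem rTensor_lTensor (R₀ : Subalgebra K R) {P : Type u} [AddCommGroup P] [Module A P]
    (f : M →ₗ[A] P) (z : (A ⊗[K] R₀) ⊗[A] M) :
    LinearMap.rTensor P (inclA A R₀).toLinearMap (LinearMap.lTensor (A ⊗[K] R₀) f z) =
      LinearMap.lTensor (A ⊗[K] R) f (LinearMap.rTensor M (inclA A R₀).toLinearMap z) := by
  induction z using TensorProduct.induction_on with
  | zero => simp
  | tmul w p => simp
  | add x y hx hy => simp only [map_add, hx, hy]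

end

theorem star {K : Type u} [Field K] {A R : Type u} [CommRing A] [Algebra K A] [CommRing R]
    [Algebra K R] {M : Type u} [AddCommGroup M] [Module A M] {Λ : Type u} (N : Λ → Type u)
    [∀ i, AddCommGroup (N i)] [∀ i, Module A (N i)] (φ : ∀ i, M →ₗ[A] N i)
    (hSL : ∀ (g : A) (x : M), (∀ i, ∃ m : ℕ, g ^ m • φ i x = 0) → ∃ m : ℕ, g ^ m • x = 0)
    (b : A ⊗[K] R) (y : (A ⊗[K] R) ⊗[A] M)
    (hy : ∀ i, ∃ m : ℕ, b ^ m • LinearMap.lTensor (A ⊗[K] R) (φ i) y = 0) :
    ∃ m : ℕ, b ^ m • y = 0 := by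
  classical
  obtain ⟨R₁, h1, hb₁⟩ := Groth.Agent.Lib.Helper95.SDFRC.exists_fg (A := A) b
  obtain ⟨R₂, h2, hy₂⟩ := exists_fg_M (A := A) y
  obtain ⟨R₀, hfg, hR1, hR2⟩ : ∃ R₀ : Subalgebra K R, R₀.FG ∧ R₁ ≤ R₀ ∧ R₂ ≤ R₀ :=
    ⟨R₁ ⊔ R₂, h1.sup h2, le_sup_left, le_sup_right⟩
  obtain ⟨b₀, hb₀⟩ := Groth.Agent.Lib.Helper95.SDFRC.range_mono (A := A) hR1 hb₁
  obtain ⟨y₀, hy₀⟩ := range_mono_M (A := A) hR2 hy₂
  replace hb₀ : inclA A R₀ b₀ = b := by rw [inclA_eq]; exact hb₀
  -- purity
  have hpur : ∀ i, ∃ m : ℕ, b₀ ^ m • LinearMap.lTensor (A ⊗[K] R₀) (φ i) y₀ = 0 := by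
    intro i
    obtain ⟨m, hm⟩ := hy i
    refine ⟨m, inclN_injective A R₀ (N i) ?_⟩
    rw [map_zero, rTensor_smul, rTensor_lTensor, hy₀, map_pow, hb₀]
    exact hm
  haveI : Algebra.FiniteType K R₀ := (Subalgebra.fg_iff_finiteType R₀).mp hfg
  haveI : Algebra.FinitePresentation K R₀ :=
    Algebra.FinitePresentation.of_finiteType.mp inferInstance
  haveI : Algebra.FinitePresentation A (A ⊗[K] R₀) := inferInstance
  haveI : Module.Flat A (A ⊗[K] R₀) := inferInstance
  haveI : IsScalarTower A (A ⊗[K] R₀) (Localization.Away b₀) := inferInstance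
  haveI : Algebra.FinitePresentation (A ⊗[K] R₀) (Localization.Away b₀) :=
    IsLocalization.Away.finitePresentation b₀
  haveI : Algebra.FinitePresentation A (Localization.Away b₀) :=
    Algebra.FinitePresentation.trans A (A ⊗[K] R₀) (Localization.Away b₀)
  haveI : Module.Flat (A ⊗[K] R₀) (Localization.Away b₀) :=
    IsLocalization.flat (Localization.Away b₀) (Submonoid.powers b₀)
  haveI : Module.Flat A (Localization.Away b₀) :=
    Module.Flat.trans A (A ⊗[K] R₀) (Localization.Away b₀)
  obtain ⟨l, hl, hfree⟩ := Groth.Agent.S2591.result (A := A) (B := Localization.Away b₀)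
    (Localization.Away b₀)
  let gM := AlgebraTensorModule.rTensor A M (Algebra.linearMap (A ⊗[K] R₀) (Localization.Away b₀))
  haveI : IsLocalizedModule (Submonoid.powers b₀) gM :=
    show IsLocalizedModule (Submonoid.powers b₀) (AlgebraTensorModule.rTensor A M
      (Algebra.linearMap (A ⊗[K] R₀) (Localization.Away b₀))) from inferInstance
  let t : M ⊗[A] (Localization.Away b₀) := TensorProduct.comm A (Localization.Away b₀) M (gM y₀)
  have ht : ∀ j, (φ j).rTensor (Localization.Away b₀) t = 0 := by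
    intro j
    let gN := AlgebraTensorModule.rTensor A (N j)
      (Algebra.linearMap (A ⊗[K] R₀) (Localization.Away b₀))
    haveI : IsLocalizedModule (Submonoid.powers b₀) gN :=
      show IsLocalizedModule (Submonoid.powers b₀) (AlgebraTensorModule.rTensor A (N j)
        (Algebra.linearMap (A ⊗[K] R₀) (Localization.Away b₀))) from inferInstance
    have hnat : ∀ z : (A ⊗[K] R₀) ⊗[A] M,
        (φ j).rTensor (Localization.Away b₀) (TensorProduct.comm A (Localization.Away b₀) M (gM z)) =
          TensorProduct.comm A (Localization.Away b₀) (N j)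
            (gN (LinearMap.lTensor (A ⊗[K] R₀) (φ j) z)) := by
      intro z
      induction z using TensorProduct.induction_on with
      | zero => simp
      | tmul w p => simp [gM, gN]
      | add x y hx hy => simp only [map_add, hx, hy]
    obtain ⟨m, hm⟩ := hpur j
    have h0 : gN (LinearMap.lTensor (A ⊗[K] R₀) (φ j) y₀) = 0 :=
      (IsLocalizedModule.eq_zero_iff (Submonoid.powers b₀) gN).mpr ⟨⟨b₀ ^ m, m, rfl⟩, hm⟩
    change (φ j).rTensor (Localization.Away b₀)
      (TensorProduct.comm A (Localization.Away b₀) M (gM y₀)) = 0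
    rw [hnat, h0, map_zero]
  have key : t = 0 :=
    Groth.Agent.S4875.sep_aux (A := A) (Localization.Away b₀) l hl hfree Λ l.length 0 (by simp)
      M N φ
      (by
        intro a ha p
        have : a = 0 := by simpa using ha
        rw [this, zero_smul])
      (by
        intro j a ha p
        have : a = 0 := by simpa using ha
        rw [this, zero_smul])
      hSL t ht
  have hg0 : gM y₀ = 0 := by
    have := congrArg (TensorProduct.comm A (Localization.Away b₀) M).symm key
    simpa [t] using this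
  obtain ⟨⟨c, m, rfl⟩, hc⟩ := (IsLocalizedModule.eq_zero_iff (Submonoid.powers b₀) gM).mp hg0
  refine ⟨m, ?_⟩
  have hc' : b₀ ^ m • y₀ = 0 := hc
  rw [← hy₀, ← hb₀, ← map_pow, ← rTensor_smul, hc', map_zero]

end Groth.Agent.Lib.Helper87.SDMSTAR
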