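import Groth.Agent.Lib.Helper21.SepPull
import Groth.Agent.S4875
import Groth.Agent.Lib.Helper87.SDMRED
import Groth.Agent.Lib.Helper87.SDMSTAR

set_option autoImplicit false
universe u
open AlgebraicGeometry CategoryTheory Opposite TopologicalSpace
open Scheme.Modules TensorProduct Groth.Agent.Lib.Helper21.QCohSections

namespace Groth.Agent.Lib.Helper87.SDMRCM

theorem RCM {K : Type u} [Field K] {A R : Type u} [CommRing A] [Algebra K A] [CommRing R] [Algebra K R] {Bp Bu : Type u} [CommRing Bp] [CommRing Bu] [Algebra Bp Bu] [Algebra A Bu] (θ : A ⊗[K] R ≃+* Bp) (b' : Bp) [IsLocalization.Away b' Bu] (hA : ∀ a : A, algebraMap A Bu a = algebraMap Bp Bu (θ (a ⊗ₜ[K] (1 : R)))) {M : Type u} [AddCommGroup M] [Module A M] {Λ : Type u} (N : Λ → Type u) [∀ i, AddCommGroup (N i)] [∀ i, Module A (N i)] (φ : ∀ i, M →ₗ[A] N i) (hSL : ∀ (g : A) (x : M), (∀ i, ∃ m : ℕ, g ^ m • φ i x = 0) → ∃ m : ℕ, g ^ m • x = 0) (x : Bu ⊗[A]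 M) (hx : ∀ i, LinearMap.lTensor Bu (φ i) x = 0) : x = 0 :=
  Groth.Agent.Lib.Helper87.SDMRED.RCM_of_star θ b' hA N φ
    (fun b y hy => Groth.Agent.Lib.Helper87.SDMSTAR.star N φ hSL b y hy) x hx

end Groth.Agent.Lib.Helper87.SDMRCM
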