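import Mathlib
import Groth.Agent.Lib.Helper87.IndEtale

set_option autoImplicit false
set_option linter.style.haveILetI false
set_option linter.unusedSectionVars false
universe u

/-!
# Descent of algebra maps into `B ⊗ T` to a finite étale stage

`T` an `R`-algebra which is a filtered colimit of étale `R`-algebras (in the form of the two
conditions of `IndEt`), `B` a finite `R`-algebra, `C` a finitely presented `B`-algebra.  Every
`B`-algebra map `C → B ⊗[R] T` comes from a `B`-algebra map `C → B ⊗[R] A` for some étale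
`R`-algebra `A` over `T`.
-/

namespace Groth.Agent.Lib.Helper87.TorsFinK2

open TensorProduct CategoryTheory Groth.Agent.Lib.Helper87.IndEt

variable {R : Type u} [CommRing R] {T : Type u} [CommRing T] [Algebra R T]
variable {B : Type u} [CommRing B] [Algebra R B]

/-- the map `id ⊗ f`. -/
noncomputable abbrev tmap {A A' : Type u} [CommRing A] [Algebra R A] [CommRing A'] [Algebra R A']
    (f : A →ₐ[R] A') : B ⊗[R] A →ₐ[B] B ⊗[R] A' :=
  Algebra.TensorProduct.map (AlgHom.id B B) f

lemma tmap_comp {A A' A'' : Type u} [CommRing A] [Algebra R A] [CommRing A'] [Algebra R A']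
    [CommRing A''] [Algebra R A''] (f : A →ₐ[R] A') (g : A' →ₐ[R] A'') (z : B ⊗[R] A) :
    tmap (B := B) g (tmap (B := B) f z) = tmap (B := B) (g.comp f) z := by
  induction z using TensorProduct.induction_on with
  | zero => simp
  | tmul b a => simp
  | add x y hx hy => simp only [map_add, hx, hy]

lemma nonempty_eidx : Nonempty (EIdx R T) := by
  obtain ⟨i, -, -⟩ := exists_eidx (A := R) (Algebra.ofId R T)
  exact ⟨i⟩

/-- finitely many elements of `T` come from one étale stage. -/
lemma exists_cover_finset (h1 : CoveredByEtale R T) (h2 : KillsRelations R T) (s : Finset T) :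
    ∃ j : EIdx R T, ∀ t ∈ s, t ∈ j.f.range := by
  classical
  haveI := isFiltered h2
  induction s using Finset.induction_on with
  | empty => exact ⟨nonempty_eidx.some, by simp⟩
  | insert t s _ ih =>
    obtain ⟨j, hj⟩ := ih
    obtain ⟨A, _, _, _, f, a, rfl⟩ := h1 t
    obtain ⟨j', e, he⟩ := exists_eidx f
    refine ⟨IsFiltered.max j j', ?_⟩
    intro x hx
    rcases Finset.mem_insert.mp hx with rfl | hx
    · refine ⟨(IsFiltered.rightToMax j j').map (e a), ?_⟩
      change (IsFiltered.max j j').f ((IsFiltered.rightToMax j j').map (e a)) = f a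
      rw [EIdx.Hom.f_map, ← he]
      rfl
    · obtain ⟨y, rfl⟩ := hj x hx
      exact ⟨(IsFiltered.leftToMax j j').map y, EIdx.Hom.f_map _ y⟩

/-- a finite family of elements of `T` lifts to one étale stage above a given one. -/
lemma exists_cover_fin (h1 : CoveredByEtale R T) (h2 : KillsRelations R T) (j : EIdx R T)
    {k : ℕ} (y : Fin k → T) :
    ∃ (j' : EIdx R T) (_ : j ⟶ j') (y' : Fin k → j'.A), ∀ l, j'.f (y' l) = y l := by
  classical
  haveI := isFiltered h2
  obtain ⟨j₀, hj₀⟩ := exists_cover_finset h1 h2 (Finset.univ.image y)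
  have hy : ∀ l, ∃ a : j₀.A, j₀.f a = y l := fun l =>
    hj₀ (y l) (Finset.mem_image_of_mem y (Finset.mem_univ l))
  choose a ha using hy
  refine ⟨IsFiltered.max j j₀, IsFiltered.leftToMax j j₀,
    fun l => (IsFiltered.rightToMax j j₀).map (a l), fun l => ?_⟩
  rw [EIdx.Hom.f_map, ha]

lemma exists_sum_tmul' {N : ℕ} (m : Fin N → B) (hm : Submodule.span R (Set.range m) = ⊤)
    (P : Type u) [CommRing P] [Algebra R P] (ζ : B ⊗[R] P) :
    ∃ z : Fin N → P, ζ = ∑ i, m i ⊗ₜ[R] z i := by
  induction ζ using TensorProduct.induction_on with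
  | zero => exact ⟨0, by simp⟩
  | tmul x p =>
    have hx : x ∈ Submodule.span R (Set.range m) := by rw [hm]; trivial
    obtain ⟨v, rfl⟩ := (Submodule.mem_span_range_iff_exists_fun R).mp hx
    refine ⟨fun i => v i • p, ?_⟩
    rw [TensorProduct.sum_tmul]
    refine Finset.sum_congr rfl fun i _ => ?_
    rw [TensorProduct.smul_tmul]
  | add x y hx hy =>
    obtain ⟨z, rfl⟩ := hx
    obtain ⟨w, rfl⟩ := hy
    refine ⟨z + w, ?_⟩
    rw [← Finset.sum_add_distrib]
    refine Finset.sum_congr rfl fun i _ => ?_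
    rw [Pi.add_apply, TensorProduct.tmul_add]

/-- an element of `B ⊗ j.A` dying in `B ⊗ T` dies at a further stage. -/
lemma exists_kill_tensor_one [Module.Finite R B] (h1 : CoveredByEtale R T)
    (h2 : KillsRelations R T) (j : EIdx R T) (z : B ⊗[R] j.A)
    (hz : tmap (B := B) j.f z = 0) :
    ∃ (k : EIdx R T) (h : j ⟶ k), tmap (B := B) h.map z = 0 := by
  classical
  obtain ⟨N, m, hm⟩ := Module.Finite.exists_fin (R := R) (M := B)
  obtain ⟨a, rfl⟩ := exists_sum_tmul' m hm j.A z
  have hz' : ∑ i, m i ⊗ₜ[R] j.f (a i) = 0 := by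
    simpa [tmap] using hz
  obtain ⟨K, r, y, hy, hr⟩ := TensorProduct.vanishesTrivially_of_sum_tmul_eq_zero R hm hz'
  obtain ⟨j', h0, y', hy'⟩ := exists_cover_fin h1 h2 j y
  let d : Fin N → j'.A := fun i => h0.map (a i) - ∑ l, r i l • y' l
  have hd : ∀ i, j'.f (d i) = 0 := by
    intro i
    simp only [d, map_sub, map_sum, map_smul, hy', EIdx.Hom.f_map]
    rw [show j.f (a i) = _ from hy i, sub_self]
  obtain ⟨k, h1', hk⟩ := exists_kill h2 j' (Finset.univ.image d) (by
    intro x hx
    obtain ⟨i, -, rfl⟩ := Finset.mem_image.mp hx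
    exact hd i)
  refine ⟨k, h0 ≫ h1', ?_⟩
  have hk' : ∀ i, h1'.map (h0.map (a i)) = ∑ l, r i l • h1'.map (y' l) := by
    intro i
    have := hk (d i) (Finset.mem_image_of_mem d (Finset.mem_univ i))
    simp only [d, map_sub, map_sum, map_smul, sub_eq_zero] at this
    exact this
  simp only [tmap, map_sum, Algebra.TensorProduct.map_tmul, AlgHom.coe_id, id_eq,
    EIdx.comp_map', AlgHom.comp_apply, hk']
  simp only [TensorProduct.tmul_sum, TensorProduct.tmul_smul]
  rw [Finset.sum_comm]
  refine Finset.sum_eq_zero fun l _ => ?_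
  simp only [TensorProduct.smul_tmul', ← TensorProduct.sum_tmul]
  rw [hr l, TensorProduct.zero_tmul]

lemma exists_kill_tensor [Module.Finite R B] (h1 : CoveredByEtale R T)
    (h2 : KillsRelations R T) (j : EIdx R T) (S : Finset (B ⊗[R] j.A))
    (hS : ∀ z ∈ S, tmap (B := B) j.f z = 0) :
    ∃ (k : EIdx R T) (h : j ⟶ k), ∀ z ∈ S, tmap (B := B) h.map z = 0 := by
  classical
  induction S using Finset.induction_on with
  | empty => exact ⟨j, 𝟙 j, by simp⟩
  | insert z S _ ih =>
    obtain ⟨k, h, hk⟩ := ih (fun b hb => hS b (Finset.mem_insert_of_mem hb))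
    have hkz : tmap (B := B) k.f (tmap (B := B) h.map z) = 0 := by
      rw [tmap_comp, h.comp_map]
      exact hS z (Finset.mem_insert_self z S)
    obtain ⟨k', h', hk'⟩ := exists_kill_tensor_one h1 h2 k _ hkz
    refine ⟨k', h ≫ h', ?_⟩
    intro b hb
    rw [EIdx.comp_map', ← tmap_comp]
    rcases Finset.mem_insert.mp hb with rfl | hb
    · exact hk'
    · rw [hk b hb, map_zero]

/-- **Descent to a finite étale stage.** -/
theorem exists_descent [Module.Finite R B] (h1 : CoveredByEtale R T) (h2 : KillsRelations R T)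
    (C : Type u) [CommRing C] [Algebra B C] [Algebra.FinitePresentation B C]
    (τ : C →ₐ[B] B ⊗[R] T) :
    ∃ (A : Type u) (_ : CommRing A) (_ : Algebra R A) (_ : Algebra.Etale R A) (_ : A →ₐ[R] T)
      (σ : C →+* B ⊗[R] A), σ.comp (algebraMap B C) =
        (Algebra.TensorProduct.includeLeft : B →ₐ[R] B ⊗[R] A).toRingHom := by
  classical
  obtain ⟨n, π, hπ, hker⟩ := Algebra.FinitePresentation.out (R := B) (A := C)
  obtain ⟨S, hS⟩ := hker
  obtain ⟨N, m, hm⟩ := Module.Finite.exists_fin (R := R) (M := B)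
  -- coordinates of the images of the generators
  have hex : ∀ i : Fin n, ∃ z : Fin N → T, τ (π (MvPolynomial.X i)) = ∑ l, m l ⊗ₜ[R] z l :=
    fun i => exists_sum_tmul' m hm T _
  choose z hz using hex
  obtain ⟨j, hj⟩ := exists_cover_finset h1 h2
    (Finset.univ.image fun p : Fin n × Fin N => z p.1 p.2)
  have hlift : ∀ (i : Fin n) (l : Fin N), ∃ a : j.A, j.f a = z i l := fun i l =>
    hj (z i l) (Finset.mem_image.mpr ⟨(i, l), Finset.mem_univ _, rfl⟩)
  choose a ha using hlift
  let u : Fin n → B ⊗[R] j.A := fun i => ∑ l, m l ⊗ₜ[R] a i l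
  have hu : ∀ i, tmap (B := B) j.f (u i) = τ (π (MvPolynomial.X i)) := by
    intro i
    rw [hz i]
    simp [u, tmap, ha]
  let ψ : MvPolynomial (Fin n) B →ₐ[B] B ⊗[R] j.A := MvPolynomial.aeval u
  have hψ : (tmap (B := B) j.f).comp ψ = τ.comp π := by
    apply MvPolynomial.algHom_ext
    intro i
    simp only [AlgHom.comp_apply, ψ, MvPolynomial.aeval_X]
    exact hu i
  have hS0 : ∀ w ∈ S.image ψ, tmap (B := B) j.f w = 0 := by
    intro w hw
    obtain ⟨g, hg, rfl⟩ := Finset.mem_image.mp hw
    have h3 : tmap (B := B) j.f (ψ g) = τ (π g) := DFunLike.congr_fun hψ g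
    rw [h3]
    have h4 : g ∈ RingHom.ker π.toRingHom := by
      rw [← hS]
      exact Ideal.subset_span hg
    have h5 : π g = 0 := h4
    rw [h5, map_zero]
  obtain ⟨k, h, hk⟩ := exists_kill_tensor h1 h2 j (S.image ψ) hS0
  let ψ' : MvPolynomial (Fin n) B →ₐ[B] B ⊗[R] k.A := (tmap (B := B) h.map).comp ψ
  have hker' : RingHom.ker π.toRingHom ≤ RingHom.ker ψ'.toRingHom := by
    rw [← hS, Ideal.span_le]
    intro g hg
    have : ψ' g = 0 := hk (ψ g) (Finset.mem_image_of_mem ψ hg)
    exact this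
  refine ⟨k.A, inferInstance, inferInstance, inferInstance, k.f,
    RingHom.liftOfSurjective π.toRingHom hπ ⟨ψ'.toRingHom, hker'⟩, ?_⟩
  ext b
  have h6 : algebraMap B C b = π.toRingHom (MvPolynomial.C b) := by
    change _ = π (MvPolynomial.C b)
    rw [← MvPolynomial.algebraMap_eq, AlgHom.commutes]
  rw [RingHom.comp_apply, h6, RingHom.liftOfSurjective_comp_apply]
  change ψ' (MvPolynomial.C b) = _
  rw [← MvPolynomial.algebraMap_eq, AlgHom.commutes]
  rfl

end Groth.Agent.Lib.Helper87.TorsFinK2
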