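import Mathlib
import Groth.Agent.Lib.Helper87.HensMain

set_option autoImplicit false
set_option linter.style.haveILetI false
set_option linter.unusedSectionVars false
universe u

/-!
# The residue field of the limit `H R Ω` over a general base ring

`R` any ring, `K` a field generated by the image of `R` (a residue field of `R`), `Ω` a separable
algebraic extension of `K`.  Then `H.ε : H R Ω → Ω` is surjective, so the residue field of the
henselian local ring `H R Ω` is `Ω`.
-/

namespace Groth.Agent.Lib.Helper87.Hens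

open IsLocalRing TensorProduct Polynomial

section General

variable {R : Type u} [CommRing R] (K : Type u) [Field K] [Algebra R K]
variable {Ω : Type u} [Field Ω] [Algebra R Ω] [Algebra K Ω] [IsScalarTower R K Ω]

/-- every separable element of `Ω` is the value of a point of an étale `R`-algebra, when `K` is
generated by fractions of elements of `R`. -/
theorem exists_pointed_etale_of_isSeparable'
    (hK : ∀ x : K, ∃ r s : R, algebraMap R K s ≠ 0 ∧ x * algebraMap R K s = algebraMap R K r)
    (α : Ω) (hα : IsSeparable K α) :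
    ∃ (A : Type u) (_ : CommRing A) (_ : Algebra R A) (_ : Algebra.Etale R A)
      (φ : A →ₐ[R] Ω) (a : A), φ a = α := by
  classical
  have hint : IsIntegral K α := hα.isIntegral
  let p₀ : K[X] := minpoly K α
  have hp₀ : p₀.Monic := minpoly.monic hint
  choose r s hs hrs using hK
  -- common denominator
  let d : R := ∏ n ∈ Finset.range (p₀.natDegree + 1), s (p₀.coeff n)
  have hd : algebraMap R K d ≠ 0 := by
    rw [map_prod]
    exact Finset.prod_ne_zero_iff.mpr fun n _ => hs _
  let Rs := Localization.Away d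
  let ψ : Rs →+* K := IsLocalization.Away.lift (S := Rs) d (g := algebraMap R K)
    (isUnit_iff_ne_zero.mpr hd)
  have hψ : ∀ x : R, ψ (algebraMap R Rs x) = algebraMap R K x := fun x =>
    IsLocalization.Away.lift_eq d (isUnit_iff_ne_zero.mpr hd) x
  have hcoeff : ∀ n, p₀.coeff n ∈ Set.range ψ := by
    intro n
    by_cases hn : n ∈ Finset.range (p₀.natDegree + 1)
    · -- `c * d` comes from `R`
      obtain ⟨e, he⟩ : ∃ e : R, d = s (p₀.coeff n) * e :=
        ⟨∏ m ∈ (Finset.range (p₀.natDegree + 1)).erase n, s (p₀.coeff m),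
          (Finset.mul_prod_erase _ _ hn).symm⟩
      have h1 : p₀.coeff n * algebraMap R K d = algebraMap R K (r (p₀.coeff n) * e) := by
        rw [he, map_mul, map_mul, ← mul_assoc, hrs]
      refine ⟨IsLocalization.mk' Rs (r (p₀.coeff n) * e) ⟨d, Submonoid.mem_powers d⟩, ?_⟩
      have h2 : ψ (IsLocalization.mk' Rs (r (p₀.coeff n) * e) ⟨d, Submonoid.mem_powers d⟩) *
          algebraMap R K d = algebraMap R K (r (p₀.coeff n) * e) := by
        rw [← hψ d, ← map_mul]
        have : IsLocalization.mk' Rs (r (p₀.coeff n) * e) ⟨d, Submonoid.mem_powers d⟩ *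
            algebraMap R Rs d = algebraMap R Rs (r (p₀.coeff n) * e) :=
          IsLocalization.mk'_spec Rs _ ⟨d, Submonoid.mem_powers d⟩
        rw [this, hψ]
      exact mul_right_cancel₀ hd (h2.trans h1.symm)
    · have : p₀.coeff n = 0 := by
        apply Polynomial.coeff_eq_zero_of_natDegree_lt
        simp only [Finset.mem_range, not_lt] at hn
        omega
      exact ⟨0, by rw [map_zero, this]⟩
  have hlift : p₀ ∈ Polynomial.lifts ψ :=
    (Polynomial.lifts_iff_coeff_lifts _).mpr hcoeff
  obtain ⟨p, hp1, -, hpm⟩ := lifts_and_natDegree_eq_and_monic hlift hp₀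
  let P : StandardEtalePair Rs := ⟨p, hpm, derivative p, ⟨1, 0, 1, by simp⟩⟩
  letI algRsΩ : Algebra Rs Ω := ((algebraMap K Ω).comp ψ).toAlgebra
  haveI : IsScalarTower R Rs Ω := IsScalarTower.of_algebraMap_eq fun x => by
    change algebraMap R Ω x = algebraMap K Ω (ψ (algebraMap R Rs x))
    rw [hψ, ← IsScalarTower.algebraMap_apply]
  have hev : ∀ q : Rs[X], aeval α q = aeval α (q.map ψ) := by
    intro q
    rw [aeval_def, aeval_def, eval₂_map]
    rfl
  have hmap : P.HasMap α := by
    constructor
    · show aeval α p = 0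
      rw [hev, hp1]
      exact minpoly.aeval _ _
    · show IsUnit (aeval α (derivative p))
      rw [hev, ← derivative_map, hp1, isUnit_iff_ne_zero]
      exact Polynomial.Separable.aeval_derivative_ne_zero hα (minpoly.aeval _ _)
  letI algRP : Algebra R P.Ring := ((algebraMap Rs P.Ring).comp (algebraMap R Rs)).toAlgebra
  haveI : IsScalarTower R Rs P.Ring := IsScalarTower.of_algebraMap_eq' rfl
  haveI : Algebra.Etale R Rs := Algebra.Etale.of_isLocalizationAway d
  haveI : Algebra.Etale R P.Ring := Algebra.Etale.comp R Rs P.Ring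
  exact ⟨P.Ring, inferInstance, inferInstance, inferInstance,
    (P.lift α hmap).restrictScalars R, P.X, P.lift_X α hmap⟩

theorem H.ε_surjective'
    (hK : ∀ x : K, ∃ r s : R, algebraMap R K s ≠ 0 ∧ x * algebraMap R K s = algebraMap R K r)
    [Algebra.IsSeparable K Ω] : Function.Surjective (H.ε : H R Ω →ₐ[R] Ω) := by
  intro α
  obtain ⟨A, _, _, _, φ, a, ha⟩ :=
    exists_pointed_etale_of_isSeparable' K hK α (Algebra.IsSeparable.isSeparable _ α)
  obtain ⟨k, g, hg⟩ := exists_idx_map φ
  refine ⟨H.of k (g (algebraMap A (Loc φ) a)), ?_⟩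
  rw [H.ε_of]
  have : k.ε (g (algebraMap A (Loc φ) a)) = Loc.ε φ (algebraMap A (Loc φ) a) :=
    DFunLike.congr_fun hg _
  rw [this, Loc.ε_algebraMap, ha]

theorem isSepClosed_of_ringEquiv' {k k' : Type*} [Field k] [Field k'] (e : k ≃+* k')
    [IsSepClosed k] : IsSepClosed k' := by
  refine IsSepClosed.of_exists_root _ fun p _ hirr hsep => ?_
  have hdeg : (p.map (e.symm : k' →+* k)).degree ≠ 0 := by
    rw [degree_map]
    exact (degree_pos_of_irreducible hirr).ne'
  obtain ⟨β, hβ⟩ := IsSepClosed.exists_root _ hdeg hsep.map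
  refine ⟨e β, ?_⟩
  rw [IsRoot.def, eval_map] at hβ
  have h2 := Polynomial.hom_eval₂ p (RingHom.id k') (e.symm : k' →+* k) (e β)
  simp only [RingHom.comp_id, eval₂_id] at h2
  have h3 : (e.symm : k' →+* k) (e β) = β := e.symm_apply_apply β
  rw [h3, hβ] at h2
  exact e.symm.injective (by rw [map_zero]; exact h2)

/-- the residue field of `H R Ω` is separably closed, for `Ω` a separable closure of `K`. -/
theorem H.isSepClosed_residueField
    (hK : ∀ x : K, ∃ r s : R, algebraMap R K s ≠ 0 ∧ x * algebraMap R K s = algebraMap R K r)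
    [Algebra.IsSeparable K Ω] [IsSepClosed Ω] : IsSepClosed (ResidueField (H R Ω)) := by
  have hsurj := H.ε_surjective' (R := R) (Ω := Ω) K hK
  let e0 : (H R Ω ⧸ RingHom.ker (H.ε : H R Ω →ₐ[R] Ω).toRingHom) ≃+* Ω :=
    RingHom.quotientKerEquivOfSurjective hsurj
  have hker : RingHom.ker (H.ε : H R Ω →ₐ[R] Ω).toRingHom = maximalIdeal (H R Ω) := H.ker_ε
  let e1 : ResidueField (H R Ω) ≃+* (H R Ω ⧸ RingHom.ker (H.ε : H R Ω →ₐ[R] Ω).toRingHom) :=
    Ideal.quotEquivOfEq hker.symm
  exact isSepClosed_of_ringEquiv' (e1.trans e0).symm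

end General

end Groth.Agent.Lib.Helper87.Hens
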