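import Mathlib
import Groth.Agent.Lib.Helper87.TorsFinK2
import Groth.Agent.Lib.Helper87.TorsFinRes
import Groth.Agent.Lib.Helper87.HensIndEtale

set_option autoImplicit false
set_option linter.style.haveILetI false
set_option linter.unusedSectionVars false
universe u

/-!
# Ring-level core: sections of étale covers of a finite algebra, étale-locally on the base
-/

namespace Groth.Agent.Lib.Helper87.TorsFinRing

open TensorProduct IsLocalRing Groth.Agent.Lib.Helper87.Hens Groth.Agent.Lib.Helper87.IndEt

/-- the statement of the strictly henselian input. -/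
def K1Statement : Prop :=
  ∀ (H : Type u) [CommRing H] [HenselianLocalRing H] [IsSepClosed (ResidueField H)]
    (B : Type u) [CommRing B] [Algebra H B] [Module.Finite H B]
    (C : Type u) [CommRing C] [Algebra B C] [Algebra.Etale B C],
    Function.Surjective (PrimeSpectrum.comap (algebraMap B C)) → Nonempty (C →ₐ[B] B)

theorem exists_etale_section (hK1 : K1Statement.{u}) (R : Type u) [CommRing R] (p : Ideal R)
    [p.IsPrime] (B : Type u) [CommRing B] [Algebra R B] [Module.Finite R B]
    (C : Type u) [CommRing C] [Algebra B C] [Algebra.Etale B C]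
    (hsurj : Function.Surjective (PrimeSpectrum.comap (algebraMap B C))) :
    ∃ (A : Type u) (_ : CommRing A) (_ : Algebra R A) (_ : Algebra.Etale R A) (P : Ideal A)
      (_ : P.IsPrime), P.comap (algebraMap R A) = p ∧
      ∃ σ : C →+* B ⊗[R] A, σ.comp (algebraMap B C) =
        (Algebra.TensorProduct.includeLeft : B →ₐ[R] B ⊗[R] A).toRingHom := by
  classical
  let K := p.ResidueField
  let Ω := SeparableClosure K
  have hK : ∀ x : K, ∃ r s : R, algebraMap R K s ≠ 0 ∧
      x * algebraMap R K s = algebraMap R K r := by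
    intro x
    obtain ⟨y, rfl⟩ := IsLocalRing.residue_surjective (R := Localization.AtPrime p) x
    obtain ⟨r, s, rfl⟩ := IsLocalization.exists_mk'_eq p.primeCompl y
    refine ⟨r, s, ?_, ?_⟩
    · rw [Ne, Ideal.algebraMap_residueField_eq_zero]
      exact s.2
    · change IsLocalRing.residue _ (IsLocalization.mk' _ r s) *
        IsLocalRing.residue _ (algebraMap R (Localization.AtPrime p) s) =
        IsLocalRing.residue _ (algebraMap R (Localization.AtPrime p) r)
      rw [← map_mul, IsLocalization.mk'_spec]
  let Hs := H R Ω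
  haveI : IsSepClosed (ResidueField Hs) := H.isSepClosed_residueField (R := R) (Ω := Ω) K hK
  -- the finite `Hs`-algebra `B ⊗ Hs`
  let B' := B ⊗[R] Hs
  letI algHB' : Algebra Hs B' :=
    (Algebra.TensorProduct.includeRight : Hs →ₐ[R] B ⊗[R] Hs).toRingHom.toAlgebra
  haveI : Module.Finite Hs B' := by
    have hsm : ∀ (h : Hs) (x : Hs ⊗[R] B), Algebra.TensorProduct.comm R Hs B (h • x) =
        h • (Algebra.TensorProduct.comm R Hs B x : B') := by
      intro h x
      induction x using TensorProduct.induction_on with
      | zero => simp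
      | tmul a b =>
        rw [TensorProduct.smul_tmul', smul_eq_mul]
        change Algebra.TensorProduct.comm R Hs B ((h * a) ⊗ₜ[R] b) =
          (Algebra.TensorProduct.includeRight : Hs →ₐ[R] B ⊗[R] Hs) h *
            Algebra.TensorProduct.comm R Hs B (a ⊗ₜ[R] b)
        simp
      | add x y hx hy =>
        rw [smul_add, map_add, map_add, smul_add, hx, hy]
    let e : (Hs ⊗[R] B) ≃ₗ[Hs] B' :=
      { (Algebra.TensorProduct.comm R Hs B).toLinearEquiv with
        map_smul' := fun h x => hsm h x }
    exact Module.Finite.equiv e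
  -- the étale cover of `B'`
  haveI : Module.Flat B C := inferInstance
  haveI : Module.FaithfullyFlat B C := Module.FaithfullyFlat.of_comap_surjective hsurj
  let C' := B' ⊗[B] C
  have hsurj' : Function.Surjective (PrimeSpectrum.comap (algebraMap B' C')) :=
    PrimeSpectrum.comap_surjective_of_faithfullyFlat
  obtain ⟨ρ⟩ := hK1 Hs B' C' hsurj'
  -- the map `C → B ⊗ Hs`
  let τ : C →ₐ[B] B ⊗[R] Hs :=
    (ρ.restrictScalars B).comp (Algebra.TensorProduct.includeRight : C →ₐ[B] B' ⊗[B] C)
  obtain ⟨A, _, _, _, g, σ, hσ⟩ :=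
    Groth.Agent.Lib.Helper87.TorsFinK2.exists_descent (R := R) (T := Hs) (B := B)
      H.coveredByEtale H.killsRelations C τ
  let χ : A →ₐ[R] Ω := (H.ε : Hs →ₐ[R] Ω).comp g
  refine ⟨A, inferInstance, inferInstance, inferInstance, RingHom.ker χ.toRingHom,
    RingHom.ker_isPrime _, ?_, σ, hσ⟩
  ext x
  rw [Ideal.mem_comap, RingHom.mem_ker]
  change χ (algebraMap R A x) = 0 ↔ _
  rw [AlgHom.commutes, IsScalarTower.algebraMap_apply R K Ω, map_eq_zero_iff _
    (algebraMap K Ω).injective, Ideal.algebraMap_residueField_eq_zero]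

end Groth.Agent.Lib.Helper87.TorsFinRing
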