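import Mathlib
import Groth.Prelude.Def_NonAbH2
import Groth.Agent.Lib.Helper87.TorsFinRing
import Groth.Agent.Lib.Helper16.TorsFinK1
import Groth.Agent.Lib.Helper46.TorsFinK3
import Groth.Agent.Lib.Lead.EtaleCoverSection
import Groth.Agent.Lib.Helper9.TorsorSch

set_option autoImplicit false
set_option linter.style.haveILetI false
set_option linter.unusedSectionVars false
universe u

/-!
# Sections of a smooth surjective scheme over a finite locally free cover, étale locally on the base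
-/

namespace Groth.Agent.Lib.Helper87.TorsFinMain

open CategoryTheory CategoryTheory.Limits AlgebraicGeometry TensorProduct

theorem k1 : Groth.Agent.Lib.Helper87.TorsFinRing.K1Statement.{u} := by
  intro H _ _ _ B _ _ _ C _ _ _ hsurj
  exact Groth.Agent.Lib.Helper16.TorsFinK1.exists_retraction_of_etale_of_finite (H := H) B C hsurj

/-- transport of a statement about an algebra structure to the structure rebuilt from its
structure map. -/
theorem toAlgebra_transport {R A : Type u} [CommRing R] [CommRing A] (inst : Algebra R A)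
    (Q : Algebra R A → Prop) (h : Q inst) : Q (@algebraMap R A _ _ inst).toAlgebra := by
  have e : inst = (@algebraMap R A _ _ inst).toAlgebra := Algebra.algebra_ext _ _ (fun r => rfl)
  exact Eq.mp (congrArg Q e) h

/-- the local statement: around every point of the base there is an étale neighbourhood over
which `E` acquires a section after base change to the finite cover. -/
theorem exists_local {S S2 : Scheme.{u}} (π : S2 ⟶ S) [IsFinite π] (E : Over S2)
    [Smooth E.hom] [Surjective E.hom] (s : S) :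
    ∃ (U : Scheme.{u}) (g : U ⟶ S), Etale g ∧ s ∈ Set.range g ∧
      NonAbH1.HasSectionOver E (pullback.snd g π) := by
  classical
  obtain ⟨_, ⟨W, hW : IsAffineOpen W, rfl⟩, hsW, -⟩ :=
    (S.isBasis_affineOpens).exists_subset_of_mem_open (Set.mem_univ s) isOpen_univ
  have hV : IsAffineOpen (π ⁻¹ᵁ W) := hW.preimage π
  -- the restriction of `E` over the affine `π⁻¹ W`
  let pr : pullback E.hom hV.fromSpec ⟶ Spec Γ(S2, π ⁻¹ᵁ W) := pullback.snd _ _
  haveI : Smooth pr := MorphismProperty.pullback_snd _ _ inferInstance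
  haveI : Surjective pr := MorphismProperty.pullback_snd _ _ inferInstance
  obtain ⟨C, _, _, hCet, hCff, t, ht⟩ :=
    Groth.Agent.Lib.Lead.EtaleCoverSection.exists_etale_faithfullyFlat_section
      Γ(S2, π ⁻¹ᵁ W) pr
  -- algebra structures
  letI algB : Algebra Γ(S, W) Γ(S2, π ⁻¹ᵁ W) := (π.app W).hom.toAlgebra
  haveI : Module.Finite Γ(S, W) Γ(S2, π ⁻¹ᵁ W) := IsFinite.finite_app π W hW
  have hsurjC : Function.Surjective (PrimeSpectrum.comap (algebraMap Γ(S2, π ⁻¹ᵁ W) C)) :=
    PrimeSpectrum.comap_surjective_of_faithfullyFlat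
  let p : Ideal Γ(S, W) := (hW.primeIdealOf ⟨s, hsW⟩).asIdeal
  obtain ⟨A, instCR, instAlg, hAet, P, hP, hPp, hσ⟩ :=
    Groth.Agent.Lib.Helper87.TorsFinRing.exists_etale_section k1 Γ(S, W) p
      Γ(S2, π ⁻¹ᵁ W) C hsurjC
  let f : Γ(S, W) →+* A := @algebraMap Γ(S, W) A _ _ instAlg
  have hσ' := toAlgebra_transport instAlg
    (fun inst => letI := inst; ∃ σ : C →+* Γ(S2, π ⁻¹ᵁ W) ⊗[Γ(S, W)] A,
      σ.comp (algebraMap Γ(S2, π ⁻¹ᵁ W) C) =
        (Algebra.TensorProduct.includeLeft :
          Γ(S2, π ⁻¹ᵁ W) →ₐ[Γ(S, W)] Γ(S2, π ⁻¹ᵁ W) ⊗[Γ(S, W)] A).toRingHom) hσ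
  obtain ⟨σ, hσeq⟩ := hσ'
  let φ : Γ(S, W) ⟶ CommRingCat.of A := CommRingCat.ofHom f
  let c : Γ(S2, π ⁻¹ᵁ W) ⟶ CommRingCat.of C :=
    CommRingCat.ofHom (algebraMap Γ(S2, π ⁻¹ᵁ W) C)
  let t' : Spec (CommRingCat.of C) ⟶ E.left := t ≫ pullback.fst _ _
  have ht' : t' ≫ E.hom = Spec.map c ≫ hV.fromSpec := by
    rw [Category.assoc, pullback.condition, ← Category.assoc, ht]
  refine ⟨Spec (CommRingCat.of A), Spec.map φ ≫ hW.fromSpec, ?_, ?_, ?_⟩
  · haveI : Etale (Spec.map φ) := by
      rw [HasRingHomProperty.Spec_iff (P := @Etale)]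
      exact RingHom.etale_algebraMap.mpr hAet
    infer_instance
  · refine ⟨⟨P, hP⟩, ?_⟩
    rw [Scheme.Hom.comp_apply]
    have h1 : (Spec.map φ) ⟨P, hP⟩ = hW.primeIdealOf ⟨s, hsW⟩ := by
      apply PrimeSpectrum.ext
      exact hPp
    rw [h1]
    exact hW.fromSpec_primeIdealOf ⟨s, hsW⟩
  · exact Groth.Agent.Lib.Helper46.TorsFinK3.hasSectionOver_of_ring_section π E W hW c t' ht'
      φ σ hσeq

end Groth.Agent.Lib.Helper87.TorsFinMain
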