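import Mathlib

/-!
Ring-level compactification of a quasi-finite finitely presented algebra: a finite and finitely
presented algebra `Bb` with a map `ψ : Bb → B` which is a localization isomorphism over finitely
many basic opens covering the spectrum of `B`.
-/

set_option autoImplicit false
set_option linter.style.haveILetI false
set_option linter.unusedSectionVars false

universe u

namespace Groth.Agent.Lib.Helper87.UFO

/-- Finitely many elements of the kernel generate it after inverting `r`. -/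
theorem exists_finset_ker {A : Type u} {Ab B : Type u} [CommRing A] [CommRing Ab] [CommRing B]
    [Algebra A Ab] [Algebra A B] [Algebra.FinitePresentation A Ab]
    [Algebra.FinitePresentation A B]
    (π : Ab →ₐ[A] B) (r : Ab) (hr : ∀ x : B, ∃ (a : Ab) (m : ℕ), π a = π r ^ m * x) :
    ∃ K : Finset Ab, (∀ κ ∈ K, π κ = 0) ∧
      ∀ c, π c = 0 → ∃ m : ℕ, r ^ m * c ∈ Ideal.span (K : Set Ab) := by
  classical
  let L := Localization.Away r
  let L' := Localization.Away (π r)
  let φ : L →ₐ[A] L' := Localization.awayMapₐ π r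
  have hφ : Function.Surjective φ :=
    (Localization.awayMap_surjective_iff (f := (π : Ab →+* B)) (r := r)).mpr hr
  have : Algebra.FinitePresentation A L := .trans A Ab L
  have : Algebra.FinitePresentation A L' := .trans A B L'
  have hfg : (RingHom.ker φ.toRingHom).FG := Algebra.FinitePresentation.ker_fG_of_surjective φ hφ
  have hker : RingHom.ker φ.toRingHom = (RingHom.ker (π : Ab →+* B)).map (algebraMap Ab L) :=
    IsLocalization.ker_map (M := Submonoid.powers r) (T := Submonoid.powers (π r)) L'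
      (π : Ab →+* B) (Submonoid.map_powers _ _)
  rw [hker, Ideal.map, Ideal.span] at hfg
  obtain ⟨s', hs', hspan⟩ := (Submodule.fg_span_iff_fg_span_finset_subset _).mp hfg
  obtain ⟨K, hK, rfl⟩ := Finset.subset_set_image_iff.mp hs'
  refine ⟨K, fun κ hκ => hK hκ, fun c hc => ?_⟩
  have hc' : algebraMap Ab L c ∈ (RingHom.ker (π : Ab →+* B)).map (algebraMap Ab L) :=
    Ideal.mem_map_of_mem _ hc
  have hc2 : algebraMap Ab L c ∈ (Ideal.span (K : Set Ab)).map (algebraMap Ab L) := by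
    rw [Ideal.map_span]
    rw [Ideal.map, Ideal.span, hspan] at hc'
    simpa using hc'
  obtain ⟨s, ⟨m, rfl⟩, hs⟩ :=
    (IsLocalization.algebraMap_mem_map_algebraMap_iff (Submonoid.powers r) L _ _).mp hc2
  exact ⟨m, hs⟩

theorem exists_compactification_ring (A B : Type u) [CommRing A] [CommRing B] [Algebra A B]
    [Algebra.FinitePresentation A B] [Algebra.QuasiFinite A B] :
    ∃ (Bb : Type u) (_ : CommRing Bb) (_ : Algebra A Bb) (_ : Module.Finite A Bb)
      (_ : Algebra.FinitePresentation A Bb) (ψ : Bb →ₐ[A] B) (n : ℕ) (F : Fin n → Bb),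
      Ideal.span (Set.range (ψ ∘ F)) = ⊤ ∧
      (∀ k x, ∃ (c : Bb) (m : ℕ), ψ c = ψ (F k) ^ m * x) ∧
      (∀ k c, ψ c = 0 → ∃ m : ℕ, F k ^ m * c = 0) := by
  classical
  -- Step 1: good elements generate the unit ideal
  have h1 : Ideal.span {r : B | IsIntegral A r ∧ ∀ x : B, ∃ m : ℕ, IsIntegral A (r ^ m * x)}
      = ⊤ := by
    by_contra hne
    obtain ⟨M, hM, hle⟩ := Ideal.exists_le_maximal _ hne
    have := hM.isPrime
    obtain ⟨r, hrM, hr⟩ := Algebra.zariskisMainProperty_iff.mp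
      (Algebra.ZariskisMainProperty.of_finiteType (R := A) M)
    exact hrM (hle (Ideal.subset_span hr))
  obtain ⟨s', hs', hs'top⟩ := (Ideal.span_eq_top_iff_finite _).mp h1
  obtain ⟨t, ht⟩ := (Algebra.FiniteType.out : (⊤ : Subalgebra A B).FG)
  have hm : ∀ r ∈ s', ∀ x : B, ∃ m : ℕ, IsIntegral A (r ^ m * x) := fun r hr => (hs' hr).2
  choose! m hm using hm
  let T : Set B := ↑s' ∪ (fun p : B × B => p.1 ^ m p.1 p.2 * p.2) '' ((s' : Set B) ×ˢ (t : Set B))
  have hTfin : T.Finite :=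
    s'.finite_toSet.union ((s'.finite_toSet.prod t.finite_toSet).image _)
  have hTint : ∀ x ∈ T, IsIntegral A x := by
    rintro x (hx | ⟨⟨r, y⟩, ⟨hr, -⟩, rfl⟩)
    · exact (hs' hx).1
    · exact hm r hr y
  let C : Subalgebra A B := Algebra.adjoin A T
  have hCfg : C.toSubmodule.FG := fg_adjoin_of_finite hTfin hTint
  have hsC : ∀ r ∈ s', r ∈ C := fun r hr => Algebra.subset_adjoin (Or.inl hr)
  have h5 : ∀ r ∈ s', ∀ x : B, ∃ k : ℕ, r ^ k * x ∈ C := by
    intro r hr x
    have hx : x ∈ Algebra.adjoin A (t : Set B) := by rw [ht]; trivial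
    induction hx using Algebra.adjoin_induction with
    | mem x hx =>
      exact ⟨m r x, Algebra.subset_adjoin (Or.inr ⟨(r, x), ⟨hr, hx⟩, rfl⟩)⟩
    | algebraMap a => exact ⟨0, by simpa using C.algebraMap_mem a⟩
    | add x y _ _ hx hy =>
      obtain ⟨k, hk⟩ := hx
      obtain ⟨l, hl⟩ := hy
      refine ⟨k + l, ?_⟩
      have : r ^ (k + l) * (x + y) = r ^ l * (r ^ k * x) + r ^ k * (r ^ l * y) := by ring
      rw [this]
      exact C.add_mem (C.mul_mem (C.pow_mem (hsC r hr) _) hk)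
        (C.mul_mem (C.pow_mem (hsC r hr) _) hl)
    | mul x y _ _ hx hy =>
      obtain ⟨k, hk⟩ := hx
      obtain ⟨l, hl⟩ := hy
      refine ⟨k + l, ?_⟩
      have : r ^ (k + l) * (x * y) = (r ^ k * x) * (r ^ l * y) := by ring
      rw [this]
      exact C.mul_mem hk hl
  have : Module.Finite A C := ⟨(Submodule.fg_top _).mpr hCfg⟩
  obtain ⟨Ab, _, _, _, _, _, π₀, hπ₀⟩ := Module.Finite.exists_free_surjective A C
  let π : Ab →ₐ[A] B := C.val.comp π₀
  have hπ : ∀ x ∈ C, ∃ a : Ab, π a = x := by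
    intro x hx
    obtain ⟨a, ha⟩ := hπ₀ ⟨x, hx⟩
    exact ⟨a, by simp [π, ha]⟩
  let n := s'.card
  let F₀ : Fin n → B := fun k => (s'.equivFin.symm k : B)
  have hF₀ : ∀ k, F₀ k ∈ s' := fun k => (s'.equivFin.symm k).2
  have hF₀range : Set.range F₀ = ↑s' := by
    ext x
    constructor
    · rintro ⟨k, rfl⟩; exact hF₀ k
    · intro hx
      exact ⟨s'.equivFin ⟨x, hx⟩, by simp [F₀]⟩
  choose rb hrb using fun k => hπ (F₀ k) (hsC _ (hF₀ k))
  have hr : ∀ k, ∀ x : B, ∃ (a : Ab) (m : ℕ), π a = π (rb k) ^ m * x := by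
    intro k x
    obtain ⟨l, hl⟩ := h5 (F₀ k) (hF₀ k) x
    obtain ⟨a, ha⟩ := hπ _ hl
    exact ⟨a, l, by rw [ha, hrb]⟩
  choose K hK1 hK2 using fun k => exists_finset_ker π (rb k) (hr k)
  let Kμ : Ideal Ab := Ideal.span ((Finset.univ.biUnion K : Finset Ab) : Set Ab)
  have hKμfg : Kμ.FG := ⟨_, rfl⟩
  have hKμle : ∀ a ∈ Kμ, π a = 0 := by
    intro a ha
    have : Kμ ≤ RingHom.ker (π : Ab →+* B) := by
      refine Ideal.span_le.mpr fun κ hκ => ?_
      simp only [Finset.coe_biUnion, Finset.coe_univ, Set.mem_univ, Set.iUnion_true,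
        Set.mem_iUnion, Finset.mem_coe] at hκ
      obtain ⟨k, hk⟩ := hκ
      exact hK1 k κ hk
    exact this ha
  have hfin : Module.Finite A (Ab ⧸ Kμ) :=
    Module.Finite.of_surjective (Ideal.Quotient.mkₐ A Kμ).toLinearMap
      (Ideal.Quotient.mkₐ_surjective A Kμ)
  have hfp : Algebra.FinitePresentation A (Ab ⧸ Kμ) := Algebra.FinitePresentation.quotient hKμfg
  let ψ : (Ab ⧸ Kμ) →ₐ[A] B := Ideal.Quotient.liftₐ Kμ π hKμle
  have hψ : ∀ a : Ab, ψ (Ideal.Quotient.mk Kμ a) = π a := fun a => by simp [ψ]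
  refine ⟨Ab ⧸ Kμ, inferInstance, inferInstance, hfin, hfp, ψ, n,
    fun k => Ideal.Quotient.mk Kμ (rb k), ?_, ?_, ?_⟩
  · have : (ψ ∘ fun k => Ideal.Quotient.mk Kμ (rb k)) = F₀ := by
      funext k
      simp [hψ, hrb]
    rw [this, hF₀range, hs'top]
  · intro k x
    obtain ⟨a, l, ha⟩ := hr k x
    exact ⟨Ideal.Quotient.mk Kμ a, l, by rw [hψ, hψ, ha]⟩
  · intro k c hc
    obtain ⟨c₀, rfl⟩ := Ideal.Quotient.mk_surjective c
    rw [hψ] at hc
    obtain ⟨l, hl⟩ := hK2 k c₀ hc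
    refine ⟨l, ?_⟩
    rw [← map_pow, ← map_mul, Ideal.Quotient.eq_zero_iff_mem]
    refine Ideal.span_mono ?_ hl
    intro κ hκ
    simp only [Finset.coe_biUnion, Finset.coe_univ, Set.mem_univ, Set.iUnion_true,
      Set.mem_iUnion, Finset.mem_coe]
    exact ⟨k, hκ⟩

end Groth.Agent.Lib.Helper87.UFO
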