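import Mathlib
import Groth.Agent.Lib.Helper87.UFO1

/-!
Scheme-level compactification of an affine quasi-finite finitely presented morphism.
-/

set_option autoImplicit false
set_option linter.style.haveILetI false
set_option linter.unusedSectionVars false

universe u

open AlgebraicGeometry CategoryTheory Limits

namespace Groth.Agent.Lib.Helper87.UFO

theorem isLocalization_away_of_cover {B Bb : Type u} [CommRing B] [CommRing Bb] (ψ : Bb →+* B)
    (r : Bb) (h2 : ∀ x, ∃ (c : Bb) (m : ℕ), ψ c = ψ r ^ m * x)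
    (h3 : ∀ c, ψ c = 0 → ∃ m : ℕ, r ^ m * c = 0) :
    letI : Algebra Bb (Localization.Away (ψ r)) :=
      ((algebraMap B (Localization.Away (ψ r))).comp ψ).toAlgebra
    IsLocalization.Away r (Localization.Away (ψ r)) := by
  letI : Algebra Bb (Localization.Away (ψ r)) :=
    ((algebraMap B (Localization.Away (ψ r))).comp ψ).toAlgebra
  have hbij : Function.Bijective (Localization.awayMap ψ r) :=
    ⟨Localization.awayMap_injective_iff.mpr h3, Localization.awayMap_surjective_iff.mpr h2⟩
  let e : Localization.Away r ≃ₐ[Bb] Localization.Away (ψ r) :=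
    AlgEquiv.ofBijective
      { (Localization.awayMap ψ r) with
        commutes' := fun x => by
          change Localization.awayMap ψ r (algebraMap Bb _ x) = _
          simp [Localization.awayMap, IsLocalization.Away.map, RingHom.algebraMap_toAlgebra] }
      hbij
  exact IsLocalization.isLocalization_of_algEquiv (Submonoid.powers r) e

theorem isOpenImmersion_SpecMap_of_cover {B Bb : Type u} [CommRing B] [CommRing Bb]
    (ψ : Bb →+* B) {n : ℕ} (F : Fin n → Bb)
    (h1 : Ideal.span (Set.range (ψ ∘ F)) = ⊤)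
    (h2 : ∀ k x, ∃ (c : Bb) (m : ℕ), ψ c = ψ (F k) ^ m * x)
    (h3 : ∀ k c, ψ c = 0 → ∃ m : ℕ, F k ^ m * c = 0) :
    ∃ _ : IsOpenImmersion (Spec.map (CommRingCat.ofHom ψ)),
    (Spec.map (CommRingCat.ofHom ψ)).opensRange =
      ⨆ k, (PrimeSpectrum.basicOpen (F k) : (Spec (.of Bb)).Opens) := by
  set j₀ := Spec.map (CommRingCat.ofHom ψ) with hj₀
  have hpre : ∀ r : Bb, j₀ ⁻¹ᵁ (PrimeSpectrum.basicOpen r : (Spec (.of Bb)).Opens) =
      (PrimeSpectrum.basicOpen (ψ r) : (Spec (.of B)).Opens) := by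
    intro r
    ext x
    rfl
  -- the local pieces
  have hloc : ∀ k, IsOpenImmersion
      (Spec.map (CommRingCat.ofHom (algebraMap B (Localization.Away (ψ (F k))))) ≫ j₀) ∧
      Set.range (Spec.map (CommRingCat.ofHom (algebraMap B (Localization.Away (ψ (F k))))) ≫ j₀)
        = (PrimeSpectrum.basicOpen (F k) : Set (PrimeSpectrum Bb)) := by
    intro k
    letI : Algebra Bb (Localization.Away (ψ (F k))) :=
      ((algebraMap B (Localization.Away (ψ (F k)))).comp ψ).toAlgebra
    have hl : IsLocalization.Away (F k) (Localization.Away (ψ (F k))) :=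
      isLocalization_away_of_cover ψ (F k) (h2 k) (h3 k)
    have heq : Spec.map (CommRingCat.ofHom (algebraMap B (Localization.Away (ψ (F k))))) ≫ j₀ =
        Spec.map (CommRingCat.ofHom (algebraMap Bb (Localization.Away (ψ (F k))))) := by
      rw [hj₀, ← Spec.map_comp, ← CommRingCat.ofHom_comp]
    rw [heq]
    refine ⟨IsOpenImmersion.of_isLocalization (F k), ?_⟩
    exact PrimeSpectrum.localization_away_comap_range (Localization.Away (ψ (F k))) (F k)
  have hcov : ∀ x : Spec (.of B), ∃ k, ψ (F k) ∉ x.asIdeal := by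
    intro x
    by_contra hcon
    push Not at hcon
    have : Ideal.span (Set.range (ψ ∘ F)) ≤ x.asIdeal := by
      refine Ideal.span_le.mpr ?_
      rintro _ ⟨k, rfl⟩
      exact hcon k
    rw [h1] at this
    exact x.isPrime.ne_top (top_le_iff.mp this)
  have hopen : IsOpenImmersion j₀ := by
    refine IsZariskiLocalAtTarget.of_forall_source_exists_preimage j₀ fun x => ?_
    obtain ⟨k, hk⟩ := hcov x
    refine ⟨(PrimeSpectrum.basicOpen (F k) : (Spec (.of Bb)).Opens), hk, ?_⟩
    rw [hpre]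
    have := (hloc k).1
    rw [← basicOpenIsoSpecAway_hom_SpecMap (R := .of B) (ψ (F k)), Category.assoc]
    infer_instance
  refine ⟨hopen, ?_⟩
  apply le_antisymm
  · rintro _ ⟨x, rfl⟩
    obtain ⟨k, hk⟩ := hcov x
    exact TopologicalSpace.Opens.mem_iSup.mpr ⟨k, hk⟩
  · refine iSup_le fun k => ?_
    intro y hy
    have : y ∈ Set.range (Spec.map (CommRingCat.ofHom
        (algebraMap B (Localization.Away (ψ (F k))))) ≫ j₀) := by
      rw [(hloc k).2]; exact hy
    obtain ⟨z, rfl⟩ := this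
    exact ⟨_, rfl⟩

theorem exists_compactification {X Y : Scheme.{u}} (f : X ⟶ Y) [IsAffine X] [IsAffine Y]
    [LocallyQuasiFinite f] [LocallyOfFinitePresentation f] :
    ∃ (Xb : Scheme.{u}) (j : X ⟶ Xb) (g : Xb ⟶ Y) (n : ℕ) (F : Fin n → Γ(Xb, ⊤)),
      IsAffine Xb ∧ IsFinite g ∧ LocallyOfFinitePresentation g ∧ j ≫ g = f ∧
      ∃ _ : IsOpenImmersion j, j.opensRange = ⨆ k, Xb.basicOpen (F k) := by
  letI : Algebra Γ(Y, ⊤) Γ(X, ⊤) := f.appTop.hom.toAlgebra
  have hfp : Algebra.FinitePresentation Γ(Y, ⊤) Γ(X, ⊤) :=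
    HasRingHomProperty.appTop (P := @LocallyOfFinitePresentation) f inferInstance
  have hqf : Algebra.QuasiFinite Γ(Y, ⊤) Γ(X, ⊤) :=
    HasRingHomProperty.appTop (P := @LocallyQuasiFinite) f inferInstance
  obtain ⟨Bb, _, _, hfin, hfpb, ψ, n, F, h1, h2, h3⟩ :=
    exists_compactification_ring Γ(Y, ⊤) Γ(X, ⊤)
  obtain ⟨hopen, hrange⟩ := isOpenImmersion_SpecMap_of_cover (ψ : Bb →+* Γ(X, ⊤)) F h1 h2 h3
  let α : Γ(Y, ⊤) ⟶ CommRingCat.of Bb := CommRingCat.ofHom (algebraMap Γ(Y, ⊤) Bb)
  have hαψ : α ≫ CommRingCat.ofHom (ψ : Bb →+* Γ(X, ⊤)) = f.appTop := by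
    ext x
    exact ψ.commutes x
  refine ⟨Spec (.of Bb), X.isoSpec.hom ≫ Spec.map (CommRingCat.ofHom (ψ : Bb →+* Γ(X, ⊤))),
    Spec.map α ≫ Y.isoSpec.inv, n, fun k => (Scheme.ΓSpecIso (.of Bb)).inv (F k),
    inferInstance, ?_, ?_, ?_, inferInstance, ?_⟩
  · have : IsFinite (Spec.map α) := by
      rw [IsFinite.SpecMap_iff]
      exact RingHom.finite_algebraMap.mpr hfin
    infer_instance
  · have : LocallyOfFinitePresentation (Spec.map α) := by
      rw [HasRingHomProperty.Spec_iff (P := @LocallyOfFinitePresentation)]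
      exact RingHom.finitePresentation_algebraMap.mpr hfpb
    infer_instance
  · rw [Category.assoc, ← Category.assoc (Spec.map _), ← Spec.map_comp, hαψ,
      ← Category.assoc, Scheme.isoSpec_hom_naturality, Category.assoc, Iso.hom_inv_id,
      Category.comp_id]
  · rw [Scheme.Hom.opensRange_comp_of_isIso, hrange]
    congr 1
    funext k
    exact (basicOpen_eq_of_affine (R := .of Bb) (F k)).symm

end Groth.Agent.Lib.Helper87.UFO
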