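import Mathlib

/-!
Ring-level weak representability: vanishing of a tensor in a base change of a finitely presented
module, and a weakly universal idempotent lying in a given finitely generated ideal of a finite
finitely presented algebra.
-/

set_option autoImplicit false
set_option linter.style.haveILetI false
set_option linter.unusedSectionVars false

universe u

open TensorProduct

namespace Groth.Agent.Lib.Helper87.UFO

theorem exists_sum_tmul {A : Type*} [CommRing A] {M : Type*} [AddCommGroup M] [Module A M] {N : ℕ}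
    (m : Fin N → M) (hm : Submodule.span A (Set.range m) = ⊤) (P : Type*) [CommRing P]
    [Algebra A P] (ζ : P ⊗[A] M) : ∃ z : Fin N → P, ζ = ∑ i, z i ⊗ₜ[A] m i := by
  induction ζ using TensorProduct.induction_on with
  | zero => exact ⟨0, by simp⟩
  | tmul p x =>
    have hx : x ∈ Submodule.span A (Set.range m) := by rw [hm]; trivial
    obtain ⟨v, rfl⟩ := (Submodule.mem_span_range_iff_exists_fun A).mp hx
    refine ⟨fun i => v i • p, ?_⟩
    rw [TensorProduct.tmul_sum]
    refine Finset.sum_congr rfl fun i _ => ?_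
    rw [TensorProduct.tmul_smul, TensorProduct.smul_tmul']
  | add x y hx hy =>
    obtain ⟨z, rfl⟩ := hx
    obtain ⟨z', rfl⟩ := hy
    exact ⟨z + z', by simp [TensorProduct.add_tmul, Finset.sum_add_distrib]⟩

theorem map_id_eq_rTensor {A : Type*} [CommRing A] {Bb : Type*} [CommRing Bb] [Algebra A Bb]
    {S S' : Type*} [CommRing S] [CommRing S'] [Algebra A S] [Algebra A S'] (θ : S →ₐ[A] S')
    (x : S ⊗[A] Bb) :
    Algebra.TensorProduct.map θ (AlgHom.id A Bb) x = θ.toLinearMap.rTensor Bb x := by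
  induction x using TensorProduct.induction_on with
  | zero => simp
  | tmul a b => simp
  | add x y hx hy => simp [hx, hy]

theorem exists_coeff_of_sum_tmul_eq_zero {A : Type*} [CommRing A] {M : Type*} [AddCommGroup M]
    [Module A M] {n q : ℕ} (f : (Fin n → A) →ₗ[A] M) (g : (Fin q → A) →ₗ[A] (Fin n → A))
    (hf : Function.Surjective f) (hfg : Function.Exact g f)
    (A' : Type*) [CommRing A'] [Algebra A A'] (a : Fin n → A')
    (h : ∑ i, a i ⊗ₜ[A] f (Pi.single i 1) = 0) :
    ∃ w : Fin q → A', ∀ i, a i = ∑ j, g (Pi.single j 1) i • w j := by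
  classical
  let en := TensorProduct.piScalarRight A A A' (Fin n)
  let eq := TensorProduct.piScalarRight A A A' (Fin q)
  have hsymm : ∀ (k : ℕ) (c : Fin k → A'),
      (TensorProduct.piScalarRight A A A' (Fin k)).symm c =
        ∑ i, c i ⊗ₜ[A] (Pi.single i (1 : A) : Fin k → A) := by
    intro k c
    have : c = ∑ i, Pi.single i (c i) := (Finset.univ_sum_single c).symm
    conv_lhs => rw [this]
    rw [map_sum]
    simp
  have hex := lTensor_exact A' hfg hf
  have h0 : (f.lTensor A') (en.symm a) = 0 := by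
    rw [hsymm, map_sum]
    simpa using h
  obtain ⟨y', hy'⟩ := (hex _).mp h0
  refine ⟨eq y', fun i => ?_⟩
  have hy'' : y' = eq.symm (eq y') := (eq.symm_apply_apply y').symm
  rw [hy'', hsymm, map_sum] at hy'
  simp only [LinearMap.lTensor_tmul] at hy'
  have := congrArg (fun t => en t i) hy'
  simp only [LinearEquiv.apply_symm_apply, map_sum] at this
  rw [← this]
  simp [en, Finset.sum_apply]

theorem exists_vanishing_algebra {A : Type u} [CommRing A] (M : Type u) [AddCommGroup M]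
    [Module A M] [Module.FinitePresentation A M] (P : Type u) [CommRing P] [Algebra A P]
    (ζ : P ⊗[A] M) :
    ∃ (Q : Type u) (_ : CommRing Q) (_ : Algebra A Q) (φ : P →ₐ[A] Q),
      φ.toRingHom.FinitePresentation ∧ φ.toLinearMap.rTensor M ζ = 0 ∧
      ∀ (A' : Type u) [CommRing A'] [Algebra A A'] (θ : P →ₐ[A] A'),
        θ.toLinearMap.rTensor M ζ = 0 → ∃ γ : Q →ₐ[A] A', γ.comp φ = θ := by
  classical
  obtain ⟨n, q, f, g, hf, hfg⟩ := Module.FinitePresentation.exists_fin' A M
  let m : Fin n → M := fun i => f (Pi.single i 1)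
  let r : Fin q → Fin n → A := fun j => g (Pi.single j 1)
  have hfv : ∀ v : Fin n → A, f v = ∑ i, v i • m i := by
    intro v
    have : v = ∑ i, v i • (Pi.single i 1 : Fin n → A) := by
      ext k; simp [Finset.sum_apply, Pi.single_apply]
    conv_lhs => rw [this]
    simp [map_sum, m]
  have hspan : Submodule.span A (Set.range m) = ⊤ := by
    rw [eq_top_iff]
    rintro x -
    obtain ⟨v, rfl⟩ := hf x
    rw [hfv]
    exact Submodule.sum_mem _ fun i _ => Submodule.smul_mem _ _ (Submodule.subset_span ⟨i, rfl⟩)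
  have hrel : ∀ j, ∑ i, r j i • m i = 0 := by
    intro j
    rw [← hfv]
    exact hfg.apply_apply_eq_zero _
  obtain ⟨z, hz⟩ := exists_sum_tmul m hspan P ζ
  let R := MvPolynomial (Fin q) P
  let rel : Fin n → R := fun i => MvPolynomial.C (z i) - ∑ j, r j i • (MvPolynomial.X j : R)
  let I : Ideal R := Ideal.span (Set.range rel)
  have hIfg : I.FG := Submodule.fg_span (Set.finite_range rel)
  let φ : P →ₐ[A] R ⧸ I := (Ideal.Quotient.mkₐ A I).comp (IsScalarTower.toAlgHom A P R)
  have hφC : ∀ p : P, φ p = Ideal.Quotient.mk I (MvPolynomial.C p) := fun p => rfl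
  have hφz : ∀ i, φ (z i) = ∑ j, r j i • (Ideal.Quotient.mk I (MvPolynomial.X j : R)) := by
    intro i
    have h0 : Ideal.Quotient.mkₐ A I (rel i) = 0 :=
      Ideal.Quotient.eq_zero_iff_mem.mpr (Ideal.subset_span ⟨i, rfl⟩)
    simp only [rel, map_sub, map_sum, map_smul, sub_eq_zero] at h0
    rw [hφC]
    exact h0
  refine ⟨R ⧸ I, inferInstance, inferInstance, φ, ?_, ?_, ?_⟩
  · have h1 : Algebra.FinitePresentation P (R ⧸ I) := Algebra.FinitePresentation.quotient hIfg
    have h2 : φ.toRingHom = algebraMap P (R ⧸ I) := rfl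
    rw [h2]
    exact RingHom.finitePresentation_algebraMap.mpr h1
  · rw [hz, map_sum]
    simp only [LinearMap.rTensor_tmul, AlgHom.toLinearMap_apply, hφz]
    simp only [TensorProduct.sum_tmul, TensorProduct.smul_tmul]
    rw [Finset.sum_comm]
    simp only [← TensorProduct.tmul_sum, hrel, TensorProduct.tmul_zero, Finset.sum_const_zero]
  · intro A' _ _ θ hθ
    rw [hz, map_sum] at hθ
    simp only [LinearMap.rTensor_tmul, AlgHom.toLinearMap_apply] at hθ
    obtain ⟨w, hw⟩ := exists_coeff_of_sum_tmul_eq_zero f g hf hfg A' (fun i => θ (z i)) hθ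
    let γ₀ : R →ₐ[A] A' :=
      { MvPolynomial.eval₂Hom (θ : P →+* A') w with
        commutes' := fun a => by
          change MvPolynomial.eval₂Hom (θ : P →+* A') w (MvPolynomial.C (algebraMap A P a)) = _
          simp }
    have hγ₀C : ∀ p : P, γ₀ (MvPolynomial.C p) = θ p := fun p => by
      change MvPolynomial.eval₂Hom (θ : P →+* A') w (MvPolynomial.C p) = _
      simp
    have hγ₀X : ∀ j, γ₀ (MvPolynomial.X j) = w j := fun j => by
      change MvPolynomial.eval₂Hom (θ : P →+* A') w (MvPolynomial.X j) = _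
      simp
    have hI : ∀ x ∈ I, γ₀ x = 0 := by
      intro x hx
      have : I ≤ RingHom.ker (γ₀ : R →+* A') := by
        refine Ideal.span_le.mpr ?_
        rintro _ ⟨i, rfl⟩
        change γ₀ (rel i) = 0
        simp only [rel, map_sub, map_sum, map_smul, hγ₀C, hγ₀X]
        rw [hw i, sub_self]
      exact this hx
    refine ⟨Ideal.Quotient.liftₐ I γ₀ hI, ?_⟩
    ext p
    change Ideal.Quotient.liftₐ I γ₀ hI (Ideal.Quotient.mk I (MvPolynomial.C p)) = _
    simp [hγ₀C]

theorem exists_universal_idempotent (A : Type u) [CommRing A] (Bb : Type u) [CommRing Bb]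
    [Algebra A Bb] [Module.Finite A Bb] [Algebra.FinitePresentation A Bb] {n : ℕ}
    (F : Fin n → Bb) :
    ∃ (Au : Type u) (_ : CommRing Au) (_ : Algebra A Au) (_ : Algebra.FinitePresentation A Au)
      (eu : Au ⊗[A] Bb), IsIdempotentElem eu ∧
      eu ∈ Ideal.span (Set.range fun k => ((1 : Au) ⊗ₜ[A] F k : Au ⊗[A] Bb)) ∧
      ∀ (A' : Type u) [CommRing A'] [Algebra A A'] (e' : A' ⊗[A] Bb), IsIdempotentElem e' →
        e' ∈ Ideal.span (Set.range fun k => ((1 : A') ⊗ₜ[A] F k : A' ⊗[A] Bb)) →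
        ∃ γ : Au →ₐ[A] A', Algebra.TensorProduct.map γ (AlgHom.id A Bb) eu = e' := by
  classical
  have : Module.FinitePresentation A Bb :=
    Module.FinitePresentation.of_finite_of_finitePresentation A Bb
  obtain ⟨N, m, hm⟩ := Module.Finite.exists_fin (R := A) (M := Bb)
  let σ := Option (Fin n) × Fin N
  let P := MvPolynomial σ A
  let Ξ : Option (Fin n) → P ⊗[A] Bb := fun w => ∑ i, (MvPolynomial.X (w, i) : P) ⊗ₜ[A] m i
  let ζ₁ : P ⊗[A] Bb := Ξ none * Ξ none - Ξ none
  let ζ₂ : P ⊗[A] Bb := Ξ none - ∑ k, ((1 : P) ⊗ₜ[A] F k) * Ξ (some k)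
  obtain ⟨Q₁, _, _, φ₁, hφ₁fp, hφ₁0, hφ₁u⟩ := exists_vanishing_algebra Bb P ζ₁
  obtain ⟨Q₂, _, _, φ₂, hφ₂fp, hφ₂0, hφ₂u⟩ :=
    exists_vanishing_algebra Bb Q₁ (φ₁.toLinearMap.rTensor Bb ζ₂)
  let Φ : P →ₐ[A] Q₂ := φ₂.comp φ₁
  let T : ∀ {S S' : Type u} [CommRing S] [CommRing S'] [Algebra A S] [Algebra A S'],
      (S →ₐ[A] S') → (S ⊗[A] Bb →ₐ[A] S' ⊗[A] Bb) :=
    fun θ => Algebra.TensorProduct.map θ (AlgHom.id A Bb)
  have hTcomp : ∀ {S S' S'' : Type u} [CommRing S] [CommRing S'] [CommRing S''] [Algebra A S]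
      [Algebra A S'] [Algebra A S''] (θ : S →ₐ[A] S') (θ' : S' →ₐ[A] S'') (x : S ⊗[A] Bb),
      T (θ'.comp θ) x = T θ' (T θ x) := by
    intro S S' S'' _ _ _ _ _ _ θ θ' x
    simp only [T, map_id_eq_rTensor]
    rw [AlgHom.comp_toLinearMap, LinearMap.rTensor_comp]
    rfl
  have hΦ1 : T Φ ζ₁ = 0 := by
    rw [hTcomp]
    simp only [T, map_id_eq_rTensor]
    rw [hφ₁0, map_zero]
  have hΦ2 : T Φ ζ₂ = 0 := by
    rw [hTcomp]
    simp only [T, map_id_eq_rTensor]
    exact hφ₂0
  have hfpAu : Algebra.FinitePresentation A Q₂ := by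
    have h1 : (algebraMap A P).FinitePresentation :=
      RingHom.finitePresentation_algebraMap.mpr inferInstance
    have h2 := (hφ₂fp.comp hφ₁fp).comp h1
    have h3 : (φ₂.toRingHom.comp φ₁.toRingHom).comp (algebraMap A P) = algebraMap A Q₂ := by
      ext a
      simp
    rw [h3] at h2
    exact RingHom.finitePresentation_algebraMap.mp h2
  have hTΞ : ∀ {S : Type u} [CommRing S] [Algebra A S] (θ : P →ₐ[A] S) (w : Option (Fin n)),
      T θ (Ξ w) = ∑ i, θ (MvPolynomial.X (w, i)) ⊗ₜ[A] m i := by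
    intro S _ _ θ w
    simp [T, Ξ]
  have hTF : ∀ {S : Type u} [CommRing S] [Algebra A S] (θ : P →ₐ[A] S) (k : Fin n),
      T θ ((1 : P) ⊗ₜ[A] F k) = (1 : S) ⊗ₜ[A] F k := by
    intro S _ _ θ k
    simp [T]
  refine ⟨Q₂, inferInstance, inferInstance, hfpAu, T Φ (Ξ none), ?_, ?_, ?_⟩
  · have : T Φ (Ξ none) * T Φ (Ξ none) - T Φ (Ξ none) = 0 := by
      rw [← map_mul, ← map_sub]; exact hΦ1
    exact sub_eq_zero.mp this
  · have h0 : T Φ (Ξ none) - ∑ k, ((1 : Q₂) ⊗ₜ[A] F k) * T Φ (Ξ (some k)) = 0 := by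
      have := hΦ2
      simp only [ζ₂, map_sub, map_sum, map_mul, hTF] at this
      exact this
    rw [sub_eq_zero.mp h0]
    refine Ideal.sum_mem _ fun k _ => ?_
    exact Ideal.mul_mem_right _ _ (Ideal.subset_span ⟨k, rfl⟩)
  · intro A' _ _ e' he' hspan
    obtain ⟨c, hc⟩ := (Ideal.mem_span_range_iff_exists_fun).mp hspan
    obtain ⟨a, ha⟩ := exists_sum_tmul m hm A' e'
    choose ak hak using fun k => exists_sum_tmul m hm A' (c k)
    let θ : P →ₐ[A] A' := MvPolynomial.aeval (fun p : σ =>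
      match p.1 with
      | none => a p.2
      | some k => ak k p.2)
    have hθX : ∀ p : σ, θ (MvPolynomial.X p) = (match p.1 with
        | none => a p.2
        | some k => ak k p.2) := fun p => MvPolynomial.aeval_X _ p
    have hθn : T θ (Ξ none) = e' := by
      rw [hTΞ, ha]
      refine Finset.sum_congr rfl fun i _ => ?_
      rw [hθX]
    have hθs : ∀ k, T θ (Ξ (some k)) = c k := by
      intro k
      rw [hTΞ, hak k]
      refine Finset.sum_congr rfl fun i _ => ?_
      rw [hθX]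
    have hθ1 : θ.toLinearMap.rTensor Bb ζ₁ = 0 := by
      rw [← map_id_eq_rTensor]
      change T θ ζ₁ = 0
      simp only [ζ₁, map_sub, map_mul, hθn]
      rw [he'.eq, sub_self]
    obtain ⟨γ₁, hγ₁⟩ := hφ₁u A' θ hθ1
    have hθ2 : γ₁.toLinearMap.rTensor Bb (φ₁.toLinearMap.rTensor Bb ζ₂) = 0 := by
      rw [← map_id_eq_rTensor, ← map_id_eq_rTensor]
      change T γ₁ (T φ₁ ζ₂) = 0
      rw [← hTcomp, hγ₁]
      simp only [ζ₂, map_sub, map_sum, map_mul, hTF, hθn, hθs]
      rw [← hc]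
      simp [mul_comm]
    obtain ⟨γ₂, hγ₂⟩ := hφ₂u A' γ₁ hθ2
    refine ⟨γ₂, ?_⟩
    change T γ₂ (T Φ (Ξ none)) = e'
    rw [← hTcomp]
    have : γ₂.comp Φ = θ := by
      rw [← hγ₁, ← hγ₂]
      rfl
    rw [this, hθn]

end Groth.Agent.Lib.Helper87.UFO
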