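import Mathlib

/-!
Scheme-level helper lemmas for the weakly universal finite open part: comparison of global sections
of an affine pullback with a tensor product, idempotents and clopen subsets, base change of an
open immersion inside a compactification.
-/

set_option autoImplicit false
set_option linter.style.haveILetI false
set_option linter.unusedSectionVars false

universe u

open AlgebraicGeometry CategoryTheory Limits TensorProduct

namespace Groth.Agent.Lib.Helper87.UFO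

theorem exists_ringEquiv_of_isPushout {A A' Bb : Type u} [CommRing A] [CommRing A'] [CommRing Bb]
    [Algebra A A'] [Algebra A Bb] {P : CommRingCat.{u}} {inl : CommRingCat.of A' ⟶ P}
    {inr : CommRingCat.of Bb ⟶ P}
    (h : IsPushout (CommRingCat.ofHom (algebraMap A A')) (CommRingCat.ofHom (algebraMap A Bb))
      inl inr) :
    ∃ τ : A' ⊗[A] Bb ≃+* P, ∀ a' x, τ (a' ⊗ₜ x) = inl a' * inr x := by
  let iso := (CommRingCat.isPushout_tensorProduct A A' Bb).isoIsPushout _ _ h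
  refine ⟨iso.commRingCatIsoToRingEquiv, fun a' x => ?_⟩
  have h1 := (CommRingCat.isPushout_tensorProduct A A' Bb).inl_isoIsPushout_hom _ _ h
  have h2 := (CommRingCat.isPushout_tensorProduct A A' Bb).inr_isoIsPushout_hom _ _ h
  have e1 : iso.hom ((a' ⊗ₜ[A] (1 : Bb) : A' ⊗[A] Bb)) = inl a' :=
    congrArg (fun φ => φ.hom a') h1
  have e2 : iso.hom (((1 : A') ⊗ₜ[A] x : A' ⊗[A] Bb)) = inr x :=
    congrArg (fun φ => φ.hom x) h2
  have : (a' ⊗ₜ[A] x : A' ⊗[A] Bb) = (a' ⊗ₜ[A] (1 : Bb)) * ((1 : A') ⊗ₜ[A] x) := by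
    simp
  change iso.hom (a' ⊗ₜ[A] x) = _
  rw [this, map_mul, e1, e2]

theorem exists_tau {Xb Y Y' : Scheme.{u}} (g : Xb ⟶ Y) (b : Y' ⟶ Y) [IsAffine Xb] [IsAffine Y]
    [IsAffine Y'] [Algebra Γ(Y, ⊤) Γ(Xb, ⊤)] [Algebra Γ(Y, ⊤) Γ(Y', ⊤)]
    (hg : algebraMap Γ(Y, ⊤) Γ(Xb, ⊤) = g.appTop.hom)
    (hb : algebraMap Γ(Y, ⊤) Γ(Y', ⊤) = b.appTop.hom) :
    ∃ τ : (Γ(Y', ⊤) ⊗[Γ(Y, ⊤)] Γ(Xb, ⊤)) ≃+* Γ(pullback g b, ⊤),
      ∀ a' x, τ (a' ⊗ₜ x) = (pullback.snd g b).appTop a' * (pullback.fst g b).appTop x := by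
  have h := (isPushout_appTop_of_isPullback (IsPullback.of_hasPullback g b)).flip
  have e1 : CommRingCat.ofHom (algebraMap Γ(Y, ⊤) Γ(Y', ⊤)) = b.appTop := by
    rw [hb]; rfl
  have e2 : CommRingCat.ofHom (algebraMap Γ(Y, ⊤) Γ(Xb, ⊤)) = g.appTop := by
    rw [hg]; rfl
  rw [← e1, ← e2] at h
  exact exists_ringEquiv_of_isPushout h

theorem exists_idempotent_of_isClopen {Z : Scheme.{u}} [IsAffine Z] (V : Z.Opens)
    (hV : IsClosed (V : Set Z)) :
    ∃ e : Γ(Z, ⊤), IsIdempotentElem e ∧ Z.basicOpen e = V := by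
  let W : (Spec Γ(Z, ⊤)).Opens := Z.isoSpec.inv ⁻¹ᵁ V
  have hW : IsClopen (X := PrimeSpectrum Γ(Z, ⊤)) W.1 :=
    ⟨hV.preimage Z.isoSpec.inv.continuous, W.isOpen⟩
  obtain ⟨e, he, hWe⟩ := PrimeSpectrum.isClopen_iff.mp hW
  refine ⟨e, he, ?_⟩
  rw [← Scheme.toSpecΓ_preimage_basicOpen]
  have hWe' : W = (PrimeSpectrum.basicOpen e : (Spec Γ(Z, ⊤)).Opens) :=
    TopologicalSpace.Opens.ext hWe
  rw [← hWe']
  change Z.isoSpec.hom ⁻¹ᵁ (Z.isoSpec.inv ⁻¹ᵁ V) = V
  rw [← Scheme.Hom.comp_preimage, Iso.hom_inv_id]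
  rfl

theorem mem_span_of_basicOpen_le {Z : Scheme.{u}} [IsAffine Z] {e : Γ(Z, ⊤)}
    (he : IsIdempotentElem e) {n : ℕ} (v : Fin n → Γ(Z, ⊤))
    (hle : Z.basicOpen e ≤ ⨆ k, Z.basicOpen (v k)) : e ∈ Ideal.span (Set.range v) := by
  have hcov : (⊤ : Z.Opens) ≤ ⨆ f : (insert (1 - e) (Set.range v) : Set Γ(Z, ⊤)),
      Z.basicOpen f.1 := by
    intro x _
    have h1 : x ∈ Z.basicOpen (e + (1 - e)) := by
      have : e + (1 - e) = 1 := by ring
      rw [this, Scheme.basicOpen_of_isUnit _ isUnit_one]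
      trivial
    rcases Scheme.basicOpen_add_le _ _ _ h1 with h | h
    · obtain ⟨k, hk⟩ := TopologicalSpace.Opens.mem_iSup.mp (hle h)
      exact TopologicalSpace.Opens.mem_iSup.mpr ⟨⟨v k, Or.inr ⟨k, rfl⟩⟩, hk⟩
    · exact TopologicalSpace.Opens.mem_iSup.mpr ⟨⟨1 - e, Or.inl rfl⟩, h⟩
  have hspan := (isAffineOpen_top Z).self_le_iSup_basicOpen_iff.mp hcov
  have h1 : (1 : Γ(Z, ⊤)) ∈ Ideal.span (insert (1 - e) (Set.range v)) := by
    rw [hspan]; trivial
  obtain ⟨a, z, hz, h1z⟩ := Ideal.mem_span_insert.mp h1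
  have : e = z * e := by
    have h2 : (1 - e) * e = 0 := by
      rw [sub_mul, one_mul, he.eq, sub_self]
    calc e = 1 * e := (one_mul e).symm
      _ = (a * (1 - e) + z) * e := by rw [← h1z]
      _ = a * ((1 - e) * e) + z * e := by ring
      _ = z * e := by rw [h2, mul_zero, zero_add]
  rw [this]
  exact Ideal.mul_mem_right _ _ hz

theorem basicOpen_le_iSup_of_mem_span {Z : Scheme.{u}} {e : Γ(Z, ⊤)} {n : ℕ}
    (v : Fin n → Γ(Z, ⊤)) (he : e ∈ Ideal.span (Set.range v)) :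
    Z.basicOpen e ≤ ⨆ k, Z.basicOpen (v k) := by
  classical
  obtain ⟨c, rfl⟩ := (Ideal.mem_span_range_iff_exists_fun).mp he
  have key : ∀ s : Finset (Fin n), Z.basicOpen (∑ k ∈ s, c k * v k) ≤ ⨆ k, Z.basicOpen (v k) := by
    intro s
    induction s using Finset.induction_on with
    | empty => simp [Scheme.basicOpen_zero]
    | insert k s hk ih =>
      rw [Finset.sum_insert hk]
      refine (Scheme.basicOpen_add_le _ _ _).trans (sup_le ?_ ih)
      rw [Scheme.basicOpen_mul]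
      exact inf_le_right.trans (le_iSup (fun k => Z.basicOpen (v k)) k)
  exact key Finset.univ

theorem isClosed_basicOpen_of_isIdempotentElem {Z : Scheme.{u}} {e : Γ(Z, ⊤)}
    (he : IsIdempotentElem e) : IsClosed (Z.basicOpen e : Set Z) := by
  have h1 : (Z.basicOpen e : Set Z) = (Z.basicOpen (1 - e) : Set Z)ᶜ := by
    ext x
    simp only [Set.mem_compl_iff, SetLike.mem_coe]
    constructor
    · intro hx hx'
      have : x ∈ Z.basicOpen (e * (1 - e)) := by
        rw [Scheme.basicOpen_mul]; exact ⟨hx, hx'⟩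
      have h0 : e * (1 - e) = 0 := by rw [mul_sub, mul_one, he.eq, sub_self]
      rw [h0, Scheme.basicOpen_zero] at this
      exact this
    · intro hx
      have h1 : x ∈ Z.basicOpen (e + (1 - e)) := by
        have : e + (1 - e) = 1 := by ring
        rw [this, Scheme.basicOpen_of_isUnit _ isUnit_one]
        trivial
      rcases Scheme.basicOpen_add_le _ _ _ h1 with h | h
      · exact h
      · exact absurd h hx
  rw [h1]
  exact (Z.basicOpen (1 - e)).isOpen.isClosed_compl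

end Groth.Agent.Lib.Helper87.UFO
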