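import Mathlib
import Groth.Agent.Lib.Helper87.UFO4

/-!
Base change of the open immersion of a compactification, finiteness of the open part cut out by
an idempotent, and the idempotent attached to a finite open part.
-/

set_option autoImplicit false
set_option linter.style.haveILetI false
set_option linter.unusedSectionVars false

universe u

open AlgebraicGeometry CategoryTheory Limits TensorProduct

namespace Groth.Agent.Lib.Helper87.UFO

section jb

variable {X Xb Y : Scheme.{u}} (f : X ⟶ Y) (g : Xb ⟶ Y) (j : X ⟶ Xb) (hjg : j ≫ g = f)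

/-- The base change of `j` along `b`. -/
noncomputable def jb {Y' : Scheme.{u}} (b : Y' ⟶ Y) : pullback f b ⟶ pullback g b :=
  pullback.map f b g b j (𝟙 Y') (𝟙 Y) (by rw [Category.comp_id, hjg]) (by simp)

@[reassoc]
lemma jb_fst {Y' : Scheme.{u}} (b : Y' ⟶ Y) :
    jb f g j hjg b ≫ pullback.fst g b = pullback.fst f b ≫ j :=
  pullback.lift_fst _ _ _

@[reassoc]
lemma jb_snd {Y' : Scheme.{u}} (b : Y' ⟶ Y) :
    jb f g j hjg b ≫ pullback.snd g b = pullback.snd f b :=
  (pullback.lift_snd _ _ _).trans (Category.comp_id _)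

lemma isPullback_jb {Y' : Scheme.{u}} (b : Y' ⟶ Y) :
    IsPullback (pullback.fst f b) (jb f g j hjg b) j (pullback.fst g b) := by
  refine IsPullback.of_bot ?_ (jb_fst f g j hjg b).symm (IsPullback.of_hasPullback g b)
  rw [jb_snd, hjg]
  exact IsPullback.of_hasPullback f b

instance isOpenImmersion_jb [IsOpenImmersion j] {Y' : Scheme.{u}} (b : Y' ⟶ Y) :
    IsOpenImmersion (jb f g j hjg b) :=
  MorphismProperty.of_isPullback (P := @IsOpenImmersion) (isPullback_jb f g j hjg b)
    inferInstance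

lemma range_jb {Y' : Scheme.{u}} (b : Y' ⟶ Y) :
    Set.range (jb f g j hjg b) = (pullback.fst g b) ⁻¹' Set.range j := by
  have sq := isPullback_jb f g j hjg b
  have h1 : jb f g j hjg b = sq.isoPullback.hom ≫ pullback.snd j (pullback.fst g b) :=
    (sq.isoPullback_hom_snd).symm
  rw [h1, ← Scheme.Pullback.range_snd]
  apply le_antisymm
  · rintro _ ⟨x, rfl⟩
    exact ⟨sq.isoPullback.hom x, rfl⟩
  · rintro _ ⟨x, rfl⟩
    refine ⟨sq.isoPullback.inv x, ?_⟩
    rw [← Scheme.Hom.comp_apply, Iso.inv_hom_id_assoc]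

lemma opensRange_jb [IsOpenImmersion j] {Y' : Scheme.{u}} (b : Y' ⟶ Y) {n : ℕ}
    (F : Fin n → Γ(Xb, ⊤)) (hjrange : j.opensRange = ⨆ k, Xb.basicOpen (F k)) :
    (jb f g j hjg b).opensRange =
      ⨆ k, (pullback g b).basicOpen ((pullback.fst g b).appTop (F k)) := by
  have h1 : (jb f g j hjg b).opensRange = (pullback.fst g b) ⁻¹ᵁ j.opensRange :=
    TopologicalSpace.Opens.ext (range_jb f g j hjg b)
  rw [h1, hjrange, Scheme.Hom.preimage_iSup]
  congr 1
  funext k
  exact Scheme.preimage_basicOpen_top _ _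

end jb

section finite

variable {X Xb Y : Scheme.{u}} (f : X ⟶ Y) (g : Xb ⟶ Y) (j : X ⟶ Xb) (hjg : j ≫ g = f)

theorem isFinite_of_idempotent [IsFinite g] [IsOpenImmersion j] {Yu : Scheme.{u}} (a : Yu ⟶ Y)
    (e : Γ(pullback g a, ⊤)) (he : IsIdempotentElem e)
    (hle : (pullback g a).basicOpen e ≤ (jb f g j hjg a).opensRange) :
    IsFinite (((jb f g j hjg a) ⁻¹ᵁ (pullback g a).basicOpen e).ι ≫ pullback.snd f a) := by
  set ju := jb f g j hjg a
  set Uu := ju ⁻¹ᵁ (pullback g a).basicOpen e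
  have hrange : Set.range (Uu.ι ≫ ju) = ((pullback g a).basicOpen e).1 := by
    have h1 : (Uu.ι ≫ ju).opensRange = (pullback g a).basicOpen e := by
      rw [Scheme.Hom.opensRange_comp, Scheme.Opens.opensRange_ι,
        Scheme.Hom.image_preimage_eq_opensRange_inf]
      exact inf_eq_right.mpr hle
    exact congrArg (fun W : (pullback g a).Opens => W.1) h1
  have hclosed : IsClosedImmersion (Uu.ι ≫ ju) :=
    IsClosedImmersion.of_isPreimmersion _ (hrange ▸ isClosed_basicOpen_of_isIdempotentElem he)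
  have : IsFinite (pullback.snd g a) := inferInstance
  have heq : Uu.ι ≫ pullback.snd f a = (Uu.ι ≫ ju) ≫ pullback.snd g a := by
    rw [Category.assoc, jb_snd]
  rw [heq]
  infer_instance

theorem exists_idempotent_of_finite_open [IsAffine Xb] [IsFinite g] [IsOpenImmersion j]
    {n : ℕ} (F : Fin n → Γ(Xb, ⊤)) (hjrange : j.opensRange = ⨆ k, Xb.basicOpen (F k))
    {Y' : Scheme.{u}} [IsAffine Y'] (b : Y' ⟶ Y) (U' : (pullback f b).Opens)
    (hfin : IsFinite (U'.ι ≫ pullback.snd f b)) :
    ∃ e : Γ(pullback g b, ⊤), IsIdempotentElem e ∧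
      (pullback g b).basicOpen e = (jb f g j hjg b) ''ᵁ U' ∧
      e ∈ Ideal.span (Set.range fun k => (pullback.fst g b).appTop (F k)) := by
  set j' := jb f g j hjg b
  have hprop : IsProper (U'.ι ≫ j') := by
    have h1 : IsProper ((U'.ι ≫ j') ≫ pullback.snd g b) := by
      rw [Category.assoc, jb_snd]
      infer_instance
    exact IsProper.of_comp (U'.ι ≫ j') (pullback.snd g b)
  have hclosed : IsClosed (j' ''ᵁ U' : (pullback g b).Opens).1 := by
    have h1 : (j' ''ᵁ U' : (pullback g b).Opens).1 = Set.range (U'.ι ≫ j') := by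
      have : (U'.ι ≫ j').opensRange = j' ''ᵁ U' := by
        rw [Scheme.Hom.opensRange_comp, Scheme.Opens.opensRange_ι]
      rw [← this]
      rfl
    rw [h1]
    exact (U'.ι ≫ j').isClosedMap.isClosed_range
  obtain ⟨e, he, hbe⟩ := exists_idempotent_of_isClopen (j' ''ᵁ U') hclosed
  refine ⟨e, he, hbe, ?_⟩
  refine mem_span_of_basicOpen_le he _ ?_
  rw [hbe, ← opensRange_jb f g j hjg b F hjrange]
  exact Scheme.Hom.image_le_opensRange _ _

end finite

end Groth.Agent.Lib.Helper87.UFO
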