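import Mathlib
import Groth.Agent.Lib.Helper87.UFO2
import Groth.Agent.Lib.Helper87.UFO3
import Groth.Agent.Lib.Helper87.UFO5

/-!
Assembly: the weakly universal finite open part of an affine quasi-finite finitely presented
morphism.
-/

set_option autoImplicit false
set_option linter.style.haveILetI false
set_option linter.unusedSectionVars false

universe u

open AlgebraicGeometry CategoryTheory Limits TensorProduct

namespace Groth.Agent.Lib.Helper87.UFO

lemma mem_span_range_map {R S : Type*} [CommRing R] [CommRing S] (ρ : R →+* S) {ι : Type*}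
    (v : ι → R) (w : ι → S) (h : ∀ k, ρ (v k) = w k) {x : R}
    (hx : x ∈ Ideal.span (Set.range v)) : ρ x ∈ Ideal.span (Set.range w) := by
  have := Ideal.mem_map_of_mem ρ hx
  rw [Ideal.map_span, ← Set.range_comp] at this
  have e : ρ ∘ v = w := funext h
  rwa [e] at this

set_option maxHeartbeats 1600000 in
theorem main_aux {X Xb Y : Scheme.{u}} (f : X ⟶ Y) (g : Xb ⟶ Y) (j : X ⟶ Xb) (hjg : j ≫ g = f)
    [IsAffine Xb] [IsAffine Y] [IsFinite g] [LocallyOfFinitePresentation g] [IsOpenImmersion j]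
    {n : ℕ} (F : Fin n → Γ(Xb, ⊤)) (hjrange : j.opensRange = ⨆ k, Xb.basicOpen (F k)) :
    ∃ (Yu : Scheme.{u}) (a : Yu ⟶ Y) (Uu : (pullback f a).Opens),
      LocallyOfFinitePresentation a ∧ QuasiCompact a ∧ QuasiSeparated a ∧
      IsFinite (Uu.ι ≫ pullback.snd f a) ∧
      ∀ (Y' : Scheme.{u}) (b : Y' ⟶ Y) (U' : (pullback f b).Opens), IsAffine Y' →
        IsFinite (U'.ι ≫ pullback.snd f b) →
        ∃ (c : Y' ⟶ Yu) (hc : c ≫ a = b),
          (pullback.map f b f a (𝟙 X) c (𝟙 Y)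
            ((Category.comp_id f).trans (Category.id_comp f).symm)
            ((Category.comp_id b).trans hc.symm)) ⁻¹ᵁ Uu = U' := by
  letI algBb : Algebra Γ(Y, ⊤) Γ(Xb, ⊤) := g.appTop.hom.toAlgebra
  have hfinBb : Module.Finite Γ(Y, ⊤) Γ(Xb, ⊤) := g.finite_appTop
  have hfpBb : Algebra.FinitePresentation Γ(Y, ⊤) Γ(Xb, ⊤) :=
    HasRingHomProperty.appTop (P := @LocallyOfFinitePresentation) g inferInstance
  obtain ⟨Au, _, _, hAufp, eu, heu_idem, heu_span, huniv⟩ :=
    exists_universal_idempotent Γ(Y, ⊤) Γ(Xb, ⊤) F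
  let ιu : Γ(Y, ⊤) ⟶ CommRingCat.of Au := CommRingCat.ofHom (algebraMap Γ(Y, ⊤) Au)
  let a : Spec (.of Au) ⟶ Y := Spec.map ιu ≫ Y.isoSpec.inv
  have ha_appTop : a.appTop = ιu ≫ (Scheme.ΓSpecIso (.of Au)).inv := by
    have h1 : Y.isoSpec.inv.appTop = (Scheme.ΓSpecIso Γ(Y, ⊤)).inv := by
      have := congrArg Scheme.Hom.appTop (Scheme.isoSpec_inv_toSpecΓ Y)
      rw [Scheme.Hom.comp_appTop, Scheme.toSpecΓ_appTop, Scheme.Hom.id_appTop] at this
      exact (Iso.hom_comp_eq_id _).mp this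
    rw [Scheme.Hom.comp_appTop, h1, Scheme.ΓSpecIso_inv_naturality]
  letI algYu : Algebra Γ(Y, ⊤) Γ(Spec (.of Au), ⊤) := a.appTop.hom.toAlgebra
  let σu : Au →ₐ[Γ(Y, ⊤)] Γ(Spec (.of Au), ⊤) :=
    { toRingHom := (Scheme.ΓSpecIso (.of Au)).inv.hom
      commutes' := fun r => by
        change _ = a.appTop.hom r
        rw [ha_appTop]
        rfl }
  obtain ⟨τa, hτa⟩ := exists_tau g a rfl rfl
  let ρa : Au ⊗[Γ(Y, ⊤)] Γ(Xb, ⊤) →+* Γ(pullback g a, ⊤) :=
    τa.toRingHom.comp
      (Algebra.TensorProduct.map σu (AlgHom.id Γ(Y, ⊤) Γ(Xb, ⊤))).toRingHom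
  have hρa : ∀ x y, ρa (x ⊗ₜ y) =
      (pullback.snd g a).appTop (σu x) * (pullback.fst g a).appTop y := by
    intro x y
    simp [ρa, hτa]
  let ebar : Γ(pullback g a, ⊤) := ρa eu
  have hebar_idem : IsIdempotentElem ebar := heu_idem.map ρa
  have hebar_span : ebar ∈ Ideal.span (Set.range fun k => (pullback.fst g a).appTop (F k)) := by
    refine mem_span_range_map ρa _ _ (fun k => ?_) heu_span
    rw [hρa, map_one, map_one, one_mul]
  have hle : (pullback g a).basicOpen ebar ≤ (jb f g j hjg a).opensRange := by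
    rw [opensRange_jb f g j hjg a F hjrange]
    exact basicOpen_le_iSup_of_mem_span _ hebar_span
  have hlfp : LocallyOfFinitePresentation a := by
    have : LocallyOfFinitePresentation (Spec.map ιu) := by
      rw [HasRingHomProperty.Spec_iff (P := @LocallyOfFinitePresentation)]
      exact RingHom.finitePresentation_algebraMap.mpr hAufp
    infer_instance
  refine ⟨Spec (.of Au), a, (jb f g j hjg a) ⁻¹ᵁ (pullback g a).basicOpen ebar, hlfp,
    inferInstance, inferInstance, isFinite_of_idempotent f g j hjg a ebar hebar_idem hle, ?_⟩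
  intro Y' b U' hY' hfin
  letI algY' : Algebra Γ(Y, ⊤) Γ(Y', ⊤) := b.appTop.hom.toAlgebra
  obtain ⟨τb, hτb⟩ := exists_tau g b rfl rfl
  obtain ⟨eΓ, heΓidem, heΓopen, heΓspan⟩ :=
    exists_idempotent_of_finite_open f g j hjg F hjrange b U' hfin
  let e' : Γ(Y', ⊤) ⊗[Γ(Y, ⊤)] Γ(Xb, ⊤) := τb.symm eΓ
  have he'_idem : IsIdempotentElem e' := heΓidem.map τb.symm.toRingHom
  have he'_span : e' ∈ Ideal.span (Set.range fun k =>
      ((1 : Γ(Y', ⊤)) ⊗ₜ[Γ(Y, ⊤)] F k : Γ(Y', ⊤) ⊗[Γ(Y, ⊤)] Γ(Xb, ⊤))) := by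
    refine mem_span_range_map τb.symm.toRingHom _ _ (fun k => ?_) heΓspan
    change τb.symm _ = _
    rw [RingEquiv.symm_apply_eq, hτb, map_one, one_mul]
  obtain ⟨γ, hγ⟩ := huniv Γ(Y', ⊤) e' he'_idem he'_span
  let γ' : CommRingCat.of Au ⟶ Γ(Y', ⊤) := CommRingCat.ofHom (γ : Au →+* Γ(Y', ⊤))
  let c : Y' ⟶ Spec (.of Au) := Y'.toSpecΓ ≫ Spec.map γ'
  have hc_appTop : c.appTop = (Scheme.ΓSpecIso (.of Au)).hom ≫ γ' := by
    rw [Scheme.Hom.comp_appTop, Scheme.toSpecΓ_appTop, Scheme.ΓSpecIso_naturality]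
  have hιγ : ιu ≫ γ' = b.appTop := by
    ext r
    exact γ.commutes r
  have hc : c ≫ a = b := by
    change (Y'.toSpecΓ ≫ Spec.map γ') ≫ Spec.map ιu ≫ Y.isoSpec.inv = b
    rw [Category.assoc, ← Category.assoc (Spec.map γ'), ← Spec.map_comp, hιγ,
      ← Category.assoc, ← Scheme.toSpecΓ_naturality, Category.assoc,
      Scheme.toSpecΓ_isoSpec_inv, Category.comp_id]
  refine ⟨c, hc, ?_⟩
  set m_f := pullback.map f b f a (𝟙 X) c (𝟙 Y)
    ((Category.comp_id f).trans (Category.id_comp f).symm)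
    ((Category.comp_id b).trans hc.symm) with hm_f
  let m_g := pullback.map g b g a (𝟙 Xb) c (𝟙 Y)
    ((Category.comp_id g).trans (Category.id_comp g).symm)
    ((Category.comp_id b).trans hc.symm)
  have m_f_fst : m_f ≫ pullback.fst f a = pullback.fst f b := by
    rw [hm_f]
    exact (pullback.lift_fst _ _ _).trans (Category.comp_id _)
  have m_f_snd : m_f ≫ pullback.snd f a = pullback.snd f b ≫ c := by
    rw [hm_f]
    exact pullback.lift_snd _ _ _
  have m_g_fst : m_g ≫ pullback.fst g a = pullback.fst g b :=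
    (pullback.lift_fst _ _ _).trans (Category.comp_id _)
  have m_g_snd : m_g ≫ pullback.snd g a = pullback.snd g b ≫ c :=
    pullback.lift_snd _ _ _
  have hcomm : m_f ≫ jb f g j hjg a = jb f g j hjg b ≫ m_g := by
    apply pullback.hom_ext
    · rw [Category.assoc, jb_fst, ← Category.assoc, m_f_fst, Category.assoc, m_g_fst, jb_fst]
    · calc (m_f ≫ jb f g j hjg a) ≫ pullback.snd g a = m_f ≫ pullback.snd f a := by
            rw [Category.assoc, jb_snd]
        _ = pullback.snd f b ≫ c := m_f_snd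
        _ = (jb f g j hjg b ≫ pullback.snd g b) ≫ c := by rw [jb_snd]
        _ = (jb f g j hjg b ≫ m_g) ≫ pullback.snd g a := by
            rw [Category.assoc, Category.assoc, m_g_snd]
  have hnat : ∀ t : Au ⊗[Γ(Y, ⊤)] Γ(Xb, ⊤), m_g.appTop (ρa t) =
      τb (Algebra.TensorProduct.map γ (AlgHom.id Γ(Y, ⊤) Γ(Xb, ⊤)) t) := by
    intro t
    induction t using TensorProduct.induction_on with
    | zero => simp
    | add x y hx hy => simp only [map_add, hx, hy]
    | tmul x y =>
      rw [hρa, map_mul]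
      have h1 : m_g.appTop ((pullback.fst g a).appTop y) = (pullback.fst g b).appTop y := by
        have := congrArg (fun φ => Scheme.Hom.appTop φ) m_g_fst
        simp only [Scheme.Hom.comp_appTop] at this
        exact congrArg (fun φ => φ.hom y) this
      have h2 : m_g.appTop ((pullback.snd g a).appTop (σu x)) =
          (pullback.snd g b).appTop (γ x) := by
        have := congrArg (fun φ => Scheme.Hom.appTop φ) m_g_snd
        simp only [Scheme.Hom.comp_appTop] at this
        have h3 := congrArg (fun φ => φ.hom (σu x)) this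
        have h4 : c.appTop (σu x) = γ x := by
          rw [hc_appTop]
          change γ' ((Scheme.ΓSpecIso (.of Au)).hom ((Scheme.ΓSpecIso (.of Au)).inv x)) = γ x
          rw [Iso.inv_hom_id_apply]
          rfl
        simp only [CommRingCat.hom_comp, RingHom.comp_apply] at h3
        rw [h4] at h3
        exact h3
      rw [h1, h2]
      simp [hτb]
  have hkey : m_g.appTop ebar = eΓ := by
    change m_g.appTop (ρa eu) = eΓ
    rw [hnat, hγ]
    exact τb.apply_symm_apply eΓ
  change m_f ⁻¹ᵁ ((jb f g j hjg a) ⁻¹ᵁ (pullback g a).basicOpen ebar) = U'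
  rw [← Scheme.Hom.comp_preimage, hcomm, Scheme.Hom.comp_preimage,
    Scheme.preimage_basicOpen_top, hkey, heΓopen, Scheme.Hom.preimage_image_eq]

theorem main {X Y : Scheme.{u}} (f : X ⟶ Y) [IsAffine X] [IsAffine Y] [LocallyQuasiFinite f]
    [LocallyOfFinitePresentation f] :
    ∃ (Yu : Scheme.{u}) (a : Yu ⟶ Y) (Uu : (pullback f a).Opens),
      LocallyOfFinitePresentation a ∧ QuasiCompact a ∧ QuasiSeparated a ∧
      IsFinite (Uu.ι ≫ pullback.snd f a) ∧
      ∀ (Y' : Scheme.{u}) (b : Y' ⟶ Y) (U' : (pullback f b).Opens), IsAffine Y' →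
        IsFinite (U'.ι ≫ pullback.snd f b) →
        ∃ (c : Y' ⟶ Yu) (hc : c ≫ a = b),
          (pullback.map f b f a (𝟙 X) c (𝟙 Y)
            ((Category.comp_id f).trans (Category.id_comp f).symm)
            ((Category.comp_id b).trans hc.symm)) ⁻¹ᵁ Uu = U' := by
  obtain ⟨Xb, j, g, n, F, hXb, hgfin, hgfp, hjg, hjopen, hjrange⟩ := exists_compactification f
  exact main_aux f g j hjg F hjrange

end Groth.Agent.Lib.Helper87.UFO
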