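import Mathlib
import Groth.Agent.Lib.Helper87.UnivOpenRing

/-!
# Universal openness of quasi-finite maps over geometrically unibranch bases
-/

set_option autoImplicit false
set_option linter.style.haveILetI false
universe u

open CategoryTheory CategoryTheory.Limits AlgebraicGeometry TensorProduct MorphismProperty

namespace Groth.Agent.Lib.Helper87.UnivOpen

theorem universallyOpen_specMap {A B : CommRingCat.{u}} (φ : A ⟶ B)
    (hfp : φ.hom.FinitePresentation)
    (H : letI := φ.hom.toAlgebra
      ∀ (R : Type u) [CommRing R] [Algebra A R], Algebra.HasGoingDown R (R ⊗[A] B)) :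
    UniversallyOpen (Spec.map φ) := by
  refine ⟨universally_mk' _ _ fun {T} g _ ↦ ?_⟩
  wlog hT : ∃ R, T = Spec R generalizing T
  · refine (IsZariskiLocalAtTarget.iff_of_openCover T.affineCover).mpr fun i ↦ ?_
    refine (MorphismProperty.cancel_left_of_respectsIso _
      ((pullbackRightPullbackFstIso ..).inv ≫ (pullbackSymmetry ..).hom) _).mp ?_
    simpa [Scheme.Cover.pullbackHom] using! this _ _ ⟨_, rfl⟩
  obtain ⟨R, rfl⟩ := hT
  obtain ⟨ψ, rfl⟩ := Spec.map_surjective g
  algebraize [φ.hom, ψ.hom]
  refine (MorphismProperty.cancel_left_of_respectsIso _ (pullbackSpecIso A R B).inv _).mp ?_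
  convert_to! topologically _ (Spec.map <| CommRingCat.ofHom (algebraMap R (TensorProduct A R B)))
  · exact pullbackSpecIso_inv_fst ..
  haveI := H R
  exact PrimeSpectrum.isOpenMap_comap_of_hasGoingDown_of_finitePresentation

theorem universallyOpen_of_locallyQuasiFinite {X Y : Scheme.{u}} (f : X ⟶ Y) [LocallyQuasiFinite f]
    [LocallyOfFiniteType f] [IsLocallyNoetherian Y]
    (hY : ∀ y : Y, CAlg2.IsGeomUnibranch (Y.presheaf.stalk y))
    (hdom : ∀ x ∈ genericPoints X, f x ∈ genericPoints Y) : UniversallyOpen f := by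
  have := HasRingHomProperty.of_isZariskiLocalAtSource_of_isZariskiLocalAtTarget.{u}
    @UniversallyOpen
  rw [HasRingHomProperty.iff_appLE (P := @UniversallyOpen)]
  intro U V e
  have hft : (f.appLE U V e).hom.FiniteType :=
    HasRingHomProperty.appLE @LocallyOfFiniteType f ‹_› U V e
  have hqf : (f.appLE U V e).hom.QuasiFinite :=
    HasRingHomProperty.appLE @LocallyQuasiFinite f ‹_› U V e
  haveI : IsNoetherianRing Γ(Y, U) := IsLocallyNoetherian.component_noetherian U
  apply universallyOpen_specMap
  · exact RingHom.FinitePresentation.of_finiteType.mp hft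
  · intro R _ _
    letI := (f.appLE U V e).hom.toAlgebra
    haveI : Algebra.FiniteType Γ(Y, U) Γ(X, V) := hft
    haveI : Algebra.QuasiFinite Γ(Y, U) Γ(X, V) := hqf
    refine hasGoingDown_tensor Γ(Y, U) Γ(X, V) ?_ ?_ R
    · intro b hb
      haveI := hb.1.1
      obtain ⟨x, hx, h⟩ := GUScheme.exists_eq_primeIdealOf V.2 b
      subst h
      have h1 : x ∈ genericPoints X := (GUScheme.mem_genericPoints_iff V.2 x hx).mpr hb
      have h2 := (GUScheme.mem_genericPoints_iff U.2 (f x) (e hx)).mp (hdom x h1)
      have h3 := congr($(IsAffineOpen.comap_primeIdealOf_appLE U.1 U.2 V.1 V.2 e hx).1)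
      rw [← h3] at h2
      exact h2
    · intro p _
      obtain ⟨y, hy, h⟩ := GUScheme.exists_eq_primeIdealOf U.2 p
      subst h
      exact (GUScheme.pgu_stalk_iff U.2 y hy).mp (hY y)

end Groth.Agent.Lib.Helper87.UnivOpen
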