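import Groth.Agent.Lib.Helper87.WtPush
import Groth.Agent.Lib.Helper87.LenWt7
/-!
# Bounds for the number of geometric points of the fibres of a finite morphism (helper87)
-/

set_option autoImplicit false
set_option linter.style.haveILetI false
universe u

open CategoryTheory CategoryTheory.Limits AlgebraicGeometry TopologicalSpace Topology

namespace Groth.Agent.Lib.Helper87.WtBound

open Groth.Agent.Lib.Helper57 Groth.Agent.Lib.Helper57.Wt Groth.Agent.Lib.Helper87.WtPush
open Groth.Agent.Lib.Helper87.LenWt

theorem deg_nonneg {P V : Scheme.{u}} (q : P ⟶ V) (p : P) : 0 ≤ deg q p := by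
  unfold deg
  exact Int.natCast_nonneg _

/-- Pointwise formula for the integral over the source of an injective morphism with trivial
residue field extensions. -/
theorem fibreIntegral_immersion {W P V : Scheme.{u}} (j : W ⟶ P)
    (hinj : Function.Injective j) (hres : ∀ u, Function.Bijective (j.residueFieldMap u).hom)
    (q : P ⟶ V) (w : P → ℤ) (v : V) :
    MoreMor.fibreIntegral (j ≫ q) (fun u => w (j u)) v =
      ∑ᶠ p ∈ {p : P | p ∈ Set.range j ∧ q p = v}, w p * deg q p := by
  rw [fibreIntegral_eq, ← finsum_set_coe_eq_finsum_mem]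
  let e : {u : W // (j ≫ q) u = v} → ↥{p : P | p ∈ Set.range j ∧ q p = v} :=
    fun u => ⟨j u.1, ⟨u.1, rfl⟩, u.2⟩
  have he : Function.Bijective e := by
    constructor
    · intro u₁ u₂ h
      apply Subtype.ext
      exact hinj (congrArg Subtype.val h)
    · rintro ⟨_, ⟨u, rfl⟩, hu⟩
      exact ⟨⟨u, hu⟩, rfl⟩
  refine finsum_eq_of_bijective e he fun u => ?_
  rw [deg_comp_of_bijective j q u.1 (hres u.1)]

theorem fibreIntegral_immersion_le {W P V : Scheme.{u}} (j : W ⟶ P)
    (hinj : Function.Injective j) (hres : ∀ u, Function.Bijective (j.residueFieldMap u).hom)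
    (q : P ⟶ V) (w : P → ℤ) (hw : ∀ p, 0 ≤ w p) (v : V) (hfin : {p : P | q p = v}.Finite) :
    MoreMor.fibreIntegral (j ≫ q) (fun u => w (j u)) v ≤ MoreMor.fibreIntegral q w v := by
  rw [fibreIntegral_immersion j hinj hres, fibreIntegral_eq_finsum_mem]
  exact finsum_mem_le_of_subset (fun p hp => hp.2) hfin
    (fun p _ => mul_nonneg (hw p) (deg_nonneg q p))

theorem isOpenImmersion_residue_bijective {W P : Scheme.{u}} (j : W ⟶ P) [IsOpenImmersion j]
    (u : W) : Function.Bijective (j.residueFieldMap u).hom :=
  ConcreteCategory.bijective_of_isIso (j.residueFieldMap u)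

/-- The count of geometric points is at most the integral of the weight. -/
theorem fibreIntegral_one_le_wt {P V : Scheme.{u}} (q : P ⟶ V) [LocallyQuasiFinite q]
    [LocallyOfFiniteType q] (v : V) (hfin : (q ⁻¹' {v}).Finite) :
    MoreMor.fibreIntegral q (fun _ => 1) v ≤ MoreMor.fibreIntegral q (wt q) v := by
  rw [fibreIntegral_eq_sum q _ v hfin, fibreIntegral_eq_sum q _ v hfin]
  refine Finset.sum_le_sum fun p _ => ?_
  have h1 := wt_pos q p
  have h2 := deg_nonneg q p
  nlinarith

/-- **Bound for finite morphisms to an affine scheme**. -/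
theorem exists_bound_of_finite (A C : Type u) [CommRing A] [CommRing C] [Algebra A C]
    [Module.Finite A C] :
    ∃ N : ℤ, ∀ y, MoreMor.fibreIntegral (Spec.map (CommRingCat.ofHom (algebraMap A C)))
      (fun _ => 1) y ≤ N := by
  obtain ⟨C'', _, _, _, _, _, fC, hfC⟩ := Module.Finite.exists_free_surjective A C
  let h'' : Spec (CommRingCat.of C'') ⟶ Spec (CommRingCat.of A) :=
    Spec.map (CommRingCat.ofHom (algebraMap A C''))
  let c : Spec (CommRingCat.of C) ⟶ Spec (CommRingCat.of C'') :=
    Spec.map (CommRingCat.ofHom fC.toRingHom)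
  haveI : IsClosedImmersion c := IsClosedImmersion.spec_of_surjective _ hfC
  have hch : c ≫ h'' = Spec.map (CommRingCat.ofHom (algebraMap A C)) := by
    rw [← Spec.map_comp]
    congr 1
    ext a
    exact fC.commutes a
  haveI : IsFinite h'' := by
    rw [IsFinite.SpecMap_iff]
    exact (RingHom.finite_algebraMap).mpr inferInstance
  haveI : Flat h'' := by
    rw [Flat.SpecMap_iff]
    exact (RingHom.flat_algebraMap_iff).mpr inferInstance
  haveI : LocallyOfFinitePresentation h'' := by
    rw [LocallyOfFinitePresentation.SpecMap_iff]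
    exact (RingHom.finitePresentation_algebraMap).mpr inferInstance
  have hlc := Scheme.Hom.isLocallyConstant_finrank h''
  obtain ⟨N, hN⟩ := hlc.range_finite.bddAbove
  refine ⟨(N : ℤ), fun y => ?_⟩
  rw [← hch]
  have hfin : {p : ↥(Spec (CommRingCat.of C'')) | h'' p = y}.Finite :=
    Scheme.Hom.finite_preimage_singleton h'' y
  have h1 := fibreIntegral_immersion_le c c.isClosedEmbedding.injective
    (fun u => Groth.Agent.Lib.Helper87.LenWt.residueFieldMap_bijective_of_isPreimmersion c u)
    h'' (fun _ => 1) (fun _ => zero_le_one) y hfin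
  refine h1.trans ((fibreIntegral_one_le_wt h'' y hfin).trans ?_)
  rw [fibreIntegral_wt_eq_finrank h'' y]
  exact_mod_cast hN ⟨y, rfl⟩

end Groth.Agent.Lib.Helper87.WtBound
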