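import Groth.Agent.Lib.Helper87.WtBound1
/-!
# Bounds for the number of geometric points of the fibres of a quasi-finite morphism of affine
schemes (helper87)
-/

set_option autoImplicit false
set_option linter.style.haveILetI false
universe u

open CategoryTheory CategoryTheory.Limits AlgebraicGeometry TopologicalSpace Topology

namespace Groth.Agent.Lib.Helper87.WtBound

open Groth.Agent.Lib.Helper57 Groth.Agent.Lib.Helper57.Wt Groth.Agent.Lib.Helper87.WtPush
open Groth.Agent.Lib.Helper87.LenWt

/-- Subadditivity of the count of geometric points over a finite cover by opens. -/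
theorem fibreIntegral_one_le_sum {X Y : Scheme.{u}} (f : X ⟶ Y) {I : Type*} [Fintype I]
    {W : I → Scheme.{u}} (j : ∀ i, W i ⟶ X) [∀ i, IsOpenImmersion (j i)]
    (hcov : ∀ x : X, ∃ i, x ∈ Set.range (j i)) (y : Y) (hfin : (f ⁻¹' {y}).Finite) :
    MoreMor.fibreIntegral f (fun _ => 1) y ≤
      ∑ i, MoreMor.fibreIntegral (j i ≫ f) (fun _ => 1) y := by
  classical
  rw [fibreIntegral_eq_sum f _ y hfin]
  have hterm : ∀ i, MoreMor.fibreIntegral (j i ≫ f) (fun _ => 1) y =
      ∑ p ∈ hfin.toFinset, if p ∈ Set.range (j i) then (1 : ℤ) * deg f p else 0 := by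
    intro i
    have h1 := fibreIntegral_openImmersion (j i) f (fun _ => 1) y
    rw [h1]
    have hfi : {p : X | p ∈ Set.range (j i) ∧ f p = y}.Finite :=
      hfin.subset fun p hp => hp.2
    rw [finsum_mem_eq_finite_toFinset_sum _ hfi, ← Finset.sum_filter]
    refine Finset.sum_congr ?_ fun _ _ => rfl
    ext p
    simp only [Set.Finite.mem_toFinset, Set.mem_ofPred_eq, Finset.mem_filter, Set.mem_preimage,
      Set.mem_singleton_iff]
    tauto
  simp_rw [hterm]
  rw [Finset.sum_comm]
  refine Finset.sum_le_sum fun p _ => ?_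
  obtain ⟨i₀, hi₀⟩ := hcov p
  have hnn : ∀ i ∈ Finset.univ, 0 ≤ (if p ∈ Set.range (j i) then (1 : ℤ) * deg f p else 0) := by
    intro i _
    split_ifs
    · rw [one_mul]; exact deg_nonneg f p
    · exact le_refl _
  have h2 := Finset.single_le_sum hnn (Finset.mem_univ i₀)
  rw [if_pos hi₀] at h2
  exact h2

/-- One chart of the local form of the main theorem of Zariski. -/
theorem exists_bound_away (A B : Type u) [CommRing A] [CommRing B] [Algebra A B]
    (S' : Subalgebra A B) (hS' : S'.toSubmodule.FG) (r : S')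
    (hbij : Function.Bijective (Localization.awayMap S'.val.toRingHom r)) :
    ∃ N : ℤ, ∀ y, MoreMor.fibreIntegral
      (Spec.map (CommRingCat.ofHom (algebraMap B (Localization.Away (S'.val.toRingHom r)))) ≫
        Spec.map (CommRingCat.ofHom (algebraMap A B))) (fun _ => 1) y ≤ N := by
  haveI hfinS : Module.Finite A S' := Module.Finite.iff_fg.mpr hS'
  obtain ⟨N, hN⟩ := exists_bound_of_finite A S'
  refine ⟨N, fun y => ?_⟩
  let h : Spec (CommRingCat.of S') ⟶ Spec (CommRingCat.of A) :=
    Spec.map (CommRingCat.ofHom (algebraMap A S'))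
  let jC : Spec (CommRingCat.of (Localization.Away r)) ⟶ Spec (CommRingCat.of S') :=
    Spec.map (CommRingCat.ofHom (algebraMap S' (Localization.Away r)))
  let e : Localization.Away r ≃+* Localization.Away (S'.val.toRingHom r) :=
    RingEquiv.ofBijective _ hbij
  let θ : Spec (CommRingCat.of (Localization.Away (S'.val.toRingHom r))) ⟶
      Spec (CommRingCat.of (Localization.Away r)) :=
    Spec.map (CommRingCat.ofHom e.toRingHom)
  haveI : IsIso θ := by
    have : IsIso (CommRingCat.ofHom e.toRingHom) :=
      (e.toCommRingCatIso).isIso_hom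
    infer_instance
  haveI : IsOpenImmersion jC := inferInstance
  have key : Spec.map (CommRingCat.ofHom (algebraMap B (Localization.Away (S'.val.toRingHom r)))) ≫
      Spec.map (CommRingCat.ofHom (algebraMap A B)) = (θ ≫ jC) ≫ h := by
    rw [← Spec.map_comp, ← Spec.map_comp, ← Spec.map_comp]
    congr 1
    ext a
    show algebraMap B _ (algebraMap A B a) =
      Localization.awayMap S'.val.toRingHom r (algebraMap S' _ (algebraMap A S' a))
    rw [Localization.awayMap, IsLocalization.Away.map, IsLocalization.map_eq]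
    rfl
  rw [key]
  have hfin : {p : ↥(Spec (CommRingCat.of S')) | h p = y}.Finite := by
    haveI : IsFinite h := by
      rw [IsFinite.SpecMap_iff]
      exact (RingHom.finite_algebraMap).mpr inferInstance
    exact Scheme.Hom.finite_preimage_singleton h y
  have h1 := fibreIntegral_immersion_le (θ ≫ jC) (θ ≫ jC).isOpenEmbedding.injective
    (fun u => isOpenImmersion_residue_bijective (θ ≫ jC) u)
    h (fun _ => 1) (fun _ => zero_le_one) y hfin
  exact h1.trans (hN y)

/-- **Bound for quasi-finite morphisms of affine schemes.** -/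
theorem exists_bound_of_quasiFinite (A B : Type u) [CommRing A] [CommRing B] [Algebra A B]
    [Algebra.FiniteType A B] [Algebra.QuasiFinite A B] :
    ∃ N : ℤ, ∀ y, MoreMor.fibreIntegral (Spec.map (CommRingCat.ofHom (algebraMap A B)))
      (fun _ => 1) y ≤ N := by
  classical
  set g : Spec (CommRingCat.of B) ⟶ Spec (CommRingCat.of A) :=
    Spec.map (CommRingCat.ofHom (algebraMap A B)) with hg
  haveI : LocallyQuasiFinite g := by
    rw [hg, HasRingHomProperty.Spec_iff (P := @LocallyQuasiFinite)]
    exact RingHom.quasiFinite_algebraMap.mpr inferInstance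
  have key : ∀ p : PrimeSpectrum B, ∃ (r : B) (N : ℤ), r ∉ p.asIdeal ∧
      ∀ y, MoreMor.fibreIntegral
        (Spec.map (CommRingCat.ofHom (algebraMap B (Localization.Away r))) ≫ g)
        (fun _ => 1) y ≤ N := by
    intro p
    obtain ⟨S', hS', r, hr, hbij⟩ :=
      Algebra.QuasiFiniteAt.exists_fg_and_exists_notMem_and_awayMap_bijective (R := A) p.asIdeal
    obtain ⟨N, hN⟩ := exists_bound_away A B S' hS' r hbij
    exact ⟨S'.val.toRingHom r, N, hr, hN⟩
  choose r N hr hN using key
  -- finite subcover
  have hcomp : IsCompact (Set.univ : Set (PrimeSpectrum B)) := isCompact_univ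
  obtain ⟨t, ht⟩ := hcomp.elim_finite_subcover
    (fun p : PrimeSpectrum B => (PrimeSpectrum.basicOpen (r p) : Set (PrimeSpectrum B)))
    (fun p => (PrimeSpectrum.basicOpen (r p)).2)
    (fun p _ => Set.mem_iUnion.mpr ⟨p, hr p⟩)
  refine ⟨∑ p : ↥t, N p.1, fun y => ?_⟩
  let j : ∀ p : ↥t, Spec (CommRingCat.of (Localization.Away (r p.1))) ⟶ Spec (CommRingCat.of B) :=
    fun p => Spec.map (CommRingCat.ofHom (algebraMap B (Localization.Away (r p.1))))
  have hcov : ∀ x : ↥(Spec (CommRingCat.of B)), ∃ p : ↥t, x ∈ Set.range (j p) := by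
    intro x
    have hx := ht (Set.mem_univ (show PrimeSpectrum B from x))
    obtain ⟨p, hpt, hxp⟩ := Set.mem_iUnion₂.mp hx
    refine ⟨⟨p, hpt⟩, ?_⟩
    have h1 := PrimeSpectrum.localization_away_comap_range (Localization.Away (r p)) (r p)
    have h2 : (show PrimeSpectrum B from x) ∈
        Set.range (PrimeSpectrum.comap (algebraMap B (Localization.Away (r p)))) := by
      rw [h1]; exact hxp
    obtain ⟨z, hz⟩ := h2
    exact ⟨z, hz⟩
  haveI : QuasiCompact g := inferInstance
  have hfin : (g ⁻¹' {y}).Finite := Scheme.Hom.finite_preimage_singleton g y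
  refine (fibreIntegral_one_le_sum g j hcov y hfin).trans ?_
  exact Finset.sum_le_sum fun p _ => hN p.1 y

end Groth.Agent.Lib.Helper87.WtBound
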