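import Groth.Agent.Lib.Helper87.WtFin
/-!
# Level sets of a weighting are locally constructible (helper87)
-/

set_option autoImplicit false
set_option linter.style.haveILetI false
universe u

open CategoryTheory CategoryTheory.Limits AlgebraicGeometry TopologicalSpace Topology

namespace Groth.Agent.Lib.Helper87.WtLevel

open Groth.Agent.Lib.Helper57 Groth.Agent.Lib.Helper57.Wt Groth.Agent.Lib.Helper87.WtPush
open Groth.Agent.Lib.Helper87.WtDiag Groth.Agent.Lib.Helper87.WtFin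

/-- The case of an affine source. -/
theorem isLocallyConstructible_level_of_isAffine {X Y : Scheme.{u}} (f : X ⟶ Y) [IsAffine X]
    [LocallyQuasiFinite f] [LocallyOfFiniteType f] (w : X → ℤ) (hw : MoreMor.IsWeighting f w)
    (n : ℤ) : IsLocallyConstructible {x : X | w x = n} := by
  intro x
  obtain ⟨V₀, a, v₀, ha, hav, J, hJ, Vp, vp, hVp, hvinj, hcov⟩ :=
    EtRes.exists_etale_nbhd_purelyInseparable_open f (f x) (fun _ : Unit => x)
      (fun _ _ _ => Subsingleton.elim _ _) (fun _ => rfl) (fun _ => f.quasiFiniteAt _)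
  obtain ⟨p₀, hp₀1, hp₀2⟩ := Scheme.Pullback.exists_preimage_pullback (f := f) (g := a) x v₀
    hav.symm
  obtain ⟨j₀, hj₀⟩ := hcov p₀ () hp₀2 hp₀1
  obtain ⟨hvQ, hQfin, hvv₀, -, -, hvx⟩ := hVp () j₀
  let Q : (pullback f a).Opens := Vp () j₀
  let r : (Q : Scheme.{u}) ⟶ V₀ := Q.ι ≫ pullback.snd f a
  haveI : IsFinite r := hQfin
  obtain ⟨(N : V₀.Opens), hN, hv₀N, -⟩ := Opens.isBasis_iff_nbhd.mp V₀.isBasis_affineOpens
    (show v₀ ∈ (⊤ : V₀.Opens) from trivial)
  haveI hNaff : IsAffine N.toScheme := hN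
  let rN : ((r ⁻¹ᵁ N : (Q : Scheme.{u}).Opens) : Scheme.{u}) ⟶ N.toScheme := r ∣_ N
  haveI : IsFinite rN := inferInstance
  haveI hsrcaff : IsAffine ((r ⁻¹ᵁ N : (Q : Scheme.{u}).Opens) : Scheme.{u}) :=
    isAffine_of_isAffineHom rN
  let wP : ↥(pullback f a) → ℤ := w ∘ pullback.fst f a
  have hwP : MoreMor.IsWeighting (pullback.snd f a) wP :=
    isWeighting_baseChange f w hw _ _ a (IsPullback.of_hasPullback f a)
  let wQ : ↥(Q : Scheme.{u}) → ℤ := fun u => wP (Q.ι u)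
  have hwQ : MoreMor.IsWeighting r wQ := isWeighting_restrict (pullback.snd f a) wP hwP Q
  let wN : ↥((r ⁻¹ᵁ N : (Q : Scheme.{u}).Opens) : Scheme.{u}) → ℤ := wQ ∘ (r ⁻¹ᵁ N).ι
  have hwN : MoreMor.IsWeighting rN wN :=
    isWeighting_baseChange r wQ hwQ rN (r ⁻¹ᵁ N).ι N.ι (isPullback_morphismRestrict r N).flip
  have hB := isConstructible_level_of_isFinite rN wN hwN n
  let j₁ : ((r ⁻¹ᵁ N : (Q : Scheme.{u}).Opens) : Scheme.{u}) ⟶ X :=
    (r ⁻¹ᵁ N).ι ≫ Q.ι ≫ pullback.fst f a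
  haveI : Etale j₁ := inferInstance
  haveI : LocallyOfFinitePresentation j₁ := inferInstance
  haveI : QuasiCompact j₁ := inferInstance
  have himg := j₁.isConstructible_image hB
  have himg_eq : j₁ '' {u | wN u = n} = {x : X | w x = n} ∩ Set.range j₁ := by
    ext z
    constructor
    · rintro ⟨u, hu, rfl⟩
      exact ⟨hu, u, rfl⟩
    · rintro ⟨hz, u, rfl⟩
      exact ⟨u, hz, rfl⟩
  rw [himg_eq] at himg
  have hopen : IsOpen (Set.range j₁) := j₁.isOpenMap.isOpen_range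
  have hxmem : x ∈ Set.range j₁ := by
    have h1 : r ⟨vp () j₀, hvQ⟩ = v₀ := hvv₀
    refine ⟨⟨⟨vp () j₀, hvQ⟩, ?_⟩, ?_⟩
    · show r ⟨vp () j₀, hvQ⟩ ∈ N
      rw [h1]; exact hv₀N
    · exact hvx
  refine ⟨Set.range j₁, hopen.mem_nhds hxmem, hopen, ?_⟩
  have h2 := himg.preimage_of_isOpenEmbedding hopen.isOpenEmbedding_subtypeVal
  convert h2 using 1
  ext z
  simp only [Set.mem_preimage, Set.mem_inter_iff, Set.mem_ofPred_eq]
  exact ⟨fun h => ⟨h, z.2⟩, fun h => h.1⟩

/-- **Level sets of a weighting are locally constructible.** -/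
theorem isLocallyConstructible_level_w {X Y : Scheme.{u}} (f : X ⟶ Y)
    [LocallyQuasiFinite f] [LocallyOfFiniteType f] (w : X → ℤ) (hw : MoreMor.IsWeighting f w)
    (n : ℤ) : IsLocallyConstructible {x : X | w x = n} := by
  have hcover : IsOpenCover (fun U : X.affineOpens => (U.1 : X.Opens)) :=
    iSup_affineOpens_eq_top X
  refine .of_isOpenCover hcover fun U => ?_
  haveI : IsAffine U.1.toScheme := U.2
  exact isLocallyConstructible_level_of_isAffine (U.1.ι ≫ f) (fun x => w (U.1.ι x))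
    (isWeighting_restrict f w hw U.1) n

end Groth.Agent.Lib.Helper87.WtLevel
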