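import Groth.Agent.Lib.Helper87.WtBound2
import Groth.Agent.Lib.Helper87.WtLevel
/-!
# The fibre integral of a weighting attains its maximum when the source is quasi-compact
(helper87)
-/

set_option autoImplicit false
set_option linter.style.haveILetI false
universe u

open CategoryTheory CategoryTheory.Limits AlgebraicGeometry TopologicalSpace Topology

namespace Groth.Agent.Lib.Helper87.WtBound

open Groth.Agent.Lib.Helper57 Groth.Agent.Lib.Helper57.Wt Groth.Agent.Lib.Helper87.WtPush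
open Groth.Agent.Lib.Helper87.LenWt

/-- Composition with an open immersion on the target does not change the fibre integral. -/
theorem fibreIntegral_comp_openImmersion {P Q Y : Scheme.{u}} (g : P ⟶ Q) (j : Q ⟶ Y)
    [IsOpenImmersion j] [LocallyQuasiFinite g] [LocallyOfFiniteType g] (w : P → ℤ) (y' : Q) :
    MoreMor.fibreIntegral (g ≫ j) w (j y') = MoreMor.fibreIntegral g w y' := by
  rw [fibreIntegral_eq_finsum_mem, fibreIntegral_eq_finsum_mem]
  have hset : {p : P | (g ≫ j) p = j y'} = {p : P | g p = y'} := by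
    ext p
    simp only [Set.mem_ofPred_eq, Scheme.Hom.comp_apply]
    exact ⟨fun h => j.isOpenEmbedding.injective h, fun h => by rw [h]⟩
  rw [hset]
  refine finsum_mem_congr rfl fun p _ => ?_
  rw [deg_comp g j p (finite_residueFieldMap g p), deg_of_isOpenImmersion j (g p), mul_one]

theorem fibreIntegral_comp_openImmersion_of_notMem {P Q Y : Scheme.{u}} (g : P ⟶ Q) (j : Q ⟶ Y)
    (w : P → ℤ) (y : Y) (hy : y ∉ Set.range j) :
    MoreMor.fibreIntegral (g ≫ j) w y = 0 := by
  rw [fibreIntegral_eq_finsum_mem]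
  have hset : {p : P | (g ≫ j) p = y} = ∅ := by
    ext p
    simp only [Set.mem_ofPred_eq, Scheme.Hom.comp_apply, Set.mem_empty_iff_false, iff_false]
    intro h
    exact hy ⟨g p, h⟩
  rw [hset, finsum_mem_empty]

/-- One affine chart: the count of geometric points over a chart is bounded. -/
theorem exists_bound_chart {X Y : Scheme.{u}} (f : X ⟶ Y) [LocallyQuasiFinite f]
    [LocallyOfFiniteType f] {U : X.Opens} {V : Y.Opens} (hU : IsAffineOpen U)
    (hV : IsAffineOpen V) (e : U ≤ f ⁻¹ᵁ V) :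
    ∃ N : ℤ, 0 ≤ N ∧ (∀ y, MoreMor.fibreIntegral (hU.fromSpec ≫ f) (fun _ => 1) y ≤ N) ∧
      ∀ y, ((hU.fromSpec ≫ f) ⁻¹' {y}).Finite := by
  let φ : Γ(Y, V) ⟶ Γ(X, U) := f.appLE V U e
  letI alg : Algebra Γ(Y, V) Γ(X, U) := φ.hom.toAlgebra
  haveI hft : Algebra.FiniteType Γ(Y, V) Γ(X, U) := f.finiteType_appLE hV hU e
  haveI hqf : Algebra.QuasiFinite Γ(Y, V) Γ(X, U) :=
    LocallyQuasiFinite.quasiFinite_appLE (f := f) hV hU e
  obtain ⟨N, hN⟩ := exists_bound_of_quasiFinite Γ(Y, V) Γ(X, U)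
  have hφ : Spec.map (CommRingCat.ofHom (algebraMap Γ(Y, V) Γ(X, U))) = Spec.map φ := rfl
  rw [hφ] at hN
  have hcomp : hU.fromSpec ≫ f = Spec.map φ ≫ hV.fromSpec :=
    (IsAffineOpen.SpecMap_appLE_fromSpec f hV hU e).symm
  haveI : LocallyQuasiFinite (Spec.map φ) := by
    rw [HasRingHomProperty.Spec_iff (P := @LocallyQuasiFinite)]
    exact LocallyQuasiFinite.quasiFinite_appLE (f := f) hV hU e
  haveI : LocallyOfFiniteType (Spec.map φ) := by
    rw [HasRingHomProperty.Spec_iff (P := @LocallyOfFiniteType)]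
    exact f.finiteType_appLE hV hU e
  haveI : QuasiCompact (Spec.map φ) := inferInstance
  refine ⟨max N 0, le_max_right _ _, fun y => ?_, fun y => ?_⟩
  · rw [hcomp]
    by_cases hy : y ∈ Set.range hV.fromSpec
    · obtain ⟨y', rfl⟩ := hy
      rw [fibreIntegral_comp_openImmersion]
      exact (hN y').trans (le_max_left _ _)
    · rw [fibreIntegral_comp_openImmersion_of_notMem _ _ _ _ hy]
      exact le_max_right _ _
  · rw [hcomp]
    have h1 : (Spec.map φ ≫ hV.fromSpec) ⁻¹' {y} ⊆ (Spec.map φ) ⁻¹' (hV.fromSpec ⁻¹' {y}) := by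
      intro p hp
      exact hp
    refine Set.Finite.subset ?_ h1
    apply Scheme.Hom.finite_preimage
    apply Set.Subsingleton.finite
    intro a ha b hb
    exact hV.fromSpec.isOpenEmbedding.injective (ha.trans hb.symm)

/-- A finite cover of a quasi-compact source by affine opens mapping into affine opens. -/
theorem exists_finite_affine_cover {X Y : Scheme.{u}} (f : X ⟶ Y) [CompactSpace X] :
    ∃ (t : Finset X) (U : X → X.Opens) (V : X → Y.Opens), (∀ x, IsAffineOpen (U x)) ∧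
      (∀ x, IsAffineOpen (V x)) ∧ (∀ x, U x ≤ f ⁻¹ᵁ V x) ∧ ∀ z : X, ∃ x ∈ t, z ∈ U x := by
  have h1 : ∀ x : X, ∃ V : Y.Opens, IsAffineOpen V ∧ f x ∈ V := by
    intro x
    obtain ⟨(V : Y.Opens), hV, hxV, -⟩ := Opens.isBasis_iff_nbhd.mp Y.isBasis_affineOpens
      (show f x ∈ (⊤ : Y.Opens) from trivial)
    exact ⟨V, hV, hxV⟩
  choose V hV hxV using h1
  have h2 : ∀ x : X, ∃ U : X.Opens, IsAffineOpen U ∧ x ∈ U ∧ U ≤ f ⁻¹ᵁ V x := by
    intro x
    obtain ⟨(U : X.Opens), hU, hxU, hUV⟩ := Opens.isBasis_iff_nbhd.mp X.isBasis_affineOpens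
      (show x ∈ f ⁻¹ᵁ V x from hxV x)
    exact ⟨U, hU, hxU, hUV⟩
  choose U hU hxU hUV using h2
  obtain ⟨t, ht⟩ := isCompact_univ.elim_finite_subcover (fun x : X => ((U x : X.Opens) : Set X))
    (fun x => (U x).2) (fun x _ => Set.mem_iUnion.mpr ⟨x, hxU x⟩)
  refine ⟨t, U, V, hU, hV, hUV, fun z => ?_⟩
  obtain ⟨x, hxt, hzx⟩ := Set.mem_iUnion₂.mp (ht (Set.mem_univ z))
  exact ⟨x, hxt, hzx⟩

/-- A function with locally constructible level sets is bounded above on an affine scheme. -/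
theorem exists_bound_of_isLocallyConstructible_level {U : Scheme.{u}} [IsAffine U] (w : U → ℤ)
    (hw : ∀ n : ℤ, IsLocallyConstructible {u : U | w u = n}) : ∃ M : ℤ, ∀ u, w u ≤ M := by
  obtain ⟨s, hs⟩ := Groth.Agent.Lib.Helper87.ConsCover.exists_finite_subcover_of_isConstructible
    (fun n : ℤ => {u : U | w u = n}) (fun n => (hw n).isConstructible) (fun u => ⟨w u, rfl⟩)
  obtain ⟨M, hM⟩ := s.exists_le
  refine ⟨M, fun u => ?_⟩
  obtain ⟨n, hn, hu⟩ := hs u
  have : w u = n := hu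
  rw [this]
  exact hM n hn

/-- **The fibre integral of a weighting attains its maximum** when the source is
quasi-compact. -/
theorem exists_max_fibreIntegral {X Y : Scheme.{u}} (f : X ⟶ Y) [LocallyQuasiFinite f]
    [LocallyOfFiniteType f] [CompactSpace X] (w : X → ℤ) (hw : MoreMor.IsWeighting f w)
    [Nonempty Y] :
    ∃ y₀ : Y, ∀ y : Y, MoreMor.fibreIntegral f w y ≤ MoreMor.fibreIntegral f w y₀ := by
  classical
  obtain ⟨t, U, V, hU, hV, hUV, hcov⟩ := exists_finite_affine_cover f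
  choose N hN0 hN hfinx using fun x => exists_bound_chart f (hU x) (hV x) (hUV x)
  -- finite fibres
  have hfin : ∀ y : Y, (f ⁻¹' {y}).Finite := by
    intro y
    have h1 : f ⁻¹' {y} ⊆ ⋃ x ∈ t, (hU x).fromSpec '' (((hU x).fromSpec ≫ f) ⁻¹' {y}) := by
      intro z hz
      obtain ⟨x, hxt, hzx⟩ := hcov z
      have hz' : z ∈ Set.range (hU x).fromSpec := by
        rw [(hU x).range_fromSpec]; exact hzx
      obtain ⟨z', rfl⟩ := hz'
      exact Set.mem_iUnion₂.mpr ⟨x, hxt, z', hz, rfl⟩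
    refine Set.Finite.subset ?_ h1
    exact Set.Finite.biUnion t.finite_toSet fun x _ => (hfinx x y).image _
  -- the count is bounded
  have hcount : ∀ y : Y, MoreMor.fibreIntegral f (fun _ => 1) y ≤ ∑ x : ↥t, N x.1 := by
    intro y
    refine (fibreIntegral_one_le_sum f (fun x : ↥t => (hU x.1).fromSpec) ?_ y (hfin y)).trans ?_
    · intro z
      obtain ⟨x, hxt, hzx⟩ := hcov z
      refine ⟨⟨x, hxt⟩, ?_⟩
      rw [(hU x).range_fromSpec]; exact hzx
    · exact Finset.sum_le_sum fun x _ => hN x.1 y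
  -- the weighting is bounded above
  have hMx : ∀ x : X, ∃ M : ℤ, ∀ z ∈ U x, w z ≤ M := by
    intro x
    haveI : IsAffine (U x).toScheme := hU x
    obtain ⟨M, hM⟩ := exists_bound_of_isLocallyConstructible_level
      (U := (U x).toScheme) (fun u => w ((U x).ι u)) (fun n =>
        (Groth.Agent.Lib.Helper87.WtLevel.isLocallyConstructible_level_w f w hw
          n).preimage_of_isOpenEmbedding (U x).ι.isOpenEmbedding)
    exact ⟨M, fun z hz => hM ⟨z, hz⟩⟩
  choose Mx hMx using hMx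
  obtain ⟨M₀, hM₀⟩ := (t.image Mx).exists_le
  let M : ℤ := max M₀ 0
  have hM : ∀ z : X, w z ≤ M := by
    intro z
    obtain ⟨x, hxt, hzx⟩ := hcov z
    exact ((hMx x z hzx).trans (hM₀ _ (Finset.mem_image_of_mem _ hxt))).trans (le_max_left _ _)
  have hM0 : 0 ≤ M := le_max_right _ _
  -- the bound
  have hbound : ∀ y : Y, MoreMor.fibreIntegral f w y ≤ M * ∑ x : ↥t, N x.1 := by
    intro y
    have h1 : MoreMor.fibreIntegral f w y ≤ M * MoreMor.fibreIntegral f (fun _ => 1) y := by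
      rw [fibreIntegral_eq_sum f w y (hfin y), fibreIntegral_eq_sum f _ y (hfin y),
        Finset.mul_sum]
      refine Finset.sum_le_sum fun p _ => ?_
      rw [one_mul]
      exact mul_le_mul_of_nonneg_right (hM p) (deg_nonneg f p)
    exact h1.trans (mul_le_mul_of_nonneg_left (hcount y) hM0)
  obtain ⟨ub, ⟨y₀, hy₀⟩, hub⟩ := Int.exists_greatest_of_bdd
    (P := fun z => ∃ y : Y, MoreMor.fibreIntegral f w y = z)
    ⟨M * ∑ x : ↥t, N x.1, fun z ⟨y, hy⟩ => hy ▸ hbound y⟩
    ⟨_, Classical.arbitrary Y, rfl⟩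
  exact ⟨y₀, fun y => hy₀ ▸ hub _ ⟨y, rfl⟩⟩

end Groth.Agent.Lib.Helper87.WtBound
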