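import Groth.Agent.Lib.Helper87.WtPush
import Groth.Agent.Lib.Helper87.WtCons
/-!
# Level sets of a weighting of a finite, finitely presented morphism of affine schemes (helper87)

The diagonal trick: `w u = ∫_π w (π u) - ∫_{W → U} w` where `W` is the complement of the diagonal
in `U ×_V U`.
-/

set_option autoImplicit false
set_option linter.style.haveILetI false
universe u

open CategoryTheory CategoryTheory.Limits AlgebraicGeometry TopologicalSpace Topology
open scoped TensorProduct

namespace Groth.Agent.Lib.Helper87.WtDiag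

open Groth.Agent.Lib.Helper57 Groth.Agent.Lib.Helper57.Wt Groth.Agent.Lib.Helper87.WtPush

theorem residueFieldMap_bijective_of_isPreimmersion {Y Z : Scheme.{u}} (i : Y ⟶ Z)
    [IsPreimmersion i] (y : Y) : Function.Bijective (i.residueFieldMap y).hom := by
  refine ⟨(i.residueFieldMap y).hom.injective, fun z => ?_⟩
  obtain ⟨a, rfl⟩ := IsLocalRing.residue_surjective (R := Y.presheaf.stalk y) z
  obtain ⟨b, rfl⟩ := i.stalkMap_surjective y a
  exact ⟨IsLocalRing.residue _ b, rfl⟩

section

variable (R S : Type u) [CommRing R] [CommRing S] [Algebra R S]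

/-- The complement of the diagonal of a morphism of finite type of affine schemes is compact. -/
theorem isCompact_compl_range_diagonal [Algebra.FiniteType R S] :
    IsCompact (Set.range (pullback.diagonal
      (Spec.map (CommRingCat.ofHom (algebraMap R S)))))ᶜ := by
  rw [diagonal_SpecMap]
  set m : CommRingCat.of (S ⊗[R] S) ⟶ CommRingCat.of S :=
    CommRingCat.ofHom (Algebra.TensorProduct.lmul' R : S ⊗[R] S →ₐ[R] S).toRingHom with hm
  set e := pullbackSpecIso R S S with he
  have h1 : Set.range (Spec.map m ≫ e.inv) = e.inv '' Set.range (Spec.map m) := by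
    rw [Scheme.Hom.comp_base, TopCat.coe_comp, Set.range_comp]
  have hbij : Function.Bijective ⇑e.inv := e.inv.homeomorph.bijective
  rw [h1, ← Set.image_compl_eq hbij]
  apply IsCompact.image _ e.inv.continuous
  have hsurj : Function.Surjective m.hom := by
    intro s
    exact ⟨s ⊗ₜ[R] 1, by simp [hm]⟩
  have h2 : Set.range (Spec.map m) = PrimeSpectrum.zeroLocus (RingHom.ker m.hom : Set _) :=
    range_comap_of_surjective _ _ hsurj
  rw [h2]
  have hfg : (RingHom.ker m.hom).FG := KaehlerDifferential.ideal_fg R S
  exact (PrimeSpectrum.isRetrocompact_zeroLocus_compl_of_fg hfg).isCompact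

/-- **The diagonal trick.** -/
theorem isLocallyConstructible_level_of_finite [Module.Finite R S]
    [Algebra.FinitePresentation R S] (w : ↥(Spec (CommRingCat.of S)) → ℤ)
    (hw : MoreMor.IsWeighting (Spec.map (CommRingCat.ofHom (algebraMap R S))) w) (n : ℤ) :
    IsLocallyConstructible {u : ↥(Spec (CommRingCat.of S)) | w u = n} := by
  set π : Spec (CommRingCat.of S) ⟶ Spec (CommRingCat.of R) :=
    Spec.map (CommRingCat.ofHom (algebraMap R S)) with hπ
  haveI hπfin : IsFinite π := by
    rw [hπ, IsFinite.SpecMap_iff]
    exact (RingHom.finite_algebraMap).mpr inferInstance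
  haveI hπfp : LocallyOfFinitePresentation π := by
    rw [hπ, LocallyOfFinitePresentation.SpecMap_iff]
    exact (RingHom.finitePresentation_algebraMap).mpr inferInstance
  let P := pullback π π
  let sndP : P ⟶ Spec (CommRingCat.of S) := pullback.snd π π
  let fstP : P ⟶ Spec (CommRingCat.of S) := pullback.fst π π
  let Δ : Spec (CommRingCat.of S) ⟶ P := pullback.diagonal π
  have hΔ1 : Δ ≫ fstP = 𝟙 _ := pullback.diagonal_fst π
  have hΔ2 : Δ ≫ sndP = 𝟙 _ := pullback.diagonal_snd π
  haveI : IsFinite sndP := (inferInstance : IsFinite (pullback.snd π π))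
  haveI : LocallyOfFinitePresentation sndP :=
    (inferInstance : LocallyOfFinitePresentation (pullback.snd π π))
  haveI : IsClosedImmersion Δ := (inferInstance : IsClosedImmersion (pullback.diagonal π))
  let W : P.Opens := ⟨(Set.range Δ)ᶜ, Δ.isClosedEmbedding.isClosed_range.isOpen_compl⟩
  have hWc : IsCompact (W : Set P) := isCompact_compl_range_diagonal R S
  haveI : IsAffine P := isAffine_of_isAffineHom sndP
  haveI : CompactSpace ↥(W : Scheme.{u}) := isCompact_iff_compactSpace.mp hWc
  haveI : QuasiCompact W.ι := inferInstance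
  let F : (W : Scheme.{u}) ⟶ Spec (CommRingCat.of S) := W.ι ≫ sndP
  haveI : LocallyQuasiFinite F := inferInstance
  haveI : LocallyOfFinitePresentation F := inferInstance
  haveI : QuasiCompact F := inferInstance
  haveI : QuasiSeparated F := inferInstance
  let wP : ↥P → ℤ := w ∘ fstP
  have hwP : MoreMor.IsWeighting sndP wP :=
    isWeighting_baseChange π w hw sndP fstP π (IsPullback.of_hasPullback π π)
  let wW : ↥(W : Scheme.{u}) → ℤ := fun u => wP (W.ι u)
  have hwW : MoreMor.IsWeighting F wW := isWeighting_restrict sndP wP hwP W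
  -- the key identity
  have hstar : ∀ u, MoreMor.fibreIntegral π w (π u) = w u + MoreMor.fibreIntegral F wW u := by
    intro u
    have ha : MoreMor.fibreIntegral sndP wP u = MoreMor.fibreIntegral π w (π u) :=
      fibreIntegral_baseChange_lqf π sndP fstP π (IsPullback.of_hasPullback π π) w u
    rw [← ha, fibreIntegral_eq_finsum_mem]
    have hT : {p : ↥P | sndP p = u} = {Δ u} ∪ {p : ↥P | p ∈ Set.range W.ι ∧ sndP p = u} := by
      ext p
      simp only [Set.mem_ofPred_eq, Set.mem_union, Set.mem_singleton_iff]
      constructor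
      · intro hp
        by_cases hpΔ : p ∈ Set.range Δ
        · left
          obtain ⟨u', rfl⟩ := hpΔ
          have : sndP (Δ u') = u' := by
            rw [← Scheme.Hom.comp_apply, hΔ2]; rfl
          rw [this] at hp
          rw [hp]
        · right
          refine ⟨?_, hp⟩
          rw [Scheme.Opens.range_ι]
          exact hpΔ
      · rintro (rfl | ⟨-, hp⟩)
        · rw [← Scheme.Hom.comp_apply, hΔ2]; rfl
        · exact hp
    have hfinT : {p : ↥P | sndP p = u}.Finite := Scheme.Hom.finite_preimage_singleton sndP u
    have hdisj : Disjoint ({Δ u} : Set ↥P) {p : ↥P | p ∈ Set.range W.ι ∧ sndP p = u} := by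
      rw [Set.disjoint_singleton_left]
      rintro ⟨h1, -⟩
      rw [Scheme.Opens.range_ι] at h1
      exact h1 ⟨u, rfl⟩
    rw [hT, finsum_mem_union hdisj (Set.finite_singleton _)
      (hfinT.subset (by rw [hT]; exact Set.subset_union_right)), finsum_mem_singleton,
      ← fibreIntegral_openImmersion W.ι sndP wP u]
    congr 1
    have hdeg : deg sndP (Δ u) = 1 := by
      have h1 := deg_comp_of_bijective Δ sndP u (residueFieldMap_bijective_of_isPreimmersion Δ u)
      rw [hΔ2, deg_of_isOpenImmersion] at h1
      exact h1.symm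
    rw [hdeg, mul_one]
    show w (fstP (Δ u)) = w u
    rw [← Scheme.Hom.comp_apply, hΔ1]; rfl
  -- local constancy of the total integral
  have hG : IsLocallyConstant (MoreMor.fibreIntegral π w) := by
    have sq : IsPullback (𝟙 (Spec (CommRingCat.of S))) π π (𝟙 (Spec (CommRingCat.of R))) :=
      IsPullback.of_horiz_isIso ⟨by simp⟩
    have h1 := IsWeighting.flex hw sq (𝟙 (Spec (CommRingCat.of S)))
      (by rw [Category.id_comp]; exact hπfin)
    rw [Category.id_comp] at h1
    exact h1
  have hfinrange : (Set.range (MoreMor.fibreIntegral π w)).Finite := hG.range_finite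
  have hL : ∀ m : ℤ, IsLocallyConstructible {u | MoreMor.fibreIntegral F wW u = m} := fun m =>
    Groth.Agent.Lib.Helper87.WtCons.isLocallyConstructible_level F wW hwW m
  have heq : {u : ↥(Spec (CommRingCat.of S)) | w u = n} =
      ⋃ c ∈ Set.range (MoreMor.fibreIntegral π w),
        (π ⁻¹' (MoreMor.fibreIntegral π w ⁻¹' {c}) ∩
          {u | MoreMor.fibreIntegral F wW u = c - n}) := by
    ext u
    simp only [Set.mem_ofPred_eq, Set.mem_iUnion, Set.mem_inter_iff, Set.mem_preimage,
      Set.mem_singleton_iff, exists_prop]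
    constructor
    · intro hu
      refine ⟨_, ⟨π u, rfl⟩, rfl, ?_⟩
      rw [hstar u, hu]; ring
    · rintro ⟨c, -, hc1, hc2⟩
      have := hstar u
      rw [hc1, hc2] at this
      linarith
  rw [heq]
  refine IsLocallyConstructible.biUnion hfinrange fun c _ => ?_
  refine IsLocallyConstructible.inter ?_ (hL _)
  apply Groth.Agent.Lib.Helper87.WtCons.isLocallyConstructible_of_isClopen
  exact (hG.isClopen_fiber c).preimage π.continuous

end

end Groth.Agent.Lib.Helper87.WtDiag
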