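import Groth.Agent.Lib.Helper87.WtDiag
/-!
# Level sets of a weighting of a finite morphism with affine target (helper87)
-/

set_option autoImplicit false
set_option linter.style.haveILetI false
universe u

open CategoryTheory CategoryTheory.Limits AlgebraicGeometry TopologicalSpace Topology

namespace Groth.Agent.Lib.Helper87.WtFin

open Groth.Agent.Lib.Helper57 Groth.Agent.Lib.Helper57.Wt Groth.Agent.Lib.Helper87.WtPush
open Groth.Agent.Lib.Helper87.WtDiag

theorem isConstructible_level_of_isFinite {U V : Scheme.{u}} (π : U ⟶ V) [IsFinite π]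
    [IsAffine V] (w : U → ℤ) (hw : MoreMor.IsWeighting π w) (n : ℤ) :
    IsConstructible {u : U | w u = n} := by
  haveI : IsAffine U := isAffine_of_isAffineHom π
  let φ : Γ(V, ⊤) ⟶ Γ(U, ⊤) := π.appTop
  letI alg : Algebra Γ(V, ⊤) Γ(U, ⊤) := φ.hom.toAlgebra
  haveI hfin : Module.Finite Γ(V, ⊤) Γ(U, ⊤) := π.finite_appTop
  obtain ⟨B', _, _, _, _, _, fB, hfB⟩ := Module.Finite.exists_free_surjective Γ(V, ⊤) Γ(U, ⊤)
  let π₀ : Spec (CommRingCat.of B') ⟶ Spec (CommRingCat.of Γ(V, ⊤)) :=
    Spec.map (CommRingCat.ofHom (algebraMap Γ(V, ⊤) B'))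
  let c : Spec Γ(U, ⊤) ⟶ Spec (CommRingCat.of B') := Spec.map (CommRingCat.ofHom fB.toRingHom)
  haveI : IsClosedImmersion c := IsClosedImmersion.spec_of_surjective _ hfB
  let j : U ⟶ Spec (CommRingCat.of B') := U.isoSpec.hom ≫ c
  haveI : IsClosedImmersion j := inferInstance
  let π' : Spec (CommRingCat.of B') ⟶ V := π₀ ≫ V.isoSpec.inv
  have hcφ : c ≫ π₀ = Spec.map φ := by
    rw [← Spec.map_comp]
    congr 1
    ext a
    exact fB.commutes a
  have hjπ : j ≫ π' = π := by
    show (U.isoSpec.hom ≫ c) ≫ π₀ ≫ V.isoSpec.inv = π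
    rw [Category.assoc, ← Category.assoc c, hcφ, ← Category.assoc,
      Scheme.isoSpec_hom_naturality, Category.assoc, Iso.hom_inv_id, Category.comp_id]
  have hw1 : MoreMor.IsWeighting (j ≫ π') w := by rw [hjπ]; exact hw
  have hw' : MoreMor.IsWeighting π' (MoreMor.fibreIntegral j w) := isWeighting_push j π' w hw1
  haveI : IsFinite π₀ := by
    rw [IsFinite.SpecMap_iff]
    exact (RingHom.finite_algebraMap).mpr inferInstance
  haveI : IsFinite π' := inferInstance
  have hc : IsPullback (𝟙 (Spec (CommRingCat.of B'))) π₀ π' V.isoSpec.inv :=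
    IsPullback.of_horiz_isIso ⟨by simp [π']⟩
  have hw₀ : MoreMor.IsWeighting π₀ (MoreMor.fibreIntegral j w) := by
    have h := isWeighting_baseChange π' _ hw' π₀ (𝟙 _) V.isoSpec.inv hc
    have h2 : MoreMor.fibreIntegral j w ∘ ⇑(𝟙 (Spec (CommRingCat.of B'))) =
        MoreMor.fibreIntegral j w := by
      funext x; rfl
    rw [h2] at h
    exact h
  have hA := isLocallyConstructible_level_of_finite Γ(V, ⊤) B' (MoreMor.fibreIntegral j w) hw₀ n
  have hA' : IsConstructible
      {u' : ↥(Spec (CommRingCat.of B')) | MoreMor.fibreIntegral j w u' = n} := hA.isConstructible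
  have hpre := j.isConstructible_preimage hA'
  have heq : j ⁻¹' {u' : ↥(Spec (CommRingCat.of B')) | MoreMor.fibreIntegral j w u' = n} =
      {u : U | w u = n} := by
    ext u
    simp only [Set.mem_preimage, Set.mem_ofPred_eq]
    rw [fibreIntegral_apply_of_injective j j.isClosedEmbedding.injective
      (fun x => residueFieldMap_bijective_of_isPreimmersion j x) w u]
  rw [heq] at hpre
  exact hpre

end Groth.Agent.Lib.Helper87.WtFin
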