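import Groth.Agent.Lib.Helper57.Wt7
import Groth.Agent.Lib.Helper57.Wt3
import Groth.Agent.Lib.Helper57.Wt11
/-!
# Pushforward of a weighting along a finite morphism (helper87)
-/

set_option autoImplicit false
set_option linter.style.haveILetI false
universe u

open CategoryTheory CategoryTheory.Limits AlgebraicGeometry TopologicalSpace

namespace Groth.Agent.Lib.Helper87.WtPush

open Groth.Agent.Lib.Helper57 Groth.Agent.Lib.Helper57.Wt

/-- The residue degree is unchanged by precomposition with a morphism inducing bijections on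
residue fields. -/
theorem deg_comp_of_bijective {W P V : Scheme.{u}} (j : W ⟶ P) (q : P ⟶ V) (u : W)
    (hj : Function.Bijective (j.residueFieldMap u).hom) : deg (j ≫ q) u = deg q (j u) := by
  unfold deg
  letI a1 := (q.residueFieldMap (j u)).hom.toAlgebra
  letI a2 : Algebra (V.residueField (q (j u))) (W.residueField u) :=
    ((j ≫ q).residueFieldMap u).hom.toAlgebra
  let e : P.residueField (j u) ≃ₐ[V.residueField (q (j u))] W.residueField u :=
    { RingEquiv.ofBijective (j.residueFieldMap u).hom hj with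
      commutes' := fun r => by
        have := Scheme.residueFieldMap_comp j q u
        exact congr($(this).hom r).symm }
  have := Field.finSepDegree_eq_of_equiv (V.residueField (q (j u))) _ _ e
  exact congrArg (Nat.cast) this.symm

/-- The residue degree of a morphism inducing a bijection on residue fields is one. -/
theorem deg_eq_one_of_bijective {W P : Scheme.{u}} (j : W ⟶ P) (u : W)
    (hj : Function.Bijective (j.residueFieldMap u).hom) : deg j u = 1 := by
  have h1 := deg_comp_of_bijective j (𝟙 P) u hj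
  rw [deg_of_isOpenImmersion (𝟙 P) (j u)] at h1
  have h2 : j ≫ 𝟙 P = j := Category.comp_id j
  rw [h2] at h1
  exact h1

/-- **Pushforward of a weighting** along a finite morphism. -/
theorem isWeighting_push {X X' Y : Scheme.{u}} (ψ : X ⟶ X') (f' : X' ⟶ Y) [IsFinite ψ]
    (w : X → ℤ) (hw : MoreMor.IsWeighting (ψ ≫ f') w) :
    MoreMor.IsWeighting f' (MoreMor.fibreIntegral ψ w) := by
  intro V g _ U' hU'
  let ψV : pullback (ψ ≫ f') g ⟶ pullback f' g := pbMap ψ f' g
  have sqV : IsPullback ψV (pullback.fst (ψ ≫ f') g) (pullback.fst f' g) ψ :=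
    isPullback_pbMap ψ f' g
  let U : (pullback (ψ ≫ f') g).Opens := ψV ⁻¹ᵁ U'
  let ψU : (U : Scheme.{u}) ⟶ U' := ψV ∣_ U'
  have sqU : IsPullback U.ι ψU ψV U'.ι := (isPullback_morphismRestrict ψV U').flip
  have sqBig : IsPullback (U.ι ≫ pullback.fst (ψ ≫ f') g) ψU ψ (U'.ι ≫ pullback.fst f' g) :=
    sqU.paste_horiz sqV.flip
  haveI hψU : IsFinite ψU := MorphismProperty.of_isPullback sqBig inferInstance
  let r : (U' : Scheme.{u}) ⟶ V := U'.ι ≫ pullback.snd f' g
  haveI hr : IsFinite r := hU'
  have hcomp : U.ι ≫ pullback.snd (ψ ≫ f') g = ψU ≫ r := by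
    show _ = ψU ≫ U'.ι ≫ pullback.snd f' g
    rw [← Category.assoc, ← sqU.w, Category.assoc, pbMap_snd]
  have hfinU : IsFinite (U.ι ≫ pullback.snd (ψ ≫ f') g) := by rw [hcomp]; infer_instance
  have h1 := hw V g U hfinU
  have heq : MoreMor.fibreIntegral r
      (fun u => MoreMor.fibreIntegral ψ w (pullback.fst f' g (U'.ι u))) =
      MoreMor.fibreIntegral (U.ι ≫ pullback.snd (ψ ≫ f') g)
        (fun u => w (pullback.fst (ψ ≫ f') g (U.ι u))) := by
    funext v
    rw [hcomp]
    have hfin : {u : ↥(U : Scheme.{u}) | (ψU ≫ r) u = v}.Finite :=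
      Scheme.Hom.finite_preimage_singleton (ψU ≫ r) v
    have hψfin : ∀ u, (ψU.residueFieldMap u).hom.Finite := fun u =>
      finite_residueFieldMap ψU u
    have h2 := fibreIntegral_comp ψU r hψfin
      (fun u => w (pullback.fst (ψ ≫ f') g (U.ι u))) (fun _ => 1) v hfin
    simp only [mul_one] at h2
    rw [h2, fibreIntegral_eq_finsum_mem]
    refine finsum_mem_congr rfl fun y _ => ?_
    have h3 := fibreIntegral_baseChange_lqf ψ ψU (U.ι ≫ pullback.fst (ψ ≫ f') g)
      (U'.ι ≫ pullback.fst f' g) sqBig w y
    rw [one_mul, mul_comm]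
    congr 1
    exact h3.symm
  rw [heq]
  exact h1

/-- The pushforward along a morphism which is injective with trivial residue field extensions
restricts to the original function. -/
theorem fibreIntegral_apply_of_injective {X X' : Scheme.{u}} (ψ : X ⟶ X')
    (hinj : Function.Injective ψ) (hres : ∀ x, Function.Bijective (ψ.residueFieldMap x).hom)
    (w : X → ℤ) (x : X) : MoreMor.fibreIntegral ψ w (ψ x) = w x := by
  rw [fibreIntegral_eq]
  let _ : Unique {u : X // ψ u = ψ x} := ⟨⟨⟨x, rfl⟩⟩, fun u => Subtype.ext (hinj u.2)⟩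
  rw [finsum_unique]
  show w x * deg ψ x = _
  rw [deg_eq_one_of_bijective ψ x (hres x), mul_one]

end Groth.Agent.Lib.Helper87.WtPush
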